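import Cfsg.Agent.Lib.Small.Basic
import Cfsg.Agent.Lib.Transfer.Basic

/-!
Consequences of the focal subgroup theorem for abelian Sylow subgroups of simple groups, and
elements normalising a subgroup of prime order.
-/

set_option autoImplicit false

namespace CfsgLib.Small

open Subgroup
open scoped commutatorElement

variable {G : Type*} [Group G] [Finite G] {p : ℕ} [hp : Fact p.Prime]

omit [Finite G] in
theorem commutator_eq_top [IsSimpleGroup G] (hG : ¬ IsMulCommutative G) : commutator G = ⊤ := by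
  refine (eq_bot_or_top (commutator G)).resolve_left fun h => hG ⟨⟨fun a b => ?_⟩⟩
  have h1 : ⁅a, b⁆ ∈ commutator G :=
    commutator_def G ▸ commutator_mem_commutator (mem_top a) (mem_top b)
  rw [h, mem_bot] at h1
  exact commutatorElement_eq_one_iff_mul_comm.mp h1

/-- An abelian Sylow subgroup of a simple group is generated by commutators with its normaliser. -/
theorem sylow_le_commutator_normalizer [IsSimpleGroup G] (hG : ¬ IsMulCommutative G)
    (P : Sylow p G) (hab : IsMulCommutative (P : Subgroup G)) :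
    (P : Subgroup G) ≤ ⁅(P : Subgroup G), normalizer ((P : Subgroup G) : Set G)⁆ := by
  have h1 : (P : Subgroup G) ≤ (P : Subgroup G).focalSubgroup := by
    rw [← commutator_inf_eq_focalSubgroup P, commutator_eq_top hG, top_inf_eq]
  refine h1.trans (CfsgLib.Transfer.focalSubgroup_le_of_controls fun x hx g hgx => ?_)
  have hy : (g⁻¹)⁻¹ * x * g⁻¹ ∈ P := by rw [inv_inv]; exact hgx
  obtain ⟨n, hn, e⟩ := P.conj_eq_normalizer_conj_of_mem x g⁻¹ hx hy
  refine ⟨n⁻¹, inv_mem hn, ?_⟩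
  simpa using e.symm

/-- If `|N(P) : C(P)| = 2` for an abelian Sylow subgroup `P` of a simple group, the elements of
`N(P) \ C(P)` invert `P`. -/
theorem conj_eq_inv_of_relIndex_two [IsSimpleGroup G] (hG : ¬ IsMulCommutative G)
    (P : Sylow p G) (hab : IsMulCommutative (P : Subgroup G))
    (h2 : (centralizer ((P : Subgroup G) : Set G)).relIndex
      (normalizer ((P : Subgroup G) : Set G)) = 2)
    {k : G} (hk : k ∈ normalizer ((P : Subgroup G) : Set G))
    (hkc : k ∉ centralizer ((P : Subgroup G) : Set G)) {x : G} (hx : x ∈ (P : Subgroup G)) :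
    k * x * k⁻¹ = x⁻¹ := by
  set C := centralizer ((P : Subgroup G) : Set G)
  set N := normalizer ((P : Subgroup G) : Set G)
  have hidx : (C.subgroupOf N).index = 2 := h2
  have hcomm : ∀ a ∈ (P : Subgroup G), ∀ b ∈ (P : Subgroup G), a * b = b * a := fun a ha b hb =>
    congrArg Subtype.val (hab.is_comm.comm (⟨a, ha⟩ : (P : Subgroup G)) ⟨b, hb⟩)
  have hkk : k * k ∈ C := by
    have h := (mul_mem_iff_of_index_two hidx (a := (⟨k, hk⟩ : N)) (b := ⟨k, hk⟩)).mpr Iff.rfl
    exact mem_subgroupOf.mp h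
  let I : Subgroup G :=
    { carrier := {x | x ∈ (P : Subgroup G) ∧ k * x * k⁻¹ = x⁻¹}
      one_mem' := ⟨one_mem _, by simp⟩
      mul_mem' := fun {a b} ha hb => ⟨mul_mem ha.1 hb.1, by
        rw [mul_inv_rev, ← hcomm _ (inv_mem ha.1) _ (inv_mem hb.1), ← ha.2, ← hb.2]; group⟩
      inv_mem' := fun {a} ha => ⟨inv_mem ha.1, by rw [← conj_inv, ha.2]⟩ }
  suffices ⁅(P : Subgroup G), N⁆ ≤ I from (this (sylow_le_commutator_normalizer hG P hab hx)).2
  rw [Subgroup.commutator_le]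
  intro y hy n hn
  have hPn : n * y⁻¹ * n⁻¹ ∈ (P : Subgroup G) := (mem_normalizer_iff.mp hn _).mp (inv_mem hy)
  rw [commutatorElement_def, show y * n * y⁻¹ * n⁻¹ = y * (n * y⁻¹ * n⁻¹) by group]
  by_cases hnC : n ∈ C
  · have : n * y⁻¹ * n⁻¹ = y⁻¹ := by
      rw [← mem_centralizer_iff.mp hnC _ (inv_mem hy)]; group
    rw [this, mul_inv_cancel]; exact one_mem I
  · -- `n` acts as `k` does
    have hnk : k⁻¹ * n ∈ C := by
      have h := (mul_mem_iff_of_index_two hidx (a := (⟨k, hk⟩ : N)⁻¹) (b := ⟨n, hn⟩)).mpr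
        (by rw [inv_mem_iff]; simp only [mem_subgroupOf]; tauto)
      exact mem_subgroupOf.mp h
    have e1 : n * y⁻¹ * n⁻¹ = k * y⁻¹ * k⁻¹ := by
      have := mem_centralizer_iff.mp hnk _ (inv_mem hy)
      calc n * y⁻¹ * n⁻¹ = k * ((k⁻¹ * n) * y⁻¹ * (k⁻¹ * n)⁻¹) * k⁻¹ := by group
        _ = k * y⁻¹ * k⁻¹ := by rw [← this]; group
    rw [e1] at hPn ⊢
    refine ⟨mul_mem hy hPn, ?_⟩
    have e2 : k * k * y⁻¹ * (k * k)⁻¹ = y⁻¹ := by
      rw [← mem_centralizer_iff.mp hkk _ (inv_mem hy)]; group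
    calc k * (y * (k * y⁻¹ * k⁻¹)) * k⁻¹ = (k * y * k⁻¹) * (k * k * y⁻¹ * (k * k)⁻¹) := by group
      _ = (k * y * k⁻¹) * y⁻¹ := by rw [e2]
      _ = (y * (k * y⁻¹ * k⁻¹))⁻¹ := by group

omit [Finite G] in
/-- An element whose square centralises `x` of prime order, and which normalises `⟨x⟩` without
centralising it, inverts `x`. -/
theorem conj_eq_inv_of_sq_commute {g x : G} (hx : orderOf x = p)
    (hg : g ∈ normalizer (zpowers x : Set G)) (hne : g * x * g⁻¹ ≠ x)
    (hsq : g * g * x * (g * g)⁻¹ = x) : g * x * g⁻¹ = x⁻¹ := by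
  obtain ⟨k, hk⟩ := mem_zpowers_iff.mp ((mem_normalizer_iff.mp hg x).mp (mem_zpowers x))
  have h2 : x ^ (k * k) = x ^ (1 : ℤ) := by
    rw [zpow_one, zpow_mul, hk, conj_zpow, hk]
    conv_rhs => rw [← hsq]
    group
  rw [zpow_eq_zpow_iff_modEq, hx, ← ZMod.intCast_eq_intCast_iff, Int.cast_mul, Int.cast_one,
    mul_self_eq_one_iff] at h2
  rcases h2 with h | h
  · exfalso
    refine hne ?_
    rw [← hk]
    conv_rhs => rw [← zpow_one x]
    rw [zpow_eq_zpow_iff_modEq, hx, ← ZMod.intCast_eq_intCast_iff, h, Int.cast_one]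
  · rw [← hk, show x⁻¹ = x ^ (-1 : ℤ) by simp, zpow_eq_zpow_iff_modEq, hx,
      ← ZMod.intCast_eq_intCast_iff, h, Int.cast_neg, Int.cast_one]

end CfsgLib.Small
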