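import Cfsg.Agent.Lib.Small.BrauerTuanCore
import Cfsg.Agent.Lib.Small.AbelianFocal
import Cfsg.Agent.Lib.BrauerReynolds.Main
import Cfsg.Agent.Lib.PSL2.Basic
import Cfsg.Agent.S4503
import Cfsg.Agent.S4504

/-!
Simple groups of order `p q^b g₀` with `g₀ < p - 1` (Brauer and Tuan).
-/

set_option autoImplicit false

noncomputable section

namespace CfsgLib.Small.BrauerTuan

open Cfsg CfsgLib.Characters CfsgLib.BrauerArtin

universe u

/-- The conclusion. -/
def Concl (G : Type u) [Group G] (p : ℕ) : Prop :=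
  (∃ (m : ℕ) (F : Type) (_ : Field F) (_ : Fintype F), Fintype.card F = p ∧
      (p = 2 ^ m + 1 ∨ p = 2 ^ m - 1) ∧
      Nonempty (G ≃* Matrix.ProjectiveSpecialLinearGroup (Fin 2) F)) ∨
    ∃ (m : ℕ) (F : Type) (_ : Field F) (_ : Fintype F), Fintype.card F = 2 ^ m ∧ p = 2 ^ m + 1 ∧
      3 < p ∧ Nonempty (G ≃* Matrix.ProjectiveSpecialLinearGroup (Fin 2) F)

/-- The order of `PSL(2, p)` has the shape `p q^b g₀`, `g₀ < p - 1`, only for `p = 2 ^ m ± 1`. -/
theorem arith_psl {p q b g : ℕ} (hp : p.Prime) (hp5 : 5 ≤ p) (hq : q.Prime) (hg : g < p - 1)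
    (hqg : ¬ q ∣ g) (hcard : 2 * (q ^ b * g) = (p + 1) * (p - 1)) :
    ∃ m, p = 2 ^ m + 1 ∨ p = 2 ^ m - 1 := by
  have hg0 : 0 < g := Nat.pos_of_ne_zero fun e => hqg (e ▸ dvd_zero q)
  obtain ⟨o, ho⟩ := hp.odd_of_ne_two (by omega)
  subst ho
  rw [show 2 * o + 1 + 1 = 2 * (o + 1) by ring, show 2 * o + 1 - 1 = 2 * o by omega] at hcard
  rw [show 2 * o + 1 - 1 = 2 * o by omega] at hg
  have h2 : q ^ b * g = 2 * ((o + 1) * o) := by linarith
  by_cases hq2 : q = 2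
  · subst hq2
    rcases Nat.eq_zero_or_pos b with rfl | hb
    · simp only [pow_zero, one_mul] at h2
      exact absurd ⟨_, h2⟩ hqg
    obtain ⟨c, rfl⟩ : ∃ c, b = c + 1 := ⟨b - 1, by omega⟩
    have h3 : 2 ^ c * g = (o + 1) * o := by
      rw [pow_succ'] at h2
      linarith
    rcases Nat.even_or_odd o with ⟨r, hr⟩ | ⟨r, hr⟩
    · have hcop : Nat.Coprime (2 ^ c) (o + 1) :=
        Nat.Coprime.pow_left c (Nat.prime_two.coprime_iff_not_dvd.2 (by omega))
      obtain ⟨k, hk⟩ := hcop.dvd_of_dvd_mul_left (Dvd.intro g h3)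
      have h4 : g = (o + 1) * k := Nat.eq_of_mul_eq_mul_left (by positivity : 0 < 2 ^ c) (by
        rw [h3]; nth_rw 2 [hk]; ring)
      have hk1 : k = 1 := by
        rcases k with _ | _ | k
        · omega
        · rfl
        · nlinarith
      exact ⟨c + 1, Or.inl (by rw [pow_succ', hk, hk1]; ring)⟩
    · have hcop : Nat.Coprime (2 ^ c) o :=
        Nat.Coprime.pow_left c (Nat.prime_two.coprime_iff_not_dvd.2 (by omega))
      obtain ⟨k, hk⟩ := hcop.dvd_of_dvd_mul_right (Dvd.intro g h3)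
      have h4 : g = o * k := Nat.eq_of_mul_eq_mul_left (by positivity : 0 < 2 ^ c) (by
        rw [h3, hk]; ring)
      have hk1 : k = 1 := by
        rcases k with _ | _ | k
        · omega
        · rfl
        · nlinarith
      refine ⟨c + 1, Or.inr ?_⟩
      rw [hk1, mul_one] at hk
      rw [pow_succ']
      omega
  · exfalso
    have hcop : Nat.Coprime (q ^ b) 2 :=
      Nat.Coprime.pow_left b ((Nat.coprime_primes hq Nat.prime_two).2 hq2)
    have h3 : q ^ b ∣ (o + 1) * o := hcop.dvd_of_dvd_mul_left (Dvd.intro g h2)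
    have hqb : 0 < q ^ b := pow_pos hq.pos b
    by_cases hqo : q ∣ o + 1
    · have hqo' : ¬ q ∣ o := fun h => hq.not_dvd_one (by simpa using Nat.dvd_sub hqo h)
      obtain ⟨k, hk⟩ := (Nat.Coprime.pow_left b (hq.coprime_iff_not_dvd.2 hqo')).dvd_of_dvd_mul_right h3
      have h4 : g = 2 * (k * o) := Nat.eq_of_mul_eq_mul_left hqb (by rw [h2, hk]; ring)
      have hk0 : 0 < k := Nat.pos_of_ne_zero fun e => by simp [e] at hk
      nlinarith
    · obtain ⟨k, hk⟩ := (Nat.Coprime.pow_left b (hq.coprime_iff_not_dvd.2 hqo)).dvd_of_dvd_mul_left h3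
      have h4 : g = 2 * ((o + 1) * k) := Nat.eq_of_mul_eq_mul_left hqb (by
        rw [h2]; nth_rw 2 [hk]; ring)
      have hk0 : 0 < k := Nat.pos_of_ne_zero fun e => by simp [e] at hk; omega
      nlinarith

/-- The only multiple of `p` strictly between `0` and `2p`. -/
theorem eq_of_dvd_between {p z : ℤ} (h : p ∣ z) (h0 : 0 < z) (h2 : z < 2 * p) : z = p := by
  have h1 := Int.le_of_dvd h0 h
  have := Int.eq_zero_of_abs_lt_dvd (dvd_sub h (dvd_refl p)) (abs_lt.2 ⟨by omega, by omega⟩)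
  omega

variable {G : Type u} [Group G] [Fintype G]

/-- The first branch. -/
theorem concl_psl {p q b g₀ : ℕ} (hp : p.Prime) (hp5 : 5 ≤ p) (hq : q.Prime)
    (hG : Nat.card G = p * (q ^ b * g₀)) (hg : g₀ < p - 1) (hqg : ¬ q ∣ g₀) {F : Type} [Field F]
    [Fintype F] (hF : Fintype.card F = p)
    (φ : G ≃* Matrix.ProjectiveSpecialLinearGroup (Fin 2) F) : Concl G p := by
  have h := CfsgLib.PSL2.card_psl (F := F)
  rw [← Nat.card_congr φ.toEquiv, hG, hF] at h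
  obtain ⟨o, ho⟩ := hp.odd_of_ne_two (by omega)
  have hgcd : Nat.gcd 2 (p - 1) = 2 := Nat.gcd_eq_left ⟨o, by omega⟩
  rw [hgcd] at h
  obtain ⟨m, hm⟩ := arith_psl hp hp5 hq hg hqg (b := b)
    (Nat.eq_of_mul_eq_mul_left hp.pos (by linear_combination h))
  exact Or.inl ⟨m, F, inferInstance, inferInstance, hF, hm, ⟨φ⟩⟩

/-- A nontrivial irreducible character of 2-power degree vanishes on an element with a class of
odd size. -/
theorem vanish_of_pow_two [IsSimpleGroup G] (hnc : ¬ IsMulCommutative G) {s : G} (hs : s ≠ 1)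
    (hodd : ¬ 2 ∣ (Subgroup.centralizer ({s} : Set G)).index) {χ : IrrCharacter G}
    (hχ : χ ≠ principalIrr G) {i : ℕ} (hdeg : charDegree (χ : G → ℂ) = 2 ^ i) :
    (χ : G → ℂ) s = 0 := by
  obtain ⟨f, n, ρ, hρ, rfl⟩ := χ
  haveI := hρ
  have hn : Module.finrank ℂ (Fin n → ℂ) = 2 ^ i := by
    rw [← hdeg]; simp [charDegree, Representation.char_one]
  have hcop : Nat.Coprime (Module.finrank ℂ (Fin n → ℂ)) (Nat.card {x : G // IsConj s x}) := by
    rw [card_isConj_eq_index, hn]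
    exact Nat.Coprime.pow_left i (Nat.prime_two.coprime_iff_not_dvd.2 hodd)
  rcases CfsgLib.Burnside.eq_zero_or_norm_eq_of_coprime ρ s hcop with h | h
  · exact h
  exfalso
  obtain ⟨c, hc⟩ := (norm_char_eq_iff_scalar ρ s).mp h
  rcases (MonoidHom.normal_ker (ρ : G →* _)).eq_bot_or_eq_top with hk | hk
  · refine (CfsgLib.Small.nc_iff.1 hnc) (CfsgLib.Burnside.isMulCommutative_of_mem_center hs
      (Subgroup.mem_center_iff.mpr fun x => ?_))
    refine (MonoidHom.ker_eq_bot_iff _).mp hk ?_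
    rw [map_mul, map_mul, hc]
    ext v
    simp
  · exact hχ (CfsgLib.Burnside.eq_one_of_irr_const (χ := ⟨ρ.character, n, ρ, hρ, rfl⟩)
      (c := (n : ℂ)) fun x => by
        have : ρ x = 1 := MonoidHom.mem_ker.mp (hk ▸ Subgroup.mem_top x)
        simp [Representation.character, this])

/-- An involution central in a Sylow 2-subgroup. -/
theorem exists_involution {b m : ℕ} (hb : b ≠ 0) (hG : Nat.card G = 2 ^ b * m) (hm : ¬ 2 ∣ m) :
    ∃ s : G, orderOf s = 2 ∧ ¬ 2 ∣ (Subgroup.centralizer ({s} : Set G)).index := by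
  haveI : Fact (Nat.Prime 2) := ⟨Nat.prime_two⟩
  obtain ⟨Q⟩ := (inferInstance : Nonempty (Sylow 2 G))
  have hQ : Nat.card (Q : Subgroup G) = 2 ^ b := CfsgLib.Small.card_sylow_of_card_eq hG hm Q
  haveI : Nontrivial (Q : Subgroup G) := Finite.one_lt_card_iff_nontrivial.1
    (hQ ▸ Nat.one_lt_pow hb one_lt_two)
  haveI := Q.2.center_nontrivial
  obtain ⟨k, hk⟩ := IsPGroup.iff_card.1 (Q.2.to_subgroup (Subgroup.center (Q : Subgroup G)))
  have hk0 : k ≠ 0 := fun e => by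
    have := Finite.one_lt_card (α := Subgroup.center (Q : Subgroup G))
    rw [hk, e, pow_zero] at this
    omega
  obtain ⟨z, hz⟩ := exists_prime_orderOf_dvd_card' 2 (G := Subgroup.center (Q : Subgroup G))
    (hk ▸ dvd_pow_self 2 hk0)
  refine ⟨((z : (Q : Subgroup G)) : G), by rw [Subgroup.orderOf_coe, Subgroup.orderOf_coe, hz], ?_⟩
  have hle : (Q : Subgroup G) ≤ Subgroup.centralizer ({((z : (Q : Subgroup G)) : G)} : Set G) := by
    intro a ha
    rw [Subgroup.mem_centralizer_singleton_iff]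
    exact congrArg Subtype.val (Subgroup.mem_center_iff.1 z.2 ⟨a, ha⟩)
  intro hd
  have h1 := hd.trans (Subgroup.index_dvd_of_le hle)
  rw [CfsgLib.Small.index_sylow_of_card_eq hG hm Q] at h1
  exact hm h1

/-- Recognition by the number of Sylow `p`-subgroups. -/
theorem concl_of_bound [IsSimpleGroup G] {p q b g₀ n : ℕ} [hp : Fact p.Prime] {P : Sylow p G}
    (h : Ctx p P) (hC : cP P = (P : Subgroup G)) (hn : Nat.card (Sylow p G) = 1 + n * p)
    (hp5 : 5 ≤ p) (hq : q.Prime) (hG : Nat.card G = p * (q ^ b * g₀)) (hg : g₀ < p - 1)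
    (hqg : ¬ q ∣ g₀) (hb : 2 * (1 + n * p) < (p + 1) * (p + 2)) : Concl G p := by
  obtain ⟨u, hu, hu1⟩ := h.exists_u
  rcases CfsgLib.BrauerReynolds.main h.perfect p u (h.orderOf_of_mem hu hu1)
      (by rw [h.centralizer_singleton hu hu1, hC, h.zpowers_eq hu hu1]) (by rw [hn]; exact hb) with
    ⟨F, _, _, hF, -, ⟨φ⟩⟩ | hB
  · exact concl_psl hp.out hp5 hq hG hg hqg hF φ
  · exact Or.inr hB

/-- Case `e = 2` of degree `p - e`. -/
theorem case_two [IsSimpleGroup G] (hnc : ¬ IsMulCommutative G) {p b g₀ n : ℕ} [hp : Fact p.Prime]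
    {P : Sylow p G} (h : Ctx p P) (B : Blk p P) (hC : cP P = (P : Subgroup G))
    (hn : Nat.card (Sylow p G) = 1 + n * p) (hp5 : 5 ≤ p)
    (hG : Nat.card G = p * (2 ^ b * g₀)) (hg : g₀ < p - 1) (hqg : ¬ 2 ∣ g₀) (he : eN P = 2)
    (hg₀ : g₀ = p - 2) (hord : 2 ^ b * g₀ = 2 * (1 + n * p)) {y : IrrCharacter G} (hy : y ∈ B.Y)
    (hε : B.ε = -1) (hD : charDegree (y : G → ℂ) = p - 2) {s : G} (hs : orderOf s = 2)
    (hsodd : ¬ 2 ∣ (Subgroup.centralizer ({s} : Set G)).index) {T : Finset (IrrCharacter G)}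
    (hT : T ⊆ B.X) (hT0 : ∀ x ∈ B.X, (x : G → ℂ) s = 0 → x ∈ T)
    (hTdvd : ((2 : ℤ) ^ b) ∣ ∑ x ∈ T, B.εX x * (charDegree (x : G → ℂ) : ℤ)) : Concl G p := by
  obtain ⟨x, hx⟩ := Finset.card_eq_one.1 (show B.X.card = 1 by have := B.card_X; omega)
  have hxX : x ∈ B.X := hx ▸ Finset.mem_singleton_self x
  have hrel := B.rel_one hy
  rw [hε, hD, hx, Finset.sum_singleton] at hrel
  have hpos := CfsgLib.Chars17.irrDegree_pos x
  have hdx : charDegree (x : G → ℂ) = p - 1 ∧ B.εX x = -1 := by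
    rcases B.hεX x hxX with e | e <;> rw [e] at hrel <;> omega
  obtain ⟨o, ho⟩ := hp.out.odd_of_ne_two (by omega)
  have hdvd := (CfsgLib.ClassCount.degree_eq x).2.1
  rw [hG, hdx.1, hg₀] at hdvd
  have hc1 : Nat.Coprime (p - 1) p :=
    ((Nat.coprime_self_sub_right (by omega : 1 ≤ p)).2 (Nat.coprime_one_right p)).symm
  have hc2 : Nat.Coprime (p - 1) (p - 2) := by
    rw [show p - 1 = (p - 2) + 1 by omega]
    simp
  obtain ⟨i, -, hi⟩ :=
    (Nat.dvd_prime_pow Nat.prime_two).1 (hc2.dvd_of_dvd_mul_right (hc1.dvd_of_dvd_mul_left hdvd))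
  have hxT : x ∈ T := hT0 x hxX (vanish_of_pow_two hnc
    (fun e => by rw [e, orderOf_one] at hs; omega) hsodd (fun e => B.one_X (e ▸ hxX))
    (hdx.1.trans hi))
  have hTx : T = {x} := Finset.Subset.antisymm (hx ▸ hT) (by simpa using hxT)
  rw [hTx, Finset.sum_singleton, hdx.1, hdx.2, neg_one_mul, dvd_neg] at hTdvd
  have h2 : 2 ^ b ≤ p - 1 := Nat.le_of_dvd (by omega) (by exact_mod_cast hTdvd)
  refine concl_of_bound h hC hn hp5 Nat.prime_two hG hg hqg ?_
  rw [← hord]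
  exact lt_of_le_of_lt (Nat.mul_le_mul h2 hg.le) (Nat.mul_lt_mul'' (by omega) (by omega))

/-- The congruence on the sum kills the low levels. -/
theorem levels {ι : Type*} (T : Finset ι) (e K : ℕ) (M : ι → ℕ) (w : ι → ℤ)
    (hcard : T.card < e) (hw : ∀ x ∈ T, w x = 1 ∨ w x = 2 * (e : ℤ) + 2)
    (hdvd : (2 * (e : ℤ)) ^ K ∣ ∑ x ∈ T, (-(2 * (e : ℤ))) ^ M x * w x) : ∀ x ∈ T, K ≤ M x := by
  classical
  suffices H : ∀ j, j < K → ∀ x ∈ T, M x ≠ j by
    intro x hx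
    by_contra hlt
    exact H (M x) (by omega) x hx rfl
  intro j
  induction j using Nat.strong_induction_on with
  | _ j ih =>
    intro hj x hx hxj
    have h1 : (2 * (e : ℤ)) ^ (j + 1) ∣ ∑ y ∈ T, (-(2 * (e : ℤ))) ^ M y * w y :=
      (pow_dvd_pow _ (by omega)).trans hdvd
    rw [← Finset.sum_filter_add_sum_filter_not T (fun y => M y = j)] at h1
    have h2 : (2 * (e : ℤ)) ^ (j + 1) ∣
        ∑ y ∈ T.filter (fun y => ¬ M y = j), (-(2 * (e : ℤ))) ^ M y * w y := by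
      refine Finset.dvd_sum fun y hy => Dvd.dvd.mul_right ?_ _
      obtain ⟨hyT, hne⟩ := Finset.mem_filter.1 hy
      rw [neg_pow]
      refine Dvd.dvd.mul_left (pow_dvd_pow _ ?_) _
      rcases lt_or_gt_of_ne hne with hlt | hgt
      · exact absurd rfl (ih (M y) hlt (by omega) y hyT)
      · omega
    have h3 := (dvd_add_left h2).1 h1
    rw [Finset.sum_congr rfl fun y hy => by rw [(Finset.mem_filter.1 hy).2], ← Finset.mul_sum,
      neg_pow, mul_assoc, mul_left_comm, pow_succ] at h3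
    have he0 : (0 : ℤ) < 2 * (e : ℤ) := by have := Nat.zero_le T.card; omega
    have h4 : (2 * (e : ℤ)) ∣ ∑ y ∈ T.filter (fun y => M y = j), w y :=
      (IsUnit.dvd_mul_left ((isUnit_one.neg).pow j)).1
        ((mul_dvd_mul_iff_left (pow_ne_zero _ he0.ne')).1 h3)
    have h5 : (2 * (e : ℤ)) ∣
        ∑ y ∈ T.filter (fun y => M y = j), (if w y = 1 then (1 : ℤ) else 2) := by
      refine (dvd_sub_comm.1 ?_ |> fun h6 => (dvd_iff_dvd_of_dvd_sub h6).1 h4)
      rw [← Finset.sum_sub_distrib]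
      refine Finset.dvd_sum fun y hy => ?_
      rcases hw y (Finset.mem_filter.1 hy).1 with e1 | e1
      · simp [e1]
      · rw [if_neg (by omega), e1]
        exact ⟨-1, by ring⟩
    have hle : ∑ y ∈ T.filter (fun y => M y = j), (if w y = 1 then (1 : ℤ) else 2) ≤
        2 * (T.card : ℤ) := by
      refine (Finset.sum_le_card_nsmul _ _ 2 fun y _ => by split <;> norm_num).trans ?_
      rw [nsmul_eq_mul, mul_comm]
      have := Finset.card_filter_le T (fun y => M y = j)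
      omega
    have hpos : (0 : ℤ) < ∑ y ∈ T.filter (fun y => M y = j), (if w y = 1 then (1 : ℤ) else 2) :=
      Finset.sum_pos (fun y _ => by split <;> norm_num) ⟨x, Finset.mem_filter.2 ⟨hx, hxj⟩⟩
    have := Int.le_of_dvd hpos h5
    omega

/-- Powers of `2e` modulo `p = 2e + 1`. -/
theorem two_mul_pow_modEq {p e m : ℕ} (hpe : p = 2 * e + 1) :
    (p : ℤ) ∣ (2 * (e : ℤ)) ^ m - (-1) ^ m :=
  (show (p : ℤ) ∣ 2 * (e : ℤ) - (-1) from ⟨1, by subst hpe; push_cast; ring⟩).trans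
    (sub_dvd_pow_sub_pow _ _ m)

/-- The shape of a degree in `X`. -/
theorem shape {p e c i g k : ℕ} (hpe : p = 2 * e + 1) (hec : e = 2 ^ c) (hc : 1 ≤ c)
    (hgk : g * k = e + 1) (ε : ℤ) (hε : ε = 1 ∨ ε = -1) (hi : 1 ≤ i)
    (hmod : (p : ℤ) ∣ ((2 ^ i * g : ℕ) : ℤ) - ε) :
    ∃ M : ℕ, ∃ w : ℤ, (w = 1 ∨ w = 2 * (e : ℤ) + 2) ∧
      ε * ((2 ^ i * g : ℕ) : ℤ) = (-(2 * (e : ℤ))) ^ M * w ∧
      (w = 1 → 2 ^ i * g = (2 * e) ^ M) := by
  obtain ⟨j, rfl⟩ : ∃ j, i = j + 1 := ⟨i - 1, by omega⟩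
  have hdiv := Nat.div_add_mod j (c + 1)
  have hr : j % (c + 1) ≤ c := Nat.lt_succ_iff.1 (Nat.mod_lt _ c.succ_pos)
  set m := j / (c + 1)
  set r := j % (c + 1)
  have hj : (2 : ℕ) ^ j = (2 * e) ^ m * 2 ^ r := by
    rw [hec, ← pow_succ', ← pow_mul, ← pow_add, hdiv]
  have h1 : (p : ℤ) ∣ (2 : ℤ) ^ j * ((g : ℤ) * k * 2) - ε * k := by
    rw [show (2 : ℤ) ^ j * ((g : ℤ) * k * 2) - ε * k = (((2 ^ (j + 1) * g : ℕ) : ℤ) - ε) * k by
      push_cast; ring]
    exact hmod.mul_right _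
  have hgk' : (g : ℤ) * k = e + 1 := by exact_mod_cast hgk
  have h2 : (p : ℤ) ∣ (2 : ℤ) ^ j - ε * k := by
    have h3 : (p : ℤ) ∣ (2 : ℤ) ^ j * ((g : ℤ) * k * 2) - (2 : ℤ) ^ j := by
      rw [hgk']
      exact ⟨2 ^ j, by subst hpe; push_cast; ring⟩
    have := Int.dvd_sub h1 h3
    rwa [show (2 : ℤ) ^ j * ((g : ℤ) * k * 2) - ε * k -
      ((2 : ℤ) ^ j * ((g : ℤ) * k * 2) - (2 : ℤ) ^ j) = (2 : ℤ) ^ j - ε * k by ring] at this
  have h4 : (p : ℤ) ∣ (-1) ^ m * (2 : ℤ) ^ r - ε * k := by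
    have h5 : (p : ℤ) ∣ (2 : ℤ) ^ j - (-1) ^ m * (2 : ℤ) ^ r := by
      rw [show (2 : ℤ) ^ j = ((2 : ℕ) ^ j : ℕ) by push_cast; rfl, hj]
      push_cast
      rw [← sub_mul]
      exact (two_mul_pow_modEq hpe).mul_right _
    have := Int.dvd_sub h2 h5
    rwa [show (2 : ℤ) ^ j - ε * k - ((2 : ℤ) ^ j - (-1) ^ m * (2 : ℤ) ^ r) =
      (-1) ^ m * (2 : ℤ) ^ r - ε * k by ring] at this
  have hk0 : 1 ≤ k := Nat.pos_of_ne_zero fun e0 => by simp [e0] at hgk
  have hkle : k ≤ e + 1 := Nat.le_of_dvd (by omega) (Dvd.intro_left g hgk)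
  have hr2 : 2 ^ r ≤ e := hec ▸ Nat.pow_le_pow_right two_pos hr
  have hev : ∃ a, e = 2 * a := ⟨2 ^ (c - 1), by rw [hec, ← pow_succ']; congr 1; omega⟩
  have hkodd : ¬ 2 ∣ k := fun hd => by
    obtain ⟨a, ha⟩ := hev
    have := hd.trans (Dvd.intro_left g hgk)
    omega
  have hrpos : 1 ≤ 2 ^ r := Nat.one_le_two_pow
  -- the sign
  by_cases hsig : ε = (-1) ^ m
  · have h6 : (p : ℤ) ∣ ((2 ^ r : ℕ) : ℤ) - k := by
      rw [hsig, ← mul_sub] at h4
      push_cast
      exact (IsUnit.dvd_mul_left ((isUnit_one.neg).pow m)).1 h4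
    have h7 : k = 2 ^ r := by
      have := Int.eq_zero_of_abs_lt_dvd h6 (abs_lt.2 ⟨by omega, by omega⟩)
      omega
    have hr0 : r = 0 := by
      by_contra hr0
      exact hkodd (h7 ▸ dvd_pow_self 2 hr0)
    rw [hr0, pow_zero] at h7 hj
    rw [h7, mul_one] at hgk
    subst hgk
    refine ⟨m, 2 * (e : ℤ) + 2, Or.inr rfl, ?_, fun hw => by omega⟩
    rw [pow_succ, hj, neg_pow, ← hsig]
    push_cast
    ring
  · have hεm : ε = -(-1) ^ m := by
      rcases neg_one_pow_eq_or ℤ m with em | em <;> rw [em] at hsig ⊢ <;> omega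
    have h6 : (p : ℤ) ∣ ((2 ^ r : ℕ) : ℤ) + k := by
      rw [hεm, neg_mul, sub_neg_eq_add, ← mul_add] at h4
      push_cast
      exact (IsUnit.dvd_mul_left ((isUnit_one.neg).pow m)).1 h4
    have h7 := Int.le_of_dvd (by omega) h6
    have hk1 : k = e + 1 := by omega
    have hre : 2 ^ r = e := by omega
    rw [hk1] at hgk
    have hg1 : g = 1 := Nat.eq_of_mul_eq_mul_right (by omega : 0 < e + 1) (by rw [hgk, one_mul])
    have hdeg : 2 ^ (j + 1) * g = (2 * e) ^ (m + 1) := by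
      rw [hg1, mul_one, pow_succ, hj, hre, pow_succ (2 * e) m]
      ring
    refine ⟨m + 1, 1, Or.inl rfl, ?_, fun _ => hdeg⟩
    rw [hdeg, hεm, neg_pow (2 * (e : ℤ)) (m + 1), pow_succ (-1 : ℤ)]
    push_cast
    ring

set_option maxHeartbeats 1000000 in
/-- Case `e = 2^c ≥ 4` of degree `p - e`. -/
theorem case_four [IsSimpleGroup G] (hnc : ¬ IsMulCommutative G) {p b g₀ n c : ℕ}
    [hp : Fact p.Prime] {P : Sylow p G} (h : Ctx p P) (B : Blk p P)
    (hC : cP P = (P : Subgroup G)) (hn : Nat.card (Sylow p G) = 1 + n * p) (hp5 : 5 ≤ p)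
    (hG : Nat.card G = p * (2 ^ b * g₀)) (hg : g₀ < p - 1) (hqg : ¬ 2 ∣ g₀) (he : eN P = 2 ^ c)
    (hc : 2 ≤ c) (hg₀ : g₀ = p - eN P) (hord : 2 ^ b * g₀ = eN P * (1 + n * p))
    {y : IrrCharacter G} (hy : y ∈ B.Y)
    (hε : B.ε = -1) (hD : charDegree (y : G → ℂ) = p - eN P) (hlt : 2 * eN P ≤ p - 1)
    (hX : ∀ x ∈ B.X, 2 ∣ charDegree (x : G → ℂ)) {s : G} (hs : orderOf s = 2)
    (hsodd : ¬ 2 ∣ (Subgroup.centralizer ({s} : Set G)).index) {T : Finset (IrrCharacter G)}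
    (hT : T ⊆ B.X) (hT0 : ∀ x ∈ B.X, (x : G → ℂ) s = 0 → x ∈ T)
    (hTdvd : ((2 : ℤ) ^ b) ∣ ∑ x ∈ T, B.εX x * (charDegree (x : G → ℂ) : ℤ)) : Concl G p := by
  classical
  obtain ⟨t, ht⟩ := h.eN_mul
  set e := eN P
  have he4 : 4 ∣ e := by rw [he]; exact (show (4 : ℕ) = 2 ^ 2 by norm_num) ▸ pow_dvd_pow 2 hc
  have hrel := B.rel_one hy
  rw [hε, hD] at hrel
  -- degrees in `X` as `2 ^ i * g`
  have hshape0 : ∀ x ∈ B.X, ∃ i g : ℕ, 1 ≤ i ∧ g ∣ g₀ ∧ charDegree (x : G → ℂ) = 2 ^ i * g ∧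
      ¬ 2 ∣ g := by
    intro x hx
    obtain ⟨i, g, hg2, hDx⟩ := Nat.exists_eq_pow_mul_and_not_dvd
      (CfsgLib.Chars17.irrDegree_pos x).ne' 2 (by norm_num)
    refine ⟨i, g, Nat.pos_of_ne_zero fun e0 => hg2 ?_, ?_, hDx, hg2⟩
    · have := hX x hx
      rwa [hDx, e0, pow_zero, one_mul] at this
    · have hnd : ¬ (p : ℤ) ∣ (charDegree (x : G → ℂ) : ℤ) := fun hd => by
        have h1 := Int.dvd_sub hd (B.degX x hx)
        rw [sub_sub_cancel] at h1
        rcases B.hεX x hx with e1 | e1 <;> rw [e1] at h1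
        · have := Int.le_of_dvd one_pos h1; omega
        · have := Int.le_of_dvd one_pos (dvd_neg.1 h1); omega
      exact (Nat.Coprime.pow_right b (Nat.prime_two.coprime_iff_not_dvd.2 hg2).symm).dvd_of_dvd_mul_left
        ((Dvd.intro_left _ hDx.symm).trans (dvd_part hG hnd))
  -- `p = 2e + 1`
  have hpe : p = 2 * e + 1 := by
    obtain ⟨x, hx, hx4⟩ : ∃ x ∈ B.X, ¬ 4 ∣ charDegree (x : G → ℂ) := by
      by_contra hno
      push Not at hno
      have h4 : (4 : ℤ) ∣ ∑ x ∈ B.X, B.εX x * (charDegree (x : G → ℂ) : ℤ) :=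
        Finset.dvd_sum fun x hx => Dvd.dvd.mul_left (Int.natCast_dvd_natCast.2 (hno x hx)) _
      obtain ⟨a, ha⟩ := he4
      have hpt : 4 * (a * t) = p - 1 := by rw [← ht, ha]; ring
      omega
    obtain ⟨i, g, hi, hgd, hDx, hg2⟩ := hshape0 x hx
    have hi1 : i = 1 := by
      by_contra hi1
      exact hx4 (hDx ▸ ((show (4 : ℕ) = 2 ^ 2 by norm_num) ▸ pow_dvd_pow 2
        (by omega : 2 ≤ i)).mul_right g)
    rw [hi1, pow_one] at hDx
    obtain ⟨k, hk⟩ := hgd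
    have hgle : g ≤ g₀ := Nat.le_of_dvd (by omega) ⟨k, hk⟩
    have hg1 : 1 ≤ g := Nat.pos_of_ne_zero fun e0 => hg2 (e0 ▸ dvd_zero 2)
    have ha : (2 * g : ℤ) = p + B.εX x := by
      have h1 := B.degX x hx
      rw [hDx] at h1
      push_cast at h1
      rcases B.hεX x hx with e1 | e1 <;> rw [e1] at h1 ⊢ <;>
      · have := eq_of_dvd_between h1 (by omega) (by omega)
        omega
    have hk1 : k = 1 := by
      rcases k with _ | _ | k
      · omega
      · rfl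
      · exfalso
        have h1 : g * 2 ≤ g₀ := hk ▸ Nat.mul_le_mul_left g (by omega)
        rcases B.hεX x hx with e1 | e1 <;> rw [e1] at ha <;> omega
    rw [hk1, mul_one] at hk
    rcases B.hεX x hx with e1 | e1 <;> rw [e1] at ha
    · omega
    · exfalso
      have h1 : e * t = 2 * e - 2 := by omega
      rcases Nat.lt_or_ge t 2 with ht2 | ht2
      · nlinarith [Nat.le_of_dvd (by omega) he4]
      · have : e * 2 ≤ e * t := Nat.mul_le_mul_left e ht2
        omega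
  have hg₀' : g₀ = e + 1 := by omega
  have hshape : ∀ x ∈ B.X, ∃ M : ℕ, ∃ w : ℤ, (w = 1 ∨ w = 2 * (e : ℤ) + 2) ∧
      B.εX x * (charDegree (x : G → ℂ) : ℤ) = (-(2 * (e : ℤ))) ^ M * w ∧
      (w = 1 → charDegree (x : G → ℂ) = (2 * e) ^ M) := by
    intro x hx
    obtain ⟨i, g, hi, ⟨k, hk⟩, hDx, -⟩ := hshape0 x hx
    rw [hDx]
    exact shape hpe he (by omega) (hk.symm.trans hg₀') _ (B.hεX x hx) hi (hDx ▸ B.degX x hx)
  choose! M w hw hval hpow using hshape
  -- `2 ^ b = (2e) ^ K`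
  obtain ⟨K, hK⟩ : ∃ K, 2 ^ b = (2 * e) ^ K := by
    have h1 : (p : ℤ) ∣ (2 : ℤ) ^ b + 1 := by
      have hord' : (2 : ℤ) ^ b * ((e : ℤ) + 1) = (e : ℤ) * (1 + n * p) := by
        exact_mod_cast hg₀' ▸ hord
      refine ⟨(2 : ℤ) ^ b * (-1) + 2 * e * n + 1, ?_⟩
      rw [hpe] at hord' ⊢
      push_cast at hord' ⊢
      linear_combination 2 * hord'
    have hdiv := Nat.div_add_mod b (c + 1)
    have hr : b % (c + 1) ≤ c := Nat.lt_succ_iff.1 (Nat.mod_lt _ c.succ_pos)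
    set K := b / (c + 1)
    set r := b % (c + 1)
    have hb : (2 : ℕ) ^ b = (2 * e) ^ K * 2 ^ r := by
      rw [he, ← pow_succ', ← pow_mul, ← pow_add, hdiv]
    refine ⟨K, ?_⟩
    suffices r = 0 by rw [hb, this, pow_zero, mul_one]
    have h2 : (p : ℤ) ∣ (-1) ^ K * ((2 ^ r : ℕ) : ℤ) + 1 := by
      have h3 : (p : ℤ) ∣ (2 : ℤ) ^ b - (-1) ^ K * ((2 ^ r : ℕ) : ℤ) := by
        rw [show (2 : ℤ) ^ b = ((2 : ℕ) ^ b : ℕ) by push_cast; rfl, hb]
        push_cast
        rw [← sub_mul]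
        exact (two_mul_pow_modEq hpe).mul_right _
      have := Int.dvd_sub h1 h3
      rwa [show (2 : ℤ) ^ b + 1 - ((2 : ℤ) ^ b - (-1) ^ K * ((2 ^ r : ℕ) : ℤ)) =
        (-1) ^ K * ((2 ^ r : ℕ) : ℤ) + 1 by ring] at this
    have hr2 : 2 ^ r ≤ e := he ▸ Nat.pow_le_pow_right two_pos hr
    have hrpos : 1 ≤ 2 ^ r := Nat.one_le_two_pow
    rcases neg_one_pow_eq_or ℤ K with em | em <;> rw [em] at h2
    · have := Int.le_of_dvd (by omega) h2
      omega
    · have := Int.eq_zero_of_abs_lt_dvd h2 (abs_lt.2 ⟨by omega, by omega⟩)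
      have h4 : 2 ^ r = 1 := by omega
      exact (Nat.pow_eq_one.1 h4).resolve_left (by norm_num)
  have he2 : 4 ≤ e := Nat.le_of_dvd (by rw [he]; positivity) he4
  have hlev : ∀ x ∈ T, K ≤ M x := by
    refine levels T e K M w ?_ (fun x hx => hw x (hT hx)) ?_
    · have := Finset.card_le_card hT
      have := B.card_X
      omega
    · rw [← Finset.sum_congr rfl fun x hx => hval x (hT hx)]
      have : (2 : ℤ) ^ b = (2 * (e : ℤ)) ^ K := by exact_mod_cast hK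
      rwa [← this]
  -- a member of 2-power degree
  obtain ⟨x, hx, hw1⟩ : ∃ x ∈ B.X, w x = 1 := by
    by_contra hno
    push Not at hno
    have h1 : (2 * (e : ℤ) + 2) ∣ ∑ x ∈ B.X, B.εX x * (charDegree (x : G → ℂ) : ℤ) :=
      Finset.dvd_sum fun x hx => by
        rw [hval x hx, (hw x hx).resolve_left (hno x hx)]
        exact dvd_mul_left _ _
    have h2 : (2 * (e : ℤ) + 2) ∣ (e : ℤ) + 2 := by
      rw [show (e : ℤ) + 2 = -∑ x ∈ B.X, B.εX x * (charDegree (x : G → ℂ) : ℤ) by omega, dvd_neg]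
      exact h1
    have := Int.le_of_dvd (by omega) h2
    omega
  have hDx := hpow x hx hw1
  have hxT : x ∈ T := hT0 x hx (vanish_of_pow_two hnc (fun e0 => by rw [e0, orderOf_one] at hs; omega)
    hsodd (fun e0 => B.one_X (e0 ▸ hx)) (i := (c + 1) * M x) (by rw [hDx, he, ← pow_succ', pow_mul]))
  have hdvd : (2 * e) ^ M x ∣ (2 * e) ^ K := by
    have h1 := (CfsgLib.ClassCount.degree_eq x).2.1
    rw [hG, hDx] at h1
    rw [← hK]
    have hc2 : ∀ m : ℕ, ¬ 2 ∣ m → Nat.Coprime ((2 * e) ^ M x) m := fun m hm => by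
      rw [he, ← pow_succ', ← pow_mul]
      exact Nat.Coprime.pow_left _ (Nat.prime_two.coprime_iff_not_dvd.2 hm)
    exact (hc2 g₀ hqg).dvd_of_dvd_mul_right ((hc2 p (by omega)).dvd_of_dvd_mul_left h1)
  have hMK : M x = K := le_antisymm ((Nat.pow_dvd_pow_iff_le_right (by omega)).1 hdvd) (hlev x hxT)
  have hK1 : K ≤ 1 := by
    by_contra hK2
    have h1 := CfsgLib.BrauerReynolds.sq_le_card x
    rw [hG, hDx, hMK, hK, hg₀'] at h1
    have h2 : ((2 * e) ^ K) ^ 2 ≤ p * ((2 * e) ^ K * (e + 1)) := by exact_mod_cast h1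
    have h3 : (2 * e) ^ 2 ≤ (2 * e) ^ K := Nat.pow_le_pow_right (by omega) (by omega)
    have h4 : (2 * e) ^ K ≤ p * (e + 1) :=
      Nat.le_of_mul_le_mul_left (by linarith) (pow_pos (by omega : 0 < 2 * e) K)
    nlinarith
  refine concl_of_bound h hC hn hp5 Nat.prime_two hG hg hqg ?_
  have h5 : 2 ^ b ≤ 2 * e := hK ▸ (Nat.pow_le_pow_right (by omega) hK1).trans (pow_one _).le
  have h6 : e * (1 + n * p) ≤ e * (2 * (e + 1)) := by
    rw [← hord, hg₀']
    calc 2 ^ b * (e + 1) ≤ 2 * e * (e + 1) := Nat.mul_le_mul_right _ h5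
      _ = e * (2 * (e + 1)) := by ring
  have := Nat.le_of_mul_le_mul_left h6 (by omega)
  nlinarith

/-- **Brauer–Tuan.** -/
theorem main [IsSimpleGroup G] (hnc : ¬ IsMulCommutative G) {p q b g₀ : ℕ} (hp : p.Prime)
    (hp5 : 5 ≤ p) (hq : q.Prime) (hpq : p ≠ q) (hG : Nat.card G = p * (q ^ b * g₀))
    (hg : g₀ < p - 1) (hqg : ¬ q ∣ g₀) : Concl G p := by
  classical
  haveI := Fact.mk hp
  have hg0 : 0 < g₀ := Nat.pos_of_ne_zero fun e => hqg (e ▸ dvd_zero q)
  have hpm : ¬ p ∣ q ^ b * g₀ := fun hd => by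
    rcases hp.dvd_mul.1 hd with h1 | h1
    · exact hpq ((Nat.prime_dvd_prime_iff_eq hp hq).1 (hp.dvd_of_dvd_pow h1))
    · have := Nat.le_of_dvd hg0 h1; omega
  have hsq : ¬ p ^ 2 ∣ Nat.card G := fun hd => hpm (by
    rw [hG, pow_two] at hd; exact Nat.dvd_of_mul_dvd_mul_left hp.pos hd)
  obtain ⟨P⟩ := (inferInstance : Nonempty (Sylow p G))
  have hP : Nat.card (P : Subgroup G) = p :=
    (CfsgLib.Small.card_sylow_of_card_eq (k := 1) (by rw [pow_one]; exact hG) hpm P).trans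
      (pow_one p)
  have h : Ctx p P := ⟨CfsgLib.Small.commutator_eq_top hnc, hP, fun K hK hd => by
    rcases hK.eq_bot_or_eq_top with e | e
    · exact e
    · exact absurd (by rw [e, Subgroup.card_top, hG]; exact dvd_mul_right p _) hd⟩
  obtain ⟨B⟩ := h.exists_blk
  obtain ⟨hX, hY⟩ := degrees h B hq hG hg hqg
  obtain ⟨t, ht⟩ := h.eN_mul
  have he2 := h.two_le_eN
  have htY : B.Y.card = t := Nat.eq_of_mul_eq_mul_left (by omega) (B.card_Y.trans ht.symm)
  have ht0 : 0 < t := Nat.pos_of_ne_zero fun e => by rw [e, mul_zero] at ht; omega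
  obtain ⟨y, hy⟩ := Finset.card_pos.1 (htY ▸ ht0)
  obtain ⟨hDg, hD1, hqD⟩ := hY y hy
  have hDle := Nat.le_of_dvd hg0 hDg
  obtain ⟨D, hD⟩ : ∃ D, charDegree (y : G → ℂ) = D := ⟨_, rfl⟩
  rw [hD] at hDg hD1 hqD hDle
  obtain ⟨a, ha⟩ := B.degY y hy
  rw [hD] at ha
  have ht2 : 2 ≤ t := by
    by_contra ht2
    have he' : eN P = p - 1 := by rw [← ht, show t = 1 by omega, mul_one]
    have hd : (p : ℤ) ∣ (D : ℤ) + B.ε := by
      refine ⟨a + B.ε, ?_⟩
      rw [he', Nat.cast_sub hp.one_le] at ha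
      push_cast at ha
      linear_combination ha
    rcases B.hε with e | e <;> rw [e] at hd
    · have := Int.le_of_dvd (by omega) hd; omega
    · have := Int.le_of_dvd (by omega) hd; omega
  have h2e : 2 * eN P ≤ p - 1 := by
    rw [← ht, mul_comm 2]
    exact Nat.mul_le_mul_left _ ht2
  have hyne : y ≠ principalIrr G := fun e => B.one_Y (e ▸ hy)
  have hfaith : ∀ g : G, (y : G → ℂ) g = (y : G → ℂ) 1 → g = 1 := fun g hg' => by
    rcases (CfsgLib.Chars17.irrKer_normal y).eq_bot_or_eq_top with hk | hk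
    · exact Subgroup.mem_bot.1 (hk ▸ CfsgLib.Chars17.mem_irrKer.2 hg')
    · exact absurd (Subtype.ext ((CfsgLib.Chars17.irrKer_eq_top_iff y).1 hk)) hyne
  rcases B.hε with hε | hε
  · -- degree `e`
    rw [hε, one_mul] at ha
    have hDe : D = eN P := by
      have := Int.eq_zero_of_abs_lt_dvd (⟨a, ha⟩ : (p : ℤ) ∣ (D : ℤ) - (eN P : ℤ))
        (abs_lt.2 ⟨by omega, by omega⟩)
      omega
    have hnn : ∀ H : Subgroup G, H.Normal → Nat.card H ≠ p := by
      intro H hH hcH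
      rcases hH.eq_bot_or_eq_top with e | e
      · rw [e, Subgroup.card_bot] at hcH; omega
      · rw [e, Subgroup.card_top, hG] at hcH
        have h1 : q ^ b * g₀ = 1 := Nat.eq_of_mul_eq_mul_left hp.pos (hcH.trans (mul_one p).symm)
        have := Nat.eq_one_of_mul_eq_one_left h1
        omega
    have hdiv : p ∣ Nat.card G := hG ▸ dvd_mul_right p _
    have h1 := Cfsg.Agent.S4503.result p hp hdiv hsq hnn (y : G → ℂ) (irr_isCharacter y) hfaith
    obtain ⟨φ⟩ := Cfsg.Agent.S4504.result p hp hdiv hsq hnn (y : G → ℂ) (irr_isCharacter y) hfaith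
      (by omega)
    exact concl_psl hp hp5 hq hG hg hqg (ZMod.card p)
      (((QuotientGroup.quotientMulEquivOfEq (CfsgLib.Small.center_eq_bot_of_nc hnc)).trans
        QuotientGroup.quotientBot).symm.trans φ)
  · -- degree `p - e`
    rw [hε] at ha
    have hDe : D = p - eN P := by
      have := eq_of_dvd_between (⟨a, ha⟩ : (p : ℤ) ∣ (D : ℤ) - -1 * (eN P : ℤ)) (by omega) (by omega)
      omega
    have hC : cP P = (P : Subgroup G) := cP_eq h B hsq hy hfaith (by omega)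
    have hpos : 1 ≤ Nat.card (Sylow p G) := Nat.card_pos
    obtain ⟨n, hn⟩ := (Nat.modEq_iff_dvd' hpos).1 (card_sylow_modEq_one p G).symm
    have hn' : Nat.card (Sylow p G) = 1 + n * p := by rw [mul_comm n]; omega
    have hord : q ^ b * g₀ = eN P * (1 + n * p) :=
      Nat.eq_of_mul_eq_mul_left hp.pos (hG ▸ h.card_group hC hn')
    have hg₀ : g₀ = p - eN P := by
      obtain ⟨k, hk⟩ := hDg
      rcases k with _ | _ | k
      · omega
      · omega
      · have : D * 2 ≤ g₀ := hk ▸ Nat.mul_le_mul_left D (by omega)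
        omega
    have hcop : Nat.Coprime (eN P) g₀ := by
      rw [hg₀, Nat.coprime_sub_self_right (by omega)]
      exact (hp.coprime_iff_not_dvd.2 fun hd => by have := Nat.le_of_dvd (by omega) hd; omega).symm
    obtain ⟨c, -, hc⟩ := (Nat.dvd_prime_pow hq).1
      (hcop.dvd_of_dvd_mul_right (Dvd.intro _ hord.symm))
    have hc0 : c ≠ 0 := fun e => by rw [e, pow_zero] at hc; omega
    have hq2 : q = 2 := by
      have hqe : q ∣ eN P := hc ▸ dvd_pow_self q hc0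
      rw [hε] at hqD
      have h1 : (q : ℤ) ∣ (2 : ℤ) := by
        have h2 : (q : ℤ) ∣ (eN P : ℤ) * ((t : ℤ) - 1) :=
          (Int.natCast_dvd_natCast.2 hqe).mul_right _
        have ht' : (eN P : ℤ) * t = (p : ℤ) - 1 := by
          have : eN P * t + 1 = p := by omega
          exact eq_sub_of_add_eq (by exact_mod_cast this)
        have hDz : (D : ℤ) = p - eN P := by omega
        have h3 := Int.dvd_sub (dvd_neg.2 hqD) h2
        rwa [show -((-1 : ℤ) * D - 1) - (eN P : ℤ) * ((t : ℤ) - 1) = 2 by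
          rw [hDz]; linear_combination -ht'] at h3
      exact (Nat.prime_dvd_prime_iff_eq hq Nat.prime_two).1 (by exact_mod_cast h1)
    subst hq2
    have hb : b ≠ 0 := fun e => by
      rw [e, pow_zero, one_mul] at hord
      exact hqg (hord ▸ (hc ▸ dvd_pow_self 2 hc0).mul_right _)
    have hG2 : Nat.card G = 2 ^ b * (p * g₀) := by rw [hG]; ring
    have hm2 : ¬ 2 ∣ p * g₀ := fun hd => by
      rcases Nat.prime_two.dvd_mul.1 hd with h1 | h1
      · exact hpq ((Nat.prime_dvd_prime_iff_eq Nat.prime_two hp).1 h1).symm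
      · exact hqg h1
    obtain ⟨s, hs, hsodd⟩ := exists_involution hb hG2 hm2
    obtain ⟨T, hT, hT0, hTdvd⟩ := projection h B hC (by omega) hG2 hm2 hX hs hsodd
    rw [hDe] at hD
    rcases Nat.lt_or_ge c 2 with hc2 | hc2
    · rw [show c = 1 by omega, pow_one] at hc
      rw [hc] at hg₀ hord hD
      exact case_two hnc h B hC hn' hp5 hG hg hqg hc hg₀ hord hy hε hD hs hsodd hT hT0 hTdvd
    · exact case_four hnc h B hC hn' hp5 hG hg hqg hc hc2 hg₀ hord hy hε hD h2e hX hs hsodd hT hT0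
        hTdvd

end CfsgLib.Small.BrauerTuan
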