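import Mathlib

/-!
Small groups toolkit: general lemmas about finite simple groups, Sylow numbers,
Burnside transfer consequences and element counting.
-/

set_option autoImplicit false

namespace CfsgLib.Small

open Subgroup MulAction

variable {G : Type*} [Group G]

theorem eq_bot_or_top [IsSimpleGroup G] (N : Subgroup G) [hN : N.Normal] : N = ⊥ ∨ N = ⊤ :=
  hN.eq_bot_or_eq_top

theorem nc_iff : ¬ IsMulCommutative G ↔ ¬ ∀ a b : G, a * b = b * a :=
  not_congr ⟨fun h a b => h.is_comm.comm a b, fun h => ⟨⟨h⟩⟩⟩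

theorem center_eq_bot_of_nc [IsSimpleGroup G] (hG : ¬ IsMulCommutative G) : center G = ⊥ := by
  rcases eq_bot_or_top (center G) with h | h
  · exact h
  · exact absurd ⟨⟨fun a b => ((Subgroup.mem_center_iff.mp (h ▸ mem_top b)) a)⟩⟩ hG

/-- A simple group of non-prime order is not commutative. -/
theorem nc_of_not_prime [Finite G] [IsSimpleGroup G] (h : ¬ (Nat.card G).Prime) :
    ¬ IsMulCommutative G := by
  intro hc
  let _ : CommGroup G := { ‹Group G› with mul_comm := hc.is_comm.comm }
  exact h IsSimpleGroup.prime_card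

theorem normalCore_eq_bot [IsSimpleGroup G] {H : Subgroup G} (hH : H ≠ ⊤) : H.normalCore = ⊥ :=
  (eq_bot_or_top H.normalCore).resolve_right fun h => hH (top_le_iff.mp (h ▸ H.normalCore_le))

theorem toPermHom_injective [IsSimpleGroup G] {H : Subgroup G} (hH : H ≠ ⊤) :
    Function.Injective (toPermHom G (G ⧸ H)) := by
  rw [← MonoidHom.ker_eq_bot_iff, ← normalCore_eq_ker]; exact normalCore_eq_bot hH

/-- Any homomorphism from a non-commutative simple group to a commutative group is trivial. -/
theorem hom_comm_eq_one [IsSimpleGroup G] (hG : ¬ IsMulCommutative G) {A : Type*} [CommGroup A]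
    (f : G →* A) (g : G) : f g = 1 := by
  rcases eq_bot_or_top f.ker with h | h
  · exfalso
    refine hG ⟨⟨fun a b => (MonoidHom.ker_eq_bot_iff f).mp h ?_⟩⟩
    rw [map_mul, map_mul, mul_comm]
  · exact MonoidHom.mem_ker.mp (h ▸ mem_top g)

/-- In a non-commutative simple group every permutation representation is even. -/
theorem sign_toPerm [IsSimpleGroup G] (hG : ¬ IsMulCommutative G) {α : Type*} [Fintype α]
    [DecidableEq α] [MulAction G α] (g : G) : Equiv.Perm.sign (toPerm g : Equiv.Perm α) = 1 :=
  hom_comm_eq_one hG (Equiv.Perm.sign.comp (toPermHom G α)) g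

/-- A non-commutative simple group with a proper subgroup `H` acts faithfully by even permutations
on the cosets of `H`. -/
theorem exists_hom_alternating_quotient [IsSimpleGroup G] (hG : ¬ IsMulCommutative G)
    (H : Subgroup G) [Fintype (G ⧸ H)] [DecidableEq (G ⧸ H)] (hH : H ≠ ⊤) :
    ∃ f : G →* alternatingGroup (G ⧸ H), Function.Injective f ∧
      ∀ g q, ((f g : alternatingGroup (G ⧸ H)) : Equiv.Perm (G ⧸ H)) q = g • q := by
  refine ⟨(toPermHom G (G ⧸ H)).codRestrict _ fun g => ?_, ?_, fun g q => rfl⟩
  · exact Equiv.Perm.mem_alternatingGroup.mpr (sign_toPerm hG g)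
  · intro a b hab
    exact toPermHom_injective hH (congrArg Subtype.val hab)

/-- A subgroup of index `n` of a non-commutative simple group `G` gives `2|G| ∣ n!`. -/
theorem two_mul_card_dvd_factorial_index [Finite G] [IsSimpleGroup G] (hG : ¬ IsMulCommutative G)
    {H : Subgroup G} (hH : H ≠ ⊤) : 2 * Nat.card G ∣ H.index.factorial := by
  classical
  have := Fintype.ofFinite (G ⧸ H)
  have h1 : 1 < H.index := one_lt_index_of_ne_top hH
  have : Nontrivial (G ⧸ H) := Finite.one_lt_card_iff_nontrivial.mp h1
  obtain ⟨f, hf, -⟩ := exists_hom_alternating_quotient hG H hH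
  have key := card_dvd_of_injective f hf
  have := Nat.mul_dvd_mul_left 2 key
  rwa [two_mul_nat_card_alternatingGroup, Nat.card_perm] at this

theorem two_mul_card_le_factorial_index [Finite G] [IsSimpleGroup G] (hG : ¬ IsMulCommutative G)
    {H : Subgroup G} (hH : H ≠ ⊤) : 2 * Nat.card G ≤ H.index.factorial :=
  Nat.le_of_dvd (Nat.factorial_pos _) (two_mul_card_dvd_factorial_index hG hH)

theorem normalizer_ne_top [IsSimpleGroup G] {D : Subgroup G} (h1 : D ≠ ⊥) (h2 : D ≠ ⊤) :
    normalizer (D : Set G) ≠ ⊤ := fun h =>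
  ((normalizer_eq_top_iff.mp h).eq_bot_or_eq_top).elim h1 h2

section Sylow

variable [Finite G] {p : ℕ} [hp : Fact p.Prime]

theorem sylow_ne_top [IsSimpleGroup G] (hG : ¬ IsMulCommutative G) (P : Sylow p G) :
    (P : Subgroup G) ≠ ⊤ := by
  intro h
  have hPG : IsPGroup p G := (P.2.of_equiv ((MulEquiv.subgroupCongr h).trans topEquiv))
  have := IsPGroup.center_nontrivial hPG
  exact (Subgroup.nontrivial_iff_ne_bot _).mp this (center_eq_bot_of_nc hG)

theorem sylow_normalizer_ne_top [IsSimpleGroup G] (hG : ¬ IsMulCommutative G)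
    (hdvd : p ∣ Nat.card G) (P : Sylow p G) :
    normalizer ((P : Subgroup G) : Set G) ≠ ⊤ :=
  normalizer_ne_top (P.ne_bot_of_dvd_card hdvd) (sylow_ne_top hG P)

theorem one_lt_card_sylow [IsSimpleGroup G] (hG : ¬ IsMulCommutative G)
    (hdvd : p ∣ Nat.card G) : 1 < Nat.card (Sylow p G) := by
  obtain ⟨P⟩ := (inferInstance : Nonempty (Sylow p G))
  rw [P.card_eq_index_normalizer]
  exact one_lt_index_of_ne_top (sylow_normalizer_ne_top hG hdvd P)

theorem two_mul_card_dvd_factorial_card_sylow [IsSimpleGroup G] (hG : ¬ IsMulCommutative G)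
    (hdvd : p ∣ Nat.card G) : 2 * Nat.card G ∣ (Nat.card (Sylow p G)).factorial := by
  obtain ⟨P⟩ := (inferInstance : Nonempty (Sylow p G))
  rw [P.card_eq_index_normalizer]
  exact two_mul_card_dvd_factorial_index hG (sylow_normalizer_ne_top hG hdvd P)

theorem card_normalizer_mul_card_sylow (P : Sylow p G) :
    Nat.card (normalizer ((P : Subgroup G) : Set G)) * Nat.card (Sylow p G) = Nat.card G := by
  rw [P.card_eq_index_normalizer]
  exact card_mul_index (normalizer ((P : Subgroup G) : Set G))

theorem card_sylow_of_card_eq {k m : ℕ} (hc : Nat.card G = p ^ k * m) (hm : ¬ p ∣ m)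
    (P : Sylow p G) : Nat.card P = p ^ k := by
  rw [P.card_eq_multiplicity, hc]
  have hm0 : m ≠ 0 := fun h => hm (h ▸ dvd_zero p)
  rw [Nat.factorization_mul (pow_ne_zero _ hp.out.ne_zero) hm0, Finsupp.add_apply,
    Nat.factorization_eq_zero_of_not_dvd hm, add_zero, Nat.factorization_pow,
    Finsupp.smul_apply, hp.out.factorization_self, smul_eq_mul, mul_one]

theorem index_sylow_of_card_eq {k m : ℕ} (hc : Nat.card G = p ^ k * m) (hm : ¬ p ∣ m)
    (P : Sylow p G) : (P : Subgroup G).index = m := by
  have := card_mul_index (P : Subgroup G)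
  rw [card_sylow_of_card_eq hc hm P, hc] at this
  exact Nat.eq_of_mul_eq_mul_left (pow_pos hp.out.pos k) this

/-- Sylow numbers of a non-commutative simple group of order `p^k * m`, `p ∤ m`, `k ≥ 1`. -/
theorem card_sylow_mem [IsSimpleGroup G] (hG : ¬ IsMulCommutative G) {k m : ℕ} (hk : k ≠ 0)
    (hc : Nat.card G = p ^ k * m) (hm : ¬ p ∣ m) :
    Nat.card (Sylow p G) ∈ m.divisors.filter fun n => n % p = 1 ∧ 1 < n := by
  obtain ⟨P⟩ := (inferInstance : Nonempty (Sylow p G))
  have hdvd : p ∣ Nat.card G := hc ▸ (dvd_pow_self p hk).mul_right m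
  have hm0 : m ≠ 0 := fun h => hm (h ▸ dvd_zero p)
  rw [Finset.mem_filter, Nat.mem_divisors]
  refine ⟨⟨?_, hm0⟩, ?_, one_lt_card_sylow hG hdvd⟩
  · exact index_sylow_of_card_eq hc hm P ▸ P.card_dvd_index
  · have := card_sylow_modEq_one p G
    rw [Nat.ModEq, Nat.mod_eq_of_lt hp.out.one_lt] at this
    exact this

omit hp in
theorem card_normalizer_eq {n : ℕ} (hn : Nat.card (Sylow p G) = n) [Fact p.Prime]
    (P : Sylow p G) : Nat.card (normalizer ((P : Subgroup G) : Set G)) * n = Nat.card G :=
  hn ▸ card_normalizer_mul_card_sylow P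

/-- Burnside's transfer theorem for simple groups: `N(P)` does not centralise `P`. -/
theorem not_normalizer_le_centralizer [IsSimpleGroup G] (hG : ¬ IsMulCommutative G)
    (hdvd : p ∣ Nat.card G) (P : Sylow p G) :
    ¬ normalizer ((P : Subgroup G) : Set G) ≤ centralizer ((P : Subgroup G) : Set G) := by
  intro hP
  have hc := MonoidHom.ker_transferSylow_isComplement' P hP
  rcases eq_bot_or_top (MonoidHom.transferSylow P hP).ker with h | h
  · rw [h] at hc
    exact sylow_ne_top hG P (isComplement'_bot_left.mp hc)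
  · rw [h] at hc
    exact P.ne_bot_of_dvd_card hdvd (isComplement'_top_left.mp hc)

theorem exists_mem_normalizer_notMem_centralizer [IsSimpleGroup G] (hG : ¬ IsMulCommutative G)
    (hdvd : p ∣ Nat.card G) (P : Sylow p G) :
    ∃ x, x ∈ normalizer ((P : Subgroup G) : Set G) ∧
      x ∉ centralizer ((P : Subgroup G) : Set G) :=
  SetLike.not_le_iff_exists.mp (not_normalizer_le_centralizer hG hdvd P)

end Sylow

theorem centralizer_le_normalizer' (H : Subgroup G) :
    centralizer (H : Set G) ≤ normalizer (H : Set G) := by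
  intro x hx
  rw [mem_normalizer_iff]
  intro h
  constructor
  · intro hh
    rw [← hx h hh]; simpa using hh
  · intro hh
    have h' := hx _ hh
    have : x * (x * h * x⁻¹) * x⁻¹ = x * h * x⁻¹ := by rw [← h']; simp [mul_assoc]
    have : x * h * x⁻¹ = h := mul_left_cancel (mul_right_cancel this)
    exact this ▸ hh

theorem card_centralizer_mul_relIndex [Finite G] (H : Subgroup G) :
    Nat.card (centralizer (H : Set G)) *
      (centralizer (H : Set G)).relIndex (normalizer (H : Set G)) =
      Nat.card (normalizer (H : Set G)) := by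
  rw [← relIndex_bot_left, ← relIndex_bot_left,
    relIndex_mul_relIndex ⊥ _ _ bot_le (centralizer_le_normalizer' H)]

theorem relIndex_centralizer_normalizer_dvd_card_mulAut [Finite G] (H : Subgroup G) :
    (centralizer (H : Set G)).relIndex (normalizer (H : Set G)) ∣ Nat.card (MulAut H) := by
  have key := card_dvd_of_injective _ (QuotientGroup.kerLift_injective H.normalizerMonoidHom)
  rwa [normalizerMonoidHom_ker, ← index, ← relIndex] at key

theorem relIndex_centralizer_normalizer_dvd_of_prime [Finite G] {p : ℕ} [hp : Fact p.Prime]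
    {H : Subgroup G} (hH : Nat.card H = p) :
    (centralizer (H : Set G)).relIndex (normalizer (H : Set G)) ∣ p - 1 := by
  have : IsCyclic H := isCyclic_of_prime_card hH
  have h := relIndex_centralizer_normalizer_dvd_card_mulAut H
  rwa [IsCyclic.card_mulAut, hH, Nat.totient_prime hp.out] at h

/-- The data of a Sylow subgroup of prime order in a non-commutative simple group:
`|G| = |C(P)| e n` with `1 < e ∣ p - 1` and `p ∣ |C(P)|`. -/
theorem sylow_prime_order_data [Finite G] [IsSimpleGroup G] {p : ℕ} [hp : Fact p.Prime]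
    (hG : ¬ IsMulCommutative G) (P : Sylow p G) (hP : Nat.card P = p) :
    ∃ e : ℕ, 1 < e ∧ e ∣ p - 1 ∧ p ∣ Nat.card (centralizer ((P : Subgroup G) : Set G)) ∧
      Nat.card (centralizer ((P : Subgroup G) : Set G)) * e =
        Nat.card (normalizer ((P : Subgroup G) : Set G)) ∧
      Nat.card (centralizer ((P : Subgroup G) : Set G)) * e * Nat.card (Sylow p G) =
        Nat.card G := by
  have hdvd : p ∣ Nat.card G := hP ▸ card_subgroup_dvd_card (P : Subgroup G)
  have hmul := card_centralizer_mul_relIndex (P : Subgroup G)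
  refine ⟨_, ?_, relIndex_centralizer_normalizer_dvd_of_prime hP, ?_, hmul, ?_⟩
  · by_contra h
    interval_cases hr : (centralizer ((P : Subgroup G) : Set G)).relIndex
      (normalizer ((P : Subgroup G) : Set G))
    · exact index_ne_zero_of_finite hr
    · exact not_normalizer_le_centralizer hG hdvd P (relIndex_eq_one.mp hr)
  · have : IsCyclic P := isCyclic_of_prime_card hP
    let _ := IsCyclic.commGroup (α := P)
    calc p = Nat.card P := hP.symm
      _ ∣ _ := by
        refine card_dvd_of_le ?_
        intro x hx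
        rw [Subgroup.mem_centralizer_iff]
        intro y hy
        exact congrArg Subtype.val (mul_comm (⟨y, hy⟩ : (P : Subgroup G)) ⟨x, hx⟩)
  · rw [hmul]; exact card_normalizer_mul_card_sylow P

/-- The order of `G` is the sum over all possible element orders. -/
theorem card_eq_sum_orderOf [Finite G] :
    Nat.card G = ∑ d ∈ (Nat.card G).divisors, Nat.card {g : G // orderOf g = d} := by
  classical
  have := Fintype.ofFinite G
  simp only [Nat.card_eq_fintype_card, Fintype.card_subtype]
  rw [← Finset.card_univ]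
  refine Finset.card_eq_sum_card_fiberwise fun g _ => ?_
  simp [orderOf_dvd_card]

/-- The elements with orders in a finite set number at most `|G|`. -/
theorem sum_card_orderOf_le [Finite G] (S : Finset ℕ) :
    ∑ d ∈ S, Nat.card {g : G // orderOf g = d} ≤ Nat.card G := by
  classical
  have := Fintype.ofFinite G
  simp only [Nat.card_eq_fintype_card, Fintype.card_subtype]
  rw [← Finset.card_biUnion (by
    intro a _ b _ hab
    simp only [Function.onFun, Finset.disjoint_filter]
    intro g _ ha hb; exact hab (ha.symm.trans hb))]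
  exact Finset.card_le_univ _

theorem card_orderOf_eq_one : Nat.card {g : G // orderOf g = 1} = 1 := by
  simp [orderOf_eq_one_iff]

section Counting

variable [Finite G] {p : ℕ} [hp : Fact p.Prime]

theorem eq_zpowers_of_mem {H : Subgroup G} (hH : Nat.card H = p) {g : G} (hg : g ∈ H)
    (h1 : g ≠ 1) : H = zpowers g := by
  have hord : orderOf g = p := by
    have := orderOf_dvd_natCard (⟨g, hg⟩ : H)
    rw [Subgroup.orderOf_mk, hH] at this
    exact (hp.out.eq_one_or_self_of_dvd _ this).resolve_left (by simpa using h1)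
  exact (eq_of_le_of_card_ge (zpowers_le.mpr hg) (by rw [hH, Nat.card_zpowers, hord])).symm

theorem exists_unique_sylow_mem {g : G} (hg : orderOf g = p) (hP : ∀ P : Sylow p G, Nat.card P = p) :
    ∃! P : Sylow p G, g ∈ P := by
  have hpg : IsPGroup p (zpowers g) :=
    IsPGroup.of_card (n := 1) (by rw [Nat.card_zpowers, hg, pow_one])
  obtain ⟨P, hle⟩ := hpg.exists_le_sylow
  have h1 : g ≠ 1 := fun h => hp.out.ne_one (by rw [← hg, h, orderOf_one])
  refine ⟨P, hle (mem_zpowers g), fun Q hQ => Sylow.ext ?_⟩
  rw [eq_zpowers_of_mem (hP Q) hQ h1, eq_zpowers_of_mem (hP P) (hle (mem_zpowers g)) h1]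

/-- Number of elements of order `p` when the Sylow `p`-subgroups have order `p`. -/
theorem card_orderOf_eq_prime (hP : ∀ P : Sylow p G, Nat.card P = p) :
    Nat.card {g : G // orderOf g = p} = Nat.card (Sylow p G) * (p - 1) := by
  classical
  have hne : ∀ g : G, orderOf g = p → g ≠ 1 := fun g hg h =>
    hp.out.ne_one (by rw [← hg, h, orderOf_one])
  let f : (Σ P : Sylow p G, {x : (P : Subgroup G) // ¬ x = 1}) → {g : G // orderOf g = p} := fun x =>
    ⟨x.2.1.1, by
      rw [Subgroup.orderOf_coe]
      have h := orderOf_dvd_natCard x.2.1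
      rw [show Nat.card (x.1 : Subgroup G) = p from hP x.1] at h
      exact (hp.out.eq_one_or_self_of_dvd _ h).resolve_left (by simpa using x.2.2)⟩
  have hf : Function.Bijective f := by
    constructor
    · rintro ⟨P, ⟨⟨x, hx⟩, hx1⟩⟩ ⟨Q, ⟨⟨y, hy⟩, hy1⟩⟩ h
      obtain rfl : x = y := congrArg Subtype.val h
      obtain rfl : P = Q :=
        (exists_unique_sylow_mem (f ⟨P, ⟨⟨x, hx⟩, hx1⟩⟩).2 hP).unique hx hy
      rfl
    · rintro ⟨g, hg⟩
      obtain ⟨P, hgP, -⟩ := exists_unique_sylow_mem hg hP
      exact ⟨⟨P, ⟨⟨g, hgP⟩, fun h => hne g hg (congrArg Subtype.val h)⟩⟩, rfl⟩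
  rw [← Nat.card_congr (Equiv.ofBijective f hf)]
  have := Fintype.ofFinite (Sylow p G)
  rw [Nat.card_sigma, Finset.sum_congr rfl (g := fun _ => p - 1), Finset.sum_const, smul_eq_mul,
    Finset.card_univ, Nat.card_eq_fintype_card]
  intro P _
  have := Fintype.ofFinite (P : Subgroup G)
  rw [Nat.card_eq_fintype_card, Fintype.card_subtype_compl, Fintype.card_subtype_eq,
    ← Nat.card_eq_fintype_card, hP P]

end Counting

end CfsgLib.Small
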