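import Cfsg.Agent.Lib.Small.Basic

/-!
Fixed points on coset spaces and on Sylow subgroups.
-/

set_option autoImplicit false

namespace CfsgLib.Small

open Subgroup MulAction

variable {G : Type*} [Group G]

theorem smul_mk_eq_self_iff (H : Subgroup G) (x g : G) :
    x • (QuotientGroup.mk g : G ⧸ H) = QuotientGroup.mk g ↔ g⁻¹ * x * g ∈ H := by
  rw [MulAction.Quotient.smul_mk, QuotientGroup.eq, smul_eq_mul]
  constructor
  · intro h
    simpa [mul_assoc] using H.inv_mem h
  · intro h
    simpa [mul_assoc] using H.inv_mem h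

theorem card_fixedBy_conj {α : Type*} [MulAction G α] (x g : G) :
    Nat.card (fixedBy α (g * x * g⁻¹)) = Nat.card (fixedBy α x) := by
  refine Nat.card_congr (Equiv.subtypeEquiv (MulAction.toPerm g⁻¹) fun a => ?_)
  simp only [mem_fixedBy, toPerm_apply, mul_smul]
  exact ⟨fun h => by conv_rhs => rw [← h, inv_smul_smul],
    fun h => by rw [h, smul_inv_smul]⟩

/-- `#fixed(x) * #class(x) = [G:H] * #(class(x) ∩ H)`. -/
theorem card_fixedBy_mul_card_class [Finite G] (H : Subgroup G) (x : G) :
    Nat.card (fixedBy (G ⧸ H) x) * Nat.card {g : G // IsConj x g} =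
      H.index * Nat.card {g : G // IsConj x g ∧ g ∈ H} := by
  classical
  have h1 : Nat.card (Σ y : {g : G // IsConj x g}, fixedBy (G ⧸ H) y.1) =
      Nat.card (fixedBy (G ⧸ H) x) * Nat.card {g : G // IsConj x g} := by
    have := Fintype.ofFinite {g : G // IsConj x g}
    rw [Nat.card_sigma, Finset.sum_congr rfl (g := fun _ => Nat.card (fixedBy (G ⧸ H) x)),
      Finset.sum_const, Finset.card_univ, smul_eq_mul, mul_comm, ← Nat.card_eq_fintype_card]
    rintro ⟨y, hy⟩ _
    obtain ⟨g, rfl⟩ := isConj_iff.mp hy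
    exact card_fixedBy_conj x g
  have h2 : Nat.card (Σ q : G ⧸ H, {y : {g : G // IsConj x g} // y.1 • q = q}) =
      H.index * Nat.card {g : G // IsConj x g ∧ g ∈ H} := by
    have := Fintype.ofFinite (G ⧸ H)
    rw [Nat.card_sigma, Finset.sum_congr rfl (g := fun _ => Nat.card {g : G // IsConj x g ∧ g ∈ H}),
      Finset.sum_const, Finset.card_univ, smul_eq_mul, index_eq_card, ← Nat.card_eq_fintype_card]
    intro q _
    induction q using QuotientGroup.induction_on with
    | H g =>
      refine Nat.card_congr ((Equiv.subtypeSubtypeEquivSubtypeInter _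
        (fun y : G => y • (QuotientGroup.mk g : G ⧸ H) = QuotientGroup.mk g)).trans
        (Equiv.subtypeEquiv (MulAut.conj g⁻¹).toEquiv fun y => ?_))
      simp only [MulEquiv.toEquiv_eq_coe, EquivLike.coe_coe, MulAut.conj_apply, inv_inv,
        smul_mk_eq_self_iff]
      have hc : IsConj y (g⁻¹ * y * g) := isConj_iff.mpr ⟨g⁻¹, by simp⟩
      exact ⟨fun h => ⟨h.1.trans hc, h.2⟩, fun h => ⟨h.1.trans hc.symm, h.2⟩⟩
  rw [← h1, ← h2]
  refine Nat.card_congr
    ⟨fun p => ⟨p.2.1, p.1, p.2.2⟩, fun p => ⟨p.2.1, p.1, p.2.2⟩, fun _ => rfl, fun _ => rfl⟩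

/-- The coset space of the normaliser of a Sylow subgroup is the set of Sylow subgroups. -/
theorem card_fixedBy_quotient_normalizer_eq [Finite G] {p : ℕ} [Fact p.Prime] (P : Sylow p G)
    (x : G) : Nat.card (fixedBy (G ⧸ normalizer ((P : Subgroup G) : Set G)) x) =
      Nat.card (fixedBy (Sylow p G) x) := by
  classical
  have hstab : ∀ g : G, g ∈ normalizer ((P : Subgroup G) : Set G) ↔ g • P = P := fun g =>
    Sylow.smul_eq_iff_mem_normalizer.symm
  refine Nat.card_congr (Equiv.ofBijective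
    (fun q => ⟨Quotient.liftOn' q.1 (fun g : G => g • P) ?_, ?_⟩) ⟨?_, ?_⟩)
  · intro a b hab
    rw [QuotientGroup.leftRel_apply, hstab, mul_smul, inv_smul_eq_iff] at hab
    exact hab.symm
  · obtain ⟨q, hq⟩ := q
    induction q using QuotientGroup.induction_on with
    | H g =>
      rw [mem_fixedBy, smul_mk_eq_self_iff, hstab, mul_smul, mul_smul, inv_smul_eq_iff] at hq
      exact hq
  · rintro ⟨a, ha⟩ ⟨b, hb⟩ h
    induction a using QuotientGroup.induction_on with
    | H a =>
      induction b using QuotientGroup.induction_on with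
      | H b =>
        have h' : a • P = b • P := congrArg Subtype.val h
        refine Subtype.ext (QuotientGroup.eq.mpr ?_)
        rw [hstab, mul_smul, ← h', inv_smul_smul]
  · rintro ⟨Q, hQ⟩
    obtain ⟨g, rfl⟩ := exists_smul_eq G P Q
    refine ⟨⟨QuotientGroup.mk g, ?_⟩, rfl⟩
    rw [mem_fixedBy, smul_mk_eq_self_iff, hstab, mul_smul, mul_smul, inv_smul_eq_iff]
    exact hQ

/-- An element of order `p` fixes exactly one Sylow subgroup when these have order `p`. -/
theorem card_fixedBy_sylow_of_orderOf_eq [Finite G] {p : ℕ} [hp : Fact p.Prime]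
    (hP : ∀ P : Sylow p G, Nat.card P = p) {y : G} (hy : orderOf y = p) :
    Nat.card (fixedBy (Sylow p G) y) = 1 := by
  obtain ⟨Q, hQ, huniq⟩ := exists_unique_sylow_mem hy hP
  have hfix : fixedBy (Sylow p G) y = {Q} := by
    ext R
    rw [mem_fixedBy, Sylow.smul_eq_iff_mem_normalizer]
    constructor
    · intro h
      refine huniq R ?_
      have hpg : IsPGroup p (zpowers y) :=
        IsPGroup.of_card (n := 1) (by rw [Nat.card_zpowers, hy, pow_one])
      have h2 : y ∈ zpowers y ⊓ (R : Subgroup G) :=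
        hpg.inf_normalizer_sylow R ▸ Subgroup.mem_inf.mpr ⟨mem_zpowers y, h⟩
      exact h2.2
    · rintro rfl
      exact le_normalizer hQ
  rw [hfix]; simp

/-- If `x` normalises `P` of order `p` but does not centralise it, then `x` fixes at most one
point in each `P`-orbit. -/
theorem eq_of_fixed_of_mem_orbit [Finite G] {α : Type*} [MulAction G α] {p : ℕ} [hp : Fact p.Prime]
    {P : Subgroup G} (hP : Nat.card P = p) {x : G} (hx : x ∈ normalizer (P : Set G))
    (hxc : x ∉ centralizer (P : Set G)) {a b : α} (ha : x • a = a) (hb : x • b = b)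
    (hab : b ∈ orbit P a) : b = a := by
  obtain ⟨⟨u, hu⟩, rfl⟩ := hab
  change u • a = a
  by_contra hne
  refine hxc ?_
  have hu1 : u ≠ 1 := fun h => hne (by rw [h, one_smul])
  have hu' : x * u * x⁻¹ ∈ P := (mem_normalizer_iff.mp hx u).mp hu
  have hb' : x • u • a = u • a := hb
  have hkey : (u⁻¹ * (x * u * x⁻¹)) • a = a := by
    have h3 : x⁻¹ • a = a := by conv_lhs => rw [← ha, inv_smul_smul]
    rw [mul_smul, mul_smul, mul_smul, h3, hb', inv_smul_smul]
  have hv : u⁻¹ * (x * u * x⁻¹) ∈ P := P.mul_mem (P.inv_mem hu) hu'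
  have h1 : u⁻¹ * (x * u * x⁻¹) = 1 := by
    by_contra hv1
    have hz := eq_zpowers_of_mem hP hv hv1
    obtain ⟨n, hn⟩ := mem_zpowers_iff.mp (hz ▸ hu)
    refine hne ?_
    rw [← hn]
    exact zpow_mem (mem_stabilizer_iff.mpr hkey : _ ∈ stabilizer G a) n
  have hcomm : x * u = u * x := by
    have := eq_of_inv_mul_eq_one h1
    rw [eq_mul_inv_iff_mul_eq] at this
    exact this.symm
  rw [mem_centralizer_iff]
  intro v hv
  rw [eq_zpowers_of_mem hP hu hu1] at hv
  obtain ⟨n, rfl⟩ := mem_zpowers_iff.mp hv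
  exact (Commute.zpow_left (show Commute u x from hcomm.symm) n).eq

theorem card_fixedBy_le_card_orbits [Finite G] {α : Type*} [MulAction G α] [Finite α] {p : ℕ}
    [Fact p.Prime] {P : Subgroup G} (hP : Nat.card P = p) {x : G}
    (hx : x ∈ normalizer (P : Set G)) (hxc : x ∉ centralizer (P : Set G)) :
    Nat.card (fixedBy α x) ≤ Nat.card (orbitRel.Quotient P α) := by
  refine Nat.card_le_card_of_injective (fun a => Quotient.mk'' a.1) ?_
  rintro ⟨a, ha⟩ ⟨b, hb⟩ h
  exact Subtype.ext (eq_of_fixed_of_mem_orbit hP hx hxc hb ha (Quotient.exact' h))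

end CfsgLib.Small
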