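import Cfsg.Agent.Lib.Small.Basic

/-!
Intersections of Sylow subgroups.
-/

set_option autoImplicit false

namespace CfsgLib.Small

open Subgroup MulAction

variable {G : Type*} [Group G] [Finite G] {p : ℕ} [hp : Fact p.Prime]

/-- If `n_p ≢ 1 (mod p^k)` some two Sylow subgroups meet in index at most `p^(k-1)`. -/
theorem exists_pair_of_not_modEq {k : ℕ} (h : ¬ Nat.card (Sylow p G) ≡ 1 [MOD p ^ k]) :
    ∃ P R : Sylow p G, P ≠ R ∧
      ((R : Subgroup G).subgroupOf (P : Subgroup G)).index ≤ p ^ (k - 1) := by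
  classical
  by_contra hcon
  push Not at hcon
  refine h ?_
  obtain ⟨P⟩ := (inferInstance : Nonempty (Sylow p G))
  have := Fintype.ofFinite (Sylow p G)
  have hstab : ∀ R : Sylow p G,
      stabilizer (P : Subgroup G) R = (R : Subgroup G).subgroupOf P := by
    intro R
    ext x
    rw [mem_stabilizer_iff, mem_subgroupOf, show x • R = (x : G) • R from rfl,
      Sylow.smul_eq_iff_mem_normalizer]
    constructor
    · intro hx
      have h2 : (x : G) ∈ (P : Subgroup G) ⊓ (R : Subgroup G) :=
        P.2.inf_normalizer_sylow R ▸ Subgroup.mem_inf.mpr ⟨x.2, hx⟩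
      exact h2.2
    · intro hx
      exact le_normalizer hx
  have horb : ∀ R : Sylow p G, Nat.card (orbit (P : Subgroup G) R) =
      ((R : Subgroup G).subgroupOf (P : Subgroup G)).index := by
    intro R
    rw [Nat.card_congr (orbitEquivQuotientStabilizer (P : Subgroup G) R), hstab R]
    rfl
  have hk : k ≠ 0 := by
    rintro rfl; exact h (by simp [Nat.modEq_one])
  have hdiv : ∀ R : Sylow p G, P ≠ R → p ^ k ∣ Nat.card (orbit (P : Subgroup G) R) := by
    intro R hne
    have hgt := hcon P R hne
    obtain ⟨i, hi⟩ := P.2.index ((R : Subgroup G).subgroupOf (P : Subgroup G))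
    rw [horb, hi]
    rw [hi] at hgt
    have := (Nat.pow_lt_pow_iff_right hp.out.one_lt).mp hgt
    exact pow_dvd_pow p (by omega)
  have hP1 : ∀ R, orbit (P : Subgroup G) R = orbit (P : Subgroup G) P → R = P := by
    intro R hR
    have hmem : R ∈ orbit (P : Subgroup G) P := hR ▸ mem_orbit_self R
    obtain ⟨x, rfl⟩ := hmem
    exact Sylow.smul_eq_iff_mem_normalizer.mpr (le_normalizer x.2)
  have key : Nat.card (Sylow p G) = ∑ ω : orbitRel.Quotient (P : Subgroup G) (Sylow p G),
      Nat.card ω.orbit := by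
    rw [Nat.card_congr (selfEquivSigmaOrbits' (P : Subgroup G) (Sylow p G)), Nat.card_sigma]
  rw [key, ← ZMod.natCast_eq_natCast_iff, Nat.cast_sum, Nat.cast_one,
    Finset.sum_eq_single (⟦P⟧ : orbitRel.Quotient (P : Subgroup G) (Sylow p G))]
  · rw [orbitRel.Quotient.orbit_mk]
    have : orbit (P : Subgroup G) P = {P} := by
      ext R
      constructor
      · intro hR; exact hP1 R (orbit_eq_iff.mpr hR)
      · rintro rfl; exact mem_orbit_self _
    rw [this]; simp
  · intro ω _
    induction ω using Quotient.inductionOn' with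
    | h R =>
      intro hne
      rw [ZMod.natCast_eq_zero_iff, orbitRel.Quotient.orbit_mk]
      exact hdiv R fun h => hne (by subst h; rfl)
  · simp

omit hp in
/-- The intersection of a maximal Sylow intersection: any `p`-subgroup of larger order lies in
only one Sylow subgroup. -/
theorem sylow_eq_of_card_lt {P Q : Sylow p G}
    (hmax : ∀ P' Q' : Sylow p G, P' ≠ Q' →
      Nat.card ↥((P' : Subgroup G) ⊓ (Q' : Subgroup G)) ≤
        Nat.card ↥((P : Subgroup G) ⊓ (Q : Subgroup G)))
    {S : Subgroup G} {T T' : Sylow p G} (h : S ≤ (T : Subgroup G)) (h' : S ≤ (T' : Subgroup G))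
    (hlt : Nat.card ↥((P : Subgroup G) ⊓ (Q : Subgroup G)) < Nat.card S) : T = T' := by
  by_contra hne
  exact absurd ((card_le_of_le (le_inf h h')).trans (hmax T T' hne)) (not_le.mpr hlt)

/-- A proper subgroup of a Sylow subgroup is properly contained in its normaliser there. -/
theorem lt_inf_normalizer {P : Sylow p G} {D : Subgroup G} (h : D < (P : Subgroup G)) :
    D < (P : Subgroup G) ⊓ normalizer (D : Set G) := by
  have : Group.IsNilpotent (P : Subgroup G) := P.2.isNilpotent
  have hlt : D.subgroupOf (P : Subgroup G) < ⊤ := by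
    rw [lt_top_iff_ne_top, Ne, subgroupOf_eq_top]
    exact not_le_of_gt h
  have := Group.normalizerCondition_of_isNilpotent (G := (P : Subgroup G)) _ hlt
  obtain ⟨x, hx, hx'⟩ := SetLike.exists_of_lt this
  rw [← subgroupOf_normalizer_eq h.le, mem_subgroupOf] at hx
  exact SetLike.lt_iff_le_and_exists.mpr
    ⟨le_inf h.le le_normalizer, (x : G), Subgroup.mem_inf.mpr ⟨x.2, hx⟩,
      fun hD => hx' (mem_subgroupOf.mpr hD)⟩

/-- If `n_p ≢ 1 (mod p^2)` and `|P| = p^k` then some subgroup of order `p^(k-1)` has normaliser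
of order divisible by `p^k * m`, `1 < m ≡ 1 (mod p)`. -/
theorem exists_normalizer_of_not_modEq_sq {k : ℕ} (hk : k ≠ 0) (P : Sylow p G)
    (hP : Nat.card P = p ^ k) (h : ¬ Nat.card (Sylow p G) ≡ 1 [MOD p ^ 2]) :
    ∃ (D : Subgroup G) (m : ℕ), Nat.card D = p ^ (k - 1) ∧ 1 < m ∧ m % p = 1 ∧
      p ^ k * m ∣ Nat.card (normalizer (D : Set G)) := by
  obtain ⟨P₁, R, hne, hi⟩ := exists_pair_of_not_modEq (k := 2) h
  have hcardS : ∀ S : Sylow p G, Nat.card (S : Subgroup G) = p ^ k := fun S => by
    rw [S.card_eq_multiplicity, ← hP, P.card_eq_multiplicity]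
  set D := (P₁ : Subgroup G) ⊓ (R : Subgroup G) with hD
  have hnle : ∀ {A B : Sylow p G}, A ≠ B → ¬ (A : Subgroup G) ≤ (B : Subgroup G) := fun hAB hle =>
    hAB (Sylow.ext (eq_of_le_of_card_ge hle (by rw [hcardS, hcardS])))
  have hcard : Nat.card D = p ^ (k - 1) := by
    have hmul : Nat.card D * ((R : Subgroup G).subgroupOf (P₁ : Subgroup G)).index = p ^ k := by
      rw [← hcardS P₁, show ((R : Subgroup G).subgroupOf (P₁ : Subgroup G)).index =
          (R : Subgroup G).relIndex P₁ from rfl, ← inf_relIndex_left, ← relIndex_bot_left,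
        ← relIndex_bot_left, relIndex_mul_relIndex ⊥ _ _ bot_le inf_le_left]
    obtain ⟨i, hi'⟩ := P₁.2.index ((R : Subgroup G).subgroupOf (P₁ : Subgroup G))
    rw [hi'] at hmul hi
    have : i ≤ 1 := (Nat.pow_le_pow_iff_right hp.out.one_lt).mp hi
    interval_cases i
    · refine absurd ?_ (hnle hne)
      rw [pow_zero, index_eq_one, subgroupOf_eq_top] at hi'
      exact hi'
    · refine Nat.eq_of_mul_eq_mul_right hp.out.pos ?_
      rw [pow_one] at hmul
      rw [hmul, ← pow_succ, Nat.sub_add_cancel (Nat.one_le_iff_ne_zero.mpr hk)]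
  have hsub : ∀ S : Sylow p G, D ≤ (S : Subgroup G) →
      (S : Subgroup G) ≤ normalizer (D : Set G) := by
    intro S hS
    have hlt : D < (S : Subgroup G) := lt_of_le_of_ne hS fun e => by
      have : p ^ (k - 1) = p ^ k := by rw [← hcard, e, hcardS]
      have := Nat.pow_right_injective hp.out.two_le this
      omega
    have h1 := lt_inf_normalizer hlt
    obtain ⟨j, hj⟩ := IsPGroup.iff_card.mp
      (S.2.to_le (inf_le_left : (S : Subgroup G) ⊓ normalizer (D : Set G) ≤ S))
    have hlt' : Nat.card D < Nat.card ↥((S : Subgroup G) ⊓ normalizer (D : Set G)) :=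
      lt_of_le_of_ne (card_le_of_le h1.le) fun e => h1.ne (eq_of_le_of_card_ge h1.le e.ge)
    rw [hcard, hj] at hlt'
    have : k ≤ j := by
      have := (Nat.pow_lt_pow_iff_right hp.out.one_lt).mp hlt'
      omega
    have hle : Nat.card (S : Subgroup G) ≤
        Nat.card ↥((S : Subgroup G) ⊓ normalizer (D : Set G)) := by
      rw [hcardS, hj]; exact Nat.pow_le_pow_right hp.out.pos this
    exact (eq_of_le_of_card_ge inf_le_left hle) ▸ inf_le_right
  refine ⟨D, Nat.card (Sylow p (normalizer (D : Set G))), hcard, ?_, ?_, ?_⟩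
  · rw [Finite.one_lt_card_iff_nontrivial]
    refine ⟨⟨P₁.subtype (hsub P₁ inf_le_left), R.subtype (hsub R inf_le_right), fun h => hne ?_⟩⟩
    exact Sylow.subtype_injective h
  · have := card_sylow_modEq_one p (normalizer (D : Set G))
    rw [Nat.ModEq, Nat.mod_eq_of_lt hp.out.one_lt] at this
    exact this
  · let S := P₁.subtype (hsub P₁ inf_le_left)
    have h1 : Nat.card S = p ^ k := by
      rw [← hcardS P₁]
      exact Nat.card_congr (subgroupOfEquivOfLe (hsub P₁ inf_le_left)).toEquiv
    calc p ^ k * Nat.card (Sylow p (normalizer (D : Set G)))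
        ∣ Nat.card S * (S : Subgroup (normalizer (D : Set G))).index :=
          mul_dvd_mul (dvd_of_eq h1.symm) S.card_dvd_index
      _ = _ := card_mul_index _

end CfsgLib.Small
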