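import Cfsg.Agent.Lib.Small.RecognizePSL
import Cfsg.Agent.Lib.Small.Intersection
import Cfsg.Agent.Lib.Small.Fixed

/-!
A simple group with `p + 1` Sylow `p`-subgroups of order `p` as a group of permutations of
`Option (ZMod p)`, and recognition of `PSL(2, p)`.
-/

set_option autoImplicit false

namespace CfsgLib.Small

open Subgroup MulAction

section Line

variable {G : Type*} [Group G] [Finite G] {p : ℕ} [hp : Fact p.Prime]

omit [Finite G] in
theorem map_normalizer_conj_mem {P : Subgroup G} {h x : G}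
    (hh : h ∈ normalizer (P : Set G)) (hx : x ∈ P) : h * x * h⁻¹ ∈ P :=
  (mem_normalizer_iff.mp hh x).mp hx

/-- A simple group with `p + 1` Sylow subgroups of order `p`, seen on the projective line. -/
theorem exists_line_hom [IsSimpleGroup G] (hP : ∀ P : Sylow p G, Nat.card P = p)
    (hn : Nat.card (Sylow p G) = p + 1) :
    ∃ φ : G →* Equiv.Perm (Option (ZMod p)), Function.Injective φ ∧
      (∀ z w : Option (ZMod p), ∀ z' w', z ≠ w → z' ≠ w' → ∃ g, φ g z = z' ∧ φ g w = w') ∧
      ∃ (P : Sylow p G) (u : G), u ∈ P ∧ φ u none = none ∧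
        (∀ x, φ u (some x) = some (x + 1)) ∧
        (∀ g, φ g none = none ↔ g ∈ normalizer ((P : Subgroup G) : Set G)) ∧
        (∀ g, φ g none = none → ∃ a b : ZMod p, a ≠ 0 ∧
          ∀ x, φ g (some x) = some (a * x + b)) := by
  classical
  have hp' := hp.out
  obtain ⟨P⟩ := (inferInstance : Nonempty (Sylow p G))
  obtain ⟨Q0, hQ0⟩ : ∃ Q0 : Sylow p G, Q0 ≠ P := by
    have : Nontrivial (Sylow p G) := Finite.one_lt_card_iff_nontrivial.mp (by
      have := hp'.two_le; omega)
    exact exists_ne P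
  obtain ⟨⟨u, hu⟩, hu1⟩ : ∃ u : (P : Subgroup G), u ≠ 1 := by
    have : Nontrivial (P : Subgroup G) := Finite.one_lt_card_iff_nontrivial.mp (by
      rw [hP P]; exact hp'.one_lt)
    exact exists_ne 1
  have hu1' : u ≠ 1 := fun h => hu1 (Subtype.ext h)
  have hPz : (P : Subgroup G) = zpowers u := eq_zpowers_of_mem (hP P) hu hu1'
  have hord : orderOf u = p := by rw [← Nat.card_zpowers, ← hPz, hP P]
  have hnfix : ∀ j : ℕ, ¬ p ∣ j → (u ^ j) • Q0 ≠ Q0 := by
    intro j hj hfix
    refine hQ0 (Sylow.ext ?_)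
    have hj1 : u ^ j ≠ 1 := fun h => hj (hord ▸ orderOf_dvd_of_pow_eq_one h)
    have hjP : u ^ j ∈ (P : Subgroup G) := pow_mem hu j
    have h2 : u ^ j ∈ (P : Subgroup G) ⊓ (Q0 : Subgroup G) :=
      P.2.inf_normalizer_sylow Q0 ▸
        Subgroup.mem_inf.mpr ⟨hjP, Sylow.smul_eq_iff_mem_normalizer.mp hfix⟩
    rw [eq_zpowers_of_mem (hP Q0) h2.2 hj1, eq_zpowers_of_mem (hP P) hjP hj1]
  have huP : ∀ j : ℕ, (u ^ j) • P = P := fun j =>
    Sylow.smul_eq_iff_mem_normalizer.mpr (le_normalizer (pow_mem hu j))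
  let f : Option (ZMod p) → Sylow p G := fun z =>
    z.elim P fun x => u ^ x.val • Q0
  have hne : ∀ x : ZMod p, u ^ x.val • Q0 ≠ P := fun x h => hQ0 (by
    have := congrArg (fun S => (u ^ x.val)⁻¹ • S) h
    simp only [inv_smul_smul] at this
    rw [this, inv_smul_eq_iff, huP])
  have hinj0 : ∀ x y : ZMod p, x.val ≤ y.val → u ^ x.val • Q0 = u ^ y.val • Q0 → x = y := by
    intro x y hxy h
    refine ZMod.val_injective p (le_antisymm hxy ?_)
    by_contra hlt
    refine hnfix (y.val - x.val) ?_ ?_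
    · intro hd
      have := Nat.le_of_dvd (by omega) hd
      have := ZMod.val_lt y
      omega
    · have h2 : u ^ y.val = u ^ x.val * u ^ (y.val - x.val) := by
        rw [← pow_add, Nat.add_sub_cancel' hxy]
      rw [h2, mul_smul] at h
      exact (MulAction.injective (u ^ x.val) h).symm
  have hf : Function.Bijective f := by
    have := Fintype.ofFinite (Sylow p G)
    rw [Fintype.bijective_iff_injective_and_card]
    refine ⟨?_, ?_⟩
    · rintro (_ | x) (_ | y) h
      · rfl
      · exact absurd h.symm (hne y)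
      · exact absurd h (hne x)
      · rcases le_total x.val y.val with hxy | hxy
        · rw [hinj0 x y hxy h]
        · rw [hinj0 y x hxy h.symm]
    · rw [Fintype.card_option, ZMod.card, ← Nat.card_eq_fintype_card, hn]
  let e : Option (ZMod p) ≃ Sylow p G := Equiv.ofBijective f hf
  let φ : G →* Equiv.Perm (Option (ZMod p)) :=
    (e.symm.permCongrHom.toMonoidHom).comp (MulAction.toPermHom G (Sylow p G))
  have hφ : ∀ g z, φ g z = e.symm (g • e z) := fun g z => rfl
  have hstep : ∀ x : ZMod p, u • (u ^ x.val • Q0) = u ^ (x + 1).val • Q0 := by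
    intro x
    rw [← mul_smul, ← pow_succ']
    congr 1
    rw [pow_inj_mod, hord, ZMod.val_add, ZMod.val_one, Nat.mod_mod]
  have hnone : ∀ g, φ g none = none ↔ g ∈ normalizer ((P : Subgroup G) : Set G) := fun g => by
    rw [hφ, Equiv.symm_apply_eq]
    exact Sylow.smul_eq_iff_mem_normalizer
  have hsucc : ∀ x, φ u (some x) = some (x + 1) := fun x => by
    rw [hφ, Equiv.symm_apply_eq]
    exact hstep x
  have hun : φ u none = none := (hnone u).mpr (le_normalizer hu)
  have hpowu : ∀ (j : ℕ) (x : ZMod p), φ (u ^ j) (some x) = some (x + (j : ZMod p)) := by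
    intro j x
    induction j with
    | zero => simp
    | succ j ih =>
      rw [pow_succ', map_mul, Equiv.Perm.mul_apply, ih, hsucc, Nat.cast_succ, add_assoc]
  have hpownone : ∀ j : ℕ, φ (u ^ j) none = none := fun j =>
    (hnone _).mpr (le_normalizer (pow_mem hu j))
  have htrans1 : ∀ z : Option (ZMod p), ∃ g, φ g z = none := by
    intro z
    obtain ⟨g, hg⟩ := exists_smul_eq G (e z) P
    exact ⟨g, by rw [hφ, hg, Equiv.symm_apply_eq]; rfl⟩
  refine ⟨φ, ?_, ?_, P, u, hu, hun, hsucc, hnone, ?_⟩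
  · rw [← MonoidHom.ker_eq_bot_iff]
    refine (eq_bot_or_top φ.ker).resolve_right fun h => ?_
    obtain ⟨g, hg⟩ := htrans1 (some 0)
    rw [MonoidHom.mem_ker.mp (h ▸ mem_top g)] at hg
    simp at hg
  · intro z w z' w' hzw hzw'
    have key : ∀ z w, z ≠ w → ∃ g, φ g z = none ∧ φ g w = some (0 : ZMod p) := by
      intro z w hzw
      obtain ⟨g, hg⟩ := htrans1 z
      cases hw : φ g w with
      | none => exact absurd ((φ g).injective (hg.trans hw.symm)) hzw
      | some x =>
        refine ⟨u ^ (-x).val * g, ?_, ?_⟩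
        · rw [map_mul, Equiv.Perm.mul_apply, hg, hpownone]
        · rw [map_mul, Equiv.Perm.mul_apply, hw, hpowu, ZMod.natCast_zmod_val, add_neg_cancel]
    obtain ⟨g, hg1, hg2⟩ := key z w hzw
    obtain ⟨g', hg1', hg2'⟩ := key z' w' hzw'
    refine ⟨g'⁻¹ * g, ?_, ?_⟩
    · rw [map_mul, map_inv, Equiv.Perm.mul_apply, hg1, Equiv.Perm.inv_eq_iff_eq, hg1']
    · rw [map_mul, map_inv, Equiv.Perm.mul_apply, hg2, Equiv.Perm.inv_eq_iff_eq, hg2']
  · intro g hg
    have hgu := map_normalizer_conj_mem ((hnone g).mp hg) hu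
    rw [hPz, mem_zpowers_iff] at hgu
    obtain ⟨n, hn'⟩ := hgu
    obtain ⟨a, ha⟩ : ∃ a : ℕ, u ^ a = g * u * g⁻¹ := by
      refine ⟨(n % (p : ℤ)).toNat, ?_⟩
      rw [← hn', ← zpow_natCast, Int.toNat_of_nonneg (Int.emod_nonneg _ (by exact_mod_cast hp'.ne_zero))]
      conv_lhs => rw [← hord]
      exact zpow_mod_orderOf u n
    have ha0 : (a : ZMod p) ≠ 0 := by
      rw [Ne, ZMod.natCast_eq_zero_iff]
      rintro ⟨c, rfl⟩
      rw [pow_mul, ← hord, pow_orderOf_eq_one, one_pow] at ha
      exact hu1' (conj_eq_one_iff.mp ha.symm)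
    cases hg0 : φ g (some 0) with
    | none => exact absurd ((φ g).injective (hg0.trans hg.symm)) (by simp)
    | some b =>
      refine ⟨a, b, ha0, fun x => ?_⟩
      have hconj : ∀ j : ℕ, g * u ^ j = u ^ (a * j) * g := by
        intro j
        rw [pow_mul, ha, conj_pow]; group
      have := congrArg (fun h => φ h (some 0)) (hconj x.val)
      simp only [map_mul, Equiv.Perm.mul_apply] at this
      rw [hpowu, zero_add, ZMod.natCast_zmod_val, hg0, hpowu, Nat.cast_mul,
        ZMod.natCast_zmod_val] at this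
      rw [this, add_comm]

end Line

section Recognition

variable {G : Type*} [Group G] [Finite G] {p : ℕ} [hp : Fact p.Prime]

/-- Recognition of `PSL(2, p)`. -/
theorem nonempty_mulEquiv_psl [IsSimpleGroup G] {m : ℕ} {E : List ℕ} {a0 ν : ZMod p}
    (hpm : p = 2 * m + 1) (hpar : PSLParam p m a0 ν) (hchk : PSLCheck p m E a0 ν)
    (hcard : Nat.card G = p * m * (p + 1)) (hn : Nat.card (Sylow p G) = p + 1)
    (hE : ∀ k ∈ E, ∀ (x t : G) (φ : G →* Equiv.Perm (Option (ZMod p))), Function.Injective φ →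
      φ x none = none → (∀ y, φ x (some y) = some (a0 * y)) →
      φ t none = some 0 → φ t (some 0) = none →
      ¬ ∀ y, φ t (some (a0 * y)) = (φ t (some y)).map (fun z => a0 ^ k * z)) :
    Nonempty (G ≃* Matrix.ProjectiveSpecialLinearGroup (Fin 2) (ZMod p)) := by
  classical
  have hp' := hp.out
  have hm0 := hpar.pos
  have hPc : ∀ P : Sylow p G, Nat.card P = p := fun P => by
    have : ¬ p ∣ m * (p + 1) := by
      rw [hp'.dvd_mul]; push Not
      refine ⟨fun h => by have := Nat.le_of_dvd hm0 h; omega, fun h => ?_⟩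
      rw [Nat.dvd_add_right dvd_rfl, Nat.dvd_one] at h
      exact hp'.ne_one h
    simpa using card_sylow_of_card_eq (k := 1) (by rw [hcard, pow_one, mul_assoc]) this P
  obtain ⟨φ, hφ, h2t, P, u, hu, hun, hus, hnone, haff⟩ := exists_line_hom hPc hn
  have hN : Nat.card (normalizer ((P : Subgroup G) : Set G)) = p * m :=
    Nat.eq_of_mul_eq_mul_right (Nat.succ_pos p) (by rw [← hcard]; exact card_normalizer_eq hn P)
  -- stabiliser of `∞` and `0`
  let T : Subgroup G :=
    { carrier := {g | φ g none = none ∧ φ g (some 0) = some 0}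
      one_mem' := by simp
      mul_mem' := fun {a b} ha hb => by
        exact ⟨by rw [map_mul, Equiv.Perm.mul_apply, hb.1, ha.1],
          by rw [map_mul, Equiv.Perm.mul_apply, hb.2, ha.2]⟩
      inv_mem' := fun {a} ha => by
        exact ⟨by rw [map_inv, Equiv.Perm.inv_eq_iff_eq, ha.1],
          by rw [map_inv, Equiv.Perm.inv_eq_iff_eq, ha.2]⟩ }
  have hT : ∀ g ∈ T, ∃ a : ZMod p, ∀ x, φ g (some x) = some (a * x) := by
    intro g hg
    obtain ⟨a, b, -, hab⟩ := haff g hg.1
    have hb : b = 0 := by simpa [hg.2] using (hab 0).symm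
    exact ⟨a, fun x => by rw [hab, hb, add_zero]⟩
  choose! aT haT using hT
  have hTcard : Nat.card T = m := by
    have hupow : ∀ j : ℕ, φ (u ^ j) none = none ∧ φ (u ^ j) (some 0) = some (j : ZMod p) := by
      intro j
      induction j with
      | zero => simp
      | succ j ih =>
        rw [pow_succ', map_mul, Equiv.Perm.mul_apply, Equiv.Perm.mul_apply, ih.1, ih.2, hun, hus,
          Nat.cast_succ]
        exact ⟨rfl, rfl⟩
    let F : ZMod p × T → normalizer ((P : Subgroup G) : Set G) := fun q =>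
      ⟨u ^ q.1.val * q.2.1, (hnone _).mp (by
        rw [map_mul, Equiv.Perm.mul_apply, q.2.2.1, (hupow _).1])⟩
    have hF : Function.Bijective F := by
      constructor
      · rintro ⟨b, g⟩ ⟨b', g'⟩ h
        have h' : u ^ b.val * g.1 = u ^ b'.val * g'.1 := congrArg Subtype.val h
        have hb : b = b' := by
          have := congrArg (fun h => φ h (some 0)) h'
          simp only [map_mul, Equiv.Perm.mul_apply, g.2.2, g'.2.2, (hupow _).2,
            ZMod.natCast_zmod_val] at this
          exact Option.some.inj this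
        subst hb
        exact Prod.ext rfl (Subtype.ext (mul_left_cancel h'))
      · rintro ⟨g, hg⟩
        obtain ⟨a, b, -, hab⟩ := haff g ((hnone g).mpr hg)
        refine ⟨⟨b, ⟨(u ^ b.val)⁻¹ * g, ?_, ?_⟩⟩, Subtype.ext (by simp [F])⟩
        · rw [map_mul, map_inv, Equiv.Perm.mul_apply, (hnone g).mpr hg, Equiv.Perm.inv_eq_iff_eq,
            (hupow _).1]
        · rw [map_mul, map_inv, Equiv.Perm.mul_apply, hab, mul_zero, zero_add,
            Equiv.Perm.inv_eq_iff_eq, (hupow _).2, ZMod.natCast_zmod_val]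
    have h := Nat.card_congr (Equiv.ofBijective F hF)
    rw [Nat.card_prod, Nat.card_zmod, hN] at h
    exact Nat.eq_of_mul_eq_mul_left hp'.pos h
  have hTroot : ∀ g ∈ T, aT g ^ m = 1 := by
    intro g hg
    have hpow : ∀ j : ℕ, φ (g ^ j) (some 1) = some (aT g ^ j) := by
      intro j
      induction j with
      | zero => simp
      | succ j ih => rw [pow_succ', map_mul, Equiv.Perm.mul_apply, ih, haT g hg, pow_succ']
    have h1 : g ^ m = 1 := by
      have := pow_card_eq_one' (x := (⟨g, hg⟩ : T))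
      rw [hTcard] at this
      exact congrArg Subtype.val this
    have := hpow m
    rw [h1, map_one, Equiv.Perm.one_apply] at this
    exact (Option.some.inj this).symm
  have hgen : ∃ g ∈ T, aT g = a0 := by
    choose ix hix hix' using fun g : T => hpar.roots (aT g.1) (hTroot g.1 g.2)
    have hinj : Function.Injective (fun g : T => (⟨ix g, hix g⟩ : Fin m)) := by
      intro g g' h
      have h' : aT g.1 = aT g'.1 := by
        rw [← hix' g, ← hix' g', show ix g = ix g' from congrArg Fin.val h]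
      refine Subtype.ext (hφ (Equiv.ext fun z => ?_))
      cases z with
      | none => rw [g.2.1, g'.2.1]
      | some x => rw [haT g.1 g.2, haT g'.1 g'.2, h']
    have hbij : Function.Bijective (fun g : T => (⟨ix g, hix g⟩ : Fin m)) :=
      (Nat.bijective_iff_injective_and_card _).mpr ⟨hinj, by rw [hTcard, Nat.card_fin]⟩
    obtain ⟨g, hg⟩ := hbij.2 ⟨1 % m, Nat.mod_lt _ hm0⟩
    refine ⟨g.1, g.2, ?_⟩
    rw [← hix' g, show ix g = 1 % m from congrArg Fin.val hg, mul_one]
    by_cases hm1 : m = 1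
    · have := hpar.pow_eq; subst hm1; simp_all
    · rw [Nat.mod_eq_of_lt (by omega), pow_one]
  obtain ⟨x0, hx0T, hx0⟩ := hgen
  have hx0s : ∀ y, φ x0 (some y) = some (a0 * y) := fun y => hx0 ▸ haT x0 hx0T y
  have hle : φ.range ≤ (slPerm (ZMod p)).range := by
    refine le_range_slPerm φ.range (E := E) hpm hpar hchk ?_ ⟨φ u, ⟨u, rfl⟩, hun, hus⟩ ?_
      ⟨φ x0, ⟨x0, rfl⟩, hx0T.1, hx0s⟩ ?_
    · rintro k hk _ ⟨t, rfl⟩ htn ht0
      exact hE k hk x0 t φ hφ hx0T.1 hx0s htn ht0
    · rintro _ ⟨g, rfl⟩ hg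
      obtain ⟨a, b, ha0, hab⟩ := haff g hg
      have hupow : ∀ (j : ℕ) (y : ZMod p), φ (u ^ j) none = none ∧
          φ (u ^ j) (some y) = some (y + (j : ZMod p)) := by
        intro j y
        induction j with
        | zero => simp
        | succ j ih =>
          rw [pow_succ', map_mul, Equiv.Perm.mul_apply, Equiv.Perm.mul_apply, ih.1, ih.2, hun, hus,
            Nat.cast_succ, add_assoc]
          exact ⟨rfl, rfl⟩
      have hgT : u ^ (-b).val * g ∈ T := by
        refine ⟨?_, ?_⟩
        · rw [map_mul, Equiv.Perm.mul_apply, hg, (hupow _ 0).1]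
        · rw [map_mul, Equiv.Perm.mul_apply, hab, (hupow _ _).2, ZMod.natCast_zmod_val, mul_zero,
            zero_add, add_neg_cancel]
      refine ⟨a, b, ?_, hab⟩
      have h1 := haT _ hgT 1
      rw [map_mul, Equiv.Perm.mul_apply, hab, (hupow _ _).2, ZMod.natCast_zmod_val,
        add_neg_cancel_right, mul_one, mul_one] at h1
      rw [Option.some.inj h1]
      exact hTroot _ hgT
    · obtain ⟨t, h1, h2⟩ := h2t none (some 0) (some 0) none (by simp) (by simp)
      exact ⟨φ t, ⟨t, rfl⟩, h1, h2⟩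
  have hcardR : Nat.card (slPerm (ZMod p)).range = Nat.card φ.range := by
    rw [← Nat.card_congr (MonoidHom.ofInjective hφ).toEquiv, hcard]
    have h := card_range_slPerm (K := ZMod p)
    rw [ZMod.card, show Nat.gcd 2 (p - 1) = 2 from Nat.gcd_eq_left ⟨m, by omega⟩,
      show p ^ 2 - 1 = 2 * (m * (p + 1)) by
        have : p ^ 2 = 2 * (m * (p + 1)) + 1 := by subst hpm; ring
        omega] at h
    rw [mul_left_comm] at h
    rw [Nat.eq_of_mul_eq_mul_left two_pos h, mul_assoc]
  have heq : φ.range = (slPerm (ZMod p)).range := eq_of_le_of_card_ge hle hcardR.le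
  exact ⟨((MonoidHom.ofInjective hφ).trans (MulEquiv.subgroupCongr heq)).trans pslEquivRange.symm⟩

omit [Finite G] in
/-- Transport to an arbitrary field with `p` elements. -/
theorem nonempty_mulEquiv_psl_field {F : Type*} [Field F] [Fintype F] (hF : Fintype.card F = p)
    (h : Nonempty (G ≃* Matrix.ProjectiveSpecialLinearGroup (Fin 2) (ZMod p))) :
    Nonempty (G ≃* Matrix.ProjectiveSpecialLinearGroup (Fin 2) F) := by
  obtain ⟨e⟩ := h
  let f : ZMod p ≃+* F := ZMod.ringEquivOfPrime F hp.out hF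
  let eSL : Matrix.SpecialLinearGroup (Fin 2) (ZMod p) ≃* Matrix.SpecialLinearGroup (Fin 2) F :=
    { toFun := Matrix.SpecialLinearGroup.map f.toRingHom
      invFun := Matrix.SpecialLinearGroup.map f.symm.toRingHom
      left_inv := fun g => Subtype.ext (Matrix.ext fun i j => f.symm_apply_apply _)
      right_inv := fun g => Subtype.ext (Matrix.ext fun i j => f.apply_symm_apply _)
      map_mul' := map_mul _ }
  have hc : (Subgroup.center (Matrix.SpecialLinearGroup (Fin 2) (ZMod p))).map eSL.toMonoidHom =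
      Subgroup.center (Matrix.SpecialLinearGroup (Fin 2) F) := by
    ext y
    simp only [Subgroup.mem_map, Subgroup.mem_center_iff, MulEquiv.coe_toMonoidHom]
    constructor
    · rintro ⟨x, hx, rfl⟩ g
      obtain ⟨g', rfl⟩ := eSL.surjective g
      rw [← map_mul, hx, map_mul]
    · intro hy
      refine ⟨eSL.symm y, fun g => eSL.injective ?_, eSL.apply_symm_apply y⟩
      rw [map_mul, map_mul, eSL.apply_symm_apply]
      exact hy _
  exact ⟨e.trans (QuotientGroup.congr _ _ eSL hc)⟩

end Recognition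

end CfsgLib.Small
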