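import Cfsg.Agent.Lib.Small.Basic
import Cfsg.Agent.Lib.Small.SylowLine

/-!
Simple groups of order 60, and small isomorphism criteria with alternating groups.
-/

set_option autoImplicit false

namespace CfsgLib.Small

open Subgroup

variable {G : Type*} [Group G] [Finite G]

/-- A simple group with a subgroup of index `n` and `2|G| = n!` is alternating of degree `n`. -/
theorem nonempty_mulEquiv_alternating [IsSimpleGroup G] (hG : ¬ IsMulCommutative G)
    {n : ℕ} (hn : 2 * Nat.card G = n.factorial) {H : Subgroup G} (hH : H.index = n) :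
    Nonempty (G ≃* alternatingGroup (Fin n)) := by
  classical
  have h2 : 2 ≤ n := by
    by_contra h
    have h0 := Nat.card_pos (α := G)
    interval_cases n <;> simp at hn
  have hne : H ≠ ⊤ := fun h => by rw [h, index_top] at hH; omega
  have := Fintype.ofFinite (G ⧸ H)
  obtain ⟨f, hf, -⟩ := exists_hom_alternating_quotient hG H hne
  have e : (G ⧸ H) ≃ Fin n := Finite.equivFinOfCardEq (by rw [← index_eq_card, hH])
  have : Nontrivial (Fin n) := Fin.nontrivial_iff_two_le.mpr h2
  have hinj : Function.Injective ((Equiv.altCongrHom e).toMonoidHom.comp f) :=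
    (Equiv.altCongrHom e).injective.comp hf
  refine ⟨MulEquiv.ofBijective ((Equiv.altCongrHom e).toMonoidHom.comp f)
    ((Nat.bijective_iff_injective_and_card _).mpr ⟨hinj, ?_⟩)⟩
  have h3 := two_mul_nat_card_alternatingGroup (α := Fin n)
  rw [Nat.card_perm, Nat.card_fin] at h3
  omega

theorem index_mem_of_card_normalizer_dvd [IsSimpleGroup G] {D : Subgroup G}
    (h1 : D ≠ ⊥) (h2 : D ≠ ⊤) {d n : ℕ} (hd : d ∣ Nat.card (normalizer (D : Set G)))
    (hn : Nat.card G = d * n) :
    (normalizer (D : Set G)).index ∈ n.divisors.filter fun i => 1 < i := by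
  have hn0 : n ≠ 0 := fun h => Nat.card_pos.ne' (by rw [hn, h, mul_zero])
  rw [Finset.mem_filter, Nat.mem_divisors]
  refine ⟨⟨?_, hn0⟩, one_lt_index_of_ne_top (normalizer_ne_top h1 h2)⟩
  obtain ⟨c, hc⟩ := hd
  have h := card_mul_index (normalizer (D : Set G))
  rw [hc, hn, mul_assoc] at h
  refine Dvd.intro_left c (Nat.eq_of_mul_eq_mul_left ?_ h)
  rcases Nat.eq_zero_or_pos d with h0 | h0
  · exact absurd (by rw [hn, h0, zero_mul]) (Nat.card_pos (α := G)).ne'
  · exact h0

theorem exists_subgroup_index_five [IsSimpleGroup G] (h : Nat.card G = 60) :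
    ∃ H : Subgroup G, H.index = 5 := by
  have hG := nc_of_not_prime (G := G) (by rw [h]; norm_num)
  have : Fact (Nat.Prime 2) := ⟨Nat.prime_two⟩
  obtain ⟨P⟩ := (inferInstance : Nonempty (Sylow 2 G))
  have hP : Nat.card P = 2 ^ 2 :=
    card_sylow_of_card_eq (m := 15) (by rw [h]; norm_num) (by norm_num) P
  have hm := card_sylow_mem (p := 2) hG (k := 2) (m := 15) (by norm_num) (by rw [h]; norm_num)
    (by norm_num)
  rw [show ((Nat.divisors 15).filter fun n => n % 2 = 1 ∧ 1 < n) = {3, 5, 15} from by decide] at hm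
  simp only [Finset.mem_insert, Finset.mem_singleton] at hm
  rcases hm with hm | hm | hm
  · have := two_mul_card_dvd_factorial_card_sylow hG (p := 2) (by rw [h]; norm_num)
    rw [hm, h] at this; norm_num [Nat.factorial] at this
  · exact ⟨normalizer ((P : Subgroup G) : Set G), P.card_eq_index_normalizer.symm.trans hm⟩
  · obtain ⟨D, m, hD, hm1, hm2, hdvd⟩ := exists_normalizer_of_not_modEq_sq two_ne_zero P hP
      (by rw [hm]; decide)
    have hD1 : D ≠ ⊥ := fun e => by rw [e] at hD; simp at hD
    have hD2 : D ≠ ⊤ := fun e => by rw [e, card_top, h] at hD; norm_num at hD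
    have hi := index_mem_of_card_normalizer_dvd hD1 hD2 (d := 4) (n := 15)
      ((Dvd.intro m (by norm_num)).trans hdvd) (by rw [h])
    rw [show ((Nat.divisors 15).filter fun i => 1 < i) = {3, 5, 15} from by decide] at hi
    simp only [Finset.mem_insert, Finset.mem_singleton] at hi
    have hne := normalizer_ne_top hD1 hD2
    have hfac := two_mul_card_dvd_factorial_index hG hne
    rcases hi with hi | hi | hi
    · rw [hi, h] at hfac; norm_num [Nat.factorial] at hfac
    · exact ⟨_, hi⟩
    · have h4 := card_mul_index (normalizer (D : Set G))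
      rw [hi, h] at h4
      have : 8 ≤ Nat.card (normalizer (D : Set G)) :=
        le_trans (by norm_num; omega) (Nat.le_of_dvd Nat.card_pos hdvd)
      omega

/-- A simple group of order 60 is `A₅`. -/
theorem nonempty_mulEquiv_alternating_five [IsSimpleGroup G] (h : Nat.card G = 60) :
    Nonempty (G ≃* alternatingGroup (Fin 5)) := by
  obtain ⟨H, hH⟩ := exists_subgroup_index_five h
  exact nonempty_mulEquiv_alternating (nc_of_not_prime (by rw [h]; norm_num))
    (by rw [h]; rfl) hH

theorem psl_five_check : PSLCheck 5 2 [] (4 : ZMod 5) (2 : ZMod 5) := by decide +kernel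

theorem psl_five_param : PSLParam 5 2 (4 : ZMod 5) (2 : ZMod 5) := by
  constructor <;> decide +kernel

/-- A simple group of order 60 is `PSL(2, 5)`. -/
theorem nonempty_mulEquiv_psl_five [IsSimpleGroup G] (h : Nat.card G = 60) [Fact (Nat.Prime 5)] :
    Nonempty (G ≃* Matrix.ProjectiveSpecialLinearGroup (Fin 2) (ZMod 5)) := by
  have hG := nc_of_not_prime (G := G) (by rw [h]; norm_num)
  have hm := card_sylow_mem (p := 5) hG (k := 1) (m := 12) one_ne_zero
    (by rw [h]; norm_num) (by norm_num)
  rw [show ((Nat.divisors 12).filter fun n => n % 5 = 1 ∧ 1 < n) = {6} from by decide,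
    Finset.mem_singleton] at hm
  exact nonempty_mulEquiv_psl (p := 5) (m := 2) (by norm_num) psl_five_param psl_five_check
    (by rw [h]) hm (by simp)

end CfsgLib.Small
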