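import Cfsg.Agent.Lib.Small.TwentyOneMain

/-!
No simple group has exactly 21 Sylow 5-subgroups: the case `|C(P)| = 60`.
-/

set_option autoImplicit false

namespace CfsgLib.Small.TwentyOne

open Subgroup MulAction CfsgLib.Small CfsgLib.SylowNumber

section Aux

variable {S : Type*} [Group S] [Finite S]

theorem mem_normalizer_zpowers {z g : S} (h : g * z * g⁻¹ ∈ zpowers z) :
    g ∈ normalizer ((zpowers z : Subgroup S) : Set S) := by
  rw [mem_normalizer_iff_map_conj_eq]
  refine eq_of_le_of_card_ge ?_ ?_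
  · rw [MonoidHom.map_zpowers, zpowers_le]
    exact h
  · rw [← Nat.card_congr
      ((zpowers z).equivMapOfInjective _ (MulAut.conj g).injective).toEquiv]

theorem eq_or_eq_inv_of_mem_zpowers_three {z w : S} (hz : orderOf z = 3) (hw : w ∈ zpowers z)
    (hw1 : w ≠ 1) : w = z ∨ w = z⁻¹ := by
  classical
  rw [mem_zpowers_iff_mem_range_orderOf, hz] at hw
  obtain ⟨k, hk, rfl⟩ := Finset.mem_image.mp hw
  rw [Finset.mem_range] at hk
  have h3 : z ^ 2 * z = 1 := by
    rw [← pow_succ, show 2 + 1 = orderOf z from hz.symm, pow_orderOf_eq_one]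
  interval_cases k
  · exact absurd (pow_zero z) hw1
  · exact Or.inl (pow_one z)
  · exact Or.inr (eq_inv_of_mul_eq_one_left h3)

theorem conj_three {z g : S} (hz : orderOf z = 3) (h : g * z * g⁻¹ ∈ zpowers z) :
    g * z * g⁻¹ = z ∨ g * z * g⁻¹ = z⁻¹ := by
  refine eq_or_eq_inv_of_mem_zpowers_three hz h fun e => ?_
  rw [conj_eq_one_iff] at e
  rw [e, orderOf_one] at hz
  omega

theorem commute_of_five {x z : S} (hx : orderOf x = 5) (hz : orderOf z = 3)
    (h : x * z * x⁻¹ ∈ zpowers z) : Commute x z := by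
  rcases conj_three hz h with e | e
  · exact mul_inv_eq_iff_eq_mul.mp e
  · have h2 : Commute (x ^ 2) z := by
      refine mul_inv_eq_iff_eq_mul.mp ?_
      calc x ^ 2 * z * (x ^ 2)⁻¹ = x * (x * z * x⁻¹) * x⁻¹ := by rw [pow_two]; group
        _ = x * z⁻¹ * x⁻¹ := by rw [e]
        _ = (x * z * x⁻¹)⁻¹ := by group
        _ = z := by rw [e, inv_inv]
    have hx5 : x ^ 6 = x := by
      rw [show 6 = 5 + 1 from rfl, pow_succ, ← hx, pow_orderOf_eq_one, one_mul]
    have := h2.pow_left 3
    rwa [← pow_mul, show 2 * 3 = 6 from rfl, hx5] at this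

/-- An element of order 3 normalising a subgroup of order 5 centralises it. -/
theorem mem_centralizer_of_three [Fact (Nat.Prime 5)] {H : Subgroup S} (hH : Nat.card H = 5)
    {y : S} (hy : orderOf y = 3) (hyN : y ∈ normalizer (H : Set S)) :
    y ∈ centralizer (H : Set S) := by
  have : IsCyclic H := isCyclic_of_prime_card hH
  have hcard : Nat.card (MulAut H) = 4 := by
    rw [IsCyclic.card_mulAut, hH, Nat.totient_prime (Fact.out : Nat.Prime 5)]
  set Y := H.normalizerMonoidHom ⟨y, hyN⟩
  have h1 : orderOf Y ∣ 3 := by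
    have := orderOf_map_dvd H.normalizerMonoidHom (⟨y, hyN⟩ : normalizer (H : Set S))
    rwa [Subgroup.orderOf_mk, hy] at this
  have h2 : orderOf Y ∣ 4 := hcard ▸ orderOf_dvd_natCard Y
  have hY : Y = 1 := orderOf_eq_one_iff.mp
    (Nat.eq_one_of_dvd_coprimes (by norm_num : Nat.Coprime 3 4) h1 h2)
  have hk : (⟨y, hyN⟩ : normalizer (H : Set S)) ∈ H.normalizerMonoidHom.ker := hY
  rw [normalizerMonoidHom_ker, mem_subgroupOf] at hk
  exact hk

end Aux

variable {S : Type*} [Group S] [Finite S] [IsSimpleGroup S] [Fact (Nat.Prime 5)]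
  (h5 : ∀ Q : Sylow 5 S, Nat.card Q = 5) (hnc : ¬ IsMulCommutative S)
  (hn : Nat.card (Sylow 5 S) = 21)

include h5 hnc hn in
/-- No involution of `C(P)` commutes with an element of order 3. -/
theorem not_commute_involution {P : Sylow 5 S} {v z : S} (hv : orderOf v = 2)
    (hvC : v ∈ centralizer ((P : Subgroup S) : Set S)) (hz : orderOf z = 3)
    (hvz : Commute v z) : False := by
  have hvP : v • P = P :=
    Sylow.smul_eq_iff_mem_normalizer.mpr (centralizer_le_normalizer' _ hvC)
  have hzP : z • P = P := fix_involution h5 hnc hn hv hvC (by rw [← mul_smul, hvz.eq, mul_smul, hvP])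
  have hzC := mem_centralizer_of_three (h5 P) hz (Sylow.smul_eq_iff_mem_normalizer.mp hzP)
  refine not_normalize_three h5 hnc hn hv hvC hz hzC ?_
  rw [hvz.eq, mul_inv_cancel_right]
  exact mem_zpowers z

include h5 hnc hn in
/-- The normaliser of a subgroup of order 3 of `C(P)` has order `90 e`. -/
theorem card_normalizer_three [Fact (Nat.Prime 3)] (P : Sylow 5 S) {e : ℕ} (he : e = 2 ∨ e = 4)
    (hC : Nat.card (centralizer ((P : Subgroup S) : Set S)) = 60)
    (hN : Nat.card (normalizer ((P : Subgroup S) : Set S)) = 60 * e)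
    (hS : Nat.card S = 1260 * e) {z : S} (hz : orderOf z = 3)
    (hzC : z ∈ centralizer ((P : Subgroup S) : Set S)) :
    Nat.card (normalizer ((zpowers z : Subgroup S) : Set S)) = 90 * e := by
  classical
  have := Fintype.ofFinite (Sylow 5 S)
  set C := centralizer ((P : Subgroup S) : Set S) with hCdef
  set N := normalizer ((P : Subgroup S) : Set S) with hNdef
  set M := normalizer ((zpowers z : Subgroup S) : Set S) with hMdef
  set K := M ⊓ N with hKdef
  have hCN : C ≤ N := centralizer_le_normalizer' _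
  obtain ⟨-, h4⟩ := four_three h5 hnc hn P (by rw [hC]; norm_num) (by rw [hC]; norm_num)
  -- subgroups of order 3 of `C` are Sylow subgroups of `C`
  have hsyl : ∀ H : {H : Subgroup S // H ≤ C ∧ Nat.card H = 3},
      ∃ R : Sylow 3 C, (R : Subgroup C) = H.1.subgroupOf C := by
    rintro ⟨H, hle, hH⟩
    have hc : Nat.card (H.subgroupOf C) = 3 :=
      (Nat.card_congr (subgroupOfEquivOfLe hle).toEquiv).trans hH
    obtain ⟨R, hR⟩ := (IsPGroup.of_card (p := 3) (n := 1)
      (by rw [hc, pow_one] : Nat.card (H.subgroupOf C) = 3 ^ 1)).exists_le_sylow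
    exact ⟨R, (eq_of_le_of_card_ge hR (by rw [(h4 R).1, hc])).symm⟩
  choose ψ hψ using hsyl
  have hψinj : Function.Injective ψ := by
    intro A B hAB
    have h1 : A.1.subgroupOf C = B.1.subgroupOf C := by rw [← hψ, ← hψ, hAB]
    have h2 := congrArg (Subgroup.map C.subtype) h1
    rw [map_subgroupOf_eq_of_le A.2.1, map_subgroupOf_eq_of_le B.2.1] at h2
    exact Subtype.ext h2
  -- `|C ⊓ M| = 15`
  have h15 : Nat.card ↥(C ⊓ M) = 15 := by
    obtain ⟨R, hR⟩ : ∃ R : Sylow 3 C, (R : Subgroup C) = (zpowers z).subgroupOf C :=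
      ⟨_, hψ ⟨zpowers z, zpowers_le.mpr hzC, by rw [Nat.card_zpowers, hz]⟩⟩
    have hnorm : normalizer (((R : Subgroup C)) : Set C) = (C ⊓ M).subgroupOf C := by
      ext ⟨a, ha⟩
      rw [hR, mem_subgroupOf]
      constructor
      · intro h
        refine ⟨ha, mem_normalizer_zpowers ?_⟩
        have := (mem_normalizer_iff.mp h ⟨z, hzC⟩).mp (mem_subgroupOf.mpr (mem_zpowers z))
        exact mem_subgroupOf.mp this
      · intro h
        rw [mem_normalizer_iff]
        intro b
        rw [mem_subgroupOf, mem_subgroupOf]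
        exact mem_normalizer_iff.mp h.2 b
    rw [← (h4 R).2.1, hnorm]
    exact (Nat.card_congr (subgroupOfEquivOfLe inf_le_left).toEquiv).symm
  -- `|K| ≥ 15 e`
  have hconjC : ∀ g ∈ N, g * z * g⁻¹ ∈ C := by
    intro g hg
    rw [hCdef, mem_centralizer_iff]
    intro b hb
    have hb' := (mem_normalizer_iff''.mp hg b).mp hb
    have := mem_centralizer_iff.mp hzC _ hb'
    calc b * (g * z * g⁻¹) = g * (g⁻¹ * b * g * z) * g⁻¹ := by group
      _ = g * (z * (g⁻¹ * b * g)) * g⁻¹ := by rw [this]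
      _ = g * z * g⁻¹ * b := by group
  let φ : N ⧸ K.subgroupOf N → {H : Subgroup S // H ≤ C ∧ Nat.card H = 3} := fun q =>
    ⟨zpowers ((q.out : S) * z * (q.out : S)⁻¹), zpowers_le.mpr (hconjC _ q.out.2), by
      rw [Nat.card_zpowers, ← hz]
      exact (SemiconjBy.orderOf_eq (q.out : S)
        (show SemiconjBy (q.out : S) z _ by simp [SemiconjBy])).symm⟩
  have hφ : Function.Injective φ := by
    intro q r hqr
    rw [← QuotientGroup.out_eq' q, ← QuotientGroup.out_eq' r, QuotientGroup.eq, mem_subgroupOf]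
    have h1 : zpowers ((q.out : S) * z * (q.out : S)⁻¹) =
        zpowers ((r.out : S) * z * (r.out : S)⁻¹) := congrArg Subtype.val hqr
    obtain ⟨k, hk⟩ := mem_zpowers_iff.mp (h1 ▸ mem_zpowers ((r.out : S) * z * (r.out : S)⁻¹))
    refine ⟨mem_normalizer_zpowers (mem_zpowers_iff.mpr ⟨k, ?_⟩), (q.out⁻¹ * r.out).2⟩
    rw [conj_zpow] at hk
    rw [Subgroup.coe_mul, Subgroup.coe_inv]
    calc z ^ k = (q.out : S)⁻¹ * ((q.out : S) * z ^ k * (q.out : S)⁻¹) * (q.out : S) := by group
      _ = (q.out : S)⁻¹ * ((r.out : S) * z * (r.out : S)⁻¹) * (q.out : S) := by rw [hk]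
      _ = _ := by group
  have hlow : 15 * e ≤ Nat.card K := by
    have h1 : Nat.card (N ⧸ K.subgroupOf N) ≤ 4 := by
      obtain ⟨R⟩ := (inferInstance : Nonempty (Sylow 3 C))
      rw [← (h4 R).2.2]
      exact Nat.card_le_card_of_injective _ (hψinj.comp hφ)
    have h2 := card_mul_index (K.subgroupOf N)
    rw [Nat.card_congr (subgroupOfEquivOfLe (inf_le_right : K ≤ N)).toEquiv, index_eq_card, hN]
      at h2
    have h3 : Nat.card K * Nat.card (N ⧸ K.subgroupOf N) ≤ Nat.card K * 4 :=
      Nat.mul_le_mul_left _ h1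
    change Nat.card K * Nat.card (N ⧸ K.subgroupOf N) = 60 * e at h2
    omega
  have hK : Nat.card K = 15 * e := by
    refine le_antisymm ?_ hlow
    have hce : C.relIndex N = e := by
      have h := card_centralizer_mul_relIndex (P : Subgroup S)
      rw [← hCdef, ← hNdef, hC, hN] at h
      omega
    have h1 : Nat.card ↥(C ⊓ M) * (C ⊓ M).relIndex K = Nat.card K := by
      rw [← relIndex_bot_left, ← relIndex_bot_left]
      exact relIndex_mul_relIndex ⊥ _ _ bot_le (le_inf inf_le_right (inf_le_left.trans hCN))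
    have h2 : (C ⊓ M).relIndex K ≤ e := by
      have e1 : (C ⊓ M).relIndex K = C.relIndex K := by
        rw [← inf_relIndex_right (C ⊓ M), ← inf_relIndex_right C,
          inf_assoc, inf_eq_right.mpr (inf_le_left : K ≤ M)]
      rw [e1, ← hce]
      exact relIndex_le_of_le_right inf_le_right index_ne_zero_of_finite
    rw [h15] at h1
    rw [← h1]
    exact Nat.mul_le_mul_left 15 h2
  -- the orbit of `P`
  obtain ⟨⟨x, hxP⟩, hx⟩ := exists_prime_orderOf_dvd_card' (G := (P : Subgroup S)) 5 (by rw [h5 P])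
  rw [Subgroup.orderOf_mk] at hx
  have hxM : x ∈ M := mem_normalizer_zpowers (by
    rw [mem_centralizer_iff.mp hzC x hxP, mul_inv_cancel_right]
    exact mem_zpowers z)
  have hstab : Nat.card (stabilizer M P) = Nat.card K := by
    have : stabilizer M P = K.subgroupOf M := by
      ext ⟨m, hm⟩
      rw [mem_stabilizer_iff, mem_subgroupOf]
      exact ⟨fun h => ⟨hm, Sylow.smul_eq_iff_mem_normalizer.mp h⟩,
        fun h => Sylow.smul_eq_iff_mem_normalizer.mpr h.2⟩
    rw [this, Nat.card_congr (subgroupOfEquivOfLe (inf_le_left : K ≤ M)).toEquiv]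
  set O := orbitFinset M P
  have horb : O.card * Nat.card K = Nat.card M := by
    rw [← hstab, card_orbitFinset, Nat.card_congr (orbitEquivQuotientStabilizer M P),
      ← index_eq_card, mul_comm, card_mul_index]
  have hsub : O ⊆ fixFinset (Sylow 5 S) z := by
    intro Q hQ
    obtain ⟨⟨m, hm⟩, rfl⟩ := mem_orbitFinset.mp hQ
    rw [mem_fixFinset]
    show z • m • P = m • P
    have hmem : m⁻¹ * z * m ∈ N :=
      hCN ((zpowers_le.mpr hzC) ((mem_normalizer_iff''.mp hm z).mp (mem_zpowers z)))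
    conv_rhs => rw [← Sylow.smul_eq_iff_mem_normalizer.mpr hmem]
    simp only [smul_smul, mul_assoc, mul_inv_cancel_left]
  have hle6 := (Finset.card_le_card hsub).trans (fix_three h5 hnc hn hz hzC).le
  have hPO : P ∈ O := mem_orbitFinset.mpr (mem_orbit_self P)
  have hmod : O.card % 5 = 1 := by
    have h1 := card_modEq_card_filter_fixed (r := 5) (orderOf_dvd_iff_pow_eq_one.mp (dvd_of_eq hx))
      O (fun Q hQ => by
        obtain ⟨m, rfl⟩ := mem_orbitFinset.mp hQ
        exact mem_orbitFinset.mpr ⟨⟨x, hxM⟩ * m, mul_smul _ _ _⟩)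
    have h2 : (O.filter fun q => x • q = q) = {P} := by
      ext Q
      rw [Finset.mem_filter, Finset.mem_singleton]
      constructor
      · rintro ⟨-, hQ⟩
        exact (exists_unique_sylow_mem hx h5).unique ((smul_eq_self_iff_mem (P := P) hxP).mp hQ) hxP
      · rintro rfl
        exact ⟨hPO, (smul_eq_self_iff_mem (P := Q) hxP).mpr hxP⟩
    rw [h2, Finset.card_singleton] at h1
    exact h1
  have hne1 : O.card ≠ 1 := by
    intro h1
    rw [h1, one_mul, hK] at horb
    obtain ⟨T, hT⟩ := (IsPGroup.of_card (p := 3) (G := zpowers z) (n := 1)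
      (by rw [Nat.card_zpowers, hz, pow_one])).exists_le_sylow
    have hT9 : Nat.card T = 9 := by
      simpa using card_sylow_of_card_eq (p := 3) (k := 2) (m := 140 * e) (by rw [hS]; ring)
        (by rcases he with rfl | rfl <;> norm_num) T
    have hcomm : IsMulCommutative (T : Subgroup S) :=
      IsPGroup.isMulCommutative_of_card_eq_prime_sq (p := 3) (by rw [hT9]; norm_num)
    have hTM : (T : Subgroup S) ≤ M := fun a ha => mem_normalizer_zpowers (by
      have h := congrArg Subtype.val (hcomm.is_comm.comm ⟨a, ha⟩ ⟨z, hT (mem_zpowers z)⟩)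
      simp only [Subgroup.coe_mul] at h
      rw [h, mul_inv_cancel_right]
      exact mem_zpowers z)
    have := card_dvd_of_le hTM
    rw [hT9, ← horb] at this
    rcases he with rfl | rfl <;> norm_num at this
  have h0 : 0 < O.card := Finset.card_pos.mpr ⟨P, hPO⟩
  have h6 : O.card = 6 := by omega
  rw [← horb, h6, hK]
  ring

include h5 hnc hn in
/-- `|C(P)| = 60` is impossible. -/
theorem false_of_twelve (P : Sylow 5 S) {e : ℕ} (he : e = 2 ∨ e = 4)
    (hC : Nat.card (centralizer ((P : Subgroup S) : Set S)) = 60)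
    (hN : Nat.card (normalizer ((P : Subgroup S) : Set S)) = 60 * e)
    (hS : Nat.card S = 1260 * e) : False := by
  classical
  have : Fact (Nat.Prime 2) := ⟨Nat.prime_two⟩
  have : Fact (Nat.Prime 3) := ⟨Nat.prime_three⟩
  obtain ⟨⟨z, hzC⟩, hz⟩ := exists_prime_orderOf_dvd_card'
    (G := centralizer ((P : Subgroup S) : Set S)) 3 (by rw [hC]; norm_num)
  rw [Subgroup.orderOf_mk] at hz
  obtain ⟨⟨v, hvC⟩, hv⟩ := exists_prime_orderOf_dvd_card'
    (G := centralizer ((P : Subgroup S) : Set S)) 2 (by rw [hC]; norm_num)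
  rw [Subgroup.orderOf_mk] at hv
  obtain ⟨⟨x, hxP⟩, hx⟩ := exists_prime_orderOf_dvd_card' (G := (P : Subgroup S)) 5 (by rw [h5 P])
  rw [Subgroup.orderOf_mk] at hx
  have hPgen : (P : Subgroup S) = zpowers x :=
    eq_zpowers_of_mem (h5 P) hxP (fun e => by rw [e, orderOf_one] at hx; omega)
  set M := normalizer ((zpowers z : Subgroup S) : Set S)
  have hM := card_normalizer_three h5 hnc hn P he hC hN hS hz hzC
  have hidx : M.index = 14 := by
    have h := card_mul_index M
    rw [hM, hS] at h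
    rcases he with rfl | rfl <;> omega
  have hMtop : M ≠ ⊤ := fun e => by rw [e, index_top] at hidx; omega
  have := Fintype.ofFinite (S ⧸ M)
  have hα : Fintype.card (S ⧸ M) = 14 := by
    rw [← Nat.card_eq_fintype_card, ← index_eq_card, hidx]
  -- fixed cosets give conjugates of `zpowers z` which are normalised
  have hconj : ∀ (a g : S), a • (QuotientGroup.mk g : S ⧸ M) = QuotientGroup.mk g →
      a * (g * z * g⁻¹) * a⁻¹ ∈ zpowers (g * z * g⁻¹) := by
    intro a g ha
    rw [smul_mk_eq_self_iff] at ha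
    obtain ⟨k, hk⟩ := mem_zpowers_iff.mp ((mem_normalizer_iff.mp ha z).mp (mem_zpowers z))
    refine mem_zpowers_iff.mpr ⟨k, ?_⟩
    rw [conj_zpow, hk]
    group
  have hord : ∀ g : S, orderOf (g * z * g⁻¹) = 3 := fun g => by
    rw [← hz]; exact (SemiconjBy.orderOf_eq g (show SemiconjBy g z _ by simp [SemiconjBy])).symm
  have hten : ∀ a : S, orderOf a = 2 → a ∈ centralizer ((P : Subgroup S) : Set S) →
      (fixFinset (S ⧸ M) a).card = 10 := by
    intro a ha haC
    have h1 := card_fix_modEq_common (α := S ⧸ M) (r := 5) (x := a) (y := x)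
      (orderOf_dvd_iff_pow_eq_one.mp (dvd_of_eq hx)) (mem_centralizer_iff.mp haC x hxP).symm
    have h2 : ((fixFinset (S ⧸ M) a).filter fun q => x • q = q) = ∅ := by
      rw [Finset.filter_eq_empty_iff]
      intro q hq hqx
      obtain ⟨g, rfl⟩ := QuotientGroup.mk_surjective q
      rw [mem_fixFinset] at hq
      have hcx := commute_of_five hx (hord g) (hconj x g hqx)
      refine not_normalize_three h5 hnc hn ha haC (hord g) ?_ (hconj a g hq)
      rw [hPgen, mem_centralizer_iff]
      intro b hb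
      obtain ⟨k, rfl⟩ := mem_zpowers_iff.mp hb
      exact (hcx.zpow_left k).eq
    rw [h2, Finset.card_empty] at h1
    have h4 := four_dvd_card_support (α := S ⧸ M) (orderOf_dvd_iff_pow_eq_one.mp (dvd_of_eq ha))
      (sign_toPerm hnc a)
    rw [hα] at h4
    have hle : (fixFinset (S ⧸ M) a).card ≤ 14 := hα ▸ Finset.card_le_univ _
    have h5' : (fixFinset (S ⧸ M) a).card % 5 = 0 := h1
    omega
  set w2 := z * v * z⁻¹ with hw2def
  have hw2 : orderOf w2 = 2 := by
    rw [← hv]; exact (SemiconjBy.orderOf_eq z (show SemiconjBy z v _ by simp [SemiconjBy, w2])).symm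
  have hw2C : w2 ∈ centralizer ((P : Subgroup S) : Set S) :=
    mul_mem (mul_mem hzC hvC) (inv_mem hzC)
  have hne : v ≠ w2 := fun e => by
    refine not_normalize_three h5 hnc hn hv hvC hz hzC ?_
    have hc : v * z = z * v := by
      conv_lhs => rw [e, hw2def, inv_mul_cancel_right]
    rw [hc, mul_inv_cancel_right]
    exact mem_zpowers z
  obtain ⟨q, hq⟩ : ((fixFinset (S ⧸ M) v) ∩ (fixFinset (S ⧸ M) w2)).Nonempty := by
    rw [← Finset.card_pos]
    have h1 := Finset.card_union_add_card_inter (fixFinset (S ⧸ M) v) (fixFinset (S ⧸ M) w2)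
    have h2 := Finset.card_le_univ (fixFinset (S ⧸ M) v ∪ fixFinset (S ⧸ M) w2)
    rw [hten v hv hvC, hten w2 hw2 hw2C] at h1
    omega
  obtain ⟨g, rfl⟩ := QuotientGroup.mk_surjective q
  rw [Finset.mem_inter, mem_fixFinset, mem_fixFinset] at hq
  have hinv : ∀ a : S, orderOf a = 2 → a ∈ centralizer ((P : Subgroup S) : Set S) →
      a • (QuotientGroup.mk g : S ⧸ M) = QuotientGroup.mk g →
      a * (g * z * g⁻¹) * a⁻¹ = (g * z * g⁻¹)⁻¹ := by
    intro a ha haC hag
    refine (conj_three (hord g) (hconj a g hag)).resolve_left fun e => ?_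
    exact not_commute_involution h5 hnc hn ha haC (hord g) (mul_inv_eq_iff_eq_mul.mp e)
  set y := g * z * g⁻¹
  have hy := hord g
  have e1 := hinv v hv hvC hq.1
  have e2 := hinv w2 hw2 hw2C hq.2
  set w := v * w2
  have hwy : Commute w y := by
    refine mul_inv_eq_iff_eq_mul.mp ?_
    calc w * y * w⁻¹ = v * (w2 * y * w2⁻¹) * v⁻¹ := by simp only [w]; group
      _ = (v * y * v⁻¹)⁻¹ := by rw [e2]; group
      _ = y := by rw [e1, inv_inv]
  have hvv : v⁻¹ = v := inv_eq_of_mul_eq_one_left (by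
    rw [← pow_two]; exact orderOf_dvd_iff_pow_eq_one.mp (dvd_of_eq hv))
  have hww : w2⁻¹ = w2 := inv_eq_of_mul_eq_one_left (by
    rw [← pow_two]; exact orderOf_dvd_iff_pow_eq_one.mp (dvd_of_eq hw2))
  have hw1 : w ≠ 1 := fun e => hne (by
    have := eq_inv_of_mul_eq_one_left e
    rwa [hww] at this)
  have hwinv : v * w * v⁻¹ = w⁻¹ := by
    simp only [w, mul_inv_rev, hww]
    rw [← mul_assoc, mul_assoc v v w2, ← mul_assoc]
    conv_lhs => rw [show v * v = 1 by rw [← pow_two]; exact orderOf_dvd_iff_pow_eq_one.mp (dvd_of_eq hv)]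
    rw [one_mul]
  have hwC : w ∈ centralizer ((P : Subgroup S) : Set S) := mul_mem hvC hw2C
  obtain ⟨r, hr, hrd⟩ := Nat.exists_prime_and_dvd (mt orderOf_eq_one_iff.mp hw1)
  have hr235 : r = 2 ∨ r = 3 ∨ r = 5 := by
    have h : r ∣ 60 := by
      have := hrd.trans (orderOf_dvd_natCard (⟨w, hwC⟩ : centralizer ((P : Subgroup S) : Set S))
        |> (Subgroup.orderOf_mk w hwC ▸ ·))
      rwa [hC] at this
    exact (show ∀ d ∈ Nat.divisors 60, d.Prime → d = 2 ∨ d = 3 ∨ d = 5 from by decide +kernel) r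
      (Nat.mem_divisors.mpr ⟨h, by norm_num⟩) hr
  have hpow := orderOf_pow_orderOf_div (orderOf_pos w).ne' hrd
  set j := orderOf w / r
  have hpC : w ^ j ∈ centralizer ((P : Subgroup S) : Set S) := pow_mem hwC j
  have hpinv : v * w ^ j * v⁻¹ = (w ^ j)⁻¹ := by rw [← conj_pow, hwinv, inv_pow]
  rcases hr235 with rfl | rfl | rfl
  · exact not_commute_involution h5 hnc hn hpow hpC hy (hwy.pow_left j)
  · exact not_normalize_three h5 hnc hn hv hvC hpow hpC (hpinv ▸ inv_mem (mem_zpowers _))
  · have hle : zpowers (w ^ j) ≤ (P : Subgroup S) := by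
      have h := (IsPGroup.of_card (p := 5) (G := zpowers (w ^ j)) (n := 1)
        (by rw [Nat.card_zpowers, hpow, pow_one])).inf_normalizer_sylow P
      rw [inf_eq_left.mpr (show zpowers (w ^ j) ≤ normalizer (P : Set S) from
        zpowers_le.mpr (centralizer_le_normalizer' _ hpC))] at h
      exact inf_eq_left.mp h.symm
    have hc := mem_centralizer_iff.mp hvC _ (hle (mem_zpowers _))
    rw [← hc, mul_inv_cancel_right] at hpinv
    have h2 : (w ^ j) ^ 2 = 1 := by
      rw [pow_two]; nth_rw 2 [hpinv]; exact mul_inv_cancel _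
    have := orderOf_dvd_iff_pow_eq_one.mpr h2
    rw [hpow] at this
    norm_num at this

end CfsgLib.Small.TwentyOne
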