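import Cfsg.Agent.Lib.Small.TwentyOneCases
import Cfsg.Agent.Lib.Small.TwentyOneTwelve
import Cfsg.Agent.Lib.SylowNumber.Basic

/-!
No finite group has exactly 21 Sylow 5-subgroups.
-/

set_option autoImplicit false

universe u

namespace CfsgLib.Small.TwentyOne

open Subgroup MulAction CfsgLib.Small CfsgLib.SylowNumber

theorem no_simple_twentyone {S : Type*} [Group S] [Finite S] [IsSimpleGroup S]
    [Fact (Nat.Prime 5)] (hn : Nat.card (Sylow 5 S) = 21) : False := by
  classical
  have : Fact (Nat.Prime 7) := ⟨by norm_num⟩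
  obtain ⟨P⟩ := (inferInstance : Nonempty (Sylow 5 S))
  have hdvd : 5 ∣ Nat.card S := by
    by_contra h
    have : Subsingleton (Sylow 5 S) := by
      have hbot : ∀ Q : Sylow 5 S, (Q : Subgroup S) = ⊥ := fun Q => by
        apply Subgroup.eq_bot_of_card_eq
        rw [Q.card_eq_multiplicity, Nat.factorization_eq_zero_of_not_dvd h, pow_zero]
      exact ⟨fun a b => Sylow.ext ((hbot a).trans (hbot b).symm)⟩
    rw [Nat.card_unique] at hn
    omega
  have hnc : ¬ IsMulCommutative S := by
    intro hc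
    have : (P : Subgroup S).Normal :=
      ⟨fun n hn g => by rwa [hc.is_comm.comm g n, mul_inv_cancel_right]⟩
    have := Sylow.unique_of_normal P inferInstance
    rw [Nat.card_unique] at hn
    omega
  have h5 := card_five_of_twentyone hnc hdvd hn
  obtain ⟨c, e, hC, hN, hall, hS, h⟩ := order_cases h5 hnc hn P
  rcases h with ⟨rfl, rfl, hn7, hC7⟩ | ⟨rfl, he⟩
  · exact false_of_four h5 hnc hn hS hall P hN hn7 hC7
  · exact false_of_twelve h5 hnc hn P he hC (by rw [hN]; ring) (by rw [hS]; ring)

theorem card_sylow_five_ne {G : Type u} [Group G] [Finite G] : Nat.card (Sylow 5 G) ≠ 21 := by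
  intro hG
  have : Fact (Nat.Prime 5) := ⟨by norm_num⟩
  have hpp : ¬ IsPrimePow 21 := by
    rw [isPrimePow_iff_unique_prime_dvd]
    rintro ⟨q, -, hq⟩
    have h3 := hq 3 ⟨Nat.prime_three, by norm_num⟩
    have h7 := hq 7 ⟨by norm_num, by norm_num⟩
    omega
  obtain ⟨S, _, _, hS, hn⟩ := exists_simple_of_card_sylow G 5 (n := 21) (by norm_num) hpp
    (by decide) hG
  exact no_simple_twentyone hn

end CfsgLib.Small.TwentyOne
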