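import Cfsg.Agent.Lib.Small.LowTools
import Cfsg.Agent.Lib.Small.AbelianFocal
import Cfsg.Agent.Lib.BrauerArtin.Main
import Cfsg.Agent.Lib.BrauerReynolds.Main
import Cfsg.Agent.Lib.PSL2.Basic
import Cfsg.Agent.S0997
import Cfsg.Agent.S0998
import Cfsg.Agent.S1010

/-!
No simple group has order 1344, 1404, 1560, 1716, 1980, 2080, 2100, 2268, 2464, 2688, 3120, 3168 or
3432: these follow from the theorems of Brauer, Reynolds and Tuan.
-/

set_option autoImplicit false

namespace CfsgLib.Small.Low

open Subgroup CfsgLib.Small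

universe u

variable {G : Type u} [Group G] [Finite G]

/-- The order of a group isomorphic to `PSL(2, F)`. -/
theorem card_of_psl {F : Type} [Field F] [Fintype F] {r : ℕ} (hF : Fintype.card F = r)
    (e : Nonempty (G ≃* Matrix.ProjectiveSpecialLinearGroup (Fin 2) F)) :
    Nat.gcd 2 (r - 1) * Nat.card G = (r + 1) * (r * (r - 1)) := by
  obtain ⟨e⟩ := e
  have h := CfsgLib.PSL2.card_psl (F := F)
  rw [hF] at h
  rw [Nat.card_congr e.toEquiv, h]

variable [IsSimpleGroup G]

theorem not_isCyclic (hG : ¬ IsMulCommutative G) : ¬ IsCyclic G := fun hc => hG hc.isMulCommutative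

/-- A group below the cube of a prime divisor `p`, with `p - 1` not a power of two. -/
theorem false_of_large {N p : ℕ} (h : Nat.card G = N) (hnc : ¬ IsMulCommutative G) (hp : p.Prime)
    (hdvd : p ∣ N) (hbig : N < p ^ 3) (h1 : Nat.gcd 2 (p - 1) * N ≠ (p + 1) * (p * (p - 1)))
    (h2 : ∀ m ≤ p, p ≠ 2 ^ m + 1) : False := by
  rcases CfsgLib.BrauerReynolds.large (not_isCyclic hnc) p hp (h ▸ hdvd) (h ▸ hbig) with
    ⟨F, _, _, hF, -, e⟩ | ⟨m, F, _, _, -, hpm, -, -⟩
  · exact h1 (h ▸ card_of_psl hF e)
  · exact h2 m (hpm ▸ (Nat.lt_two_pow_self).le.trans (Nat.le_succ _)) hpm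

/-- The case of few Sylow subgroups in Brauer's theorem. -/
theorem false_of_few {N p m : ℕ} [Fact p.Prime] (h : Nat.card G = N) (hnc : ¬ IsMulCommutative G)
    (hN : N = p * m) (hm : ¬ p ∣ m)
    (hfew : ∀ r ∈ m.divisors, r % p = 1 → 1 < r → 2 * ((r - 1) / p) < p + 3 ∨ ¬ 2 * N ∣ r.factorial)
    (h1 : Nat.gcd 2 (p - 1) * N ≠ (p + 1) * (p * (p - 1)))
    (h2 : ∀ m ≤ p, p ≠ 2 ^ m + 1) : False := by
  have hp := (Fact.out : p.Prime)
  obtain ⟨P⟩ := (inferInstance : Nonempty (Sylow p G))
  have hP : Nat.card (P : Subgroup G) = p :=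
    (card_sylow_of_card_eq (k := 1) (by rw [pow_one, h, hN]) hm P).trans (pow_one p)
  have hctx : CfsgLib.BrauerArtin.Ctx p P := ⟨commutator_eq_top hnc, hP, fun K hK hd => by
    rcases hK.eq_bot_or_eq_top with e | e
    · exact e
    · exact absurd (by rw [e, Subgroup.card_top, h, hN]; exact dvd_mul_right p m) hd⟩
  have hmem := card_sylow_mem (p := p) hnc (k := 1) (m := m) one_ne_zero
    (by rw [h, hN, pow_one]) hm
  rw [Finset.mem_filter] at hmem
  obtain ⟨hdm, hmod, hlt⟩ := hmem
  obtain ⟨n, hn⟩ : ∃ n, Nat.card (Sylow p G) = 1 + n * p := by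
    refine ⟨Nat.card (Sylow p G) / p, ?_⟩
    have := Nat.div_add_mod (Nat.card (Sylow p G)) p
    rw [hmod] at this
    rw [mul_comm]
    omega
  have hnp : (Nat.card (Sylow p G) - 1) / p = n := by
    rw [hn, Nat.add_sub_cancel_left, Nat.mul_div_cancel _ hp.pos]
  have hnr : ¬ CfsgLib.BrauerArtin.Rep p n := fun hr => by
    have h3 := hr.ge
    rcases hfew _ hdm hmod hlt with h4 | h4
    · rw [hnp] at h4
      omega
    · exact h4 (h ▸ two_mul_card_dvd_factorial_card_sylow (p := p) hnc (by rw [h, hN]; exact dvd_mul_right p m))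
  rcases CfsgLib.BrauerArtin.core_free P hctx hn hnr with
    ⟨F, _, _, hF, -, e⟩ | ⟨k, F, _, _, -, hpm, -, -⟩
  · exact h1 (h ▸ card_of_psl hF e)
  · exact h2 k (hpm ▸ (Nat.lt_two_pow_self).le.trans (Nat.le_succ _)) hpm

/-- Two primes to the first power and a power of a third. -/
theorem false_of_two_primes {N p r q b : ℕ} (h : Nat.card G = N) (hnc : ¬ IsMulCommutative G)
    (hp : p.Prime) (hr : r.Prime) (hq : q.Prime) (hpq : p ≠ q) (hpr : p ≠ r) (hqr : q ≠ r)
    (hN : N = p * r * q ^ b) (h1 : N ≠ 60) (h2 : N ≠ 168) : False := by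
  rcases Cfsg.Agent.S0998.result (not_isCyclic hnc) p q r b hp hq hr hpq hpr hqr (h.trans hN) with
    ⟨F, _, _, hF, e⟩ | ⟨F, _, _, hF, e⟩
  · have := card_of_psl hF e; norm_num at this; omega
  · have := card_of_psl hF e; norm_num at this; omega

/-- A cofactor below `p - 1`. -/
theorem false_of_tuan {N p q b g : ℕ} (h : Nat.card G = N) (hnc : ¬ IsMulCommutative G)
    (hp : p.Prime) (hq : q.Prime) (hpq : p ≠ q) (hN : N = p * q ^ b * g) (hg : g < p - 1)
    (h1 : Nat.gcd 2 (p - 1) * N ≠ (p + 1) * (p * (p - 1)))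
    (h2 : ∀ m ≤ p, p ≠ 2 ^ m + 1) : False := by
  rcases Cfsg.Agent.S0997.result (not_isCyclic hnc) p q b g hp hq hpq (h.trans hN) hg with
    ⟨m, F, _, _, hF, -, e⟩ | ⟨m, F, _, _, -, hpm, -, -⟩
  · exact h1 (h ▸ card_of_psl hF e)
  · exact h2 m (hpm ▸ (Nat.lt_two_pow_self).le.trans (Nat.le_succ _)) hpm

section
variable (hnc : ¬ IsMulCommutative G)
include hnc

theorem card_ne_1344 (h : Nat.card G = 1344) : False :=
  false_of_two_primes h hnc (p := 3) (r := 7) (q := 2) (b := 6) (by norm_num) (by norm_num)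
    (by norm_num) (by norm_num) (by norm_num) (by norm_num) (by norm_num) (by norm_num) (by norm_num)

theorem card_ne_2464 (h : Nat.card G = 2464) : False :=
  false_of_two_primes h hnc (p := 7) (r := 11) (q := 2) (b := 5) (by norm_num) (by norm_num)
    (by norm_num) (by norm_num) (by norm_num) (by norm_num) (by norm_num) (by norm_num) (by norm_num)

theorem card_ne_2688 (h : Nat.card G = 2688) : False :=
  false_of_two_primes h hnc (p := 3) (r := 7) (q := 2) (b := 7) (by norm_num) (by norm_num)
    (by norm_num) (by norm_num) (by norm_num) (by norm_num) (by norm_num) (by norm_num) (by norm_num)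

theorem card_ne_1404 (h : Nat.card G = 1404) : False :=
  false_of_large h hnc (p := 13) (by norm_num) (by norm_num) (by norm_num) (by norm_num)
    (by decide +kernel)

theorem card_ne_1560 (h : Nat.card G = 1560) : False :=
  false_of_large h hnc (p := 13) (by norm_num) (by norm_num) (by norm_num) (by norm_num)
    (by decide +kernel)

theorem card_ne_1716 (h : Nat.card G = 1716) : False :=
  false_of_large h hnc (p := 13) (by norm_num) (by norm_num) (by norm_num) (by norm_num)
    (by decide +kernel)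

theorem card_ne_2080 (h : Nat.card G = 2080) : False :=
  false_of_large h hnc (p := 13) (by norm_num) (by norm_num) (by norm_num) (by norm_num)
    (by decide +kernel)

theorem card_ne_2268 (h : Nat.card G = 2268) : False :=
  false_of_tuan h hnc (p := 7) (q := 3) (b := 4) (g := 4) (by norm_num) (by norm_num) (by norm_num)
    (by norm_num) (by norm_num) (by norm_num) (by decide +kernel)

theorem card_ne_3168 (h : Nat.card G = 3168) : False :=
  false_of_tuan h hnc (p := 11) (q := 2) (b := 5) (g := 9) (by norm_num) (by norm_num) (by norm_num)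
    (by norm_num) (by norm_num) (by norm_num) (by decide +kernel)

theorem card_ne_1980 (h : Nat.card G = 1980) : False := by
  have : Fact (Nat.Prime 11) := ⟨by norm_num⟩
  exact false_of_few h hnc (p := 11) (m := 180) (by norm_num) (by norm_num) (by decide +kernel)
    (by norm_num) (by decide +kernel)

theorem card_ne_3120 (h : Nat.card G = 3120) : False := by
  have : Fact (Nat.Prime 13) := ⟨by norm_num⟩
  exact false_of_few h hnc (p := 13) (m := 240) (by norm_num) (by norm_num) (by decide +kernel)
    (by norm_num) (by decide +kernel)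

theorem card_ne_3432 (h : Nat.card G = 3432) : False := by
  have : Fact (Nat.Prime 13) := ⟨by norm_num⟩
  exact false_of_few h hnc (p := 13) (m := 264) (by norm_num) (by norm_num) (by decide +kernel)
    (by norm_num) (by decide +kernel)

theorem card_ne_2100 (h : Nat.card G = 2100) : False := by
  have : Fact (Nat.Prime 5) := ⟨by norm_num⟩
  have hm := card_sylow_mem (p := 5) hnc (k := 2) (m := 84) (by norm_num) (by rw [h]; norm_num)
    (by norm_num)
  rw [show ((Nat.divisors 84).filter fun n => n % 5 = 1 ∧ 1 < n) = {6, 21} from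
    by decide +kernel] at hm
  simp only [Finset.mem_insert, Finset.mem_singleton] at hm
  rcases hm with e | e
  · obtain ⟨Q⟩ := (inferInstance : Nonempty (Sylow 5 G))
    have h2 := two_mul_card_dvd_factorial_card_sylow (p := 5) hnc (by rw [h]; norm_num)
    rw [e, h] at h2
    norm_num [Nat.factorial] at h2
  · exact Cfsg.Agent.S1010.result e

end

end CfsgLib.Small.Low
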