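import Cfsg.Agent.Lib.Small.LowB
import Cfsg.Agent.Lib.Small.BrauerTuan
import Cfsg.Agent.Lib.BrauerReynolds.Core
import Cfsg.Agent.Lib.BrauerReynolds.Half

/-!
No simple group has order 1512, 2160 or 2880.
-/

set_option autoImplicit false

noncomputable section

namespace CfsgLib.Small.Low

open Cfsg Subgroup MulAction CfsgLib.Small CfsgLib.Characters CfsgLib.BrauerArtin
open scoped Pointwise

universe u

variable {G : Type u} [Group G] [Finite G] [IsSimpleGroup G]

/-- The involutions of a centraliser of even order cannot all fix sixteen of thirty-six Sylow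
subgroups. -/
theorem false_of_even (hG : ¬ IsMulCommutative G) [Fact (Nat.Prime 5)] (P : Sylow 5 G)
    (hP : ∀ Q : Sylow 5 G, Nat.card Q = 5) (hn : Nat.card (Sylow 5 G) = 36)
    (h2 : 2 ∣ Nat.card (centralizer ((P : Subgroup G) : Set G))) : False := by
  classical
  have : Fact (Nat.Prime 2) := ⟨Nat.prime_two⟩
  have := Fintype.ofFinite G
  set C := centralizer ((P : Subgroup G) : Set G) with hCdef
  set N := normalizer ((P : Subgroup G) : Set G) with hNdef
  obtain ⟨φ, hsign, hker, hfix⟩ := OrbitHom.exists_orbit_hom hG P (hP P) (by norm_num) (t := 7)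
    (by rw [hn])
  have hI : ∀ u ∈ C, orderOf u = 2 → Nat.card (fixedBy (Sylow 5 G) u) = 16 := by
    intro u hu hu2
    have h22 : (⟨u, hu⟩ : C) ^ 2 = 1 := Subtype.ext (by
      show u ^ 2 = 1
      rw [← hu2, pow_orderOf_eq_one])
    have hs2 : φ ⟨u, hu⟩ ^ 2 = 1 := by rw [← map_pow, h22, map_one]
    have hne : φ ⟨u, hu⟩ ≠ 1 := fun e1 => by
      have := Subgroup.orderOf_dvd_natCard _ (hker _ e1)
      rw [hP P, show orderOf ((⟨u, hu⟩ : C) : G) = 2 from hu2] at this
      norm_num at this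
    obtain ⟨j, hj0, hj⟩ := Mid.perm_prime_fixed (q := 2) hs2 hne
    have hsum := Order720.support_card_add (φ ⟨u, hu⟩)
    rw [Fintype.card_fin] at hj hsum
    have hj2 : j ≠ 1 ∧ j ≠ 3 := by
      have h := Order720.sign_of_semiregular (φ ⟨u, hu⟩) 0 j (by simpa using hs2)
        (fun q hq => by simpa using hq) (by omega)
      rw [hsign] at h
      constructor <;> rintro rfl <;> exact absurd h (by decide)
    have h3 := hfix ⟨u, hu⟩ (by
      rw [show orderOf ((⟨u, hu⟩ : C) : G) = 2 from hu2]; norm_num)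
    rw [show Nat.card {i // φ ⟨u, hu⟩ i = i} = 3 by omega] at h3
    exact h3
  set I := Finset.univ.filter fun g : G => g ∈ C ∧ orderOf g = 2 with hIdef
  have h4 : ∀ u ∈ I, 4 ∣ (I.filter fun v => IsConj u v).card := by
    intro u hu
    obtain ⟨huC, hu2⟩ := (Finset.mem_filter.mp hu).2
    have hin : ∀ v, IsConj u v → v ∈ N → v ∈ C := by
      intro v hv hvN
      by_contra hvC
      have hb := Mid.fix_bound P hP hvN hvC
      obtain ⟨g, rfl⟩ := isConj_iff.mp hv
      rw [card_fixedBy_conj, hI u huC hu2, hn] at hb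
      omega
    have hform := card_fixedBy_mul_card_class N u
    rw [card_fixedBy_quotient_normalizer_eq, hI u huC hu2] at hform
    have hidx : N.index = 36 := by
      have := hn
      rw [P.card_eq_index_normalizer] at this
      exact this
    have heq : Nat.card {g : G // IsConj u g ∧ g ∈ N} = (I.filter fun v => IsConj u v).card := by
      rw [Nat.card_eq_fintype_card, Fintype.card_subtype]
      congr 1
      ext v
      simp only [hIdef, Finset.mem_filter, Finset.mem_univ, true_and]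
      constructor
      · rintro ⟨hv, hvN⟩
        refine ⟨⟨hin v hv hvN, ?_⟩, hv⟩
        obtain ⟨g, rfl⟩ := isConj_iff.mp hv
        rw [show g * u * g⁻¹ = MulAut.conj g u from rfl, MulEquiv.orderOf_eq, hu2]
      · rintro ⟨⟨hvC, -⟩, hv⟩
        exact ⟨hv, centralizer_le_normalizer' _ hvC⟩
    rw [hidx, heq] at hform
    omega
  -- there is an odd number of involutions in `C`
  have hodd : ¬ 2 ∣ I.card := by
    have hfixinv : Nat.card {g : C // g⁻¹ = g} = I.card + 1 := by
      rw [Nat.card_congr (β := {g : G // g ∈ insert 1 I})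
        { toFun := fun g => ⟨g.1.1, by
            rw [Finset.mem_insert, hIdef, Finset.mem_filter]
            by_cases h1 : g.1.1 = 1
            · exact Or.inl h1
            · refine Or.inr ⟨Finset.mem_univ _, g.1.2, orderOf_eq_prime ?_ h1⟩
              rw [pow_two]
              exact congrArg Subtype.val (inv_eq_iff_mul_eq_one.mp g.2)⟩
          invFun := fun g => ⟨⟨g.1, by
            rcases Finset.mem_insert.mp g.2 with h1 | h1
            · rw [h1]; exact one_mem C
            · exact (Finset.mem_filter.mp h1).2.1⟩, Subtype.ext (by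
            show g.1⁻¹ = g.1
            rcases Finset.mem_insert.mp g.2 with h1 | h1
            · rw [h1, inv_one]
            · refine inv_eq_of_mul_eq_one_left ?_
              rw [← pow_two, ← (Finset.mem_filter.mp h1).2.2, pow_orderOf_eq_one])⟩
          left_inv := fun _ => rfl
          right_inv := fun _ => rfl },
        Nat.card_eq_fintype_card, Fintype.card_coe,
        Finset.card_insert_of_notMem (by simp [hIdef])]
    by_cases hs1 : (Equiv.inv C : Equiv.Perm C) = 1
    · have hall : Nat.card {g : C // g⁻¹ = g} = Nat.card C :=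
        Nat.card_congr (Equiv.subtypeUnivEquiv fun g => Equiv.Perm.congr_fun hs1 g)
      omega
    · obtain ⟨j, -, hj⟩ := Mid.perm_prime_fixed (q := 2) (s := (Equiv.inv C : Equiv.Perm C))
        (by ext g; simp [pow_two]) hs1
      rw [show Nat.card {a : C // (Equiv.inv C) a = a} = Nat.card {g : C // g⁻¹ = g} from rfl,
        ← Nat.card_eq_fintype_card, hfixinv] at hj
      omega
  refine hodd (dvd_trans (by norm_num : 2 ∣ 4) ?_)
  rw [Finset.card_eq_sum_card_image (fun u => I.filter fun v => IsConj u v) I]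
  refine Finset.dvd_sum fun S hS => ?_
  obtain ⟨u, hu, rfl⟩ := Finset.mem_image.mp hS
  suffices e : (I.filter fun a => (I.filter fun v => IsConj a v) =
      I.filter fun v => IsConj u v) = I.filter fun v => IsConj u v by
    rw [e]
    exact h4 u hu
  ext v
  simp only [Finset.mem_filter]
  refine and_congr_right fun hv => ⟨fun e => ?_, fun e => ?_⟩
  · have : v ∈ I.filter fun w => IsConj v w := Finset.mem_filter.mpr ⟨hv, IsConj.refl v⟩
    rw [e] at this
    exact (Finset.mem_filter.mp this).2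
  · exact Finset.filter_congr fun w _ => ⟨fun h => e.trans h, fun h => e.symm.trans h⟩

omit [IsSimpleGroup G] in
/-- A group of order 90 has one Sylow 5-subgroup. -/
theorem not_ninety [Fact (Nat.Prime 5)] {H : Subgroup G} (hH : Nat.card H = 90)
    (hn : 1 < Nat.card (Sylow 5 H)) : False := by
  obtain ⟨K, hK, hle⟩ := Mid.exists_odd_half (H := H) (q := 5) (m := 45) (by norm_num)
    (by norm_num) (by rw [hH])
  have h1 := card_sylow_modEq_one 5 K
  rw [Nat.ModEq] at h1
  obtain ⟨T⟩ := (inferInstance : Nonempty (Sylow 5 K))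
  have h2 : Nat.card (Sylow 5 K) ∣ 9 :=
    T.card_dvd_index.trans (dvd_of_eq
      (index_sylow_of_card_eq (k := 1) (m := 9) (by rw [hK]; norm_num) (by norm_num) T))
  have h3 := Nat.le_of_dvd (by norm_num) h2
  interval_cases hc : Nat.card (Sylow 5 K) <;> omega

/-- The centraliser of an element of order three centralising `P`. -/
theorem centralizer_three [Fact (Nat.Prime 5)] (P : Sylow 5 G) (hP : Nat.card P = 5) {x : G}
    (hx : orderOf x = 3) (hxP : x ∈ centralizer ((P : Subgroup G) : Set G)) :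
    ∃ M, Nat.card (Sylow 5 (centralizer ({x} : Set G))) * M =
        Nat.card (centralizer ({x} : Set G)) ∧ 15 ∣ M ∧
      M ∣ Nat.card (normalizer ((P : Subgroup G) : Set G)) := by
  have hPH : (P : Subgroup G) ≤ centralizer ({x} : Set G) := fun a ha =>
    mem_centralizer_singleton_iff.mpr (mem_centralizer_iff.mp hxP a ha)
  refine ⟨_, Residual.card_eq_sylow_mul P hPH, ?_, card_dvd_of_le inf_le_left⟩
  have hxM : zpowers x ≤ normalizer ((P : Subgroup G) : Set G) ⊓ centralizer ({x} : Set G) :=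
    zpowers_le.mpr (Subgroup.mem_inf.mpr
      ⟨centralizer_le_normalizer' _ hxP, mem_centralizer_singleton_iff.mpr rfl⟩)
  refine Nat.Coprime.mul_dvd_of_dvd_of_dvd (m := 3) (n := 5) (by norm_num) ?_ ?_
  · have := card_dvd_of_le hxM
    rwa [Nat.card_zpowers, hx] at this
  · exact (dvd_of_eq hP.symm).trans (card_dvd_of_le (le_inf le_normalizer hPH))

/-- The pairs of conjugates of an involution with product in `P`. -/
theorem pair_eq [Fintype G] {p : ℕ} [Fact p.Prime] {P : Sylow p G} (h : Ctx p P) (B : Blk p P)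
    (hC : cP P = (P : Subgroup G)) {u : G} (hu : u ∈ (P : Subgroup G)) (hu1 : u ≠ 1) (s : G)
    {y : IrrCharacter G} (hy : y ∈ B.Y) :
    ((CfsgLib.ClassCount.pairs s s {u}).card : ℂ) *
        (Nat.card (centralizer ({s} : Set G)) : ℂ) ^ 2 =
      (Nat.card G : ℂ) * (1 + ∑ x ∈ B.X, (B.εX x : ℂ) * (x : G → ℂ) s ^ 2 /
          (charDegree (x : G → ℂ) : ℂ) -
        (B.ε : ℂ) * (y : G → ℂ) s ^ 2 / (charDegree (y : G → ℂ) : ℂ) *
          (if p ∣ orderOf s then 0 else 1) -
        (if p ∣ orderOf s then (0 : ℂ) - ∑ z ∈ B.Y, (z : G → ℂ) s ^ 2 * (z : G → ℂ) u⁻¹ /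
          (charDegree (z : G → ℂ) : ℂ) else 0)) := by
  classical
  have hui : u⁻¹ ∈ (P : Subgroup G) := inv_mem hu
  have hui1 : u⁻¹ ≠ 1 := by simpa using hu1
  have h1 : ¬ p ∣ orderOf (1 : G) := by rw [orderOf_one]; exact (Fact.out : p.Prime).not_dvd_one
  rw [sq, ← mul_assoc, CfsgLib.ClassCount.card_pairs_mul_centralizers]
  simp only [Finset.sum_singleton]
  have hsub : ({principalIrr G} ∪ B.X ∪ B.Y : Finset (IrrCharacter G)) ⊆ Finset.univ :=
    Finset.subset_univ _
  rw [← Finset.sum_subset hsub fun χ _ hχ => by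
    simp only [Finset.mem_union, Finset.mem_singleton, not_or] at hχ
    rw [B.vanish χ hχ.1.1 hχ.1.2 hχ.2 hC u⁻¹ hui hui1]
    simp]
  rw [Finset.sum_union (by
      rw [Finset.disjoint_union_left, Finset.disjoint_singleton_left]
      exact ⟨B.one_Y, B.disj⟩),
    Finset.sum_union (Finset.disjoint_singleton_left.mpr B.one_X), Finset.sum_singleton]
  simp only [← CfsgLib.ClassCount.card_div_degree]
  have hX : ∀ x ∈ B.X, (Nat.card G : ℂ) / (x : G → ℂ) 1 *
      ((x : G → ℂ) s * (x : G → ℂ) s * (x : G → ℂ) u⁻¹) =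
      (Nat.card G : ℂ) * ((B.εX x : ℂ) * (x : G → ℂ) s ^ 2 / (charDegree (x : G → ℂ) : ℂ)) :=
    fun x hx => by
      have := B.value x hx u⁻¹ hui hui1 1 (one_mem _) h1
      rw [mul_one] at this
      rw [this, CfsgLib.Small.BrauerTuan.apply_one]
      ring
  rw [Finset.sum_congr rfl hX, ← Finset.mul_sum]
  have hY : ∑ z ∈ B.Y, (Nat.card G : ℂ) / (z : G → ℂ) 1 *
      ((z : G → ℂ) s * (z : G → ℂ) s * (z : G → ℂ) u⁻¹) =
      (Nat.card G : ℂ) * ∑ z ∈ B.Y, (z : G → ℂ) s ^ 2 * (z : G → ℂ) u⁻¹ /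
          (charDegree (z : G → ℂ) : ℂ) := by
    rw [Finset.mul_sum]
    exact Finset.sum_congr rfl fun z _ => by rw [CfsgLib.Small.BrauerTuan.apply_one]; ring
  rw [hY]
  simp only [principalIrr_apply, mul_one, div_one]
  by_cases hs : p ∣ orderOf s
  · rw [if_pos hs, if_pos hs]
    ring
  · rw [if_neg hs, if_neg hs]
    have hdeg : ∀ z ∈ B.Y, charDegree (z : G → ℂ) = charDegree (y : G → ℂ) := fun z hz => by
      have := CfsgLib.Small.BrauerTuan.exc_eq B hz hy h1
      rw [CfsgLib.Small.BrauerTuan.apply_one, CfsgLib.Small.BrauerTuan.apply_one] at this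
      exact_mod_cast this
    have hsum := B.sumY u⁻¹ hui hui1 1 (one_mem _) h1
    rw [mul_one] at hsum
    rw [Finset.sum_congr (s₁ := B.Y) rfl (g := fun (z : IrrCharacter G) =>
      ((y : G → ℂ) s ^ 2 / (charDegree (y : G → ℂ) : ℂ)) * (z : G → ℂ) u⁻¹) fun z hz => by
        rw [hdeg z hz, CfsgLib.Small.BrauerTuan.exc_eq B hz hy hs]; ring, ← Finset.mul_sum, hsum]
    ring

/-- The setting of the principal block. -/
theorem exists_setting [Fintype G] (hG : ¬ IsMulCommutative G) {p m : ℕ} [Fact p.Prime]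
    (P : Sylow p G) (hP : Nat.card P = p) (hc : Nat.card G = p * m)
    (hcc : Nat.card (centralizer ((P : Subgroup G) : Set G)) = p) :
    Ctx p P ∧ Nonempty (Blk p P) ∧ cP P = (P : Subgroup G) := by
  have h : Ctx p P := ⟨commutator_eq_top hG, hP, fun K hK hd => by
    rcases hK.eq_bot_or_eq_top with e | e
    · exact e
    · exact absurd (by rw [e, Subgroup.card_top, hc]; exact dvd_mul_right p m) hd⟩
  exact ⟨h, h.exists_blk, (eq_of_le_of_card_ge h.P_le_cP (hcc.trans_le hP.ge)).symm⟩

/-- Degrees and signs in the principal block. -/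
theorem block_degrees [Fintype G] {p m : ℕ} [Fact p.Prime] {P : Sylow p G} (h : Ctx p P)
    (B : Blk p P) (hc : Nat.card G = p * m) (he : 1 < eN P ∧ eN P < p) :
    (∀ x ∈ B.X, charDegree (x : G → ℂ) ∣ m ∧ 1 < charDegree (x : G → ℂ)) ∧
    (∀ y ∈ B.Y, charDegree (y : G → ℂ) ∣ m ∧ 1 < charDegree (y : G → ℂ)) ∧
    1 + ∑ χ ∈ B.X ∪ B.Y, (charDegree (χ : G → ℂ) : ℤ) ^ 2 ≤ (Nat.card G : ℤ) := by
  classical
  have hne1 : ∀ χ : IrrCharacter G, χ ≠ principalIrr G → 1 < charDegree (χ : G → ℂ) := fun χ hχ => by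
    have h0 := CfsgLib.Chars17.irrDegree_pos χ
    have : charDegree (χ : G → ℂ) ≠ 1 := fun e => hχ (h.eq_principal e)
    omega
  refine ⟨fun x hx => ?_, fun y hy => ?_, ?_⟩
  · refine ⟨CfsgLib.Small.BrauerTuan.dvd_part hc fun hd => ?_,
      hne1 x fun e => B.one_X (e ▸ hx)⟩
    have h1 := Int.dvd_sub hd (B.degX x hx)
    rw [sub_sub_cancel] at h1
    rcases B.hεX x hx with e1 | e1 <;> rw [e1] at h1
    · have := Int.le_of_dvd one_pos h1; omega
    · have := Int.le_of_dvd one_pos (dvd_neg.1 h1); omega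
  · refine ⟨CfsgLib.Small.BrauerTuan.dvd_part hc fun hd => ?_,
      hne1 y fun e => B.one_Y (e ▸ hy)⟩
    have h1 := Int.dvd_sub hd (B.degY y hy)
    rw [sub_sub_cancel] at h1
    have h2 : p ∣ eN P := by
      rcases B.hε with e1 | e1 <;> rw [e1] at h1
      · exact_mod_cast (by simpa using h1 : (p : ℤ) ∣ (eN P : ℤ))
      · exact_mod_cast (by simpa using h1 : (p : ℤ) ∣ (eN P : ℤ))
    have := Nat.le_of_dvd (by omega) h2
    omega
  · rw [← CfsgLib.BrauerReynolds.sum_deg_sq (G := G),
      ← Finset.sum_sdiff (Finset.subset_univ (insert (principalIrr G) (B.X ∪ B.Y))),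
      Finset.sum_insert (by simp [B.one_X, B.one_Y])]
    have h1 : charDegree ((principalIrr G : IrrCharacter G) : G → ℂ) = 1 := by
      have := CfsgLib.Small.BrauerTuan.apply_one (principalIrr G)
      simp only [principalIrr_apply] at this
      exact_mod_cast this.symm
    rw [h1]
    have : (0 : ℤ) ≤ ∑ χ ∈ Finset.univ \ insert (principalIrr G) (B.X ∪ B.Y),
        (charDegree (χ : G → ℂ) : ℤ) ^ 2 := Finset.sum_nonneg fun _ _ => sq_nonneg _
    push_cast
    linarith

/-- No simple group has order `2160`. -/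
theorem card_ne_2160 (hG : ¬ IsMulCommutative G) (h : Nat.card G = 2160) : False := by
  classical
  have := Fintype.ofFinite G
  have : Fact (Nat.Prime 5) := ⟨by norm_num⟩
  have : Fact (Nat.Prime 3) := ⟨Nat.prime_three⟩
  have hd := Mid.once_data (p := 5) (m := 432) hG (by norm_num) (by rw [h]) (by norm_num)
    [(36, 2), (36, 4), (216, 2)] (by decide +kernel)
  obtain ⟨P⟩ := (inferInstance : Nonempty (Sylow 5 G))
  obtain ⟨hP, c, e, hmem, hrel, hcc, hN, hall⟩ := hd P
  simp only [List.mem_cons, List.not_mem_nil, or_false, Prod.mk.injEq] at hmem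
  by_cases h216 : Nat.card (Sylow 5 G) = 216
  · have hce : c = 1 ∧ e = 2 := by
      rcases hmem with ⟨hn, rfl⟩ | ⟨hn, rfl⟩ | ⟨hn, rfl⟩
      · omega
      · omega
      · rw [hn] at hall; omega
    obtain ⟨rfl, rfl⟩ := hce
    obtain ⟨hctx, ⟨B⟩, hC⟩ := exists_setting hG P hP (m := 432) (by rw [h]) (by rw [hcc, mul_one])
    have heN : eN P = 2 := hrel
    obtain ⟨hdX, hdY, hsq⟩ := block_degrees hctx B (m := 432) (by rw [h]) (by rw [heN]; norm_num)
    obtain ⟨x, hx⟩ := Finset.card_eq_one.1 (show B.X.card = 1 by have := B.card_X; omega)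
    have hxX : x ∈ B.X := hx ▸ Finset.mem_singleton_self x
    have hYc : B.Y.card = 2 := by
      have := B.card_Y
      rw [heN] at this
      omega
    obtain ⟨y, hy⟩ := Finset.card_pos.1 (by rw [hYc]; norm_num : 0 < B.Y.card)
    have hrel1 := B.rel_one hy
    rw [hx, Finset.sum_singleton] at hrel1
    obtain ⟨hxd, hx1⟩ := hdX x hxX
    obtain ⟨hyd, hy1⟩ := hdY y hy
    have hmx := B.degX x hxX
    have hxle : charDegree (x : G → ℂ) ≤ 46 := by
      have h1 := Finset.single_le_sum (f := fun χ : IrrCharacter G => (charDegree (χ : G → ℂ) : ℤ) ^ 2)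
        (fun _ _ => sq_nonneg _) (Finset.mem_union_left B.Y hxX)
      rw [h] at hsq
      by_contra hlt
      have : (47 : ℤ) ^ 2 ≤ (charDegree (x : G → ℂ) : ℤ) ^ 2 :=
        pow_le_pow_left₀ (by norm_num) (by omega) 2
      push_cast at hsq
      linarith
    have hcases : B.εX x = -1 ∧ B.ε = -1 ∧
        ((charDegree (x : G → ℂ) = 4 ∧ charDegree (y : G → ℂ) = 3) ∨
          (charDegree (x : G → ℂ) = 9 ∧ charDegree (y : G → ℂ) = 8)) := by
      have key : ∀ d ∈ Nat.divisors 432, 1 < d → d ≤ 46 →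
          ((d : ℤ) % 5 = 1 → (d + 1) ∉ Nat.divisors 432) ∧
          ((d : ℤ) % 5 = 4 → (d - 1) ∈ Nat.divisors 432 → d = 4 ∨ d = 9) := by decide +kernel
      have hk := key _ (Nat.mem_divisors.mpr ⟨hxd, by norm_num⟩) hx1 hxle
      have hyd' := Nat.mem_divisors.mpr ⟨hyd, (by norm_num : 432 ≠ 0)⟩
      rcases B.hεX x hxX with e1 | e1 <;> rcases B.hε with e2 | e2 <;>
        rw [e1] at hmx hrel1 <;> rw [e2] at hrel1
      · exfalso
        exact hk.1 (by omega) (by rwa [show charDegree (x : G → ℂ) + 1 =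
          charDegree (y : G → ℂ) by omega])
      · exfalso; omega
      · exfalso; omega
      · refine ⟨e1, e2, ?_⟩
        rcases hk.2 (by omega) (by rwa [show charDegree (x : G → ℂ) - 1 =
          charDegree (y : G → ℂ) by omega]) with e3 | e3 <;> omega
    obtain ⟨e1, e2, hxy⟩ := hcases
    have : Fact (Nat.Prime 2) := ⟨Nat.prime_two⟩
    obtain ⟨s, hs, hsodd⟩ := CfsgLib.Small.BrauerTuan.exists_involution (G := G) (b := 4) (m := 135)
      (by norm_num) (by rw [h]; norm_num) (by norm_num)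
    have hs1 : s ≠ 1 := fun e0 => by rw [e0, orderOf_one] at hs; norm_num at hs
    have h16 : 16 ∣ Nat.card (centralizer ({s} : Set G)) := by
      have h1 := (centralizer ({s} : Set G)).card_mul_index
      rw [h] at h1
      exact (Nat.Coprime.pow_left 4 (Nat.prime_two.coprime_iff_not_dvd.2 hsodd)).dvd_of_dvd_mul_right
        (h1 ▸ (by norm_num : (2 : ℕ) ^ 4 ∣ 2160))
    obtain ⟨u, hu, hu1⟩ := hctx.exists_u
    have hform := pair_eq hctx B hC hu hu1 s hy
    have hps : ¬ 5 ∣ orderOf s := by rw [hs]; norm_num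
    rw [if_neg hps, if_neg hps, hx, Finset.sum_singleton, e1, e2, h] at hform
    have hrs := B.rel y hy s hps
    rw [hx, Finset.sum_singleton, e1, e2] at hrs
    push_cast at hrs hform
    obtain ⟨K, hK⟩ := h16
    rcases hxy with ⟨hxd', hyd'⟩ | ⟨hxd', hyd'⟩
    · have hx0 : (x : G → ℂ) s = 0 := CfsgLib.Small.BrauerTuan.vanish_of_pow_two hG hs1 hsodd
        (fun e0 => B.one_X (e0 ▸ hxX)) (i := 2) hxd'
      have hy0 : (y : G → ℂ) s = -1 := by rw [hx0] at hrs; linear_combination -hrs
      rw [hx0, hy0, hxd', hyd', hK] at hform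
      push_cast at hform
      have h2 : ((CfsgLib.ClassCount.pairs s s {u}).card * (16 * K) ^ 2 : ℕ) = 2880 := by
        have : (((CfsgLib.ClassCount.pairs s s {u}).card * (16 * K) ^ 2 : ℕ) : ℂ) = (2880 : ℂ) := by
          push_cast
          linear_combination hform
        exact_mod_cast this
      have : (256 : ℕ) ∣ 2880 :=
        ⟨(CfsgLib.ClassCount.pairs s s {u}).card * K ^ 2, by rw [← h2]; ring⟩
      norm_num at this
    · have hy0 : (y : G → ℂ) s = 0 := CfsgLib.Small.BrauerTuan.vanish_of_pow_two hG hs1 hsodd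
        (fun e0 => B.one_Y (e0 ▸ hy)) (i := 3) hyd'
      have hx0 : (x : G → ℂ) s = 1 := by rw [hy0] at hrs; linear_combination hrs
      rw [hx0, hy0, hxd', hyd', hK] at hform
      push_cast at hform
      have h2 : ((CfsgLib.ClassCount.pairs s s {u}).card * (16 * K) ^ 2 : ℕ) = 1920 := by
        have : (((CfsgLib.ClassCount.pairs s s {u}).card * (16 * K) ^ 2 : ℕ) : ℂ) = (1920 : ℂ) := by
          push_cast
          linear_combination hform
        exact_mod_cast this
      have : (256 : ℕ) ∣ 1920 :=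
        ⟨(CfsgLib.ClassCount.pairs s s {u}).card * K ^ 2, by rw [← h2]; ring⟩
      norm_num at this
  have hn : Nat.card (Sylow 5 G) = 36 := by omega
  rw [hn] at hall
  have hcases : (c = 6 ∧ e = 2) ∨ (c = 3 ∧ e = 4) := by
    rcases hmem with ⟨-, rfl⟩ | ⟨-, rfl⟩ | ⟨hn', -⟩ <;> omega
  obtain ⟨x, hx⟩ := exists_prime_orderOf_dvd_card' 3
    (G := centralizer ((P : Subgroup G) : Set G)) (by
      rw [hcc]; rcases hcases with ⟨rfl, -⟩ | ⟨rfl, -⟩ <;> norm_num)
  have hxo : orderOf (x : G) = 3 := by rw [orderOf_coe]; exact hx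
  obtain ⟨φ, -, hker, hfix⟩ := OrbitHom.exists_orbit_hom hG P hP (by norm_num) (t := 7) (by rw [hn])
  have hne : φ x ≠ 1 := fun e1 => by
    have := Subgroup.orderOf_dvd_natCard _ (hker x e1)
    rw [hP, hxo] at this
    norm_num at this
  obtain ⟨j, hj0, hj⟩ := Mid.perm_prime_fixed (q := 3) (s := φ x)
    (by rw [← map_pow, ← hx, pow_orderOf_eq_one, map_one]) hne
  rw [Fintype.card_fin] at hj
  obtain ⟨h1, h2⟩ := Mid.fix_eq_card_sylow (p := 5) (fun Q => (hd Q).1) P x.2 fun Q => by
    rw [relIndex_eq P Q, hrel, hxo]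
    rcases hcases with ⟨-, rfl⟩ | ⟨-, rfl⟩ <;> norm_num
  rw [hfix x (by rw [hxo]; norm_num)] at h1
  set H := centralizer ({(x : G)} : Set G) with hH
  have hf6 : Nat.card (Sylow 5 H) = 6 := by
    have h3 := h2.trans (card_subgroup_dvd_card _)
    rw [h] at h3
    rcases (show j = 1 ∨ j = 2 by omega) with rfl | rfl
    · rw [show Nat.card {i // φ x i = i} = 4 by omega] at h1
      rw [← h1] at h3
      norm_num at h3
    · rw [show Nat.card {i // φ x i = i} = 1 by omega] at h1
      omega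
  obtain ⟨M, (hM : Nat.card (Sylow 5 H) * M = Nat.card H), hM15, hMN⟩ := centralizer_three P hP hxo x.2
  rw [hf6] at hM
  have hM' : M ∈ Nat.divisors 60 := Nat.mem_divisors.mpr
    ⟨hMN.trans (dvd_of_eq (by rw [hN]; rcases hcases with ⟨rfl, rfl⟩ | ⟨rfl, rfl⟩ <;> norm_num)),
      by norm_num⟩
  have hne' : H ≠ ⊤ := Residual.centralizer_ne_top hG fun e0 => by
    rw [e0, orderOf_one] at hxo; norm_num at hxo
  have hfac := two_mul_card_dvd_factorial_index hG hne'
  have hi := H.card_mul_index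
  rw [h] at hfac hi
  rcases (show ∀ d ∈ Nat.divisors 60, 15 ∣ d → d = 15 ∨ d = 30 ∨ d = 60 by decide +kernel) M hM' hM15
    with rfl | rfl | rfl
  · exact not_ninety (H := H) (by omega) (by omega)
  · have hi12 : H.index = 12 := by rw [show Nat.card H = 180 by omega] at hi; omega
    obtain ⟨y, hyP, hy, hPy⟩ := exists_gen (p := 5) hP
    have hPC : (P : Subgroup G) ≤ centralizer ((P : Subgroup G) : Set G) :=
      fun a ha => mem_centralizer_iff.mpr fun b hb => by
        have : IsCyclic (P : Subgroup G) := isCyclic_of_prime_card hP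
        exact congrArg Subtype.val ((IsCyclic.isMulCommutative (α := (P : Subgroup G))).is_comm.comm
          (⟨b, hb⟩ : (P : Subgroup G)) ⟨a, ha⟩)
    have hfew : Nat.card (fixedBy (G ⧸ H) y) < 3 := by
      refine lt_of_le_of_lt ((card_fix_le (x := (x : G)) (y := y)).trans ?_) (by norm_num : 2 < 3)
      rw [hxo]
      refine (card_commute_le hPy).trans ?_
      rcases hcases with ⟨rfl, -⟩ | ⟨rfl, -⟩
      · exact card_order_le (p := 5) (q := 3) (c := 2) hP hPC le_rfl (by rw [hcc]) (by norm_num)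
          (by decide +kernel)
      · exact card_order_le (p := 5) (q := 3) (c := 1) hP hPC le_rfl (by rw [hcc]) (by norm_num)
          (by decide +kernel)
    obtain ⟨g1, g2, g3, g4, g5⟩ := fix_data (p := 5) (q := 3) hne' hxo hy
      (mem_centralizer_iff.mp x.2 y hyP).symm hfew
    rw [hi12] at g1 g3 g5
    omega
  · have hi6 : H.index = 6 := by rw [← hM] at hi; omega
    rw [hi6] at hfac
    norm_num [Nat.factorial] at hfac

/-- No simple group has order `2880`. -/
theorem card_ne_2880 (hG : ¬ IsMulCommutative G) (h : Nat.card G = 2880) : False := by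
  classical
  have : Fact (Nat.Prime 5) := ⟨by norm_num⟩
  have : Fact (Nat.Prime 3) := ⟨Nat.prime_three⟩
  have hd := Mid.once_data (p := 5) (m := 576) hG (by norm_num) (by rw [h]) (by norm_num)
    [(36, 2), (36, 4), (96, 2)] (by decide +kernel)
  obtain ⟨P⟩ := (inferInstance : Nonempty (Sylow 5 G))
  obtain ⟨hP, c, e, hmem, hrel, hcc, hN, hall⟩ := hd P
  simp only [List.mem_cons, List.not_mem_nil, or_false, Prod.mk.injEq] at hmem
  by_cases h36 : Nat.card (Sylow 5 G) = 36
  · refine false_of_even hG P (fun Q => (hd Q).1) h36 ?_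
    rw [hcc]
    rw [h36] at hall
    have : c = 8 ∨ c = 4 := by
      rcases hmem with ⟨-, rfl⟩ | ⟨-, rfl⟩ | ⟨hn', -⟩ <;> omega
    rcases this with rfl | rfl <;> norm_num
  have hn : Nat.card (Sylow 5 G) = 96 ∧ e = 2 := by
    rcases hmem with ⟨hn', -⟩ | ⟨hn', -⟩ | hn'
    · exact absurd hn' h36
    · exact absurd hn' h36
    · exact hn'
  obtain ⟨hn, rfl⟩ := hn
  rw [hn] at hall
  obtain rfl : c = 3 := by omega
  obtain ⟨x, hx⟩ := exists_prime_orderOf_dvd_card' 3
    (G := centralizer ((P : Subgroup G) : Set G)) (by rw [hcc]; norm_num)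
  have hxo : orderOf (x : G) = 3 := by rw [orderOf_coe]; exact hx
  obtain ⟨T, hT⟩ := (IsPGroup.of_card (p := 3) (n := 1) (G := zpowers (x : G))
    (by rw [Nat.card_zpowers, hxo, pow_one])).exists_le_sylow
  have hxT : (x : G) ∈ (T : Subgroup G) := hT (mem_zpowers _)
  have hT9 : Nat.card T = 3 ^ 2 :=
    card_sylow_of_card_eq (k := 2) (m := 320) (by rw [h]; norm_num) (by norm_num) T
  have hab : IsMulCommutative (T : Subgroup G) := IsPGroup.isMulCommutative_of_card_eq_prime_sq hT9
  obtain ⟨h9, -⟩ := Mid.sq_dvd_centralizer (q := 3) le_rfl hT9 hxT hxo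
  set H := centralizer ({(x : G)} : Set G) with hH
  obtain ⟨M, (hM : Nat.card (Sylow 5 H) * M = Nat.card H), hM15, hMN⟩ := centralizer_three P hP hxo x.2
  rw [hN] at hMN
  have hne' : H ≠ ⊤ := Residual.centralizer_ne_top hG fun e0 => by
    rw [e0, orderOf_one] at hxo; norm_num at hxo
  have hfac := two_mul_card_dvd_factorial_index hG hne'
  have hi := H.card_mul_index
  rw [h] at hfac hi
  have hmod := card_sylow_modEq_one 5 H
  rw [Nat.ModEq, show 1 % 5 = 1 from rfl] at hmod
  have hHd : Nat.card (Sylow 5 H) ∈ Nat.divisors 2880 := Nat.mem_divisors.mpr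
    ⟨(Dvd.intro M hM).trans (h ▸ card_subgroup_dvd_card H), by norm_num⟩
  obtain ⟨hf6, hM'⟩ := (show ∀ f ∈ Nat.divisors 2880, ∀ d ∈ Nat.divisors 30, f % 5 = 1 → 15 ∣ d →
      9 ∣ f * d → f * d ∣ 2880 → 2 * 2880 ∣ (2880 / (f * d)).factorial →
      f = 6 ∧ (d = 15 ∨ d = 30) by decide +kernel)
    _ hHd M (Nat.mem_divisors.mpr ⟨hMN, by norm_num⟩) hmod hM15 (hM ▸ h9)
    (hM ▸ h ▸ card_subgroup_dvd_card H) (by
      rw [hM, ← hi, Nat.mul_div_cancel_left _ Nat.card_pos]
      rw [hi]
      exact hfac)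
  rw [hf6] at hM
  rcases hM' with rfl | rfl
  · exact not_ninety (H := H) (by omega) (by omega)
  have hi16 : H.index = 16 := by rw [show Nat.card H = 180 by omega] at hi; omega
  obtain ⟨y, hyP, hy, hPy⟩ := exists_gen (p := 5) hP
  have hfew : Nat.card (fixedBy (G ⧸ H) y) < 3 := by
    refine lt_of_le_of_lt ((card_fix_le (x := (x : G)) (y := y)).trans ?_) (by norm_num : 2 < 3)
    rw [hxo]
    refine (card_commute_le hPy).trans (card_order_le (p := 5) (q := 3) (c := 1) hP
      (fun a ha => mem_centralizer_iff.mpr fun b hb => ?_) le_rfl (by rw [hcc]) (by norm_num)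
        (by decide +kernel))
    have : IsCyclic (P : Subgroup G) := isCyclic_of_prime_card hP
    exact congrArg Subtype.val ((IsCyclic.isMulCommutative (α := (P : Subgroup G))).is_comm.comm
      (⟨b, hb⟩ : (P : Subgroup G)) ⟨a, ha⟩)
  obtain ⟨g1, g2, g3, g4, g5⟩ := fix_data (p := 5) (q := 3) hne' hxo hy
    (mem_centralizer_iff.mp x.2 y hyP).symm hfew
  rw [hi16] at g1 g3 g5
  have hfix1 : Nat.card (fixedBy (G ⧸ H) (x : G)) = 1 := by omega
  have hx1 : (x : G) ≠ 1 := fun e0 => by rw [e0, orderOf_one] at hxo; norm_num at hxo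
  refine hx1 (Mid.central_eq_one hG T hab hxT fun n hn' => ?_)
  have h1 : (x : G) • (n : G ⧸ H) = (n : G ⧸ H) := by
    rw [smul_mk_eq_self_iff, mem_centralizer_singleton_iff]
    have hx' : n⁻¹ * (x : G) * n ∈ (T : Subgroup G) := by
      have := (mem_normalizer_iff.mp (inv_mem hn') (x : G)).mp hxT
      rwa [inv_inv] at this
    exact congrArg Subtype.val (hab.is_comm.comm (⟨_, hx'⟩ : (T : Subgroup G)) ⟨x, hxT⟩)
  have h2 : (x : G) • ((1 : G) : G ⧸ H) = ((1 : G) : G ⧸ H) := by
    rw [smul_mk_eq_self_iff]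
    simp [hH, mem_centralizer_singleton_iff]
  have h3 := congrArg Subtype.val ((Nat.card_eq_one_iff_unique.mp hfix1).1.elim
    (⟨(n : G ⧸ H), h1⟩ : fixedBy (G ⧸ H) (x : G)) ⟨((1 : G) : G ⧸ H), h2⟩)
  have h4 : n ∈ H := by
    have := QuotientGroup.eq.mp h3
    rwa [mul_one, inv_mem_iff] at this
  exact mem_centralizer_singleton_iff.mp h4

/-- No simple group has order `1512`. -/
theorem card_ne_1512 (hG : ¬ IsMulCommutative G) (h : Nat.card G = 1512) : False := by
  classical
  have := Fintype.ofFinite G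
  have : Fact (Nat.Prime 7) := ⟨by norm_num⟩
  have : Fact (Nat.Prime 3) := ⟨Nat.prime_three⟩
  have : Fact (Nat.Prime 2) := ⟨Nat.prime_two⟩
  have hd := Mid.once_data (p := 7) (m := 216) hG (by norm_num) (by rw [h]) (by norm_num)
    [(36, 2), (36, 3), (36, 6)] (by decide +kernel)
  obtain ⟨P⟩ := (inferInstance : Nonempty (Sylow 7 G))
  obtain ⟨hP, c, e, hmem, hrel, hcc, hN, hall⟩ := hd P
  simp only [List.mem_cons, List.not_mem_nil, or_false, Prod.mk.injEq] at hmem
  have hn : Nat.card (Sylow 7 G) = 36 := by rcases hmem with h1 | h1 | h1 <;> exact h1.1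
  rw [hn] at hall
  rcases hmem with ⟨-, rfl⟩ | ⟨-, rfl⟩ | ⟨-, rfl⟩
  · obtain rfl : c = 3 := by omega
    obtain ⟨φ, -, hker, hfix⟩ := OrbitHom.exists_orbit_hom hG P hP (by norm_num) (t := 5)
      (by rw [hn])
    obtain ⟨x, hx⟩ := exists_prime_orderOf_dvd_card' 3
      (G := centralizer ((P : Subgroup G) : Set G)) (by rw [hcc]; norm_num)
    have hxo : orderOf (x : G) = 3 := by rw [orderOf_coe]; exact hx
    have hne : φ x ≠ 1 := fun e1 => by
      have := Subgroup.orderOf_dvd_natCard _ (hker x e1)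
      rw [hP, hxo] at this
      norm_num at this
    obtain ⟨j, hj0, hj⟩ := Mid.perm_prime_fixed (q := 3) (s := φ x)
      (by rw [← map_pow, ← hx, pow_orderOf_eq_one, map_one]) hne
    rw [Fintype.card_fin] at hj
    obtain ⟨h1, h2⟩ := Mid.fix_eq_card_sylow (p := 7) (fun Q => (hd Q).1) P x.2 fun Q => by
      rw [relIndex_eq P Q, hrel, hxo]
      norm_num
    rw [← h1, hfix x (by rw [hxo]; norm_num), show Nat.card {i // φ x i = i} = 2 by omega] at h2
    have h3 := h2.trans (card_subgroup_dvd_card _)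
    rw [h] at h3
    norm_num at h3
  · obtain rfl : c = 2 := by omega
    obtain ⟨u, f, hu, -, -, hCu, hf1, hf2, hf3⟩ := Mid.exists_involution hG (by norm_num) P hP hcc
    rw [hn] at hf2 hf3
    rw [hN] at hCu
    obtain rfl : f = 1 :=
      (show ∀ f ∈ Nat.divisors 36, f % 7 = 1 → f < 36 → f = 1 by decide +kernel) f
        (Nat.mem_divisors.mpr ⟨hf2, by norm_num⟩) hf1 hf3
    exact Mid.not_small_centralizer (G := G) (k := 3) (m := 189) (by norm_num) (by norm_num)
      (by rw [h]; norm_num) hu (by rw [hCu]; norm_num)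
  obtain rfl : c = 1 := by omega
  obtain ⟨hctx, ⟨B⟩, hC⟩ := exists_setting hG P hP (m := 216) (by rw [h]) (by rw [hcc, mul_one])
  have heN : eN P = 6 := hrel
  obtain ⟨hdX, hdY, hsq⟩ := block_degrees hctx B (m := 216) (by rw [h]) (by rw [heN]; norm_num)
  -- the involution and the element of order three in the normaliser
  obtain ⟨g, hgN, hg⟩ := Mid.exists_mem_dvd_orderOf (p := 7) hP
  rw [hrel] at hg
  set t := g ^ (orderOf g / 2) with ht
  set z := g ^ (orderOf g / 3) with hz
  have ho2 : orderOf t = 2 := by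
    rw [ht, orderOf_pow_orderOf_div (orderOf_pos g).ne' ((by norm_num : 2 ∣ 6).trans hg)]
  have ho3 : orderOf z = 3 := by
    rw [hz, orderOf_pow_orderOf_div (orderOf_pos g).ne' ((by norm_num : 3 ∣ 6).trans hg)]
  have htN : t ∈ normalizer ((P : Subgroup G) : Set G) := pow_mem hgN _
  set Ct := centralizer ({t} : Set G) with hCt
  have h24 : 24 ∣ Nat.card Ct := by
    refine Nat.Coprime.mul_dvd_of_dvd_of_dvd (m := 8) (n := 3) (by norm_num) ?_ ?_
    · by_contra h8
      exact Mid.not_small_centralizer (G := G) (k := 3) (m := 189) (by norm_num) (by norm_num)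
        (by rw [h]; norm_num) ho2 h8
    · rw [← ho3]
      exact Subgroup.orderOf_dvd_natCard _
        (mem_centralizer_singleton_iff.mpr (((Commute.refl g).pow_pow _ _).eq))
  have htodd : ¬ 2 ∣ Ct.index := by
    intro hd2
    have h1 := Ct.card_mul_index
    rw [h] at h1
    have : 48 ∣ 1512 := h1 ▸ (Nat.mul_dvd_mul h24 hd2)
    norm_num at this
  have htC : t ∉ centralizer ((P : Subgroup G) : Set G) := fun hm => by
    have := Subgroup.orderOf_dvd_natCard _ hm
    rw [hcc, ho2] at this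
    norm_num at this
  obtain ⟨u, hu, hu1⟩ := hctx.exists_u
  -- seven pairs
  have h7 : 7 ≤ (CfsgLib.ClassCount.pairs t t {u}).card := by
    have ht2 : t * t = 1 := by rw [← pow_two, ← ho2, pow_orderOf_eq_one]
    have hti : t⁻¹ = t := inv_eq_of_mul_eq_one_left ht2
    have htconj : ∀ a ∈ (P : Subgroup G), t * a * t⁻¹ ∈ (P : Subgroup G) := fun a ha =>
      (mem_normalizer_iff.mp htN a).mp ha
    let F : ↥(P : Subgroup G) → ↥(P : Subgroup G) := fun v =>
      ⟨v.1 * (t * v.1⁻¹ * t⁻¹), mul_mem v.2 (htconj _ (inv_mem v.2))⟩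
    have hinj : Function.Injective F := by
      intro a b hab
      have h1 : (a : G) * (t * (a : G)⁻¹ * t⁻¹) = (b : G) * (t * (b : G)⁻¹ * t⁻¹) :=
        congrArg Subtype.val hab
      have h2 : (b : G)⁻¹ * a * t = t * ((b : G)⁻¹ * a) := by
        calc (b : G)⁻¹ * a * t = (b : G)⁻¹ * ((a : G) * (t * (a : G)⁻¹ * t⁻¹)) * t * a := by group
          _ = (b : G)⁻¹ * ((b : G) * (t * (b : G)⁻¹ * t⁻¹)) * t * a := by rw [h1]
          _ = t * ((b : G)⁻¹ * a) := by group
      by_contra hne
      have hmem : (b : G)⁻¹ * a ∈ (P : Subgroup G) := mul_mem (inv_mem b.2) a.2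
      have hne1 : (b : G)⁻¹ * a ≠ 1 := fun e0 =>
        hne (Subtype.ext (inv_mul_eq_one.mp e0).symm)
      refine htC ?_
      rw [show centralizer ((P : Subgroup G) : Set G) = cP P from rfl,
        ← hctx.centralizer_singleton hmem hne1, mem_centralizer_singleton_iff]
      exact h2.symm
    have hsurj := Finite.injective_iff_surjective.mp hinj
    have hcls : ∀ v ∈ (P : Subgroup G), v * t ∈ CfsgLib.ClassCount.cls t := fun v hv => by
      obtain ⟨w, hw⟩ := hsurj ⟨v, hv⟩
      refine CfsgLib.ClassCount.mem_cls.mpr (isConj_iff.mpr ⟨(w : G), ?_⟩)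
      rw [show v = (w : G) * (t * (w : G)⁻¹ * t⁻¹) from (congrArg Subtype.val hw).symm]
      group
    have hsq : ∀ v ∈ (P : Subgroup G), v * t * (v * t) = 1 := fun v hv => by
      obtain ⟨k, hk⟩ := isConj_iff.mp (CfsgLib.ClassCount.mem_cls.mp (hcls v hv))
      rw [← hk, show k * t * k⁻¹ * (k * t * k⁻¹) = k * (t * t) * k⁻¹ by group, ht2]
      group
    have hcard : Nat.card (P : Subgroup G) ≤ Nat.card (CfsgLib.ClassCount.pairs t t {u}) := by
      refine Nat.card_le_card_of_injective (fun v => ⟨((v : G) * t, (v : G) * t * u), ?_⟩)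
        fun a b e0 => ?_
      · rw [CfsgLib.ClassCount.pairs, Finset.mem_filter, Finset.mem_product, Finset.mem_singleton]
        refine ⟨⟨hcls _ v.2, ?_⟩, ?_⟩
        · rw [show (v : G) * t * u = (v : G) * (t * u * t⁻¹) * t by group]
          exact hcls _ (mul_mem v.2 (htconj u hu))
        · rw [← mul_assoc, hsq _ v.2, one_mul]
      · exact Subtype.ext (mul_right_cancel (congrArg (fun z => z.1.1) e0))
    rw [hP, Nat.card_eq_fintype_card, Fintype.card_coe] at hcard
    exact hcard
  -- each member of the block with a positive weight vanishes at `t`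
  have hYc : B.Y.card = 1 := by
    have := B.card_Y
    rw [heN] at this
    omega
  obtain ⟨y, hy⟩ := Finset.card_pos.1 (by rw [hYc]; norm_num : 0 < B.Y.card)
  have hY1 : B.Y = {y} := (Finset.eq_singleton_iff_unique_mem).mpr ⟨hy, fun w hw =>
    (Finset.card_le_one.mp hYc.le) w hw y hy⟩
  have hrel1 := B.rel_one hy
  rw [h, Finset.sum_union B.disj, hY1, Finset.sum_singleton] at hsq
  push_cast at hsq
  have hd6 : ∀ d ∈ Nat.divisors 216, d ≠ 2 → d ≠ 3 → d ≠ 4 → d % 7 = 1 ∨ d % 7 = 6 → 1 < d →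
      6 ≤ d ∧ (d % 7 = 1 → d = 8 ∨ 36 ≤ d) := by decide +kernel
  have hXd : ∀ x ∈ B.X, 6 ≤ charDegree (x : G → ℂ) ∧
      (B.εX x = 1 → charDegree (x : G → ℂ) = 8 ∨ 36 ≤ charDegree (x : G → ℂ)) := by
    intro x hx
    obtain ⟨h1, h2⟩ := hdX x hx
    have h3 := B.degX x hx
    rcases B.hεX x hx with e1 | e1 <;> rw [e1] at h3
    · have := hd6 _ (Nat.mem_divisors.mpr ⟨h1, by norm_num⟩) (by omega) (by omega) (by omega)
        (by omega) h2
      exact ⟨this.1, fun _ => this.2 (by omega)⟩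
    · have := hd6 _ (Nat.mem_divisors.mpr ⟨h1, by norm_num⟩) (by omega) (by omega) (by omega)
        (by omega) h2
      exact ⟨this.1, fun e2 => by rw [e1] at e2; norm_num at e2⟩
  have hXc : B.X.card = 5 := by have := B.card_X; omega
  have hYd : 6 ≤ charDegree (y : G → ℂ) ∧
      (B.ε = -1 → charDegree (y : G → ℂ) = 8 ∨ 36 ≤ charDegree (y : G → ℂ)) := by
    obtain ⟨h1, h2⟩ := hdY y hy
    have h3 := B.degY y hy
    rw [heN] at h3
    push_cast at h3
    rcases B.hε with e1 | e1 <;> rw [e1] at h3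
    · have := hd6 _ (Nat.mem_divisors.mpr ⟨h1, by norm_num⟩) (by omega) (by omega) (by omega)
        (by omega) h2
      exact ⟨this.1, fun e2 => by rw [e1] at e2; norm_num at e2⟩
    · have := hd6 _ (Nat.mem_divisors.mpr ⟨h1, by norm_num⟩) (by omega) (by omega) (by omega)
        (by omega) h2
      exact ⟨this.1, fun _ => this.2 (by omega)⟩
  have hlin : ∀ d : ℤ, 6 ≤ d → d ≠ 7 → 14 * d ≤ d ^ 2 + 48 := fun d h1 h2 => by
    rcases (show d = 6 ∨ 8 ≤ d by omega) with rfl | h3
    · norm_num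
    · nlinarith
  have hn7 : ∀ d : ℕ, d ∣ 216 → (d : ℤ) ≠ 7 := fun d hd' e0 => by
    have : d = 7 := by exact_mod_cast e0
    subst this
    norm_num at hd'
  have hX8 : ∀ x ∈ B.X, B.εX x = 1 → charDegree (x : G → ℂ) = 8 := by
    intro x hx e1
    refine ((hXd x hx).2 e1).resolve_right fun h36 => ?_
    rw [← Finset.add_sum_erase _ _ hx] at hsq
    have hrest := Finset.sum_le_sum (s := B.X.erase x)
      (f := fun (w : IrrCharacter G) => 14 * (charDegree (w : G → ℂ) : ℤ))
      (g := fun (w : IrrCharacter G) => (charDegree (w : G → ℂ) : ℤ) ^ 2 + 48) fun w hw =>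
        hlin _ (by exact_mod_cast (hXd w (Finset.mem_of_mem_erase hw)).1)
          (hn7 _ (hdX w (Finset.mem_of_mem_erase hw)).1)
    rw [← Finset.mul_sum, Finset.sum_add_distrib, Finset.sum_const, Finset.card_erase_of_mem hx,
      hXc] at hrest
    norm_num at hrest
    rw [← Finset.add_sum_erase _ _ hx, e1, one_mul] at hrel1
    have hlow : -(∑ w ∈ B.X.erase x, (charDegree (w : G → ℂ) : ℤ)) ≤
        ∑ w ∈ B.X.erase x, B.εX w * (charDegree (w : G → ℂ) : ℤ) := by
      rw [← Finset.sum_neg_distrib]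
      refine Finset.sum_le_sum fun w hw => ?_
      rcases B.hεX w (Finset.mem_of_mem_erase hw) with e2 | e2 <;> rw [e2] <;> omega
    have hy6 : (6 : ℤ) ≤ charDegree (y : G → ℂ) := by exact_mod_cast hYd.1
    have hx36 : (36 : ℤ) ≤ charDegree (x : G → ℂ) := by exact_mod_cast h36
    rcases B.hε with e2 | e2 <;> rw [e2] at hrel1 <;>
      nlinarith [sq_nonneg ((charDegree (x : G → ℂ) : ℤ) - 36),
        sq_nonneg ((charDegree (y : G → ℂ) : ℤ) - 6)]
  have hY8 : B.ε = -1 → charDegree (y : G → ℂ) = 8 := by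
    intro e1
    refine (hYd.2 e1).resolve_right fun h36 => ?_
    have hrest := Finset.sum_le_sum (s := B.X)
      (f := fun (w : IrrCharacter G) => 14 * (charDegree (w : G → ℂ) : ℤ))
      (g := fun (w : IrrCharacter G) => (charDegree (w : G → ℂ) : ℤ) ^ 2 + 48) fun w hw =>
        hlin _ (by exact_mod_cast (hXd w hw).1) (hn7 _ (hdX w hw).1)
    rw [← Finset.mul_sum, Finset.sum_add_distrib, Finset.sum_const, hXc] at hrest
    norm_num at hrest
    have hlow : -(∑ w ∈ B.X, (charDegree (w : G → ℂ) : ℤ)) ≤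
        ∑ w ∈ B.X, B.εX w * (charDegree (w : G → ℂ) : ℤ) := by
      rw [← Finset.sum_neg_distrib]
      refine Finset.sum_le_sum fun w hw => ?_
      rcases B.hεX w hw with e2 | e2 <;> rw [e2] <;> omega
    have hy36 : (36 : ℤ) ≤ charDegree (y : G → ℂ) := by exact_mod_cast h36
    rw [e1] at hrel1
    nlinarith
  -- the values at `t` are real
  have ht1 : t ≠ 1 := fun e0 => by rw [e0, orderOf_one] at ho2; norm_num at ho2
  have ht2 : t * t = 1 := by rw [← pow_two, ← ho2, pow_orderOf_eq_one]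
  choose iv hiv using fun χ : IrrCharacter G => CfsgLib.BrauerReynolds.int_of_sq_one
    (irr_isCharacter χ) (CfsgLib.Small.BrauerTuan.apply_one χ) ht2
  have hps : ¬ 7 ∣ orderOf t := by rw [ho2]; norm_num
  have hform := pair_eq hctx B hC hu hu1 t hy
  rw [if_neg hps, if_neg hps, h] at hform
  set S : ℝ := 1 + ∑ x ∈ B.X, (B.εX x : ℝ) * (iv x : ℝ) ^ 2 / (charDegree (x : G → ℂ) : ℝ) -
    (B.ε : ℝ) * (iv y : ℝ) ^ 2 / (charDegree (y : G → ℂ) : ℝ) with hS
  have hreal : ((CfsgLib.ClassCount.pairs t t {u}).card : ℝ) * (Nat.card Ct : ℝ) ^ 2 =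
      (1512 : ℝ) * S := by
    apply Complex.ofReal_injective
    rw [hS]
    push_cast
    simp only [fun χ => (hiv χ).1] at hform
    rw [hform]
    push_cast
    ring
  have hS1 : S ≤ 1 := by
    have h1 : ∑ x ∈ B.X, (B.εX x : ℝ) * (iv x : ℝ) ^ 2 / (charDegree (x : G → ℂ) : ℝ) ≤ 0 := by
      refine Finset.sum_nonpos fun x hx => ?_
      rcases B.hεX x hx with e1 | e1
      · have h0 := CfsgLib.Small.BrauerTuan.vanish_of_pow_two hG ht1 htodd
          (fun e0 => B.one_X (e0 ▸ hx)) (i := 3) (hX8 x hx e1)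
        rw [(hiv x).1] at h0
        have : iv x = 0 := by exact_mod_cast h0
        simp [this]
      · rw [e1]
        push_cast
        rw [neg_one_mul, neg_div]
        exact neg_nonpos.mpr (div_nonneg (sq_nonneg _) (Nat.cast_nonneg _))
    have h2 : 0 ≤ (B.ε : ℝ) * (iv y : ℝ) ^ 2 / (charDegree (y : G → ℂ) : ℝ) := by
      rcases B.hε with e1 | e1
      · rw [e1]
        push_cast
        rw [one_mul]
        exact div_nonneg (sq_nonneg _) (Nat.cast_nonneg _)
      · have h0 := CfsgLib.Small.BrauerTuan.vanish_of_pow_two hG ht1 htodd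
          (fun e0 => B.one_Y (e0 ▸ hy)) (i := 3) (hY8 e1)
        rw [(hiv y).1] at h0
        have : iv y = 0 := by exact_mod_cast h0
        simp [this]
    linarith
  have h24' : (24 : ℝ) ≤ (Nat.card Ct : ℝ) := by exact_mod_cast Nat.le_of_dvd Nat.card_pos h24
  have h7' : (7 : ℝ) ≤ ((CfsgLib.ClassCount.pairs t t {u}).card : ℝ) := by exact_mod_cast h7
  have h5 := mul_le_mul h7' (pow_le_pow_left₀ (by norm_num) h24' 2) (by norm_num)
    (Nat.cast_nonneg _)
  linarith

end CfsgLib.Small.Low
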