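import Cfsg.Agent.Lib.Small.TwentyOneMain
import Cfsg.Agent.Lib.Small.Fixed

/-!
No simple group has order 1440.
-/

set_option autoImplicit false

namespace CfsgLib.Small.Order1440

open Subgroup MulAction CfsgLib.Small CfsgLib.SylowNumber

set_option linter.unusedSectionVars false

section Aux

variable {G : Type*} [Group G] [Finite G]

theorem card_conj_mul (u : G) :
    Nat.card {g : G // IsConj u g} * Nat.card (centralizer ({u} : Set G)) = Nat.card G := by
  have h1 : Nat.card {g : G // IsConj u g} = Nat.card (orbit (ConjAct G) u) :=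
    Nat.card_congr (Equiv.subtypeEquivRight fun g => by
      rw [ConjAct.mem_orbit_conjAct]; exact isConj_comm)
  have h2 : Nat.card (stabilizer (ConjAct G) u) = Nat.card (centralizer ({u} : Set G)) := by
    refine Nat.card_congr (Equiv.subtypeEquiv ConjAct.ofConjAct.toEquiv fun a => ?_)
    simp only [MulEquiv.toEquiv_eq_coe, EquivLike.coe_coe, mem_stabilizer_iff, ConjAct.smul_def,
      mem_centralizer_singleton_iff]
    exact mul_inv_eq_iff_eq_mul
  rw [h1, ← h2, Nat.card_congr (orbitEquivQuotientStabilizer (ConjAct G) u), ← index_eq_card,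
    mul_comm, card_mul_index]
  exact Nat.card_congr ConjAct.ofConjAct.toEquiv

/-- The involution of a centraliser of order 10 is unique. -/
theorem involution_unique [Fact (Nat.Prime 5)] {H : Subgroup G} (hH : Nat.card H = 5)
    (hC : Nat.card (centralizer (H : Set G)) = 10) {u w : G} (hu : u ∈ centralizer (H : Set G))
    (hw : w ∈ centralizer (H : Set G)) (hu2 : orderOf u = 2) (hw2 : orderOf w = 2) : u = w := by
  have : Fact (Nat.Prime 2) := ⟨Nat.prime_two⟩
  set C := centralizer (H : Set G)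
  have hT : ∀ T : Sylow 2 C, Nat.card T = 2 := fun T => by
    simpa using card_sylow_of_card_eq (G := C) (p := 2) (k := 1) (m := 5)
      (by rw [hC]; norm_num) (by norm_num) T
  have hH' : H ≤ C := fun a ha => mem_centralizer_iff.mpr fun b hb => by
    have hcyc : IsCyclic H := isCyclic_of_prime_card hH
    let _ := IsCyclic.commGroup (α := H)
    exact congrArg Subtype.val (mul_comm (⟨b, hb⟩ : H) ⟨a, ha⟩)
  have hone : ∀ T : Sylow 2 C, Nat.card (Sylow 2 C) = 1 := by
    intro T
    have h10 : 10 ∣ Nat.card (normalizer ((T : Subgroup C) : Set C)) := by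
      refine Nat.Coprime.mul_dvd_of_dvd_of_dvd (by norm_num : Nat.Coprime 2 5)
        ((dvd_of_eq (hT T).symm).trans (card_dvd_of_le le_normalizer)) ?_
      refine (dvd_of_eq ((Nat.card_congr (subgroupOfEquivOfLe hH').toEquiv).trans hH).symm).trans
        (card_dvd_of_le (le_trans ?_ (centralizer_le_normalizer' _)))
      intro a ha
      rw [mem_centralizer_iff]
      intro b _
      exact Subtype.ext (mem_centralizer_iff.mp b.2 a (mem_subgroupOf.mp ha)).symm
    have hmul := card_normalizer_mul_card_sylow T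
    rw [hC] at hmul
    obtain ⟨k, hk⟩ := h10
    rw [hk, mul_assoc] at hmul
    exact Nat.eq_one_of_mul_eq_one_left (show k * Nat.card (Sylow 2 C) = 1 by omega)
  have hsub : Subsingleton (Sylow 2 C) := by
    obtain ⟨T⟩ := (inferInstance : Nonempty (Sylow 2 C))
    exact (Nat.card_eq_one_iff_unique.mp (hone T)).1
  obtain ⟨T, hTu, -⟩ := exists_unique_sylow_mem (g := (⟨u, hu⟩ : C))
    (by rw [Subgroup.orderOf_mk, hu2]) hT
  obtain ⟨T', hTw, -⟩ := exists_unique_sylow_mem (g := (⟨w, hw⟩ : C))
    (by rw [Subgroup.orderOf_mk, hw2]) hT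
  rw [hsub.elim T' T] at hTw
  replace hTw : (⟨w, hw⟩ : C) ∈ (T : Subgroup C) := hTw
  have hz := eq_zpowers_of_mem (hT T) hTu fun e => by
    have := congrArg Subtype.val e
    simp only [OneMemClass.coe_one] at this
    rw [this, orderOf_one] at hu2
    omega
  classical
  rw [hz, mem_zpowers_iff_mem_range_orderOf, Subgroup.orderOf_mk, hu2] at hTw
  obtain ⟨k, hk, e⟩ := Finset.mem_image.mp hTw
  rw [Finset.mem_range] at hk
  have e' : u ^ k = w := congrArg Subtype.val e
  interval_cases k
  · rw [pow_zero] at e'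
    rw [← e', orderOf_one] at hw2
    omega
  · rwa [pow_one] at e'

end Aux

variable {G : Type*} [Group G] [Finite G] [IsSimpleGroup G] [Fact (Nat.Prime 5)]

theorem nc (h : Nat.card G = 1440) : ¬ IsMulCommutative G :=
  nc_of_not_prime (by rw [h]; norm_num)

omit [IsSimpleGroup G] in
theorem card_five (h : Nat.card G = 1440) (Q : Sylow 5 G) : Nat.card Q = 5 := by
  simpa using card_sylow_of_card_eq (k := 1) (m := 288) (by rw [h]; norm_num) (by norm_num) Q

theorem card_sylow (h : Nat.card G = 1440) : Nat.card (Sylow 5 G) = 36 := by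
  classical
  have hdvd : 5 ∣ Nat.card G := by rw [h]; norm_num
  have hmem := card_sylow_mem (p := 5) (nc h) (k := 1) (m := 288) one_ne_zero
    (by rw [h]; norm_num) (by norm_num)
  have hcases : Nat.card (Sylow 5 G) = 6 ∨ Nat.card (Sylow 5 G) = 16 ∨
      Nat.card (Sylow 5 G) = 36 ∨ Nat.card (Sylow 5 G) = 96 :=
    (show ∀ d ∈ (Nat.divisors 288).filter fun n => n % 5 = 1 ∧ 1 < n,
      d = 6 ∨ d = 16 ∨ d = 36 ∨ d = 96 from by decide +kernel) _ hmem
  obtain ⟨P⟩ := (inferInstance : Nonempty (Sylow 5 G))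
  obtain ⟨e, he1, he2, ⟨c, hc⟩, -, hall⟩ := sylow_prime_order_data (nc h) P (card_five h P)
  rw [hc, h] at hall
  have he : e = 2 ∨ e = 4 :=
    (show ∀ d ∈ Nat.divisors (5 - 1), 1 < d → d = 2 ∨ d = 4 from by decide) e
      (Nat.mem_divisors.mpr ⟨he2, by norm_num⟩) he1
  rcases hcases with h6 | h16 | h36 | h96
  · exfalso
    have := two_mul_card_dvd_factorial_card_sylow (p := 5) (nc h) hdvd
    rw [h6, h] at this
    norm_num [Nat.factorial] at this
  · exfalso
    rw [h16] at hall
    have hc9 : c = 9 := by rcases he with rfl | rfl <;> omega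
    subst hc9
    have := Fintype.ofFinite (Sylow 5 G)
    have hn' : Fintype.card (Sylow 5 G) = 16 := by rw [← Nat.card_eq_fintype_card, h16]
    have : Fact (Nat.Prime 3) := ⟨Nat.prime_three⟩
    obtain ⟨R0, hR0⟩ := Sylow.exists_subgroup_card_pow_prime 3
      (show 3 ^ 2 ∣ Nat.card (centralizer ((P : Subgroup G) : Set G)) by rw [hc]; norm_num)
    set R := R0.map (centralizer ((P : Subgroup G) : Set G)).subtype
    have hRle : R ≤ centralizer ((P : Subgroup G) : Set G) := map_subtype_le R0
    have hRc : Nat.card R = 9 := by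
      rw [← Nat.card_congr (R0.equivMapOfInjective _ Subtype.val_injective).toEquiv, hR0]; norm_num
    have hfix : ∀ u ∈ R, u ≠ 1 → ∀ Q : Sylow 5 G, u • Q = Q → Q = P := by
      intro u hu hu1 Q hQ
      have hd := orderOf_dvd_natCard (⟨u, hu⟩ : R)
      rw [Subgroup.orderOf_mk, hRc] at hd
      obtain ⟨i, -, hi⟩ := (Nat.dvd_prime_pow Nat.prime_three).mp (show orderOf u ∣ 3 ^ 2 from hd)
      have hi0 : i ≠ 0 := fun e => hu1 (orderOf_eq_one_iff.mp (by rw [hi, e, pow_zero]))
      have hy := orderOf_pow_orderOf_div (orderOf_pos u).ne' (hi ▸ dvd_pow_self 3 hi0)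
      set y := u ^ (orderOf u / 3)
      have h1 : (fixFinset (Sylow 5 G) y).card % 5 = 1 :=
        TwentyOne.card_fix_mod_prime (card_five h) (P := P) (pow_mem (hRle hu) _)
      have h2 := card_fix_modEq (α := Sylow 5 G) (r := 3)
        (orderOf_dvd_iff_pow_eq_one.mp (dvd_of_eq hy))
      rw [hn', Nat.ModEq] at h2
      have h3 : (fixFinset (Sylow 5 G) y).card ≠ 16 := fun e' => by
        have := eq_one_of_fix_eq_univ (α := Sylow 5 G) (sylow_toPermHom_injective (nc h) hdvd)
          (e'.trans hn'.symm)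
        rw [this, orderOf_one] at hy
        omega
      have hle : (fixFinset (Sylow 5 G) y).card ≤ 16 := hn' ▸ Finset.card_le_univ _
      refine (Finset.card_le_one.mp (by omega : (fixFinset (Sylow 5 G) y).card ≤ 1)) Q
        (mem_fixFinset.mpr ?_) P (mem_fixFinset.mpr (Sylow.smul_eq_iff_mem_normalizer.mpr
          (centralizer_le_normalizer' _ (pow_mem (hRle hu) _))))
      exact (stabilizer G Q).pow_mem (show u ∈ stabilizer G Q from hQ) _
    have hd := dvd_card_of_orbits R (Finset.univ.erase P) (fun Q hQ u hu => ?_) (s := 9)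
      (fun Q hQ => ?_)
    · rw [Finset.card_erase_of_mem (Finset.mem_univ _), Finset.card_univ, hn'] at hd
      norm_num at hd
    · refine Finset.mem_erase.mpr ⟨fun e => (Finset.mem_erase.mp hQ).1 ?_, Finset.mem_univ _⟩
      have hPu : u • P = P :=
        Sylow.smul_eq_iff_mem_normalizer.mpr (centralizer_le_normalizer' _ (hRle hu))
      exact MulAction.injective u (e.trans hPu.symm)
    · rw [Nat.card_congr (orbitEquivQuotientStabilizer R Q), ← index_eq_card]
      have hbot : stabilizer R Q = ⊥ := by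
        rw [Subgroup.eq_bot_iff_forall]
        intro u hu
        by_contra hu1
        exact (Finset.mem_erase.mp hQ).1 (hfix u u.2 (fun e => hu1 (Subtype.ext e)) Q hu)
      rw [hbot, index_bot, hRc]
  · exact h36
  · exfalso
    rw [h96] at hall
    rcases he with rfl | rfl <;> omega

/-- An involution of `C(P)` fixes sixteen of the thirty-six Sylow subgroups. -/
theorem card_fix_involution (h : Nat.card G = 1440) [Fintype (Sylow 5 G)]
    [DecidableEq (Sylow 5 G)] {P : Sylow 5 G} {u : G} (hu : orderOf u = 2)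
    (huC : u ∈ centralizer ((P : Subgroup G) : Set G)) :
    (fixFinset (Sylow 5 G) u).card = 16 := by
  have hn' : Fintype.card (Sylow 5 G) = 36 := by rw [← Nat.card_eq_fintype_card, card_sylow h]
  have hdvd : 5 ∣ Nat.card G := by rw [h]; norm_num
  have h1 := TwentyOne.card_fix_mod_prime (card_five h) huC
  have h4 := four_dvd_card_support (α := Sylow 5 G) (orderOf_dvd_iff_pow_eq_one.mp (dvd_of_eq hu))
    (sign_toPerm (nc h) u)
  rw [hn'] at h4
  have h3 : (fixFinset (Sylow 5 G) u).card ≠ 36 := fun e' => by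
    have := eq_one_of_fix_eq_univ (α := Sylow 5 G) (sylow_toPermHom_injective (nc h) hdvd)
      (e'.trans hn'.symm)
    rw [this, orderOf_one] at hu
    omega
  have hle : (fixFinset (Sylow 5 G) u).card ≤ 36 := hn' ▸ Finset.card_le_univ _
  omega

theorem centralizer_dvd (h : Nat.card G = 1440) {P : Sylow 5 G} {u : G} (hu : orderOf u = 2)
    (huC : u ∈ centralizer ((P : Subgroup G) : Set G)) :
    Nat.card (centralizer ({u} : Set G)) ∣ 160 := by
  classical
  have := Fintype.ofFinite (Sylow 5 G)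
  have hf := card_fix_involution h hu huC
  have hform := card_fixedBy_mul_card_class (normalizer ((P : Subgroup G) : Set G)) u
  have hidx : (normalizer ((P : Subgroup G) : Set G)).index = 36 := by
    exact P.card_eq_index_normalizer.symm.trans (card_sylow h)
  have hfe : Nat.card (fixedBy (Sylow 5 G) u) = 16 := by
    rw [← hf, Nat.card_eq_fintype_card, fixFinset, ← Fintype.card_subtype]
    exact Fintype.card_congr (Equiv.subtypeEquivRight fun _ => Iff.rfl)
  rw [card_fixedBy_quotient_normalizer_eq, hfe, hidx] at hform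
  have hmul := card_conj_mul u
  rw [h] at hmul
  set cl := Nat.card {g : G // IsConj u g}
  set k := Nat.card {g : G // IsConj u g ∧ g ∈ normalizer ((P : Subgroup G) : Set G)}
  set z := Nat.card (centralizer ({u} : Set G))
  have h9 : 9 ∣ cl := (Nat.Coprime.dvd_mul_left (by norm_num : Nat.Coprime 9 16)).mp
    (hform ▸ Dvd.dvd.mul_right (by norm_num) k)
  obtain ⟨j, hj⟩ := h9
  refine ⟨j, ?_⟩
  rw [hj] at hmul
  have : 9 * j * z = 9 * (z * j) := by ring
  omega

theorem centralizer_conj (P : Sylow 5 G) (g : G) :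
    Nat.card (centralizer (((g • P : Sylow 5 G) : Subgroup G) : Set G)) =
      Nat.card (centralizer ((P : Subgroup G) : Set G)) := by
  refine (Nat.card_congr (Equiv.subtypeEquiv (MulAut.conj g).toEquiv fun a => ?_)).symm
  simp only [MulEquiv.toEquiv_eq_coe, EquivLike.coe_coe, MulAut.conj_apply, mem_centralizer_iff,
    SetLike.mem_coe, Sylow.coe_subgroup_smul]
  constructor
  · rintro ha _ ⟨b, hb, rfl⟩
    show g * b * g⁻¹ * (g * a * g⁻¹) = g * a * g⁻¹ * (g * b * g⁻¹)
    calc g * b * g⁻¹ * (g * a * g⁻¹) = g * (b * a) * g⁻¹ := by group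
      _ = g * (a * b) * g⁻¹ := by rw [ha b hb]
      _ = g * a * g⁻¹ * (g * b * g⁻¹) := by group
  · intro ha b hb
    have h := ha (g * b * g⁻¹) ⟨b, hb, rfl⟩
    calc b * a = g⁻¹ * (g * b * g⁻¹ * (g * a * g⁻¹)) * g := by group
      _ = g⁻¹ * (g * a * g⁻¹ * (g * b * g⁻¹)) * g := by rw [h]
      _ = a * b := by group

theorem order_cases (h : Nat.card G = 1440) :
    ∀ P : Sylow 5 G,
      Nat.card (normalizer ((P : Subgroup G) : Set G)) = 40 ∧
      (Nat.card (centralizer ((P : Subgroup G) : Set G)) = 10 ∨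
        Nat.card (centralizer ((P : Subgroup G) : Set G)) = 20) := by
  intro P
  obtain ⟨e, he1, he2, -, hCe, hall⟩ := sylow_prime_order_data (nc h) P (card_five h P)
  rw [card_sylow h, h] at hall
  have he : e = 2 ∨ e = 4 :=
    (show ∀ d ∈ Nat.divisors (5 - 1), 1 < d → d = 2 ∨ d = 4 from by decide) e
      (Nat.mem_divisors.mpr ⟨he2, by norm_num⟩) he1
  rcases he with rfl | rfl <;> omega

omit [IsSimpleGroup G] in
theorem le_normalizer_zpowers {x g : G} (h : g * x * g⁻¹ ∈ zpowers x) :
    g ∈ normalizer ((zpowers x : Subgroup G) : Set G) := by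
  rw [mem_normalizer_iff_map_conj_eq]
  refine eq_of_le_of_card_ge ?_ ?_
  · rw [MonoidHom.map_zpowers, zpowers_le]
    exact h
  · rw [← Nat.card_congr
      ((zpowers x).equivMapOfInjective _ (MulAut.conj g).injective).toEquiv]

/-- Elements of order 5 commuting with an involution of `C(P)` lie in `P`. -/
theorem mem_of_commute (h : Nat.card G = 1440) {P : Sylow 5 G} {u y : G} (hu : orderOf u = 2)
    (huC : u ∈ centralizer ((P : Subgroup G) : Set G))
    (h20 : ∃ K : Subgroup G, 20 ∣ Nat.card K ∧ K ≤ centralizer ({u} : Set G) ∧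
      K ≤ normalizer ((P : Subgroup G) : Set G))
    (hy : orderOf y = 5) (huy : Commute u y) : y ∈ (P : Subgroup G) := by
  classical
  set D := centralizer ({u} : Set G)
  have hPD : (P : Subgroup G) ≤ D := fun a ha =>
    mem_centralizer_singleton_iff.mpr (mem_centralizer_iff.mp huC a ha)
  set P' := P.subtype hPD
  obtain ⟨K, hK, hKD, hKN⟩ := h20
  have hP'5 : ∀ R : Sylow 5 D, Nat.card R = 5 := by
    intro R
    rw [card_sylow_subgroup_eq R P']
    exact (Nat.card_congr (subgroupOfEquivOfLe hPD).toEquiv).trans (card_five h P)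
  have hKle : 20 ∣ Nat.card (normalizer ((P' : Subgroup D) : Set D)) := by
    refine (hK.trans (dvd_of_eq (Nat.card_congr (subgroupOfEquivOfLe hKD).toEquiv).symm)).trans
      (card_dvd_of_le ?_)
    intro a ha
    rw [mem_normalizer_iff]
    intro b
    rw [Sylow.coe_subtype, mem_subgroupOf, mem_subgroupOf]
    exact mem_normalizer_iff.mp (hKN (mem_subgroupOf.mp ha)) b
  have hone : Nat.card (Sylow 5 D) = 1 := by
    obtain ⟨k, hk⟩ := hKle
    have hmul := card_normalizer_mul_card_sylow P'
    rw [hk, mul_assoc] at hmul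
    have hd : k * Nat.card (Sylow 5 D) ∣ 8 := by
      have : 20 * (k * Nat.card (Sylow 5 D)) ∣ 20 * 8 := hmul ▸ centralizer_dvd h hu huC
      exact (Nat.mul_dvd_mul_iff_left (by norm_num : 0 < 20)).mp this
    have hmod := card_sylow_modEq_one 5 D
    rw [Nat.ModEq] at hmod
    exact (show ∀ d ∈ Nat.divisors 8, d % 5 = 1 → d = 1 from by decide) _
      (Nat.mem_divisors.mpr ⟨(Dvd.intro_left _ rfl).trans hd, by norm_num⟩) (by omega)
  have hsub := (Nat.card_eq_one_iff_unique.mp hone).1
  obtain ⟨R, hR, -⟩ := exists_unique_sylow_mem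
    (g := (⟨y, mem_centralizer_singleton_iff.mpr huy.symm.eq⟩ : D))
    (by rw [Subgroup.orderOf_mk, hy]) hP'5
  rw [hsub.elim R P'] at hR
  exact mem_subgroupOf.mp hR

theorem false_of_ten (h : Nat.card G = 1440) (P : Sylow 5 G)
    (hC : Nat.card (centralizer ((P : Subgroup G) : Set G)) = 10) : False := by
  classical
  have : Fact (Nat.Prime 2) := ⟨Nat.prime_two⟩
  have := Fintype.ofFinite (Sylow 5 G)
  have := Fintype.ofFinite G
  have hCQ : ∀ Q : Sylow 5 G, Nat.card (centralizer ((Q : Subgroup G) : Set G)) = 10 := by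
    intro Q
    obtain ⟨g, rfl⟩ := MulAction.exists_smul_eq G P Q
    rw [centralizer_conj, hC]
  have hinv : ∀ Q : Sylow 5 G, ∃ w, orderOf w = 2 ∧
      w ∈ centralizer ((Q : Subgroup G) : Set G) := by
    intro Q
    obtain ⟨⟨w, hw⟩, hw2⟩ := exists_prime_orderOf_dvd_card'
      (G := centralizer ((Q : Subgroup G) : Set G)) 2 (by rw [hCQ Q]; norm_num)
    exact ⟨w, by rwa [Subgroup.orderOf_mk] at hw2, hw⟩
  choose w hw2 hwC using hinv
  have huniq : ∀ (Q : Sylow 5 G) (u : G), orderOf u = 2 → u ∈ centralizer ((Q : Subgroup G) : Set G) → u = w Q :=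
    fun Q u hu huC => involution_unique (card_five h Q) (hCQ Q) huC (hwC Q) hu (hw2 Q)
  -- `N(Q)` centralises `w Q`
  have hNc : ∀ Q : Sylow 5 G, ∀ g ∈ normalizer ((Q : Subgroup G) : Set G), g * w Q * g⁻¹ = w Q := by
    intro Q g hg
    refine huniq Q _ ?_ ?_
    · rw [← hw2 Q]; exact (SemiconjBy.orderOf_eq g (show SemiconjBy g (w Q) _ by simp [SemiconjBy])).symm
    · rw [mem_centralizer_iff]
      intro b hb
      have hb' := (mem_normalizer_iff''.mp hg b).mp hb
      have := mem_centralizer_iff.mp (hwC Q) _ hb'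
      calc b * (g * w Q * g⁻¹) = g * (g⁻¹ * b * g * w Q) * g⁻¹ := by group
        _ = g * (w Q * (g⁻¹ * b * g)) * g⁻¹ := by rw [this]
        _ = g * w Q * g⁻¹ * b := by group
  have hNle : ∀ Q : Sylow 5 G, normalizer ((Q : Subgroup G) : Set G) ≤ centralizer ({w Q} : Set G) :=
    fun Q g hg => mem_centralizer_singleton_iff.mpr (mul_inv_eq_iff_eq_mul.mp (hNc Q g hg))
  have h20 : ∀ Q : Sylow 5 G, ∃ K : Subgroup G, 20 ∣ Nat.card K ∧
      K ≤ centralizer ({w Q} : Set G) ∧ K ≤ normalizer ((Q : Subgroup G) : Set G) :=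
    fun Q => ⟨_, by rw [(order_cases h Q).1]; norm_num, hNle Q, le_rfl⟩
  obtain ⟨⟨x, hxP⟩, hx⟩ := exists_prime_orderOf_dvd_card' (G := (P : Subgroup G)) 5
    (by rw [card_five h P])
  rw [Subgroup.orderOf_mk] at hx
  have hPx : (P : Subgroup G) = zpowers x :=
    eq_zpowers_of_mem (card_five h P) hxP (fun e => by rw [e, orderOf_one] at hx; omega)
  -- the centraliser of `w P` is `N(P)`
  have hCw : centralizer ({w P} : Set G) ≤ normalizer ((P : Subgroup G) : Set G) := by
    intro g hg
    rw [mem_centralizer_singleton_iff] at hg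
    have hy : orderOf (g * x * g⁻¹) = 5 := by
      rw [← hx]; exact (SemiconjBy.orderOf_eq g (show SemiconjBy g x _ by simp [SemiconjBy])).symm
    have hcomm : Commute (w P) (g * x * g⁻¹) := by
      refine Commute.mul_right (Commute.mul_right hg.symm ?_) (Commute.inv_right hg.symm)
      exact (mem_centralizer_iff.mp (hwC P) x hxP).symm
    have hmem := mem_of_commute h (hw2 P) (hwC P) (h20 P) hy hcomm
    rw [hPx] at hmem ⊢
    exact le_normalizer_zpowers hmem
  -- involutions of `N(P)`
  have hbound : ((Finset.univ.filter fun g : G => orderOf g = 2 ∧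
      g ∈ normalizer ((P : Subgroup G) : Set G))).card ≤ 11 := by
    set C := centralizer ((P : Subgroup G) : Set G)
    set B := Finset.univ.filter fun g : G => orderOf g = 2 ∧
      g ∈ normalizer ((P : Subgroup G) : Set G)
    have hsplit : ∀ g ∈ B, g ≠ w P → g * x * g⁻¹ = x⁻¹ := by
      intro g hg hgw
      obtain ⟨-, hg2, hgN⟩ := Finset.mem_filter.mp hg
      have hgg : g * g = 1 := by
        rw [← pow_two]; exact orderOf_dvd_iff_pow_eq_one.mp (dvd_of_eq hg2)
      have hyP : g * x * g⁻¹ ∈ (P : Subgroup G) := (mem_normalizer_iff.mp hgN x).mp hxP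
      by_contra hne
      refine hgw (huniq P g hg2 ?_)
      set y := g * x * g⁻¹ with hy
      have hxy : x * y ≠ 1 := fun e => hne (eq_inv_of_mul_eq_one_right e)
      have hgen : (P : Subgroup G) = zpowers (x * y) :=
        eq_zpowers_of_mem (card_five h P) (mul_mem hxP hyP) hxy
      have hgy : g * y * g⁻¹ = x := by
        rw [hy, show g * (g * x * g⁻¹) * g⁻¹ = g * g * x * (g * g)⁻¹ by group, hgg]
        simp
      have hc : Commute x y := by
        have hcyc : IsCyclic (P : Subgroup G) := isCyclic_of_prime_card (card_five h P)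
        let _ := IsCyclic.commGroup (α := (P : Subgroup G))
        exact congrArg Subtype.val (mul_comm (⟨x, hxP⟩ : (P : Subgroup G)) ⟨y, hyP⟩)
      have hfix : g * (x * y) * g⁻¹ = x * y := by
        calc g * (x * y) * g⁻¹ = (g * x * g⁻¹) * (g * y * g⁻¹) := by group
          _ = y * x := by rw [hgy]
          _ = x * y := hc.eq.symm
      rw [hgen, mem_centralizer_iff]
      intro b hb
      obtain ⟨k, rfl⟩ := mem_zpowers_iff.mp hb
      exact ((show Commute g (x * y) from mul_inv_eq_iff_eq_mul.mp hfix).zpow_right k).symm.eq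
    by_cases hsub : B ⊆ {w P}
    · have := Finset.card_le_card hsub
      rw [Finset.card_singleton] at this
      omega
    obtain ⟨g0, hg0, hg0w⟩ := Finset.not_subset.mp hsub
    rw [Finset.mem_singleton] at hg0w
    have hcover : B ⊆ insert (w P)
        ((Finset.univ.filter fun a : G => a ∈ C).image fun a => g0 * a) := by
      intro g hg
      by_cases hgw : g = w P
      · exact Finset.mem_insert.mpr (Or.inl hgw)
      refine Finset.mem_insert.mpr (Or.inr (Finset.mem_image.mpr ⟨g0⁻¹ * g, ?_,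
        mul_inv_cancel_left _ _⟩))
      refine Finset.mem_filter.mpr ⟨Finset.mem_univ _, ?_⟩
      have e1 := hsplit g hg hgw
      have e0 := hsplit g0 hg0 hg0w
      have hfix : g0⁻¹ * g * x * (g0⁻¹ * g)⁻¹ = x := by
        calc g0⁻¹ * g * x * (g0⁻¹ * g)⁻¹ = g0⁻¹ * (g * x * g⁻¹) * g0 := by group
          _ = g0⁻¹ * (g0 * x * g0⁻¹) * g0 := by rw [e1, e0]
          _ = x := by group
      show g0⁻¹ * g ∈ centralizer ((P : Subgroup G) : Set G)
      rw [hPx, mem_centralizer_iff]
      intro b hb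
      obtain ⟨k, rfl⟩ := mem_zpowers_iff.mp hb
      exact ((show Commute (g0⁻¹ * g) x from mul_inv_eq_iff_eq_mul.mp hfix).zpow_right k).symm.eq
    have h1 := Finset.card_le_card hcover
    have h2 := Finset.card_insert_le (w P)
      ((Finset.univ.filter fun a : G => a ∈ C).image fun a => g0 * a)
    have h3 := Finset.card_image_le (s := Finset.univ.filter fun a : G => a ∈ C)
      (f := fun a => g0 * a)
    have h4 : (Finset.univ.filter fun a : G => a ∈ C).card = 10 := by
      rw [← hC, Nat.card_eq_fintype_card, Fintype.card_subtype]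
    omega
  have h16 := card_fix_involution h (hw2 P) (hwC P)
  have hmaps : Set.MapsTo w ↑(fixFinset (Sylow 5 G) (w P))
      ↑(Finset.univ.filter fun g : G => orderOf g = 2 ∧
        g ∈ normalizer ((P : Subgroup G) : Set G)) := by
    intro Q hQ
    rw [Finset.mem_coe, mem_fixFinset] at hQ
    refine Finset.mem_filter.mpr ⟨Finset.mem_univ _, hw2 Q, hCw ?_⟩
    rw [mem_centralizer_singleton_iff]
    exact (mem_centralizer_singleton_iff.mp
      (hNle Q (Sylow.smul_eq_iff_mem_normalizer.mp hQ))).symm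
  have hinj : Set.InjOn w ↑(fixFinset (Sylow 5 G) (w P)) := by
    intro Q _ R _ e
    obtain ⟨⟨y, hyR⟩, hy⟩ := exists_prime_orderOf_dvd_card' (G := (R : Subgroup G)) 5
      (by rw [card_five h R])
    rw [Subgroup.orderOf_mk] at hy
    have hyQ := mem_of_commute h (hw2 Q) (hwC Q) (h20 Q) hy
      (e ▸ (mem_centralizer_iff.mp (hwC R) y hyR).symm)
    exact (exists_unique_sylow_mem hy (card_five h)).unique hyQ hyR
  have := Finset.card_le_card_of_injOn w hmaps hinj
  omega

theorem false_of_twenty (h : Nat.card G = 1440) (P : Sylow 5 G)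
    (hC : Nat.card (centralizer ((P : Subgroup G) : Set G)) = 20) : False := by
  classical
  have : Fact (Nat.Prime 2) := ⟨Nat.prime_two⟩
  have := Fintype.ofFinite (Sylow 5 G)
  set C := centralizer ((P : Subgroup G) : Set G) with hCdef
  obtain ⟨U0, hU0⟩ := Sylow.exists_subgroup_card_pow_prime 2
    (show 2 ^ 2 ∣ Nat.card C by rw [hC]; norm_num)
  set U := U0.map C.subtype
  have hUle : U ≤ C := map_subtype_le U0
  have hUc : Nat.card U = 2 ^ 2 := by
    rw [← Nat.card_congr (U0.equivMapOfInjective _ Subtype.val_injective).toEquiv, hU0]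
  have hUcomm : IsMulCommutative U := IsPGroup.isMulCommutative_of_card_eq_prime_sq hUc
  have hPC : (P : Subgroup G) ≤ C := fun a ha => mem_centralizer_iff.mpr fun b hb => by
    have hcyc : IsCyclic (P : Subgroup G) := isCyclic_of_prime_card (card_five h P)
    let _ := IsCyclic.commGroup (α := (P : Subgroup G))
    exact congrArg Subtype.val (mul_comm (⟨b, hb⟩ : (P : Subgroup G)) ⟨a, ha⟩)
  have h20 : ∀ u ∈ U, ∃ K : Subgroup G, 20 ∣ Nat.card K ∧ K ≤ centralizer ({u} : Set G) ∧
      K ≤ normalizer ((P : Subgroup G) : Set G) := by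
    intro u hu
    refine ⟨(P : Subgroup G) ⊔ U, ?_, sup_le ?_ ?_, sup_le le_normalizer
      (hUle.trans (centralizer_le_normalizer' _))⟩
    · refine Nat.Coprime.mul_dvd_of_dvd_of_dvd (by norm_num : Nat.Coprime 4 5)
        ((dvd_of_eq (hUc.trans (by norm_num)).symm).trans (card_dvd_of_le le_sup_right))
        ((dvd_of_eq (card_five h P).symm).trans (card_dvd_of_le le_sup_left))
    · exact fun a ha => mem_centralizer_singleton_iff.mpr (mem_centralizer_iff.mp (hUle hu) a ha)
    · exact fun a ha => mem_centralizer_singleton_iff.mpr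
        (congrArg Subtype.val (hUcomm.is_comm.comm ⟨a, ha⟩ ⟨u, hu⟩))
  obtain ⟨⟨v, hvU⟩, hv⟩ := exists_prime_orderOf_dvd_card' (G := U) 2 (by rw [hUc]; norm_num)
  rw [Subgroup.orderOf_mk] at hv
  set A := (fixFinset (Sylow 5 G) v).erase P
  have hPfix : ∀ u ∈ U, u • P = P := fun u hu =>
    Sylow.smul_eq_iff_mem_normalizer.mpr (centralizer_le_normalizer' _ (hUle hu))
  have hA : A.card = 15 := by
    rw [Finset.card_erase_of_mem (mem_fixFinset.mpr (hPfix v hvU)),
      card_fix_involution h hv (hUle hvU)]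
  have hinvA : ∀ Q ∈ A, ∀ u ∈ U, u • Q ∈ A := by
    intro Q hQ u hu
    obtain ⟨hQP, hQv⟩ := Finset.mem_erase.mp hQ
    refine Finset.mem_erase.mpr
      ⟨fun e => hQP (MulAction.injective u (e.trans (hPfix u hu).symm)), ?_⟩
    rw [mem_fixFinset] at hQv ⊢
    have hc : v * u = u * v := congrArg Subtype.val (hUcomm.is_comm.comm ⟨v, hvU⟩ ⟨u, hu⟩)
    rw [← mul_smul, hc, mul_smul, hQv]
  obtain ⟨Q, hQA, hQfix⟩ : ∃ Q ∈ A, ∀ u ∈ U, u • Q = Q := by
    by_contra hno
    push Not at hno
    have hd := dvd_card_of_orbits U A hinvA (s := 2) (fun Q hQ => ?_)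
    · rw [hA] at hd; norm_num at hd
    · obtain ⟨u, hu, hne⟩ := hno Q hQ
      rw [Nat.card_congr (orbitEquivQuotientStabilizer U Q), ← index_eq_card]
      obtain ⟨i, -, hi⟩ := (Nat.dvd_prime_pow Nat.prime_two).mp
        (hUc ▸ (stabilizer U Q).index_dvd_card)
      rw [hi]
      refine dvd_pow_self 2 fun e0 => hne ?_
      rw [e0, pow_zero, index_eq_one] at hi
      exact (hi ▸ mem_top _ : (⟨u, hu⟩ : U) ∈ stabilizer U Q)
  obtain ⟨hQP, -⟩ := Finset.mem_erase.mp hQA
  have hCQ : Nat.card (centralizer ((Q : Subgroup G) : Set G)) = 20 := by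
    obtain ⟨g, rfl⟩ := MulAction.exists_smul_eq G P Q
    rw [centralizer_conj, hC]
  set CQ := centralizer ((Q : Subgroup G) : Set G) with hCQdef
  have hrel : CQ.relIndex (normalizer ((Q : Subgroup G) : Set G)) = 2 := by
    have := card_centralizer_mul_relIndex (Q : Subgroup G)
    rw [← hCQdef, hCQ, (order_cases h Q).1] at this
    omega
  have hUN : U ≤ normalizer ((Q : Subgroup G) : Set G) := fun u hu =>
    Sylow.smul_eq_iff_mem_normalizer.mp (hQfix u hu)
  have hne : CQ ⊓ U ≠ ⊥ := by
    intro hbot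
    have h1 : CQ.relIndex U ≤ 2 := hrel ▸ relIndex_le_of_le_right hUN index_ne_zero_of_finite
    rw [← inf_relIndex_right, hbot, relIndex_bot_left, hUc] at h1
    norm_num at h1
  obtain ⟨⟨u, huQ, huU⟩, hu1⟩ := ne_bot_iff_exists_ne_one.mp hne
  have hu1' : u ≠ 1 := fun e => hu1 (Subtype.ext e)
  have hd := orderOf_dvd_natCard (⟨u, huU⟩ : U)
  rw [Subgroup.orderOf_mk, hUc] at hd
  obtain ⟨i, -, hi⟩ := (Nat.dvd_prime_pow Nat.prime_two).mp hd
  have hi0 : i ≠ 0 := fun e => hu1' (orderOf_eq_one_iff.mp (by rw [hi, e, pow_zero]))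
  have hy := orderOf_pow_orderOf_div (orderOf_pos u).ne' (hi ▸ dvd_pow_self 2 hi0)
  obtain ⟨⟨x, hxQ⟩, hx⟩ := exists_prime_orderOf_dvd_card' (G := (Q : Subgroup G)) 5
    (by rw [card_five h Q])
  rw [Subgroup.orderOf_mk] at hx
  have hxP := mem_of_commute h hy (hUle (pow_mem huU _)) (h20 _ (pow_mem huU _)) hx
    ((show Commute u x from (mem_centralizer_iff.mp huQ x hxQ).symm).pow_left _)
  exact hQP ((exists_unique_sylow_mem hx (card_five h)).unique hxQ hxP)

omit [Fact (Nat.Prime 5)] in
theorem card_ne {G : Type*} [Group G] [Finite G] [IsSimpleGroup G] : Nat.card G ≠ 1440 := by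
  intro h
  have : Fact (Nat.Prime 5) := ⟨by norm_num⟩
  obtain ⟨P⟩ := (inferInstance : Nonempty (Sylow 5 G))
  rcases (order_cases h P).2 with hC | hC
  · exact false_of_ten h P hC
  · exact false_of_twenty h P hC

end CfsgLib.Small.Order1440
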