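import Cfsg.Agent.Lib.Small.AbelianFocal
import Cfsg.Agent.Lib.Small.Fixed
import Cfsg.Agent.Lib.SylowNumber.Action

/-!
Simple groups of order 504: Sylow structure.
-/

set_option autoImplicit false

namespace CfsgLib.Small.Order504

open Subgroup MulAction CfsgLib.Small

variable {G : Type*} [Group G] [Finite G]

theorem nc [IsSimpleGroup G] (h : Nat.card G = 504) : ¬ IsMulCommutative G :=
  nc_of_not_prime (by rw [h]; norm_num)

theorem card_seven [Fact (Nat.Prime 7)] (h : Nat.card G = 504) (P : Sylow 7 G) :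
    Nat.card P = 7 := by
  simpa using card_sylow_of_card_eq (k := 1) (m := 72) (by rw [h]; norm_num) (by norm_num) P

theorem card_three [Fact (Nat.Prime 3)] (h : Nat.card G = 504) (P : Sylow 3 G) :
    Nat.card P = 9 := by
  simpa using card_sylow_of_card_eq (k := 2) (m := 56) (by rw [h]; norm_num) (by norm_num) P

theorem card_two [Fact (Nat.Prime 2)] (h : Nat.card G = 504) (P : Sylow 2 G) :
    Nat.card P = 8 := by
  simpa using card_sylow_of_card_eq (k := 3) (m := 63) (by rw [h]; norm_num) (by norm_num) P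

/-- An element of order 7 of a permutation group of degree 8 centralises nothing but itself. -/
theorem card_centralizer_perm_dvd {α : Type*} [Fintype α] [DecidableEq α] {p : ℕ}
    [hp : Fact p.Prime] (hp2 : Fintype.card α < 2 * p) {g : Equiv.Perm α}
    (hg : orderOf g = p) :
    Nat.card (centralizer ({g} : Set (Equiv.Perm α))) = (Fintype.card α - p).factorial * p := by
  obtain ⟨k, hk⟩ := Equiv.Perm.cycleType_prime_order (hg.symm ▸ hp.out : (orderOf g).Prime)
  rw [hg] at hk
  have hle : g.cycleType.sum ≤ Fintype.card α := by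
    rw [Equiv.Perm.sum_cycleType]; exact Finset.card_le_univ _
  rw [hk, Multiset.sum_replicate, smul_eq_mul] at hle
  obtain rfl : k = 0 := by
    by_contra hk0
    have : 2 * p ≤ (k + 1) * p := Nat.mul_le_mul_right p (by omega)
    omega
  rw [Equiv.Perm.nat_card_centralizer, hk]
  simp

omit [Finite G] in
/-- The centraliser of an element embeds in the centraliser of its image. -/
theorem card_centralizer_dvd_of_injective {H : Type*} [Group H] [Finite H] {φ : G →* H}
    (hφ : Function.Injective φ) (g : G) :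
    Nat.card (centralizer ({g} : Set G)) ∣ Nat.card (centralizer ({φ g} : Set H)) := by
  refine card_dvd_of_injective (((φ.comp (centralizer ({g} : Set G)).subtype)).codRestrict _
    fun c => ?_) (fun a b hab => Subtype.ext (hφ (congrArg Subtype.val hab)))
  rw [mem_centralizer_singleton_iff]
  show φ c * φ g = φ g * φ c
  rw [← map_mul, ← map_mul, mem_centralizer_singleton_iff.mp c.2]

omit [Finite G] in
theorem centralizer_eq_of_zpowers {P : Subgroup G} {x : G} (hP : P = zpowers x) :
    centralizer (P : Set G) = centralizer ({x} : Set G) := by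
  ext g
  rw [mem_centralizer_iff, mem_centralizer_singleton_iff]
  constructor
  · intro hg; exact (hg x (hP ▸ mem_zpowers x)).symm
  · intro hg y hy
    rw [SetLike.mem_coe, hP, mem_zpowers_iff] at hy
    obtain ⟨n, rfl⟩ := hy
    exact (Commute.zpow_left (show Commute x g from hg.symm) n).eq

variable [IsSimpleGroup G]

theorem seven_data [Fact (Nat.Prime 7)] (h : Nat.card G = 504) :
    Nat.card (Sylow 7 G) = 36 ∧ ∀ P : Sylow 7 G,
      Nat.card (normalizer ((P : Subgroup G) : Set G)) = 14 ∧
      Nat.card (centralizer ((P : Subgroup G) : Set G)) = 7 := by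
  classical
  have hm := card_sylow_mem (p := 7) (nc h) (k := 1) (m := 72) one_ne_zero
    (by rw [h]; norm_num) (by norm_num)
  rw [show ((Nat.divisors 72).filter fun n => n % 7 = 1 ∧ 1 < n) = {8, 36} from by decide] at hm
  simp only [Finset.mem_insert, Finset.mem_singleton] at hm
  have hm36 : Nat.card (Sylow 7 G) = 36 := by
    rcases hm with hm | hm
    · exfalso
      obtain ⟨P⟩ := (inferInstance : Nonempty (Sylow 7 G))
      obtain ⟨e, he1, he2, -, -, hall⟩ := sylow_prime_order_data (nc h) P (card_seven h P)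
      obtain ⟨x, hx⟩ := exists_prime_orderOf_dvd_card' (G := G) 7 (by rw [h]; norm_num)
      obtain ⟨Q, hQ, -⟩ := exists_unique_sylow_mem hx (card_seven h)
      have hQx : (Q : Subgroup G) = zpowers x := eq_zpowers_of_mem (card_seven h Q) hQ
        (fun e => by rw [e, orderOf_one] at hx; omega)
      obtain ⟨e', he1', he2', -, -, hall'⟩ := sylow_prime_order_data (nc h) Q (card_seven h Q)
      have := Fintype.ofFinite (Sylow 7 G)
      have hne := sylow_normalizer_ne_top (nc h) (by rw [h]; norm_num) Q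
      let φ := toPermHom G (G ⧸ normalizer ((Q : Subgroup G) : Set G))
      have hφ : Function.Injective φ := toPermHom_injective hne
      have := Fintype.ofFinite (G ⧸ normalizer ((Q : Subgroup G) : Set G))
      have hc8 : Fintype.card (G ⧸ normalizer ((Q : Subgroup G) : Set G)) = 8 := by
        rw [← Nat.card_eq_fintype_card]
        exact Q.card_eq_card_quotient_normalizer.symm.trans hm
      have hd := card_centralizer_dvd_of_injective hφ x
      rw [card_centralizer_perm_dvd (p := 7) (by omega)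
        (by rw [orderOf_injective φ hφ, hx]), hc8, ← centralizer_eq_of_zpowers hQx] at hd
      norm_num [Nat.factorial] at hd
      have hc := Nat.le_of_dvd (by norm_num) hd
      rw [hm, h] at hall'
      have := Nat.le_of_dvd (by norm_num) he2'
      have : Nat.card (centralizer ((Q : Subgroup G) : Set G)) * e' ≤ 7 * 6 :=
        Nat.mul_le_mul hc (by omega)
      omega
    · exact hm
  refine ⟨hm36, fun P => ?_⟩
  obtain ⟨e, he1, he2, hpC, hCe, hall⟩ := sylow_prime_order_data (nc h) P (card_seven h P)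
  rw [hm36, h] at hall
  obtain ⟨c, hc⟩ := hpC
  rw [hc] at hall hCe ⊢
  have h2 : c * e = 2 := by
    rw [mul_assoc 7 c e] at hall; omega
  have hc1 : c ∣ 2 := Dvd.intro e h2
  rcases (Nat.dvd_prime Nat.prime_two).mp hc1 with rfl | rfl <;> omega

/-- An involution inverting an element of order 7. -/
theorem exists_inverting_seven [Fact (Nat.Prime 7)] (h : Nat.card G = 504) (P : Sylow 7 G) {x : G}
    (hx : x ∈ (P : Subgroup G)) (hx1 : x ≠ 1) :
    ∃ z : G, orderOf z = 2 ∧ z * x * z⁻¹ = x⁻¹ := by
  obtain ⟨hN, hC⟩ := (seven_data h).2 P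
  have : Fact (Nat.Prime 2) := ⟨Nat.prime_two⟩
  obtain ⟨⟨z, hz⟩, hz2⟩ := exists_prime_orderOf_dvd_card'
    (G := normalizer ((P : Subgroup G) : Set G)) 2 (by rw [hN]; norm_num)
  rw [Subgroup.orderOf_mk] at hz2
  have hPx := eq_zpowers_of_mem (card_seven h P) hx hx1
  have hxo : orderOf x = 7 := by rw [← Nat.card_zpowers, ← hPx, card_seven h P]
  refine ⟨z, hz2, conj_eq_inv_of_sq_commute hxo (hPx ▸ hz) (fun e => ?_) ?_⟩
  · have hzC : z ∈ centralizer ((P : Subgroup G) : Set G) := by
      rw [centralizer_eq_of_zpowers hPx, mem_centralizer_singleton_iff]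
      exact mul_inv_eq_iff_eq_mul.mp e
    have := orderOf_dvd_natCard (⟨z, hzC⟩ : centralizer ((P : Subgroup G) : Set G))
    rw [Subgroup.orderOf_mk, hC, hz2] at this
    norm_num at this
  · have h1 : z * z = 1 := by rw [← pow_two]; exact orderOf_dvd_iff_pow_eq_one.mp (dvd_of_eq hz2)
    rw [h1]; simp

theorem index_ne_seven (h : Nat.card G = 504) (H : Subgroup G) : H.index ≠ 7 := by
  classical
  intro hi
  have : Fact (Nat.Prime 7) := ⟨by norm_num⟩
  have : Fact (Nat.Prime 2) := ⟨Nat.prime_two⟩
  obtain ⟨x, hx⟩ := exists_prime_orderOf_dvd_card' (G := G) 7 (by rw [h]; norm_num)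
  obtain ⟨P, hP, -⟩ := exists_unique_sylow_mem hx (card_seven h)
  have hx1 : x ≠ 1 := fun e => by rw [e, orderOf_one] at hx; omega
  obtain ⟨z, hz, hzx⟩ := exists_inverting_seven h P hP hx1
  have hHne : H ≠ ⊤ := fun e => by rw [e, index_top] at hi; omega
  have hinj : Function.Injective (toPermHom G (G ⧸ H)) := toPermHom_injective hHne
  have := Fintype.ofFinite (G ⧸ H)
  have hc : Fintype.card (G ⧸ H) = 7 := by
    rw [← Nat.card_eq_fintype_card, ← index_eq_card, hi]
  -- `x` moves every point
  have hfix : ∀ a : G ⧸ H, ∀ i : ℕ, x ^ i • a = a → 7 ∣ i := by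
    intro a i hia
    by_contra hni
    obtain ⟨g, rfl⟩ := QuotientGroup.mk_surjective a
    rw [smul_mk_eq_self_iff] at hia
    have := orderOf_dvd_natCard (⟨_, hia⟩ : H)
    rw [Subgroup.orderOf_mk, show g⁻¹ * x ^ i * g = MulAut.conj g⁻¹ (x ^ i) by simp,
      MulEquiv.orderOf_eq] at this
    have h7 : orderOf (x ^ i) = 7 := by
      rw [Nat.Coprime.orderOf_pow (by rw [hx]; exact (Nat.Prime.coprime_iff_not_dvd (by norm_num)).mpr hni), hx]
    have hmul := card_mul_index H
    rw [hi, h] at hmul
    rw [h7, show Nat.card H = 72 by omega] at this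
    norm_num at this
  have hbij : ∀ a : G ⧸ H, Function.Bijective fun i : Fin 7 => x ^ (i : ℕ) • a := by
    intro a
    refine (Fintype.bijective_iff_injective_and_card _).mpr ⟨?_, by rw [hc, Fintype.card_fin]⟩
    intro i j hij
    have key : ∀ i j : Fin 7, (i : ℕ) ≤ j → x ^ (i : ℕ) • a = x ^ (j : ℕ) • a → i = j := by
      intro i j hle hij
      have h2 : x ^ ((j : ℕ) - i) • a = a := by
        refine MulAction.injective (x ^ (i : ℕ)) ?_
        show x ^ (i : ℕ) • x ^ ((j : ℕ) - i) • a = x ^ (i : ℕ) • a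
        rw [← mul_smul, ← pow_add, Nat.add_sub_cancel' hle, hij]
      have h3 := hfix a _ h2
      have := i.2
      have := j.2
      exact Fin.ext (by omega)
    rcases le_total (i : ℕ) j with hle | hle
    · exact key i j hle hij
    · exact (key j i hle hij.symm).symm
  have hz2 : z ^ 2 = 1 := orderOf_dvd_iff_pow_eq_one.mp (dvd_of_eq hz)
  have hsign := sign_toPerm (α := G ⧸ H) (nc h) z
  have h4 := CfsgLib.SylowNumber.four_dvd_card_support (α := G ⧸ H) hz2 hsign
  have hmod := CfsgLib.SylowNumber.card_fix_modEq (α := G ⧸ H) (r := 2) hz2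
  have hle : (CfsgLib.SylowNumber.fixFinset (G ⧸ H) z).card ≤ 1 := by
    rw [Finset.card_le_one]
    intro a ha b hb
    rw [CfsgLib.SylowNumber.mem_fixFinset] at ha hb
    obtain ⟨i, rfl⟩ := (hbij a).2 b
    have hzi : z * x ^ (i : ℕ) * z⁻¹ = (x ^ (i : ℕ))⁻¹ := by rw [← conj_pow, hzx, inv_pow]
    have hb' : z • x ^ (i : ℕ) • a = x ^ (i : ℕ) • a := hb
    have h5 : (x ^ (i : ℕ))⁻¹ • a = x ^ (i : ℕ) • a := by
      have hza : z⁻¹ • a = a := by rw [inv_smul_eq_iff, ha]
      rw [← hzi, mul_smul, mul_smul, hza, hb']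
    have h6 : x ^ ((i : ℕ) + i) • a = a := by
      rw [pow_add, mul_smul, ← h5, smul_inv_smul]
    have := hfix a _ h6
    have := i.2
    have hi0 : (i : ℕ) = 0 := by omega
    show a = x ^ (i : ℕ) • a
    rw [hi0, pow_zero, one_smul]
  rw [hc] at h4 hmod
  rw [Nat.ModEq] at hmod
  omega

theorem three_data [Fact (Nat.Prime 3)] (h : Nat.card G = 504) :
    Nat.card (Sylow 3 G) = 28 ∧ ∀ S : Sylow 3 G,
      Nat.card (normalizer ((S : Subgroup G) : Set G)) = 18 ∧
      ∃ z ∈ normalizer ((S : Subgroup G) : Set G),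
        ∀ x ∈ (S : Subgroup G), z * x * z⁻¹ = x⁻¹ := by
  have hm := card_sylow_mem (p := 3) (nc h) (k := 2) (m := 56) two_ne_zero
    (by rw [h]; norm_num) (by norm_num)
  rw [show ((Nat.divisors 56).filter fun n => n % 3 = 1 ∧ 1 < n) = {4, 7, 28} from by decide] at hm
  simp only [Finset.mem_insert, Finset.mem_singleton] at hm
  have hm28 : Nat.card (Sylow 3 G) = 28 := by
    rcases hm with hm | hm | hm
    · have := two_mul_card_dvd_factorial_card_sylow (nc h) (p := 3) (by rw [h]; norm_num)
      rw [hm, h] at this; norm_num [Nat.factorial] at this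
    · obtain ⟨S⟩ := (inferInstance : Nonempty (Sylow 3 G))
      exact absurd (S.card_eq_index_normalizer.symm.trans hm) (index_ne_seven h _)
    · exact hm
  refine ⟨hm28, fun S => ?_⟩
  have hN := card_normalizer_eq hm28 S
  rw [h] at hN
  have hN' : Nat.card (normalizer ((S : Subgroup G) : Set G)) = 18 := by omega
  have hab : IsMulCommutative (S : Subgroup G) :=
    IsPGroup.isMulCommutative_of_card_eq_prime_sq (p := 3) (by rw [card_three h S]; norm_num)
  have hdvd : (3 : ℕ) ∣ Nat.card G := by rw [h]; norm_num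
  have hle : (S : Subgroup G) ≤ centralizer ((S : Subgroup G) : Set G) := by
    intro x hx
    rw [mem_centralizer_iff]
    exact fun y hy => congrArg Subtype.val
      (hab.is_comm.comm (⟨y, hy⟩ : (S : Subgroup G)) ⟨x, hx⟩)
  have hC := card_dvd_of_le hle
  rw [card_three h S] at hC
  have hmul := card_centralizer_mul_relIndex (S : Subgroup G)
  rw [hN'] at hmul
  have hne1 := fun e => not_normalizer_le_centralizer (nc h) hdvd S (relIndex_eq_one.mp e)
  have h2 : (centralizer ((S : Subgroup G) : Set G)).relIndex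
      (normalizer ((S : Subgroup G) : Set G)) = 2 := by
    obtain ⟨c, hc⟩ := hC
    rw [hc, mul_assoc] at hmul
    have : c * (centralizer ((S : Subgroup G) : Set G)).relIndex
        (normalizer ((S : Subgroup G) : Set G)) = 2 := by omega
    rcases (Nat.dvd_prime Nat.prime_two).mp (Dvd.intro_left _ this) with e | e
    · exact absurd e hne1
    · exact e
  obtain ⟨z, hz, hzC⟩ := exists_mem_normalizer_notMem_centralizer (nc h) hdvd S
  exact ⟨hN', z, hz, fun x hx => conj_eq_inv_of_relIndex_two (nc h) S hab h2 hz hzC hx⟩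

/-- Distinct Sylow 3-subgroups meet trivially. -/
theorem sylow_three_ti [Fact (Nat.Prime 3)] (h : Nat.card G = 504) {S S' : Sylow 3 G} {x : G}
    (hx : x ≠ 1) (hxS : x ∈ (S : Subgroup G)) (hxS' : x ∈ (S' : Subgroup G)) : S = S' := by
  by_contra hne
  obtain ⟨hN, z, hz, hinv⟩ := (three_data h).2 S
  set D := (S : Subgroup G) ⊓ (S' : Subgroup G) with hD
  have hxD : x ∈ D := Subgroup.mem_inf.mpr ⟨hxS, hxS'⟩
  have hDlt : ∀ T : Sylow 3 G, D ≤ (T : Subgroup G) → D < (T : Subgroup G) := by
    intro T hT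
    refine lt_of_le_of_ne hT fun e => hne (Sylow.ext ?_)
    have hc : Nat.card D = 9 := by rw [e]; exact card_three h T
    have h1 : D = (S : Subgroup G) := eq_of_le_of_card_ge inf_le_left (by rw [hc, card_three h S])
    exact eq_of_le_of_card_ge (h1 ▸ inf_le_right) (by rw [card_three h S, card_three h S'])
  have hsub : ∀ T : Sylow 3 G, D ≤ (T : Subgroup G) →
      (T : Subgroup G) ≤ normalizer (D : Set G) := by
    intro T hT
    refine le_trans ?_ (centralizer_le_normalizer' D)
    have hab : IsMulCommutative (T : Subgroup G) :=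
      IsPGroup.isMulCommutative_of_card_eq_prime_sq (p := 3) (by rw [card_three h T]; norm_num)
    intro y hy
    rw [mem_centralizer_iff]
    exact fun d hd => congrArg Subtype.val
      (hab.is_comm.comm (⟨d, hT hd⟩ : (T : Subgroup G)) ⟨y, hy⟩)
  have hSN := hsub S inf_le_left
  have hS'N := hsub S' inf_le_right
  set N := normalizer (D : Set G) with hNdef
  have hDbot : D ≠ ⊥ := fun e => hx (by rw [e, mem_bot] at hxD; exact hxD)
  have hDtop : D ≠ ⊤ := fun e => (hDlt S inf_le_left).ne_top e
  have hzN : z ∈ N := by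
    rw [hNdef, mem_normalizer_iff]
    intro y
    constructor
    · intro hy
      rw [hinv y (Subgroup.mem_inf.mp hy).1]; exact inv_mem hy
    · intro hy
      have hyS : y ∈ (S : Subgroup G) :=
        (mem_normalizer_iff.mp hz y).mpr (Subgroup.mem_inf.mp hy).1
      rw [hinv y hyS] at hy
      exact (inv_mem_iff).mp hy
  -- the normaliser has four Sylow subgroups but `S` has stabiliser of order 18 in it
  let T : Sylow 3 N := S.subtype hSN
  have h2 : 1 < Nat.card (Sylow 3 N) := by
    rw [Finite.one_lt_card_iff_nontrivial]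
    exact ⟨⟨S.subtype hSN, S'.subtype hS'N, fun e => hne (Sylow.subtype_injective e)⟩⟩
  have hmod := card_sylow_modEq_one 3 N
  have hTc : Nat.card (T : Subgroup N) = 9 :=
    (Nat.card_congr (subgroupOfEquivOfLe hSN).toEquiv).trans (card_three h S)
  have hmul := card_normalizer_mul_card_sylow T
  have hNd : Nat.card N ∣ 504 := h ▸ card_subgroup_dvd_card N
  have hNne := normalizer_ne_top hDbot hDtop
  have hidx := card_mul_index N
  rw [h] at hidx
  have hi7 := index_ne_seven h N
  have hNN : 18 ∣ Nat.card (normalizer ((T : Subgroup N) : Set N)) := by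
    have h9 : 9 ∣ Nat.card (normalizer ((T : Subgroup N) : Set N)) :=
      hTc ▸ card_dvd_of_le le_normalizer
    have hzT : (⟨z, hzN⟩ : N) ∈ normalizer ((T : Subgroup N) : Set N) := by
      rw [mem_normalizer_iff]
      intro y
      exact mem_normalizer_iff.mp hz (y : G)
    have h2' : 2 ∣ Nat.card (normalizer ((T : Subgroup N) : Set N)) := by
      have hzo : 2 ∣ orderOf z := by
        by_contra hodd
        have hzN18 := orderOf_dvd_natCard (⟨z, hz⟩ : normalizer ((S : Subgroup G) : Set G))
        rw [Subgroup.orderOf_mk, hN] at hzN18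
        have h9' : orderOf z ∣ 9 := (Nat.Coprime.dvd_of_dvd_mul_left
          ((Nat.Prime.coprime_iff_not_dvd Nat.prime_two).mpr hodd).symm
          (show orderOf z ∣ 2 * 9 by exact hzN18))
        have hpz : IsPGroup 3 (zpowers z) := by
          obtain ⟨i, -, hi⟩ := (Nat.dvd_prime_pow Nat.prime_three).mp (show orderOf z ∣ 3 ^ 2 from h9')
          exact IsPGroup.of_card (n := i) (by rw [Nat.card_zpowers, hi])
        have hzS : z ∈ (S : Subgroup G) := by
          have h3 : z ∈ zpowers z ⊓ (S : Subgroup G) :=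
            hpz.inf_normalizer_sylow S ▸ Subgroup.mem_inf.mpr ⟨mem_zpowers z, hz⟩
          exact h3.2
        have hab : IsMulCommutative (S : Subgroup G) :=
          IsPGroup.isMulCommutative_of_card_eq_prime_sq (p := 3) (by rw [card_three h S]; norm_num)
        have hc : z * x * z⁻¹ = x := by
          have := congrArg Subtype.val
            (hab.is_comm.comm (⟨z, hzS⟩ : (S : Subgroup G)) ⟨x, hxS⟩)
          simp only [Subgroup.coe_mul] at this
          rw [this]; group
        have hx2 : orderOf x ∣ 2 := orderOf_dvd_of_pow_eq_one (by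
          rw [pow_two, ← eq_inv_iff_mul_eq_one]; exact hc.symm.trans (hinv x hxS))
        have hx9 := orderOf_dvd_natCard (⟨x, hxS⟩ : (S : Subgroup G))
        rw [Subgroup.orderOf_mk, card_three h S] at hx9
        have := Nat.dvd_gcd hx2 hx9
        norm_num at this
        exact hx this
      refine hzo.trans ?_
      have := orderOf_dvd_natCard (⟨⟨z, hzN⟩, hzT⟩ : normalizer ((T : Subgroup N) : Set N))
      rwa [Subgroup.orderOf_mk, Subgroup.orderOf_mk] at this
    exact Nat.Coprime.mul_dvd_of_dvd_of_dvd (by norm_num : Nat.Coprime 2 9) h2' h9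
  rw [Nat.ModEq] at hmod
  obtain ⟨c, hc⟩ := hNN
  rw [hc] at hmul
  have h4le : 4 ≤ Nat.card (Sylow 3 N) := by omega
  have hi : 1 < N.index := one_lt_index_of_ne_top hNne
  have hbig : Nat.card (Sylow 3 N) ∣ 28 := by
    have h3 : 18 * Nat.card (Sylow 3 N) ∣ 18 * 28 :=
      (Dvd.intro_left c (by rw [← hmul]; ring)).trans hNd
    exact (Nat.mul_dvd_mul_iff_left (by norm_num : 0 < 18)).mp h3
  have hmem : Nat.card (Sylow 3 N) ∈ (Nat.divisors 28).filter fun n => n % 3 = 1 ∧ 1 < n :=
    Finset.mem_filter.mpr ⟨Nat.mem_divisors.mpr ⟨hbig, by norm_num⟩, by omega, h2⟩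
  rw [show ((Nat.divisors 28).filter fun n => n % 3 = 1 ∧ 1 < n) = {4, 7, 28} from by decide] at hmem
  simp only [Finset.mem_insert, Finset.mem_singleton] at hmem
  have hfac := two_mul_card_dvd_factorial_index (nc h) hNne
  rw [h] at hfac
  have hcase : N.index ∣ 7 ∨ N.index ∣ 4 := by
    rcases hmem with e | e | e
    · rw [e] at hmul
      exact Or.inl (Dvd.intro_left c (Nat.eq_of_mul_eq_mul_left (show 0 < 72 by norm_num)
        (by calc 72 * (c * N.index) = (18 * c * 4) * N.index := by ring
              _ = 504 := by rw [hmul]; exact hidx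
              _ = 72 * 7 := by norm_num)))
    · rw [e] at hmul
      exact Or.inr (Dvd.intro_left c (Nat.eq_of_mul_eq_mul_left (show 0 < 126 by norm_num)
        (by calc 126 * (c * N.index) = (18 * c * 7) * N.index := by ring
              _ = 504 := by rw [hmul]; exact hidx
              _ = 126 * 4 := by norm_num)))
    · rw [e] at hmul
      exact Or.inr ((Dvd.intro_left c (Nat.eq_of_mul_eq_mul_left (show 0 < 504 by norm_num)
        (by calc 504 * (c * N.index) = (18 * c * 28) * N.index := by ring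
              _ = 504 := by rw [hmul]; exact hidx
              _ = 504 * 1 := by norm_num))).trans (one_dvd 4))
  rcases hcase with hd | hd
  · rcases (Nat.dvd_prime (by norm_num)).mp hd with e | e
    · omega
    · exact hi7 e
  · have := Nat.le_of_dvd (by norm_num) hd
    interval_cases hh : N.index <;> norm_num [Nat.factorial] at hfac

theorem orderOf_dvd_of_commute_three [Fact (Nat.Prime 3)] (h : Nat.card G = 504) {x g : G}
    (hx : orderOf x = 3) (hc : Commute g x) : orderOf g ∣ 9 := by
  obtain ⟨S, hS⟩ := (IsPGroup.of_card (p := 3) (G := zpowers x) (n := 1)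
    (by rw [Nat.card_zpowers, hx]; norm_num)).exists_le_sylow
  have hxS : x ∈ (S : Subgroup G) := hS (mem_zpowers x)
  have hx1 : x ≠ 1 := fun e => by rw [e, orderOf_one] at hx; omega
  obtain ⟨hN, z, hz, hinv⟩ := (three_data h).2 S
  have hgN : g ∈ normalizer ((S : Subgroup G) : Set G) := by
    refine Sylow.smul_eq_iff_mem_normalizer.mp (sylow_three_ti h hx1 ?_ hxS)
    rw [Sylow.coe_subgroup_smul, mem_pointwise_smul_iff_inv_smul_mem, ← map_inv,
      MulAut.smul_def, MulAut.conj_apply, inv_inv, mul_assoc, ← hc.eq, inv_mul_cancel_left]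
    exact hxS
  -- `z` is not in the centraliser of `x`, whose order is therefore 9
  set N := normalizer ((S : Subgroup G) : Set G)
  set K := centralizer ({x} : Set G) ⊓ N
  have hzK : z ∉ K := fun hh => by
    have h1 := mem_centralizer_singleton_iff.mp (Subgroup.mem_inf.mp hh).1
    have hx2 : orderOf x ∣ 2 := orderOf_dvd_of_pow_eq_one (by
      rw [pow_two, ← eq_inv_iff_mul_eq_one, ← hinv x hxS, h1]; group)
    rw [hx] at hx2; norm_num at hx2
  have hSK : (S : Subgroup G) ≤ K := by
    refine le_inf (fun y hy => ?_) le_normalizer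
    have hab : IsMulCommutative (S : Subgroup G) :=
      IsPGroup.isMulCommutative_of_card_eq_prime_sq (p := 3) (by rw [card_three h S]; norm_num)
    rw [mem_centralizer_singleton_iff]
    exact congrArg Subtype.val (hab.is_comm.comm (⟨y, hy⟩ : (S : Subgroup G)) ⟨x, hxS⟩)
  have hK : Nat.card K = 9 := by
    have h9 : 9 ∣ Nat.card K := card_three h S ▸ card_dvd_of_le hSK
    have h18 : Nat.card K ∣ 18 := hN ▸ card_dvd_of_le inf_le_right
    rcases (show ∀ d ∈ Nat.divisors 18, 9 ∣ d → d = 9 ∨ d = 18 from by decide +kernel) _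
      (Nat.mem_divisors.mpr ⟨h18, by norm_num⟩) h9 with e | e
    · exact e
    · exact absurd ((eq_of_le_of_card_ge inf_le_right (by rw [e, hN]) : K = N) ▸ hz) hzK
  have := orderOf_dvd_natCard
    (⟨g, Subgroup.mem_inf.mpr ⟨mem_centralizer_singleton_iff.mpr hc.eq, hgN⟩⟩ : K)
  rwa [Subgroup.orderOf_mk, hK] at this

theorem orderOf_dvd_of_commute_seven [Fact (Nat.Prime 7)] (h : Nat.card G = 504) {x g : G}
    (hx : orderOf x = 7) (hc : Commute g x) : orderOf g ∣ 7 := by
  obtain ⟨P, hP, -⟩ := exists_unique_sylow_mem hx (card_seven h)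
  have hx1 : x ≠ 1 := fun e => by rw [e, orderOf_one] at hx; omega
  have hg : g ∈ centralizer ((P : Subgroup G) : Set G) := by
    rw [centralizer_eq_of_zpowers (eq_zpowers_of_mem (card_seven h P) hP hx1),
      mem_centralizer_singleton_iff]
    exact hc.eq
  have := orderOf_dvd_natCard (⟨g, hg⟩ : centralizer ((P : Subgroup G) : Set G))
  rwa [Subgroup.orderOf_mk, ((seven_data h).2 P).2] at this

theorem orderOf_mem (h : Nat.card G = 504) (g : G) :
    orderOf g ∣ 8 ∨ orderOf g ∣ 9 ∨ orderOf g ∣ 7 := by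
  have : Fact (Nat.Prime 3) := ⟨Nat.prime_three⟩
  have : Fact (Nat.Prime 7) := ⟨by norm_num⟩
  have h0 : orderOf g ≠ 0 := (orderOf_pos g).ne'
  by_cases h3 : 3 ∣ orderOf g
  · exact Or.inr (Or.inl (orderOf_dvd_of_commute_three h (orderOf_pow_orderOf_div h0 h3)
      (Commute.self_pow g _)))
  by_cases h7 : 7 ∣ orderOf g
  · exact Or.inr (Or.inr (orderOf_dvd_of_commute_seven h (orderOf_pow_orderOf_div h0 h7)
      (Commute.self_pow g _)))
  exact Or.inl ((show ∀ d ∈ Nat.divisors 504, ¬ 3 ∣ d → ¬ 7 ∣ d → d ∣ 8 from by decide +kernel) _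
    (Nat.mem_divisors.mpr ⟨h ▸ orderOf_dvd_natCard g, by norm_num⟩) h3 h7)

theorem card_two_elements (h : Nat.card G = 504) :
    Nat.card {g : G // orderOf g ∣ 8 ∧ g ≠ 1} = 63 := by
  classical
  have : Fact (Nat.Prime 3) := ⟨Nat.prime_three⟩
  have : Fact (Nat.Prime 7) := ⟨by norm_num⟩
  have hc7 : Nat.card {g : G // orderOf g = 7} = 216 := by
    rw [card_orderOf_eq_prime (card_seven h), (seven_data h).1]
  have hc9 : Nat.card {g : G // orderOf g ∣ 9 ∧ g ≠ 1} = 224 := by
    let f : (Σ S : Sylow 3 G, {x : (S : Subgroup G) // ¬ x = 1}) →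
        {g : G // orderOf g ∣ 9 ∧ g ≠ 1} := fun q =>
      ⟨q.2.1.1, by
        have := orderOf_dvd_natCard q.2.1
        rw [card_three h q.1] at this
        rwa [Subgroup.orderOf_coe], fun e => q.2.2 (Subtype.ext e)⟩
    have hf : Function.Bijective f := by
      constructor
      · rintro ⟨S, ⟨⟨x, hx⟩, hx1⟩⟩ ⟨S', ⟨⟨y, hy⟩, hy1⟩⟩ e
        obtain rfl : x = y := congrArg Subtype.val e
        obtain rfl := sylow_three_ti h (fun e => hx1 (Subtype.ext e)) hx hy
        rfl
      · rintro ⟨g, hg, hg1⟩
        obtain ⟨i, -, hi⟩ := (Nat.dvd_prime_pow Nat.prime_three).mp (show orderOf g ∣ 3 ^ 2 from hg)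
        obtain ⟨S, hS⟩ := (IsPGroup.of_card (p := 3) (G := zpowers g) (n := i)
          (by rw [Nat.card_zpowers, hi])).exists_le_sylow
        exact ⟨⟨S, ⟨⟨g, hS (mem_zpowers g)⟩, fun e => hg1 (congrArg Subtype.val e)⟩⟩, rfl⟩
    rw [← Nat.card_congr (Equiv.ofBijective f hf)]
    have := Fintype.ofFinite (Sylow 3 G)
    rw [Nat.card_sigma, Finset.sum_congr rfl (g := fun _ => 8), Finset.sum_const, smul_eq_mul,
      Finset.card_univ, ← Nat.card_eq_fintype_card, (three_data h).1]
    intro S _
    have := Fintype.ofFinite (S : Subgroup G)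
    rw [Nat.card_eq_fintype_card, Fintype.card_subtype_compl, Fintype.card_subtype_eq,
      ← Nat.card_eq_fintype_card, card_three h S]
  have := Fintype.ofFinite G
  rw [Nat.card_eq_fintype_card, Fintype.card_subtype] at hc7 hc9 ⊢
  rw [Nat.card_eq_fintype_card, ← Finset.card_univ] at h
  have hu : (Finset.univ : Finset G) = ({1} : Finset G) ∪
      ((Finset.univ.filter fun g : G => orderOf g ∣ 8 ∧ g ≠ 1) ∪
       ((Finset.univ.filter fun g : G => orderOf g ∣ 9 ∧ g ≠ 1) ∪
        (Finset.univ.filter fun g : G => orderOf g = 7))) := by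
    ext g
    simp only [Finset.mem_univ, true_iff, Finset.mem_union, Finset.mem_singleton,
      Finset.mem_filter, true_and]
    by_cases hg : g = 1
    · exact Or.inl hg
    rcases orderOf_mem (by rw [Nat.card_eq_fintype_card, ← Finset.card_univ]; exact h) g with
      e | e | e
    · exact Or.inr (Or.inl ⟨e, hg⟩)
    · exact Or.inr (Or.inr (Or.inl ⟨e, hg⟩))
    · exact Or.inr (Or.inr (Or.inr (((Nat.dvd_prime (by norm_num)).mp e).resolve_left
        (by simpa using hg))))
  have hd1 : ∀ {g : G}, orderOf g ∣ 8 → orderOf g ∣ 9 → g = 1 := fun ha hb => by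
    have := Nat.dvd_gcd ha hb; simpa using this
  have hd2 : ∀ {g : G}, orderOf g ∣ 8 → orderOf g = 7 → False := fun ha hb => by
    rw [hb] at ha; norm_num at ha
  have hd3 : ∀ {g : G}, orderOf g ∣ 9 → orderOf g = 7 → False := fun ha hb => by
    rw [hb] at ha; norm_num at ha
  rw [hu, Finset.card_union_of_disjoint, Finset.card_union_of_disjoint,
    Finset.card_union_of_disjoint, Finset.card_singleton, hc7, hc9] at h
  · omega
  · rw [Finset.disjoint_filter]; exact fun g _ ha hb => hd3 ha.1 hb
  · rw [Finset.disjoint_union_right, Finset.disjoint_filter, Finset.disjoint_filter]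
    exact ⟨fun g _ ha hb => ha.2 (hd1 ha.1 hb.1), fun g _ ha hb => hd2 ha.1 hb⟩
  · rw [Finset.disjoint_singleton_left]
    simp only [Finset.mem_union, Finset.mem_filter, Finset.mem_univ, true_and, orderOf_one]
    rintro (⟨-, e⟩ | ⟨-, e⟩ | e)
    · exact e rfl
    · exact e rfl
    · omega

/-- Every nontrivial 2-element is an involution with centraliser of order 8. -/
theorem two_element [Fact (Nat.Prime 2)] (h : Nat.card G = 504) {w : G} (hw : orderOf w ∣ 8)
    (hw1 : w ≠ 1) :
    orderOf w = 2 ∧ Nat.card (centralizer ({w} : Set G)) = 8 := by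
  classical
  have : Fact (Nat.Prime 3) := ⟨Nat.prime_three⟩
  have : Fact (Nat.Prime 7) := ⟨by norm_num⟩
  -- a central involution of a Sylow subgroup has 63 conjugates
  obtain ⟨T⟩ := (inferInstance : Nonempty (Sylow 2 G))
  have : Nontrivial (T : Subgroup G) := Finite.one_lt_card_iff_nontrivial.mp (by
    rw [card_two h T]; norm_num)
  have hZ := T.2.center_nontrivial
  obtain ⟨k, hk⟩ := IsPGroup.iff_card.mp (T.2.to_subgroup (center (T : Subgroup G)))
  have hk0 : k ≠ 0 := fun e => by
    rw [e, pow_zero] at hk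
    have := (Finite.one_lt_card_iff_nontrivial.mpr hZ).ne'
    exact this hk
  obtain ⟨z', hz'⟩ := exists_prime_orderOf_dvd_card' (G := center (T : Subgroup G)) 2
    (hk ▸ dvd_pow_self 2 hk0)
  set z : G := ((z' : (T : Subgroup G)) : G)
  have hzo : orderOf z = 2 := by rw [Subgroup.orderOf_coe, Subgroup.orderOf_coe, hz']
  have hTC : (T : Subgroup G) ≤ centralizer ({z} : Set G) := by
    intro t ht
    rw [mem_centralizer_singleton_iff]
    exact congrArg Subtype.val (mem_center_iff.mp z'.2 ⟨t, ht⟩)
  have hC8 : Nat.card (centralizer ({z} : Set G)) = 8 := by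
    have h8 := card_two h T ▸ card_dvd_of_le hTC
    have hd : Nat.card (centralizer ({z} : Set G)) ∣ 504 := h ▸ card_subgroup_dvd_card _
    have hnd : ∀ q, (q = 3 ∨ q = 7) → ¬ q ∣ Nat.card (centralizer ({z} : Set G)) := by
      intro q hq hqd
      have : Fact q.Prime := ⟨by rcases hq with rfl | rfl <;> norm_num⟩
      obtain ⟨⟨y, hy⟩, hy'⟩ := exists_prime_orderOf_dvd_card' q hqd
      rw [Subgroup.orderOf_mk] at hy'
      have hc : Commute z y := (mem_centralizer_singleton_iff.mp hy).symm
      rcases hq with rfl | rfl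
      · have := orderOf_dvd_of_commute_three h hy' hc
        rw [hzo] at this; norm_num at this
      · have := orderOf_dvd_of_commute_seven h hy' hc
        rw [hzo] at this; norm_num at this
    exact (show ∀ d ∈ Nat.divisors 504, 8 ∣ d → ¬ 3 ∣ d → ¬ 7 ∣ d → d = 8 from by decide +kernel) _
      (Nat.mem_divisors.mpr ⟨hd, by norm_num⟩) h8 (hnd 3 (Or.inl rfl)) (hnd 7 (Or.inr rfl))
  -- so every nontrivial 2-element is conjugate to it
  let f : G ⧸ centralizer ({z} : Set G) → {g : G // orderOf g ∣ 8 ∧ g ≠ 1} :=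
    fun q => Quotient.liftOn' q (fun g => ⟨g * z * g⁻¹, by
      rw [show g * z * g⁻¹ = MulAut.conj g z from rfl, MulEquiv.orderOf_eq, hzo]; norm_num,
      fun e => by
        have h1 : z = 1 := conj_eq_one_iff.mp e
        rw [h1, orderOf_one] at hzo; omega⟩) (fun a b hab => by
      rw [QuotientGroup.leftRel_apply, mem_centralizer_singleton_iff] at hab
      refine Subtype.ext ?_
      show a * z * a⁻¹ = b * z * b⁻¹
      calc a * z * a⁻¹ = a * (z * (a⁻¹ * b)) * b⁻¹ := by group
        _ = a * (a⁻¹ * b * z) * b⁻¹ := by rw [hab]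
        _ = b * z * b⁻¹ := by group)
  have hf : Function.Injective f := by
    intro a b
    induction a using QuotientGroup.induction_on with
    | H a =>
      induction b using QuotientGroup.induction_on with
      | H b =>
        intro e
        have e' : a * z * a⁻¹ = b * z * b⁻¹ := congrArg Subtype.val e
        refine QuotientGroup.eq.mpr (mem_centralizer_singleton_iff.mpr ?_)
        calc a⁻¹ * b * z = a⁻¹ * (b * z * b⁻¹) * b := by group
          _ = z * (a⁻¹ * b) := by rw [← e']; group
  have hidx := card_mul_index (centralizer ({z} : Set G))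
  rw [hC8, h, index_eq_card] at hidx
  have hbij := (Nat.bijective_iff_injective_and_card f).mpr
    ⟨hf, by rw [card_two_elements h]; omega⟩
  obtain ⟨q, hq⟩ := hbij.2 ⟨w, hw, hw1⟩
  induction q using QuotientGroup.induction_on with
  | H g =>
    have hgw : g * z * g⁻¹ = w := congrArg Subtype.val hq
    subst hgw
    refine ⟨by rw [show g * z * g⁻¹ = MulAut.conj g z from rfl, MulEquiv.orderOf_eq, hzo], ?_⟩
    rw [← hC8]
    refine Nat.card_congr (Equiv.subtypeEquiv (MulAut.conj g⁻¹).toEquiv fun y => ?_)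
    simp only [MulEquiv.toEquiv_eq_coe, EquivLike.coe_coe, MulAut.conj_apply, inv_inv,
      mem_centralizer_singleton_iff]
    constructor
    · intro e
      calc g⁻¹ * y * g * z = g⁻¹ * (y * (g * z * g⁻¹)) * g := by group
        _ = z * (g⁻¹ * y * g) := by rw [e]; group
    · intro e
      calc y * (g * z * g⁻¹) = g * (g⁻¹ * y * g * z) * g⁻¹ := by group
        _ = g * z * g⁻¹ * y := by rw [e]; group

/-- The Sylow 2-subgroups are elementary abelian, meet trivially, and there are nine of them. -/
theorem two_data [Fact (Nat.Prime 2)] (h : Nat.card G = 504) :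
    (∀ T : Sylow 2 G, ∀ t ∈ (T : Subgroup G), t * t = 1) ∧
    (∀ T T' : Sylow 2 G, ∀ t : G, t ≠ 1 → t ∈ (T : Subgroup G) → t ∈ (T' : Subgroup G) → T = T') ∧
    Nat.card (Sylow 2 G) = 9 := by
  classical
  have hd8 : ∀ T : Sylow 2 G, ∀ t ∈ (T : Subgroup G), orderOf t ∣ 8 := fun T t ht => by
    have := orderOf_dvd_natCard (⟨t, ht⟩ : (T : Subgroup G))
    rwa [Subgroup.orderOf_mk, card_two h T] at this
  have hsq : ∀ T : Sylow 2 G, ∀ t ∈ (T : Subgroup G), t * t = 1 := fun T t ht => by
    by_cases ht1 : t = 1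
    · rw [ht1, mul_one]
    · rw [← pow_two]
      exact orderOf_dvd_iff_pow_eq_one.mp (dvd_of_eq (two_element h (hd8 T t ht) ht1).1)
  have hcomm : ∀ T : Sylow 2 G, ∀ a ∈ (T : Subgroup G), ∀ b ∈ (T : Subgroup G), a * b = b * a := by
    intro T a ha b hb
    have hinv : ∀ t ∈ (T : Subgroup G), t⁻¹ = t :=
      fun t ht => inv_eq_of_mul_eq_one_left (hsq T t ht)
    rw [← hinv _ (mul_mem ha hb), mul_inv_rev, hinv a ha, hinv b hb]
  have hTI : ∀ T T' : Sylow 2 G, ∀ t : G, t ≠ 1 → t ∈ (T : Subgroup G) → t ∈ (T' : Subgroup G) →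
      T = T' := by
    intro T T' t ht1 ht ht'
    have hc := (two_element h (hd8 T t ht) ht1).2
    have key : ∀ U : Sylow 2 G, t ∈ (U : Subgroup G) →
        (U : Subgroup G) = centralizer ({t} : Set G) := fun U hU =>
      eq_of_le_of_card_ge (fun y hy => mem_centralizer_singleton_iff.mpr (hcomm U y hy t hU))
        (by rw [hc, card_two h U])
    exact Sylow.ext ((key T ht).trans (key T' ht').symm)
  refine ⟨hsq, hTI, ?_⟩
  let f : (Σ T : Sylow 2 G, {x : (T : Subgroup G) // ¬ x = 1}) →
      {g : G // orderOf g ∣ 8 ∧ g ≠ 1} := fun q =>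
    ⟨q.2.1.1, hd8 q.1 _ q.2.1.2, fun e => q.2.2 (Subtype.ext e)⟩
  have hf : Function.Bijective f := by
    constructor
    · rintro ⟨S, ⟨⟨x, hx⟩, hx1⟩⟩ ⟨S', ⟨⟨y, hy⟩, hy1⟩⟩ e
      obtain rfl : x = y := congrArg Subtype.val e
      obtain rfl := hTI S S' x (fun e => hx1 (Subtype.ext e)) hx hy
      rfl
    · rintro ⟨g, hg, hg1⟩
      obtain ⟨S, hS⟩ := (IsPGroup.of_card (p := 2) (G := zpowers g) (n := 1)
        (by rw [Nat.card_zpowers, (two_element h hg hg1).1]; norm_num)).exists_le_sylow
      exact ⟨⟨S, ⟨⟨g, hS (mem_zpowers g)⟩, fun e => hg1 (congrArg Subtype.val e)⟩⟩, rfl⟩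
  have hcard := Nat.card_congr (Equiv.ofBijective f hf)
  have := Fintype.ofFinite (Sylow 2 G)
  rw [card_two_elements h, Nat.card_sigma, Finset.sum_congr rfl (g := fun _ => 7),
    Finset.sum_const, smul_eq_mul, Finset.card_univ, ← Nat.card_eq_fintype_card] at hcard
  · omega
  · intro S _
    have := Fintype.ofFinite (S : Subgroup G)
    rw [Nat.card_eq_fintype_card, Fintype.card_subtype_compl, Fintype.card_subtype_eq,
      ← Nat.card_eq_fintype_card, card_two h S]

end CfsgLib.Small.Order504
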