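import Cfsg.Agent.Lib.Small.Fixed
import Cfsg.Agent.Lib.Small.Order504
import Cfsg.Agent.Lib.SylowNumber.Action
import Cfsg.Agent.Lib.SylowNumber.TwentyTwo

/-!
No simple group has order 2016: an involution centralising an element of order 7 would centralise
exactly eight Sylow 7-subgroups, giving a subgroup of index at most 9.
-/

set_option autoImplicit false

namespace CfsgLib.Small.Order2016

open Subgroup MulAction CfsgLib.Small CfsgLib.SylowNumber

variable {G : Type*} [Group G] [Finite G] [IsSimpleGroup G]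

theorem nc (h : Nat.card G = 2016) : ¬ IsMulCommutative G :=
  nc_of_not_prime (by rw [h]; norm_num)

omit [IsSimpleGroup G] in
theorem card_seven [Fact (Nat.Prime 7)] (h : Nat.card G = 2016) (P : Sylow 7 G) :
    Nat.card P = 7 := by
  simpa using card_sylow_of_card_eq (k := 1) (m := 288) (by rw [h]; norm_num) (by norm_num) P

/-- The centraliser of an element of order 7 in a transitive action of degree at most 13. -/
theorem centralizer_dvd_of_small [Fact (Nat.Prime 7)] {H : Subgroup G}
    (hH : H ≠ ⊤) (hi : H.index ≤ 13) {x : G} (hx : orderOf x = 7) :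
    Nat.card (centralizer ({x} : Set G)) ∣ (H.index - 7).factorial * 7 := by
  classical
  have := Fintype.ofFinite (G ⧸ H)
  have hinj := toPermHom_injective (G := G) hH
  have hd := Order504.card_centralizer_dvd_of_injective hinj x
  have hc : Fintype.card (G ⧸ H) = H.index := by rw [← Nat.card_eq_fintype_card, index_eq_card]
  rwa [Order504.card_centralizer_perm_dvd (p := 7) (by omega)
    (by rw [orderOf_injective _ hinj, hx]), hc] at hd

theorem seven_data [Fact (Nat.Prime 7)] (h : Nat.card G = 2016) :
    Nat.card (Sylow 7 G) = 36 ∧ ∀ P : Sylow 7 G,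
      Nat.card (centralizer ((P : Subgroup G) : Set G)) = 28 ∧
      Nat.card (normalizer ((P : Subgroup G) : Set G)) = 56 := by
  have hm := card_sylow_mem (p := 7) (nc h) (k := 1) (m := 288) one_ne_zero
    (by rw [h]; norm_num) (by norm_num)
  rw [show ((Nat.divisors 288).filter fun n => n % 7 = 1 ∧ 1 < n) = {8, 36, 288} from
    by decide +kernel] at hm
  simp only [Finset.mem_insert, Finset.mem_singleton] at hm
  obtain ⟨P0⟩ := (inferInstance : Nonempty (Sylow 7 G))
  have hd : ∀ P : Sylow 7 G, ∃ e c, 1 < e ∧ (e = 2 ∨ e = 3 ∨ e = 6) ∧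
      Nat.card (centralizer ((P : Subgroup G) : Set G)) = 7 * c ∧
      Nat.card (normalizer ((P : Subgroup G) : Set G)) = 7 * (c * e) ∧
      7 * (c * e * Nat.card (Sylow 7 G)) = 2016 := by
    intro P
    obtain ⟨e, he1, he2, ⟨c, hc⟩, hCe, hall⟩ := sylow_prime_order_data (nc h) P (card_seven h P)
    refine ⟨e, c, he1, ?_, hc, by rw [← hCe, hc, mul_assoc], ?_⟩
    · exact (show ∀ d ∈ Nat.divisors 6, 1 < d → d = 2 ∨ d = 3 ∨ d = 6 from by decide) e
        (Nat.mem_divisors.mpr ⟨he2, by norm_num⟩) he1
    · rw [← h, ← hall, hc, mul_assoc, mul_assoc, mul_assoc]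
  rcases hm with hm | hm | hm
  · exfalso
    obtain ⟨e, c, he1, he, hc, hN, hall⟩ := hd P0
    rw [hm] at hall
    obtain ⟨x, hx⟩ := exists_prime_orderOf_dvd_card' (G := (P0 : Subgroup G)) 7
      (by rw [card_seven h P0])
    rw [← Subgroup.orderOf_coe] at hx
    have hi : (normalizer ((P0 : Subgroup G) : Set G)).index = 8 := by
      exact P0.card_eq_index_normalizer.symm.trans hm
    have hdvd := centralizer_dvd_of_small
      (sylow_normalizer_ne_top (nc h) (by rw [h]; norm_num) P0) (by rw [hi]; norm_num) hx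
    rw [← Order504.centralizer_eq_of_zpowers (eq_zpowers_of_mem (card_seven h P0) x.2
      (fun e' => by rw [e', orderOf_one] at hx; omega)), hc, hi,
      show (8 - 7 : ℕ).factorial = 1 from rfl, one_mul] at hdvd
    have hc1 := Nat.le_of_dvd (by norm_num) hdvd
    have : c * e ≤ 1 * 6 := Nat.mul_le_mul (by omega) (by omega)
    omega
  · refine ⟨hm, fun P => ?_⟩
    obtain ⟨e, c, he1, he, hc, hN, hall⟩ := hd P
    rw [hm] at hall
    rcases he with rfl | rfl | rfl <;> omega
  · exfalso
    obtain ⟨e, c, he1, he, hc, hN, hall⟩ := hd P0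
    rw [hm] at hall
    have : c * e = 1 := by omega
    have := Nat.eq_one_of_mul_eq_one_left this
    omega

theorem card_ne (h : Nat.card G = 2016) : False := by
  classical
  have : Fact (Nat.Prime 7) := ⟨by norm_num⟩
  have : Fact (Nat.Prime 2) := ⟨Nat.prime_two⟩
  obtain ⟨h36, hdata⟩ := seven_data h
  obtain ⟨P⟩ := (inferInstance : Nonempty (Sylow 7 G))
  have := Fintype.ofFinite (Sylow 7 G)
  have hα : Fintype.card (Sylow 7 G) = 36 := by rw [← Nat.card_eq_fintype_card, h36]
  -- a Sylow 2-subgroup of the centraliser, and an involution in it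
  obtain ⟨U0, hU0⟩ := Sylow.exists_subgroup_card_pow_prime 2
    (show 2 ^ 2 ∣ Nat.card (centralizer ((P : Subgroup G) : Set G)) by
      rw [(hdata P).1]; norm_num)
  set U := U0.map (centralizer ((P : Subgroup G) : Set G)).subtype
  have hUle : U ≤ centralizer ((P : Subgroup G) : Set G) := map_subtype_le U0
  have hUc : Nat.card U = 4 := by
    rw [← Nat.card_congr (U0.equivMapOfInjective _ Subtype.val_injective).toEquiv, hU0]; norm_num
  have hUab : IsMulCommutative U :=
    IsPGroup.isMulCommutative_of_card_eq_prime_sq (p := 2) (by rw [hUc]; norm_num)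
  obtain ⟨⟨v, hvU⟩, hv⟩ := exists_prime_orderOf_dvd_card' (G := U) 2 (by rw [hUc]; norm_num)
  rw [Subgroup.orderOf_mk] at hv
  obtain ⟨⟨x, hxP⟩, hx⟩ := exists_prime_orderOf_dvd_card' (G := (P : Subgroup G)) 7
    (by rw [card_seven h P])
  rw [Subgroup.orderOf_mk] at hx
  have hx1 : x ≠ 1 := fun e => by rw [e, orderOf_one] at hx; omega
  have hxv : v * x = x * v := (mem_centralizer_iff.mp (hUle hvU) x hxP).symm
  have hv2 : v ^ 2 = 1 := orderOf_dvd_iff_pow_eq_one.mp (dvd_of_eq hv)
  have hv1 : v ≠ 1 := fun e => by rw [e, orderOf_one] at hv; omega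
  -- it fixes exactly eight Sylow subgroups
  have hvP : v • P = P := Sylow.smul_eq_iff_mem_normalizer.mpr
    (centralizer_le_normalizer' _ (hUle hvU))
  set F := fixFinset (Sylow 7 G) v
  have hmod : F.card % 7 = 1 := by
    have h1 := card_fix_modEq_common (α := Sylow 7 G) (r := 7) (x := v) (y := x)
      (orderOf_dvd_iff_pow_eq_one.mp (dvd_of_eq hx)) hxv
    have h2 : (F.filter fun a => x • a = a) = {P} := by
      ext S
      rw [Finset.mem_filter, Finset.mem_singleton, mem_fixFinset]
      constructor
      · rintro ⟨-, hS⟩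
        have hxS : x ∈ (S : Subgroup G) :=
          (smul_eq_self_iff_mem (P := P) hxP).mp hS
        exact ((exists_unique_sylow_mem hx (card_seven h)).unique hxS hxP)
      · rintro rfl
        exact ⟨hvP, (smul_eq_self_iff_mem (P := S) hxP).mpr hxP⟩
    rw [h2, Finset.card_singleton] at h1
    exact h1
  have h4 := four_dvd_card_support (α := Sylow 7 G) hv2 (sign_toPerm (nc h) v)
  rw [hα] at h4
  have hle : F.card ≤ 36 := hα ▸ Finset.card_le_univ F
  have h36' : F.card ≠ 36 := fun e => hv1 (eq_one_of_fix_eq_univ (α := Sylow 7 G)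
    (sylow_toPermHom_injective (nc h) (by rw [h]; norm_num)) (e.trans hα.symm))
  have hF : F.card = 8 := by
    change 4 ∣ 36 - F.card at h4
    omega
  -- and centralises them
  have hcent : ∀ S ∈ F, v ∈ centralizer ((S : Subgroup G) : Set G) := by
    intro S hS
    by_contra hvS
    have hvN : v ∈ normalizer ((S : Subgroup G) : Set G) :=
      Sylow.smul_eq_iff_mem_normalizer.mp (mem_fixFinset.mp hS)
    set A := (Finset.univ : Finset (Sylow 7 G)).erase S
    have hA : ∀ a ∈ A, ∀ u ∈ (S : Subgroup G), u • a ∈ A := by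
      intro a ha u hu
      refine Finset.mem_erase.mpr ⟨fun e => (Finset.mem_erase.mp ha).1 ?_, Finset.mem_univ _⟩
      exact MulAction.injective u (e.trans ((smul_eq_self_iff_mem (P := S) hu).mpr hu).symm)
    have horb : ∀ a ∈ A, Nat.card (orbit (S : Subgroup G) a) = 7 := by
      intro a ha
      obtain ⟨j, hj⟩ := exists_card_orbit_eq_pow S a
      have hd := Dvd.intro _ (card_orbit_mul_card_inf S a)
      rw [show Nat.card (S : Subgroup G) = 7 from card_seven h S] at hd
      exact ((Nat.dvd_prime (by norm_num)).mp hd).resolve_left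
        (card_orbit_ne_one (fun e => (Finset.mem_erase.mp ha).1 e.symm))
    have h1 := card_eq_card_image_mul (S : Subgroup G) A hA horb
    have h2 := card_fix_le_card_image (card_seven h S) hvN hvS A
    have h3 : F.card ≤ (A.filter fun a => v • a = a).card + 1 := by
      refine (Finset.card_le_card (t := insert S (A.filter fun a => v • a = a)) fun T hT => ?_).trans
        (Finset.card_insert_le _ _)
      rw [Finset.mem_insert, Finset.mem_filter, Finset.mem_erase]
      by_cases hTS : T = S
      · exact Or.inl hTS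
      · exact Or.inr ⟨⟨hTS, Finset.mem_univ _⟩, mem_fixFinset.mp hT⟩
    rw [Finset.card_erase_of_mem (Finset.mem_univ _), Finset.card_univ, hα] at h1
    omega
  -- so the centraliser of `v` has index at most 9
  set W := centralizer ({v} : Set G)
  have hsub : ∀ S ∈ F, (S : Subgroup G) ≤ W := fun S hS a ha =>
    mem_centralizer_singleton_iff.mpr (mem_centralizer_iff.mp (hcent S hS) a ha)
  have hW8 : 8 ≤ Nat.card (Sylow 7 W) := by
    rw [← hF, ← Fintype.card_coe, ← Nat.card_eq_fintype_card]
    exact Nat.card_le_card_of_injective (fun S : F => Sylow.subtype S.1 (hsub S.1 S.2))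
      fun a b e => Subtype.ext (Sylow.subtype_injective e)
  have hPW : (P : Subgroup G) ≤ W := hsub P (mem_fixFinset.mpr hvP)
  let P' : Sylow 7 W := P.subtype hPW
  have hUW : U ≤ W := fun a ha => mem_centralizer_singleton_iff.mpr
    (congrArg Subtype.val (hUab.is_comm.comm (⟨a, ha⟩ : U) ⟨v, hvU⟩))
  set NW := normalizer ((P' : Subgroup W) : Set W)
  have h7 : 7 ∣ Nat.card NW := by
    have e : Nat.card (P' : Subgroup W) = 7 :=
      (Nat.card_congr (subgroupOfEquivOfLe hPW).toEquiv).trans (card_seven h P)
    exact (dvd_of_eq e.symm).trans (card_dvd_of_le le_normalizer)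
  have h4' : 4 ∣ Nat.card NW := by
    have hle : U.subgroupOf W ≤ NW := by
      refine le_trans ?_ (centralizer_le_normalizer' _)
      intro a ha
      rw [mem_centralizer_iff]
      intro b hb
      exact Subtype.ext (mem_centralizer_iff.mp (hUle (mem_subgroupOf.mp ha)) b hb)
    exact (dvd_of_eq ((Nat.card_congr (subgroupOfEquivOfLe hUW).toEquiv).trans hUc).symm).trans
      (card_dvd_of_le hle)
  obtain ⟨k, hk⟩ := Nat.Coprime.mul_dvd_of_dvd_of_dvd (by norm_num : Nat.Coprime 4 7) h4' h7
  have hmul := card_normalizer_mul_card_sylow P'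
  rw [show Nat.card (normalizer ((P' : Subgroup W) : Set W)) = 4 * 7 * k from hk] at hmul
  have hWd : Nat.card W ∣ 2016 := h ▸ card_subgroup_dvd_card W
  have hn : Nat.card (Sylow 7 W) ∣ 72 := by
    have h1 : 28 * Nat.card (Sylow 7 W) ∣ 28 * 72 :=
      (Dvd.intro_left k (by rw [← hmul]; ring)).trans hWd
    exact (Nat.mul_dvd_mul_iff_left (by norm_num : 0 < 28)).mp h1
  have hmodW := card_sylow_modEq_one 7 W
  rw [Nat.ModEq] at hmodW
  have hWtop : W ≠ ⊤ := fun e => hv1 (by
    have : v ∈ center G := mem_center_iff.mpr fun g =>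
      mem_centralizer_singleton_iff.mp (e ▸ mem_top g : g ∈ W)
    rw [center_eq_bot_of_nc (nc h), mem_bot] at this
    exact this)
  have hidx := card_mul_index W
  rw [h, ← hmul] at hidx
  have hi : W.index ≤ 9 := by
    by_contra hlt
    have : 4 * 7 * 8 * 10 ≤ 4 * 7 * k * Nat.card (Sylow 7 W) * W.index := by
      have hk0 : 1 ≤ k := by
        rcases Nat.eq_zero_or_pos k with e | e
        · rw [e] at hk; exact absurd hk Nat.card_pos.ne'
        · exact e
      exact Nat.mul_le_mul (Nat.mul_le_mul (Nat.le_mul_of_pos_right _ hk0) hW8) (by omega)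
    omega
  have hd := centralizer_dvd_of_small hWtop (hi.trans (by norm_num)) hx
  rw [← Order504.centralizer_eq_of_zpowers (eq_zpowers_of_mem (card_seven h P) hxP hx1),
    (hdata P).1] at hd
  have hle14 : (W.index - 7).factorial * 7 ≤ 14 := by
    have := Nat.factorial_le (show W.index - 7 ≤ 2 by omega)
    rw [show (2 : ℕ).factorial = 2 from rfl] at this
    omega
  have := Nat.le_of_dvd (by positivity) hd
  omega

end CfsgLib.Small.Order2016
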