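import Cfsg.Agent.Lib.Small.Residual
import Cfsg.Agent.Lib.Small.Order1440
import Cfsg.Agent.Lib.Involutions.BrauerSuzuki
import Cfsg.Agent.Lib.PCore.Basic
import Cfsg.Agent.S3225

/-!
No simple group has order 720.
-/

set_option autoImplicit false

namespace CfsgLib.Small.Order720

open Subgroup MulAction CfsgLib.Small

section Perm

variable {α : Type*} [Fintype α] [DecidableEq α]

/-- A permutation with `m` cycles, all of length `2 ^ (k + 1)`. -/
theorem sign_of_semiregular (s : Equiv.Perm α) (k m : ℕ) (hs : s ^ 2 ^ (k + 1) = 1)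
    (hfree : ∀ a, s a ≠ a → (s ^ 2 ^ k) a ≠ a) (hcard : s.support.card = 2 ^ (k + 1) * m) :
    Equiv.Perm.sign s = (-1) ^ m := by
  have hall : ∀ n ∈ s.cycleType, n = 2 ^ (k + 1) := by
    intro n hn
    have h2 : n ∣ 2 ^ (k + 1) :=
      (Equiv.Perm.dvd_of_mem_cycleType hn).trans (orderOf_dvd_of_pow_eq_one hs)
    obtain ⟨i, hi, rfl⟩ := (Nat.dvd_prime_pow Nat.prime_two).mp h2
    by_contra hne
    have hik : i ≤ k := by
      rcases Nat.lt_or_ge i (k + 1) with h | h
      · omega
      · exact absurd (by rw [le_antisymm hi h]) hne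
    obtain ⟨c, τ, rfl, hd, hc, hcn⟩ := Equiv.Perm.mem_cycleType_iff.mp hn
    obtain ⟨a, ha⟩ := hc.nonempty_support
    have hτ : τ a = a := (hd a).resolve_left (Equiv.Perm.mem_support.mp ha)
    have hck : c ^ 2 ^ k = 1 := orderOf_dvd_iff_pow_eq_one.mp (by
      rw [hc.orderOf, hcn]; exact pow_dvd_pow 2 hik)
    refine hfree a ?_ ?_
    · rw [Equiv.Perm.mul_apply, hτ]; exact Equiv.Perm.mem_support.mp ha
    · rw [hd.commute.mul_pow, hck, one_mul]
      exact (show Function.IsFixedPt τ a from hτ).perm_pow _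
  have hrep := Multiset.eq_replicate_card.mpr hall
  have hsum := Equiv.Perm.sum_cycleType s
  rw [hrep, Multiset.sum_replicate, smul_eq_mul, hcard, mul_comm] at hsum
  have hm : Multiset.card s.cycleType = m := Nat.eq_of_mul_eq_mul_left (by positivity) hsum
  rw [Equiv.Perm.sign_of_cycleType, Equiv.Perm.sum_cycleType, hcard, hm, pow_add]
  rw [show 2 ^ (k + 1) * m = 2 * (2 ^ k * m) by ring, pow_mul, neg_one_sq, one_pow, one_mul]

theorem support_card_add (s : Equiv.Perm α) :
    s.support.card + Nat.card {a // s a = a} = Fintype.card α := by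
  rw [Nat.card_eq_fintype_card, Fintype.card_subtype, ← Finset.card_univ]
  have h := Finset.card_filter_add_card_filter_not (s := (Finset.univ : Finset α))
    (fun a => s a ≠ a)
  have h1 : s.support = Finset.univ.filter fun a => s a ≠ a := by
    ext a; simp
  rw [h1]
  simpa using h

end Perm

variable {G : Type*} [Group G] [Finite G]

theorem fixedBy_eq {α : Type*} [MulAction G α] (g : G) :
    Nat.card {a : α // MulAction.toPerm g a = a} = Nat.card (fixedBy α g) :=
  Nat.card_congr (Equiv.subtypeEquivRight fun a => Iff.rfl)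

theorem toPerm_pow {α : Type*} [MulAction G α] (g : G) (j : ℕ) :
    (MulAction.toPerm g : Equiv.Perm α) ^ j = MulAction.toPerm (g ^ j) :=
  (map_pow (MulAction.toPermHom G α) g j).symm

theorem pow_fixed {α : Type*} [MulAction G α] {g : G} {a : α} (h : g • a = a) (j : ℕ) :
    g ^ j • a = a := by
  induction j with
  | zero => simp
  | succ j ih => rw [pow_succ, mul_smul, h, ih]

theorem centralizer_conj_card (g u : G) :
    Nat.card (centralizer ({g * u * g⁻¹} : Set G)) = Nat.card (centralizer ({u} : Set G)) := by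
  refine (Nat.card_congr (Equiv.subtypeEquiv (MulAut.conj g).toEquiv fun a => ?_)).symm
  simp only [MulEquiv.toEquiv_eq_coe, EquivLike.coe_coe, MulAut.conj_apply,
    mem_centralizer_singleton_iff]
  constructor <;> intro h
  · have h' := congrArg (fun w => g * w * g⁻¹) h
    simpa [mul_assoc] using h'
  · have h' := congrArg (fun w => g⁻¹ * w * g) h
    simpa [mul_assoc] using h'

variable [IsSimpleGroup G]

theorem nc (h : Nat.card G = 720) : ¬ IsMulCommutative G :=
  nc_of_not_prime (by rw [h]; norm_num)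

theorem index_gt (h : Nat.card G = 720) {H : Subgroup G} (hH : H ≠ ⊤) : 7 ≤ H.index := by
  have hdvd := two_mul_card_dvd_factorial_index (nc h) hH
  rw [h] at hdvd
  by_contra hlt
  have : ∀ k < 7, ¬ 2 * 720 ∣ Nat.factorial k := by decide
  exact this _ (by omega) hdvd

theorem card_le (h : Nat.card G = 720) {H : Subgroup G} (hH : H ≠ ⊤) : Nat.card H < 120 := by
  have h1 := index_gt h hH
  have h2 := card_mul_index H
  rw [h] at h2
  by_contra hge
  have := Nat.mul_le_mul (Nat.le_of_not_lt hge) h1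
  omega

theorem card_five (h : Nat.card G = 720) [Fact (Nat.Prime 5)] (Q : Sylow 5 G) : Nat.card Q = 5 := by
  simpa using card_sylow_of_card_eq (k := 1) (m := 144) (by rw [h]; norm_num) (by norm_num) Q

theorem five_data (h : Nat.card G = 720) [Fact (Nat.Prime 5)] (Q : Sylow 5 G) :
    Nat.card (Sylow 5 G) = 36 ∧ Nat.card (centralizer ((Q : Subgroup G) : Set G)) = 5 ∧
      Nat.card (normalizer ((Q : Subgroup G) : Set G)) = 20 := by
  classical
  have hG := nc h
  obtain ⟨e, he1, he2, ⟨c, hcc⟩, hCe, hall⟩ := sylow_prime_order_data hG Q (card_five h Q)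
  have hm := card_sylow_mem (p := 5) hG (k := 1) (m := 144) one_ne_zero (by rw [h]; norm_num)
    (by norm_num)
  rw [show ((Nat.divisors 144).filter fun n => n % 5 = 1 ∧ 1 < n) = {6, 16, 36} from
    by decide +kernel] at hm
  simp only [Finset.mem_insert, Finset.mem_singleton] at hm
  rw [hcc, h] at hall
  have he : e = 2 ∨ e = 4 := (show ∀ d ∈ Nat.divisors (5 - 1), 1 < d → d = 2 ∨ d = 4 from
    by decide) e (Nat.mem_divisors.mpr ⟨he2, by norm_num⟩) he1
  have hn : Nat.card (Sylow 5 G) = 36 := by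
    rcases hm with hn | hn | hn
    · have h2 := two_mul_card_dvd_factorial_card_sylow (p := 5) hG (by rw [h]; norm_num)
      rw [hn, h] at h2
      exact absurd h2 (by decide)
    · exfalso; rw [hn] at hall; rcases he with rfl | rfl <;> omega
    · exact hn
  rw [hn] at hall
  rcases he with rfl | rfl
  · exfalso
    obtain rfl : c = 2 := by omega
    obtain ⟨u', hu'⟩ := exists_prime_orderOf_dvd_card' 2
      (G := centralizer ((Q : Subgroup G) : Set G)) (by rw [hcc]; norm_num)
    have hu : orderOf (u' : G) = 2 := by rw [orderOf_coe]; exact hu'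
    have hQH : (Q : Subgroup G) ≤ centralizer ({(u' : G)} : Set G) := fun a ha =>
      mem_centralizer_singleton_iff.mpr (mem_centralizer_iff.mp u'.2 a ha)
    refine Residual.not_klein_centralizer hG (m := 45) (by norm_num) (by rw [h]; norm_num) hu
      fun h8 => ?_
    have hNle := Residual.normalizer_le_centralizer_involution Q (card_five h Q) (by norm_num) hcc
      u'.2 hu
    have hNH := Residual.card_eq_sylow_mul Q hQH
    rw [inf_eq_left.mpr hNle, ← hCe, hcc] at hNH
    have hf := card_sylow_modEq_one 5 (centralizer ({(u' : G)} : Set G))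
    rw [Nat.ModEq] at hf
    have hlt := card_le h (Residual.centralizer_ne_top hG (x := (u' : G))
      fun e => by rw [e, orderOf_one] at hu; norm_num at hu)
    omega
  · exact ⟨hn, by omega, by rw [← hCe, hcc]; omega⟩

/-- An element of order `5` commutes only with the powers of itself. -/
theorem five_coprime (h : Nat.card G = 720) {y a : G} (hy : orderOf y = 5) (hya : a * y = y * a)
    {r : ℕ} (hr : r.Prime) (hr5 : r ≠ 5) : orderOf a ≠ r := by
  intro ha
  have : Fact (Nat.Prime 5) := ⟨by norm_num⟩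
  obtain ⟨Q, hQ, -⟩ := exists_unique_sylow_mem hy (card_five h)
  have hy1 : y ≠ 1 := fun e => by rw [e, orderOf_one] at hy; norm_num at hy
  have haC : a ∈ centralizer ((Q : Subgroup G) : Set G) := by
    rw [Order504.centralizer_eq_of_zpowers (eq_zpowers_of_mem (card_five h Q) hQ hy1)]
    exact mem_centralizer_singleton_iff.mpr hya
  have h5 := orderOf_dvd_natCard (⟨a, haC⟩ : centralizer ((Q : Subgroup G) : Set G))
  rw [Subgroup.orderOf_mk, ha, (five_data h Q).2.1] at h5
  exact hr5 ((Nat.prime_dvd_prime_iff_eq hr (by norm_num)).mp h5)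

/-- An involution normalising a Sylow `5`-subgroup has centraliser of order `16`. -/
theorem card_centralizer_involution (h : Nat.card G = 720) [Fact (Nat.Prime 5)] (P : Sylow 5 G)
    {z : G} (hz : orderOf z = 2) (hzN : z ∈ normalizer ((P : Subgroup G) : Set G)) :
    Nat.card (centralizer ({z} : Set G)) = 16 := by
  classical
  have hG := nc h
  obtain ⟨hn, hC, hN⟩ := five_data h P
  have hP := card_five h P
  have hz1 : z ≠ 1 := fun e => by rw [e, orderOf_one] at hz; norm_num at hz
  have hzz : z * z = 1 := by rw [← pow_two, ← hz, pow_orderOf_eq_one]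
  have hzC : z ∉ centralizer ((P : Subgroup G) : Set G) := fun hc => by
    have h5 := orderOf_dvd_natCard (⟨z, hc⟩ : centralizer ((P : Subgroup G) : Set G))
    rw [Subgroup.orderOf_mk, hz, hC] at h5
    norm_num at h5
  have hCP : centralizer ((P : Subgroup G) : Set G) = (P : Subgroup G) := by
    refine (eq_of_le_of_card_ge (fun a ha => mem_centralizer_iff.mpr fun b hb => ?_)
      (by rw [hC, hP])).symm
    have hcyc : IsCyclic (P : Subgroup G) := isCyclic_of_prime_card hP
    let _ := IsCyclic.commGroup (α := (P : Subgroup G))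
    exact congrArg Subtype.val (mul_comm (⟨b, hb⟩ : (P : Subgroup G)) ⟨a, ha⟩)
  -- every involution of `N(P)` inverts `P`
  have hinv : ∀ t ∈ normalizer ((P : Subgroup G) : Set G), orderOf t = 2 →
      ∀ u ∈ (P : Subgroup G), t * u * t⁻¹ = u⁻¹ := by
    intro t htN ht u hu
    by_cases hu1 : u = 1
    · simp [hu1]
    have hPu := eq_zpowers_of_mem hP hu hu1
    have hu5 : orderOf u = 5 := by rw [← Nat.card_zpowers, ← hPu, hP]
    have hmem : t * u * t⁻¹ ∈ (P : Subgroup G) := (mem_normalizer_iff.mp htN u).mp hu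
    obtain ⟨j, hj⟩ := mem_zpowers_iff.mp (hPu ▸ hmem)
    rw [← zpow_mod_orderOf, hu5] at hj
    obtain ⟨i, hi⟩ := Int.eq_ofNat_of_zero_le (Int.emod_nonneg j (show ((5 : ℕ) : ℤ) ≠ 0 by norm_num))
    have hi5 : i < 5 := by
      have := Int.emod_lt_of_pos j (show (0 : ℤ) < ((5 : ℕ) : ℤ) by norm_num)
      rw [hi] at this
      exact_mod_cast this
    rw [hi, zpow_natCast] at hj
    have htt : t * t = 1 := by rw [← pow_two, ← ht, pow_orderOf_eq_one]
    have h2 : u ^ (i * i) = u := by
      rw [pow_mul, hj, conj_pow, hj]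
      calc t * (t * u * t⁻¹) * t⁻¹ = (t * t) * u * (t * t)⁻¹ := by group
        _ = u := by rw [htt]; simp
    have h3 : i * i ≡ 1 [MOD 5] := by
      have := (pow_eq_pow_iff_modEq (x := u) (n := i * i) (m := 1)).mp (by rw [pow_one, h2])
      rwa [hu5] at this
    rw [Nat.ModEq] at h3
    rcases (show i = 1 ∨ i = 4 by interval_cases i <;> omega) with rfl | rfl
    · exfalso
      rw [pow_one] at hj
      have htc : t ∈ centralizer ((P : Subgroup G) : Set G) := by
        rw [Order504.centralizer_eq_of_zpowers hPu, mem_centralizer_singleton_iff]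
        exact mul_inv_eq_iff_eq_mul.mp hj.symm
      have h5 := orderOf_dvd_natCard (⟨t, htc⟩ : centralizer ((P : Subgroup G) : Set G))
      rw [Subgroup.orderOf_mk, ht, hC] at h5
      norm_num at h5
    · rw [← hj, eq_inv_iff_mul_eq_one, ← pow_succ, show 4 + 1 = 5 from rfl, ← hu5, pow_orderOf_eq_one]
  set N := normalizer ((P : Subgroup G) : Set G) with hNdef
  -- exactly five conjugates of `z` in `N(P)`
  have hk : Nat.card {g : G // IsConj z g ∧ g ∈ N} = 5 := by
    refine le_antisymm ?_ ?_
    · rw [← hP]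
      refine Nat.card_le_card_of_injective (fun g => ⟨g.1 * z, ?_⟩) (fun a b hab => ?_)
      · obtain ⟨⟨g, hg, hgN⟩, rfl⟩ : ∃ g', g' = g := ⟨g, rfl⟩
        obtain ⟨c, rfl⟩ := isConj_iff.mp hg
        have ho : orderOf (c * z * c⁻¹) = 2 := by
          rw [show c * z * c⁻¹ = MulAut.conj c z from rfl, MulEquiv.orderOf_eq, hz]
        show c * z * c⁻¹ * z ∈ (P : Subgroup G)
        rw [← hCP, mem_centralizer_iff]
        intro u hu
        have e1 : z * u * z⁻¹ = u⁻¹ := hinv z hzN hz u hu
        have e2 := hinv _ hgN ho u⁻¹ (inv_mem hu)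
        rw [inv_inv] at e2
        have e3 : (c * z * c⁻¹ * z) * u * (c * z * c⁻¹ * z)⁻¹ = u := by
          calc _ = (c * z * c⁻¹) * (z * u * z⁻¹) * (c * z * c⁻¹)⁻¹ := by group
            _ = u := by rw [e1, e2]
        exact (mul_inv_eq_iff_eq_mul.mp e3).symm
      · exact Subtype.ext (mul_right_cancel (congrArg Subtype.val hab))
    · rw [← hP]
      refine Nat.card_le_card_of_injective (fun u => ⟨u.1 * z * u.1⁻¹, ?_, ?_⟩) (fun a b hab => ?_)
      · exact isConj_iff.mpr ⟨u.1, rfl⟩
      · exact mul_mem (mul_mem (le_normalizer u.2) hzN) (inv_mem (le_normalizer u.2))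
      · have h1 : (b.1⁻¹ * a.1) * z * (b.1⁻¹ * a.1)⁻¹ = z := by
          have := congrArg Subtype.val hab
          dsimp only at this
          calc _ = b.1⁻¹ * (a.1 * z * a.1⁻¹) * b.1 := by group
            _ = z := by rw [this]; group
        by_contra hne
        have hw : b.1⁻¹ * a.1 ∈ (P : Subgroup G) := mul_mem (inv_mem b.2) a.2
        have hw1 : b.1⁻¹ * a.1 ≠ 1 := fun e =>
          hne (Subtype.ext (inv_mul_eq_one.mp e).symm)
        refine hzC ?_
        rw [Order504.centralizer_eq_of_zpowers (eq_zpowers_of_mem hP hw hw1),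
          mem_centralizer_singleton_iff]
        exact (mul_inv_eq_iff_eq_mul.mp h1).symm
  have hformula := card_fixedBy_mul_card_class N z
  rw [card_fixedBy_quotient_normalizer_eq, hk] at hformula
  have hidx : N.index = 36 := by
    have := card_mul_index N
    rw [hN, h] at this
    omega
  have hcl := Order1440.card_conj_mul z
  rw [h] at hcl
  rw [hidx] at hformula
  set f := Nat.card (fixedBy (Sylow 5 G) z) with hf
  set cl := Nat.card {g : G // IsConj z g}
  set C := Nat.card (centralizer ({z} : Set G)) with hCdef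
  have hC4 : C = 4 * f := by
    have h1 : f * cl * C = 180 * C := by rw [show f * cl = 180 by omega]
    rw [mul_assoc, hcl] at h1
    omega
  -- evenness
  have := Fintype.ofFinite (Sylow 5 G)
  have hsum := support_card_add (MulAction.toPerm z : Equiv.Perm (Sylow 5 G))
  rw [fixedBy_eq, ← hf, ← Nat.card_eq_fintype_card, hn] at hsum
  have hs2 : (MulAction.toPerm z : Equiv.Perm (Sylow 5 G)) ^ 2 ^ (0 + 1) = 1 := by
    rw [toPerm_pow, show z ^ 2 ^ (0 + 1) = 1 by simpa [pow_two] using hzz]
    ext Q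
    simp
  have hfE : 2 ∣ 36 - f := by
    have h0 := Equiv.Perm.cycleType_of_pow_prime_eq_one (p := 2) (by simpa using hs2)
    have h1 := Equiv.Perm.sum_cycleType (MulAction.toPerm z : Equiv.Perm (Sylow 5 G))
    rw [h0, Multiset.sum_replicate, smul_eq_mul] at h1
    exact ⟨Multiset.card (MulAction.toPerm z : Equiv.Perm (Sylow 5 G)).cycleType, by omega⟩
  obtain ⟨mm, hmm⟩ := hfE
  have hsgn := sign_of_semiregular (MulAction.toPerm z : Equiv.Perm (Sylow 5 G)) 0 mm hs2
    (fun a ha => by simpa using ha) (by omega)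
  rw [sign_toPerm hG] at hsgn
  have hmm2 : Even mm := by
    rcases mm.even_or_odd with he | ho
    · exact he
    · rw [ho.neg_one_pow] at hsgn; exact absurd hsgn (by decide)
  -- one fixed point per orbit
  have hle : (f - 1) * 5 ≤ 35 := by
    have hfix0 : Nat.card {Q : fixedBy (Sylow 5 G) z // Q.1 ≠ P} = f - 1 := by
      have hPf : P ∈ fixedBy (Sylow 5 G) z := Sylow.smul_eq_iff_mem_normalizer.mpr hzN
      have := Fintype.ofFinite (fixedBy (Sylow 5 G) z)
      rw [hf, Nat.card_eq_fintype_card, Nat.card_eq_fintype_card,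
        Fintype.card_congr (Equiv.subtypeEquivRight (p := fun Q : fixedBy (Sylow 5 G) z => Q.1 ≠ P) (q := fun Q => Q ≠ ⟨P, hPf⟩)
          fun Q => ⟨fun h' e => h' (congrArg Subtype.val e), fun h' e => h' (Subtype.ext e)⟩),
        Fintype.card_subtype_compl, Fintype.card_subtype_eq]
    have h1 : Nat.card ({Q : fixedBy (Sylow 5 G) z // Q.1 ≠ P} × (P : Subgroup G)) ≤
        Nat.card {R : Sylow 5 G // R ≠ P} := by
      refine Nat.card_le_card_of_injective (fun x => ⟨(x.2 : G) • x.1.1.1, fun e => ?_⟩) ?_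
      · refine x.1.2 ?_
        rw [← inv_smul_smul (x.2 : G) x.1.1.1, e]
        exact Sylow.smul_eq_iff_mem_normalizer.mpr (le_normalizer (inv_mem x.2.2))
      · rintro ⟨⟨⟨Q, hQ⟩, hQP⟩, u, hu⟩ ⟨⟨⟨R, hR⟩, hRP⟩, v, hv⟩ hab
        have h2 : u • Q = v • R := congrArg Subtype.val hab
        have h3 : R ∈ orbit (P : Subgroup G) Q :=
          ⟨⟨v⁻¹ * u, mul_mem (inv_mem hv) hu⟩, show (v⁻¹ * u) • Q = R by
            rw [mul_smul, h2, inv_smul_smul]⟩
        obtain rfl : R = Q := eq_of_fixed_of_mem_orbit hP hzN hzC hQ hR h3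
        have h4 : (v⁻¹ * u) • R = R := by rw [mul_smul, h2, inv_smul_smul]
        have huv : u = v := by
          by_contra hne
          have hw : v⁻¹ * u ∈ (P : Subgroup G) := mul_mem (inv_mem hv) hu
          have hw1 : v⁻¹ * u ≠ 1 := fun e => hne (inv_mul_eq_one.mp e).symm
          have ho : orderOf (v⁻¹ * u) = 5 := by
            rw [← Nat.card_zpowers, ← eq_zpowers_of_mem hP hw hw1, hP]
          obtain ⟨T, -, huq⟩ := exists_unique_sylow_mem ho (card_five h)
          have hpg : IsPGroup 5 (zpowers (v⁻¹ * u)) :=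
            IsPGroup.of_card (n := 1) (by rw [Nat.card_zpowers, ho, pow_one])
          have hR' : v⁻¹ * u ∈ zpowers (v⁻¹ * u) ⊓ (R : Subgroup G) :=
            hpg.inf_normalizer_sylow R ▸ Subgroup.mem_inf.mpr
              ⟨mem_zpowers _, Sylow.smul_eq_iff_mem_normalizer.mp h4⟩
          exact hRP ((huq R hR'.2).trans (huq P hw).symm)
        subst huv
        rfl
    rw [Nat.card_prod, hfix0, hP] at h1
    have h5 : Nat.card {R : Sylow 5 G // R ≠ P} = 35 := by
      rw [Nat.card_eq_fintype_card, Fintype.card_subtype_compl, Fintype.card_subtype_eq,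
        ← Nat.card_eq_fintype_card, hn]
    omega
  obtain ⟨r, hr⟩ := hmm2
  have hf1 : 1 ≤ f := by
    rw [hf]
    have : Nonempty (fixedBy (Sylow 5 G) z) := ⟨⟨P, Sylow.smul_eq_iff_mem_normalizer.mpr hzN⟩⟩
    exact Nat.card_pos
  have hdvd : C ∣ 720 := h ▸ card_subgroup_dvd_card _
  rcases (show f = 4 ∨ f = 8 by omega) with e | e
  · omega
  · rw [hC4, e] at hdvd; norm_num at hdvd

/-- An element of order `4` whose square has centraliser of order `16`. -/
theorem exists_four (h : Nat.card G = 720) :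
    ∃ x : G, orderOf x = 4 ∧ Nat.card (centralizer ({x ^ 2} : Set G)) = 16 := by
  classical
  have : Fact (Nat.Prime 5) := ⟨by norm_num⟩
  obtain ⟨P⟩ := (inferInstance : Nonempty (Sylow 5 G))
  obtain ⟨-, hC, hN⟩ := five_data h P
  set N := normalizer ((P : Subgroup G) : Set G)
  set K := (centralizer ((P : Subgroup G) : Set G)).subgroupOf N
  have hK : Nat.card K = 5 := by
    rw [Nat.card_congr (subgroupOfEquivOfLe (centralizer_le_normalizer' _)).toEquiv, hC]
  have hcyc : IsCyclic (N ⧸ K) := by
    have : IsCyclic (P : Subgroup G) := isCyclic_of_prime_card (card_five h P)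
    have hinj := QuotientGroup.kerLift_injective (P : Subgroup G).normalizerMonoidHom
    have : IsCyclic (MulAut (P : Subgroup G)) := by
      have e := IsCyclic.mulAutMulEquiv (P : Subgroup G)
      have : IsCyclic (ZMod (Nat.card (P : Subgroup G)))ˣ := by
        rw [card_five h P]; exact ZMod.isCyclic_units_prime (by norm_num)
      exact e.isCyclic.mpr this
    have hKer : (P : Subgroup G).normalizerMonoidHom.ker = K := normalizerMonoidHom_ker _
    have h4 := isCyclic_of_injective _ hinj
    exact (QuotientGroup.quotientMulEquivOfEq hKer).isCyclic.mp h4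
  obtain ⟨q, hq⟩ := hcyc.exists_ofOrder_eq_natCard
  have hqc : Nat.card (N ⧸ K) = 4 := by
    have := card_mul_index K
    rw [hK, hN, index_eq_card] at this
    omega
  rw [hqc] at hq
  obtain ⟨a, rfl⟩ := QuotientGroup.mk'_surjective K q
  have h4a : 4 ∣ orderOf a := hq ▸ orderOf_map_dvd _ a
  obtain ⟨j, hj⟩ := h4a
  have hj0 : j ≠ 0 := fun e => by rw [e] at hj; exact (orderOf_pos a).ne' hj
  refine ⟨((a ^ j : N) : G), ?_, ?_⟩
  · rw [orderOf_coe, orderOf_pow_of_dvd hj0 ⟨4, by rw [hj, mul_comm]⟩, hj,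
      Nat.mul_div_cancel _ (Nat.pos_of_ne_zero hj0)]
  · refine card_centralizer_involution h P ?_ (pow_mem (SetLike.coe_mem (a ^ j)) 2)
    rw [← SubmonoidClass.coe_pow, orderOf_coe, ← pow_mul,
      orderOf_pow_of_dvd (mul_ne_zero hj0 two_ne_zero) ⟨2, by rw [hj]; ring⟩, hj,
      show 4 * j = 2 * (j * 2) by ring, Nat.mul_div_cancel _ (by omega)]

theorem not_three (h : Nat.card G = 720) {z d : G} (hz : Nat.card (centralizer ({z} : Set G)) = 16)
    (hd : orderOf d = 3) (hc : z * d = d * z) : False := by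
  have h3 := orderOf_dvd_natCard
    (⟨d, mem_centralizer_singleton_iff.mpr hc.symm⟩ : centralizer ({z} : Set G))
  rw [Subgroup.orderOf_mk, hd, hz] at h3
  norm_num at h3

theorem conj_centralizer (g : G) {z : G} (hz : Nat.card (centralizer ({z} : Set G)) = 16) :
    Nat.card (centralizer ({g * z * g⁻¹} : Set G)) = 16 := by
  rw [centralizer_conj_card, hz]

/-- No subgroup of order `3` is centralised by two Sylow `3`-subgroups. -/
theorem intersection (h : Nat.card G = 720) [Fact (Nat.Prime 3)] {D : Subgroup G} (hD : Nat.card D = 3)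
    {P Q : Sylow 3 G} (hPQ : P ≠ Q) (hPD : (P : Subgroup G) ≤ centralizer (D : Set G))
    (hQD : (Q : Subgroup G) ≤ centralizer (D : Set G)) : False := by
  classical
  have hG := nc h
  have := Fintype.ofFinite G
  have hP9 : Nat.card P = 9 := by
    simpa using card_sylow_of_card_eq (k := 2) (m := 80) (by rw [h]; norm_num) (by norm_num) P
  obtain ⟨d, hdD, hd⟩ : ∃ d ∈ D, orderOf d = 3 := by
    obtain ⟨d, hd⟩ := exists_prime_orderOf_dvd_card' 3 (G := D) (by rw [hD])
    exact ⟨d, d.2, by rw [orderOf_coe]; exact hd⟩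
  set N := normalizer (D : Set G) with hN
  set K := centralizer (D : Set G) with hK
  have hKN : K ≤ N := centralizer_le_normalizer' _
  set K' := K.subgroupOf N
  have hKi : K'.index = 1 ∨ K'.index = 2 := by
    have := relIndex_centralizer_normalizer_dvd_of_prime (p := 3) hD
    rw [relIndex] at this
    exact (Nat.dvd_prime Nat.prime_two).mp this
  have hKc : Nat.card K' = Nat.card K := Nat.card_congr (subgroupOfEquivOfLe hKN).toEquiv
  have hmul := K'.card_mul_index
  rw [hKc] at hmul
  have hcomm : ∀ a ∈ K, a * d = d * a := fun a ha => (mem_centralizer_iff.mp ha d hdD).symm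
  have h5 : ¬ 5 ∣ Nat.card N := by
    intro h5
    have h5K : 5 ∣ Nat.card K := by
      rcases hKi with e | e <;> rw [e] at hmul
      · omega
      · exact (Nat.Coprime.dvd_of_dvd_mul_right (by norm_num) (hmul ▸ h5))
    have : Fact (Nat.Prime 5) := ⟨by norm_num⟩
    obtain ⟨y, hy⟩ := exists_prime_orderOf_dvd_card' 5 (G := K) h5K
    exact five_coprime h (y := (y : G)) (by rw [orderOf_coe]; exact hy) (hcomm _ y.2).symm
      Nat.prime_three (by norm_num) hd
  have hNne : N ≠ ⊤ := normalizer_ne_top (fun e => by rw [e, card_bot] at hD; norm_num at hD)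
    (fun e => by rw [e, card_top, h] at hD; norm_num at hD)
  have h9 : 9 ∣ Nat.card K := hP9 ▸ card_dvd_of_le hPD
  have hn4 : 4 ≤ Nat.card (Sylow 3 K) := by
    have h1 := card_sylow_modEq_one 3 K
    rw [Nat.ModEq] at h1
    have h2 : 1 < Nat.card (Sylow 3 K) := Finite.one_lt_card_iff_nontrivial.mpr
      ⟨P.subtype hPD, Q.subtype hQD, fun e => hPQ (Sylow.subtype_injective e)⟩
    omega
  have hK36le : 36 ≤ Nat.card K := by
    have h1 := Residual.card_eq_sylow_mul P hPD
    have h2 : 9 ≤ Nat.card (normalizer ((P : Subgroup G) : Set G) ⊓ K : Subgroup G) :=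
      hP9 ▸ card_le_of_le (le_inf le_normalizer hPD)
    have := Nat.mul_le_mul hn4 h2
    omega
  have hNle := card_le h hNne
  have hKle : Nat.card K ≤ Nat.card N := card_le_of_le hKN
  have hKcard : Nat.card K = 36 ∨ Nat.card K = 72 := by
    have h2 : Nat.card K ∣ 720 := h ▸ card_subgroup_dvd_card K
    exact (show ∀ k ∈ Nat.divisors 720, k < 120 → 36 ≤ k → 9 ∣ k → ¬ 5 ∣ k → k = 36 ∨ k = 72 from
      by decide +kernel) _ (Nat.mem_divisors.mpr ⟨h2, by norm_num⟩) (by omega) hK36le h9
      (fun e => h5 (e.trans (card_dvd_of_le hKN)))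
  have hNcard : Nat.card N = 36 ∨ Nat.card N = 72 := by
    rcases hKi with e | e <;> rw [e] at hmul <;> omega
  obtain ⟨x, hx, hxz⟩ := exists_four h
  have hxx : orderOf (x ^ 2) = 2 := by rw [orderOf_pow_of_dvd two_ne_zero (by rw [hx]; norm_num), hx]
  -- conjugates of `x²` avoid `K`
  have hzK : ∀ g : G, g * x ^ 2 * g⁻¹ ∉ K := fun g hg =>
    not_three h (conj_centralizer g hxz) hd (hcomm _ hg)
  have hfree : ∀ q : G ⧸ N, K'.index = 1 → x ^ 2 • q ≠ q := by
    intro q h1 hq
    induction q using QuotientGroup.induction_on with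
    | H g =>
      rw [smul_mk_eq_self_iff] at hq
      refine hzK g⁻¹ ?_
      rw [inv_inv]
      have : (⟨_, hq⟩ : N) ∈ K' := by rw [index_eq_one.mp h1]; exact mem_top _
      exact mem_subgroupOf.mp this
  have hx4 : ∀ q : G ⧸ N, x • q ≠ q := by
    intro q hq
    induction q using QuotientGroup.induction_on with
    | H g =>
      rw [smul_mk_eq_self_iff] at hq
      refine hzK g⁻¹ ?_
      rw [inv_inv]
      have hmem : (⟨_, hq⟩ : N) ^ 2 ∈ K' := by
        rcases hKi with e | e
        · rw [index_eq_one.mp e]; exact mem_top _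
        · exact sq_mem_of_index_two e _
      rw [mem_subgroupOf] at hmem
      have : (g⁻¹ * x * g) ^ 2 = g⁻¹ * x ^ 2 * g := by
        rw [pow_two, pow_two]; group
      rwa [SubmonoidClass.coe_pow, this] at hmem
  have := Fintype.ofFinite (G ⧸ N)
  have hidx := card_mul_index N
  rw [h, index_eq_card, Nat.card_eq_fintype_card (α := G ⧸ N)] at hidx
  set s : Equiv.Perm (G ⧸ N) := MulAction.toPerm x with hs
  have hs4 : s ^ 4 = 1 := by
    rw [hs, toPerm_pow, ← hx, pow_orderOf_eq_one]
    ext q; simp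
  have hs2 : s ^ 2 = MulAction.toPerm (x ^ 2) := toPerm_pow x 2
  set zp : Equiv.Perm (G ⧸ N) := MulAction.toPerm (x ^ 2) with hzp
  have hzp2 : zp ^ 2 ^ (0 + 1) = 1 := by
    rw [hzp, toPerm_pow, show (x ^ 2) ^ 2 ^ (0 + 1) = 1 by
      rw [← pow_mul]; norm_num; rw [← hx, pow_orderOf_eq_one]]
    ext q; simp
  rcases hKi with h1 | h2
  · -- `x²` fixes nothing
    have hsupp : s.support = Finset.univ := by
      ext q; simp only [Equiv.Perm.mem_support, Finset.mem_univ, iff_true]; exact hx4 q
    rcases hNcard with e | e <;> rw [e] at hidx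
    · have := sign_of_semiregular s 1 5 (by simpa using hs4)
        (fun q _ => by rw [pow_one, hs2]; exact hfree q h1)
        (by rw [hsupp, Finset.card_univ]; omega)
      rw [hs, sign_toPerm hG] at this
      exact absurd this (by decide)
    · have hzsupp : zp.support = Finset.univ := by
        ext q; simp only [Equiv.Perm.mem_support, Finset.mem_univ, iff_true]; exact hfree q h1
      have := sign_of_semiregular zp 0 5 hzp2 (fun q hq => by simpa using hq)
        (by rw [hzsupp, Finset.card_univ]; omega)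
      rw [hzp, sign_toPerm hG] at this
      exact absurd this (by decide)
  rw [h2] at hmul
  have hN72 : Nat.card N = 72 := by omega
  have hK36 : Nat.card K = 36 := by omega
  rw [hN72] at hidx
  have hcardα : Fintype.card (G ⧸ N) = 10 := by omega
  -- `x²` fixes six points
  set f := Nat.card {q // zp q = q} with hf
  have hsum := support_card_add zp
  rw [← hf, hcardα] at hsum
  have hfE : ∃ mm, zp.support.card = 2 * mm := by
    have h0 := Equiv.Perm.cycleType_of_pow_prime_eq_one (p := 2) (by simpa using hzp2)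
    have h1 := Equiv.Perm.sum_cycleType zp
    rw [h0, Multiset.sum_replicate, smul_eq_mul] at h1
    exact ⟨_, by rw [← h1, mul_comm]⟩
  obtain ⟨mm, hmm⟩ := hfE
  have hsgn := sign_of_semiregular zp 0 mm hzp2 (fun q hq => by simpa using hq) (by omega)
  rw [hzp, sign_toPerm hG] at hsgn
  have hmm2 : Even mm := by
    rcases mm.even_or_odd with he | ho
    · exact he
    · rw [ho.neg_one_pow] at hsgn; exact absurd hsgn (by decide)
  have hne1 : zp ≠ 1 := fun e => by
    have hinj := toPermHom_injective (G := G) (H := N) hNne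
    have h1 : x ^ 2 = 1 := hinj (by rw [map_one]; exact e)
    rw [h1, orderOf_one] at hxx
    norm_num at hxx
  have hmm0 : mm ≠ 0 := fun e => hne1 (Equiv.Perm.support_eq_empty_iff.mp
    (Finset.card_eq_zero.mp (by omega)))
  obtain ⟨r, hr⟩ := hmm2
  have hf6 : f = 6 := by
    rcases (show f = 6 ∨ f = 2 by omega) with e | e
    · exact e
    exfalso
    obtain ⟨⟨a, ha⟩, ⟨b, hb⟩, hab, huniv⟩ := Nat.card_eq_two_iff.mp e
    have hab' : a ≠ b := fun e => hab (Subtype.ext e)
    have hfix : ∀ q, zp q = q → q = a ∨ q = b := fun q hq => by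
      have hm : (⟨q, hq⟩ : {q // zp q = q}) ∈ ({⟨a, ha⟩, ⟨b, hb⟩} : Set {q // zp q = q}) := by
        rw [huniv]; trivial
      rcases hm with hm | hm
      · exact Or.inl (congrArg Subtype.val hm)
      · exact Or.inr (congrArg Subtype.val hm)
    have hszp : ∀ q, zp (s q) = s (zp q) := fun q => by
      rw [← hs2, pow_two]; rfl
    have hsa : s a = b := (hfix _ (by rw [hszp, ha])).resolve_left (hx4 a)
    have hsb : s b = a := (hfix _ (by rw [hszp, hb])).resolve_right (hx4 b)
    set w := Equiv.swap a b with hw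
    have hcom : Commute s w := by
      ext q
      simp only [Equiv.Perm.coe_mul, Function.comp_apply, hw]
      by_cases hqa : q = a
      · rw [hqa, Equiv.swap_apply_left, hsb, hsa, Equiv.swap_apply_right]
      by_cases hqb : q = b
      · rw [hqb, Equiv.swap_apply_right, hsa, hsb, Equiv.swap_apply_left]
      rw [Equiv.swap_apply_of_ne_of_ne hqa hqb, Equiv.swap_apply_of_ne_of_ne
        (fun e => hqb (s.injective (e.trans hsb.symm)))
        (fun e => hqa (s.injective (e.trans hsa.symm)))]
    have hw2 : w ^ 2 = 1 := by rw [pow_two, hw, Equiv.swap_mul_self]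
    have hsupp : (s * w).support = zp.support := by
      ext q
      rw [Equiv.Perm.mem_support, Equiv.Perm.mem_support, Equiv.Perm.mul_apply, hw]
      by_cases hqa : q = a
      · simp [hqa, hsb, ha]
      by_cases hqb : q = b
      · simp [hqb, hsa, hb]
      rw [Equiv.swap_apply_of_ne_of_ne hqa hqb]
      exact iff_of_true (hx4 q) fun e => (hfix q e).elim hqa hqb
    have hsign := sign_of_semiregular (s * w) 1 2
      (by rw [hcom.mul_pow, show (2 : ℕ) ^ (1 + 1) = 2 * 2 from rfl, pow_mul w, hw2, one_pow,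
        show (2 : ℕ) * 2 = 4 from rfl, hs4, one_mul])
      (fun q hq => by
        rw [pow_one, hcom.mul_pow, hw2, mul_one, hs2]
        exact Equiv.Perm.mem_support.mp (hsupp ▸ Equiv.Perm.mem_support.mpr hq))
      (by rw [hsupp]; omega)
    rw [map_mul, hs, sign_toPerm hG, hw, Equiv.Perm.sign_swap hab'] at hsign
    exact absurd hsign (by decide)
  -- so `27` conjugates of `x²` lie in `N` outside `K`
  have hformula := card_fixedBy_mul_card_class N (x ^ 2)
  have hcl := Order1440.card_conj_mul (x ^ 2)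
  rw [hxz, h] at hcl
  rw [← fixedBy_eq, ← hzp, ← hf, hf6, index_eq_card, Nat.card_eq_fintype_card (α := G ⧸ N),
    hcardα] at hformula
  have hk : Nat.card {g : G // IsConj (x ^ 2) g ∧ g ∈ N} = 27 := by omega
  obtain ⟨⟨t, htc, htN⟩⟩ : Nonempty {g : G // IsConj (x ^ 2) g ∧ g ∈ N} :=
    (Nat.card_pos_iff.mp (by rw [hk]; norm_num)).1
  have hinvol : ∀ g, IsConj (x ^ 2) g → g * g = 1 ∧ g ∉ K := by
    intro g hg
    obtain ⟨c, rfl⟩ := isConj_iff.mp hg
    refine ⟨?_, hzK c⟩
    rw [← pow_two, show c * x ^ 2 * c⁻¹ = MulAut.conj c (x ^ 2) from rfl, ← map_pow,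
      show (x ^ 2) ^ 2 = 1 from orderOf_dvd_iff_pow_eq_one.mp hxx.dvd, map_one]
  have ht1 := (hinvol t htc).1
  set I : Finset G := (Finset.univ : Finset {g : G // g ∈ K ∧ t * g * t⁻¹ = g⁻¹}).image
    Subtype.val with hI
  have hImem : ∀ g, g ∈ I ↔ g ∈ K ∧ t * g * t⁻¹ = g⁻¹ := fun g => by simp [hI]
  have hIcard : 27 ≤ I.card := by
    rw [← hk, hI, Finset.card_image_of_injective _ Subtype.val_injective, Finset.card_univ,
      ← Nat.card_eq_fintype_card]
    refine Nat.card_le_card_of_injective (fun g => ⟨g.1 * t, ?_, ?_⟩) (fun a b hab =>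
      Subtype.ext (mul_right_cancel (congrArg Subtype.val hab)))
    · have h1 : (⟨g.1, g.2.2⟩ : N) ∉ K' := fun e => (hinvol _ g.2.1).2 (mem_subgroupOf.mp e)
      have h3 : (⟨t, htN⟩ : N) ∉ K' := fun e => (hinvol _ htc).2 (mem_subgroupOf.mp e)
      exact mem_subgroupOf.mp ((mul_mem_iff_of_index_two h2).mpr (iff_of_false h1 h3))
    · rw [mul_inv_rev, inv_eq_of_mul_eq_one_right (hinvol _ g.2.1).1,
        inv_eq_of_mul_eq_one_right ht1, mul_assoc, mul_assoc, ht1, mul_one]
  set Kf : Finset G := (Finset.univ : Finset K).image Subtype.val with hKf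
  have hKfcard : Kf.card = 36 := by
    rw [hKf, Finset.card_image_of_injective _ Subtype.val_injective, Finset.card_univ,
      ← Nat.card_eq_fintype_card, hK36]
  -- each element of `I` centralises every Sylow 3-subgroup of `K`
  have hIC : ∀ g ∈ I, g ∈ centralizer ((P : Subgroup G) : Set G) := by
    intro g hg
    obtain ⟨hgK, hgt⟩ := (hImem g).mp hg
    set J := I ∩ I.image (fun a => g⁻¹ * a)
    have hJ : 18 ≤ J.card := by
      have h1 := Finset.card_union_add_card_inter I (I.image (fun a => g⁻¹ * a))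
      have h3 : (I ∪ I.image (fun a => g⁻¹ * a)).card ≤ 36 := hKfcard ▸ Finset.card_le_card (by
        intro a ha
        simp only [hKf, Finset.mem_image, Finset.mem_univ, true_and, Subtype.exists, exists_prop,
          exists_eq_right]
        rcases Finset.mem_union.mp ha with ha | ha
        · exact ((hImem a).mp ha).1
        · obtain ⟨b, hb, rfl⟩ := Finset.mem_image.mp ha
          exact mul_mem (inv_mem hgK) ((hImem b).mp hb).1)
      have h4 := Finset.card_image_of_injective I (mul_right_injective g⁻¹)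
      change _ + J.card = _ at h1
      omega
    set W := (centralizer ({g} : Set G)).subgroupOf K
    have hJW : J.card ≤ Nat.card W := by
      have hW : ∀ a ∈ J, ∃ hk : a ∈ K, (⟨a, hk⟩ : K) ∈ W := by
        intro a ha
        obtain ⟨haI, haB⟩ := Finset.mem_inter.mp ha
        obtain ⟨b, hb, rfl⟩ := Finset.mem_image.mp haB
        obtain ⟨haK, hat⟩ := (hImem _).mp haI
        obtain ⟨-, hbt⟩ := (hImem _).mp hb
        refine ⟨haK, mem_subgroupOf.mpr (mem_centralizer_singleton_iff.mpr ?_)⟩
        show g⁻¹ * b * g = g * (g⁻¹ * b)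
        have e1 : t * b * t⁻¹ = g⁻¹ * (b⁻¹ * g) := by
          calc t * b * t⁻¹ = (t * g * t⁻¹) * (t * (g⁻¹ * b) * t⁻¹) := by group
            _ = g⁻¹ * (b⁻¹ * g) := by rw [hgt, hat]; group
        rw [hbt] at e1
        calc g⁻¹ * b * g = g⁻¹ * (b⁻¹)⁻¹ * g := by rw [inv_inv]
          _ = g⁻¹ * (g⁻¹ * (b⁻¹ * g))⁻¹ * g := by rw [← e1]
          _ = g⁻¹ * g⁻¹ * b * g * g := by group
          _ = g * (g⁻¹ * b) := ?_
        have e2 : b⁻¹ * g = g * b⁻¹ := by
          calc b⁻¹ * g = g * (g⁻¹ * (b⁻¹ * g)) := by group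
            _ = g * b⁻¹ := by rw [← e1]
        have e3 : Commute g b := by
          have : Commute g b⁻¹ := e2.symm
          exact Commute.inv_right_iff.mp this
        calc g⁻¹ * g⁻¹ * b * g * g = g⁻¹ * g⁻¹ * (b * g) * g := by group
          _ = g⁻¹ * g⁻¹ * (g * b) * g := by rw [e3.eq]
          _ = g⁻¹ * (b * g) := by group
          _ = g⁻¹ * (g * b) := by rw [e3.eq]
          _ = g * (g⁻¹ * b) := by group
      rw [← Nat.card_eq_finsetCard J]
      refine Nat.card_le_card_of_injective (fun a => ⟨⟨a.1, (hW a.1 a.2).1⟩, (hW a.1 a.2).2⟩) ?_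
      intro a b hab
      exact Subtype.ext (congrArg (fun v : W => ((v : K) : G)) hab)
    have hWi : W.index ≤ 2 := by
      have := W.card_mul_index
      rw [hK36] at this
      by_contra hgt
      have := Nat.mul_le_mul (hJ.trans hJW) (show 3 ≤ W.index by omega)
      omega
    have hW0 : W.index ≠ 0 := index_ne_zero_of_finite
    rw [mem_centralizer_iff]
    intro a ha
    have haK : a ∈ K := hPD ha
    have ha9 : a ^ 9 = 1 := by
      have := orderOf_dvd_natCard (⟨a, ha⟩ : (P : Subgroup G))
      rw [Subgroup.orderOf_mk, hP9] at this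
      exact orderOf_dvd_iff_pow_eq_one.mp this
    have haW : (⟨a, haK⟩ : K) ∈ W := by
      rcases (show W.index = 1 ∨ W.index = 2 by omega) with e | e
      · rw [index_eq_one.mp e]; exact mem_top _
      · have e2 := pow_mem (sq_mem_of_index_two e (⟨a, haK⟩ : K)) 5
        have e3 : ((⟨a, haK⟩ : K) ^ 2) ^ 5 = ⟨a, haK⟩ := Subtype.ext (by
          push_cast
          rw [← pow_mul, show 2 * 5 = 9 + 1 from rfl, pow_succ, ha9, one_mul])
        rwa [e3] at e2
    exact mem_centralizer_singleton_iff.mp (mem_subgroupOf.mp haW)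
  have hKC : K ≤ centralizer ((P : Subgroup G) : Set G) := by
    set W := (centralizer ((P : Subgroup G) : Set G)).subgroupOf K
    have hW : 27 ≤ Nat.card W := by
      refine hIcard.trans ?_
      rw [← Nat.card_eq_finsetCard I]
      refine Nat.card_le_card_of_injective
        (fun a => ⟨⟨a.1, ((hImem _).mp a.2).1⟩, mem_subgroupOf.mpr (hIC _ a.2)⟩) ?_
      intro a b hab
      exact Subtype.ext (congrArg (fun v : W => ((v : K) : G)) hab)
    have hWt : W = ⊤ := by
      refine index_eq_one.mp ?_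
      have := W.card_mul_index
      rw [hK36] at this
      have hW0 : W.index ≠ 0 := index_ne_zero_of_finite
      by_contra hne
      have := Nat.mul_le_mul hW (show 2 ≤ W.index by omega)
      omega
    exact subgroupOf_eq_top.mp hWt
  refine hPQ (Sylow.ext ?_)
  have hQle : (Q : Subgroup G) ≤ (P : Subgroup G) := fun a ha => by
    have h2' : a ∈ (Q : Subgroup G) ⊓ (P : Subgroup G) :=
      Q.2.inf_normalizer_sylow P ▸ Subgroup.mem_inf.mpr
        ⟨ha, centralizer_le_normalizer' _ (hKC (hQD ha))⟩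
    exact h2'.2
  exact (Q.3 P.2 hQle)

/-- The degree ten action with regular Sylow 3-subgroups. -/
theorem false_of_ti (h : Nat.card G = 720) [Fact (Nat.Prime 3)] [Fact (Nat.Prime 2)]
    (hn : Nat.card (Sylow 3 G) = 10)
    (hti : ∀ P Q : Sylow 3 G, P ≠ Q → (P : Subgroup G) ⊓ (Q : Subgroup G) = ⊥) : False := by
  classical
  have := Fintype.ofFinite (Sylow 3 G)
  have hG := nc h
  have hn' : Fintype.card (Sylow 3 G) = 10 := by rw [← Nat.card_eq_fintype_card, hn]
  have hP9 : ∀ R : Sylow 3 G, Nat.card R = 9 := fun R => by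
    simpa using card_sylow_of_card_eq (k := 2) (m := 80) (by rw [h]; norm_num) (by norm_num) R
  obtain ⟨P⟩ := (inferInstance : Nonempty (Sylow 3 G))
  have hinj : ∀ g : G, (∀ R : Sylow 3 G, g • R = R) → g = 1 := fun g hg =>
    CfsgLib.SylowNumber.eq_one_of_forall_smul_eq
      (CfsgLib.SylowNumber.sylow_toPermHom_injective hG (by rw [h]; norm_num)) hg
  have hfree : ∀ (A R : Sylow 3 G) (u : G), u ∈ (A : Subgroup G) → A ≠ R → u • R = R → u = 1 := by
    intro A R u hu hAR hfix
    have h2 : u ∈ (A : Subgroup G) ⊓ (R : Subgroup G) :=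
      A.2.inf_normalizer_sylow R ▸ Subgroup.mem_inf.mpr
        ⟨hu, Sylow.smul_eq_iff_mem_normalizer.mp hfix⟩
    rwa [hti A R hAR, mem_bot] at h2
  -- each Sylow subgroup is regular on the other nine
  have hreg : ∀ A B R : Sylow 3 G, A ≠ B → A ≠ R → ∃ u ∈ (A : Subgroup G), u • B = R := by
    intro A B R hAB hAR
    let f : ↥(A : Subgroup G) → {R : Sylow 3 G // R ≠ A} := fun u => ⟨(u : G) • B, fun e => by
      refine hAB ?_
      have h2 := congrArg (fun T => (u : G)⁻¹ • T) e
      simp only [inv_smul_smul] at h2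
      rw [h2, Sylow.smul_eq_iff_mem_normalizer.mpr (le_normalizer (inv_mem u.2))]⟩
    have hf : Function.Injective f := by
      intro a b hab
      have h2 : (a : G) • B = (b : G) • B := congrArg Subtype.val hab
      have h3 := hfree A B ((b : G)⁻¹ * a) (mul_mem (inv_mem b.2) a.2) hAB
        (by rw [mul_smul, h2, inv_smul_smul])
      exact Subtype.ext (inv_mul_eq_one.mp h3).symm
    have hb := (Nat.bijective_iff_injective_and_card f).mpr ⟨hf, by
      rw [hP9, Nat.card_eq_fintype_card, Fintype.card_subtype_compl, Fintype.card_subtype_eq,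
        hn']⟩
    obtain ⟨u, hu⟩ := hb.2 ⟨R, hAR.symm⟩
    exact ⟨u, u.2, congrArg Subtype.val hu⟩
  have habel : ∀ A : Sylow 3 G, ∀ a b : G, a ∈ (A : Subgroup G) → b ∈ (A : Subgroup G) →
      a * b = b * a := fun A a b ha hb => congrArg Subtype.val
    ((IsPGroup.isMulCommutative_of_card_eq_prime_sq (p := 3) (G := (A : Subgroup G))
      (by rw [hP9]; norm_num)).is_comm.comm ⟨a, ha⟩ ⟨b, hb⟩)
  have hCP : ∀ A B : Sylow 3 G, A ≠ B → ∀ c ∈ centralizer ((A : Subgroup G) : Set G),
      c • B = B → c = 1 := by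
    intro A B hAB c hc hcB
    refine hinj c fun R => ?_
    by_cases hR : R = A
    · rw [hR]; exact Sylow.smul_eq_iff_mem_normalizer.mpr (centralizer_le_normalizer' _ hc)
    · obtain ⟨u, hu, rfl⟩ := hreg A B R hAB (fun e => hR e.symm)
      rw [← mul_smul, ← mem_centralizer_iff.mp hc u hu, mul_smul, hcB]
  -- an involution fixes exactly two points
  have hinv_fix : ∀ t : G, orderOf t = 2 → Nat.card {R : Sylow 3 G // t • R = R} ≠ 0 ∧
      ∀ A B : Sylow 3 G, A ≠ B → t • A = A → t • B = B →
        (∀ u ∈ (A : Subgroup G), t * u * t⁻¹ = u⁻¹) ∧ ∀ R, t • R = R → R = A ∨ R = B := by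
    intro t ht
    have htt : t * t = 1 := by rw [← pow_two, ← ht, pow_orderOf_eq_one]
    set s : Equiv.Perm (Sylow 3 G) := MulAction.toPerm t with hs
    have hs2 : s ^ 2 ^ (0 + 1) = 1 := by
      rw [hs, toPerm_pow, show t ^ 2 ^ (0 + 1) = 1 by simpa [pow_two] using htt]
      ext R; simp
    obtain ⟨mm, hmm⟩ : ∃ mm, s.support.card = 2 * mm := by
      have h0 := Equiv.Perm.cycleType_of_pow_prime_eq_one (p := 2) (by simpa using hs2)
      have h1 := Equiv.Perm.sum_cycleType s
      rw [h0, Multiset.sum_replicate, smul_eq_mul] at h1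
      exact ⟨_, by rw [← h1, mul_comm]⟩
    have hsgn := sign_of_semiregular s 0 mm hs2 (fun q hq => by simpa using hq) (by omega)
    rw [hs, sign_toPerm hG] at hsgn
    have hmm2 : Even mm := by
      rcases mm.even_or_odd with he | ho
      · exact he
      · rw [ho.neg_one_pow] at hsgn; exact absurd hsgn (by decide)
    obtain ⟨r, hr⟩ := hmm2
    have hsum := support_card_add s
    rw [hn'] at hsum
    have hfeq : Nat.card {a // s a = a} = Nat.card {R : Sylow 3 G // t • R = R} := rfl
    rw [hfeq] at hsum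
    refine ⟨by omega, fun A B hAB hA hB => ?_⟩
    have htA : t ∈ normalizer ((A : Subgroup G) : Set G) :=
      Sylow.smul_eq_iff_mem_normalizer.mp hA
    -- the fixed points correspond to `A` and the centraliser of `t` in `A`
    set F := (A : Subgroup G) ⊓ centralizer ({t} : Set G) with hF
    have hiff : ∀ u ∈ (A : Subgroup G), (t • u • B = u • B ↔ u ∈ F) := by
      intro u hu
      have hu' : t * u * t⁻¹ ∈ (A : Subgroup G) := (mem_normalizer_iff.mp htA u).mp hu
      have e1 : t • u • B = (t * u * t⁻¹) • B := by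
        rw [← mul_smul, mul_smul (t * u), show t⁻¹ • B = B from inv_smul_eq_iff.mpr hB.symm]
      rw [e1]
      constructor
      · intro h2
        refine Subgroup.mem_inf.mpr ⟨hu, mem_centralizer_singleton_iff.mpr ?_⟩
        have h3 := hfree A B (u⁻¹ * (t * u * t⁻¹)) (mul_mem (inv_mem hu) hu') hAB
          (by rw [mul_smul, h2, inv_smul_smul])
        have h4 : u = t * u * t⁻¹ := inv_mul_eq_one.mp h3
        exact (mul_inv_eq_iff_eq_mul.mp h4.symm).symm
      · intro h2
        rw [mul_inv_eq_iff_eq_mul.mpr (mem_centralizer_singleton_iff.mp h2.2).symm]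
    have hcard : Nat.card {R : Sylow 3 G // t • R = R} = Nat.card F + 1 := by
      have h1 : Nat.card {R : {R : Sylow 3 G // t • R = R} // R.1 ≠ A} = Nat.card F := by
        refine (Nat.card_congr (Equiv.ofBijective (fun u : F =>
          (⟨⟨(u : G) • B, (hiff u u.2.1).mpr u.2⟩, fun e => hAB ?_⟩ :
            {R : {R : Sylow 3 G // t • R = R} // R.1 ≠ A})) ⟨?_, ?_⟩)).symm
        · have h2 := congrArg (fun T => (u : G)⁻¹ • T) e
          simp only [inv_smul_smul] at h2
          rw [h2, Sylow.smul_eq_iff_mem_normalizer.mpr (le_normalizer (inv_mem u.2.1))]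
        · intro a b hab
          have h2 : (a : G) • B = (b : G) • B := congrArg (fun x => x.1.1) hab
          have h3 := hfree A B ((b : G)⁻¹ * a) (mul_mem (inv_mem b.2.1) a.2.1) hAB
            (by rw [mul_smul, h2, inv_smul_smul])
          exact Subtype.ext (inv_mul_eq_one.mp h3).symm
        · rintro ⟨⟨R, hR⟩, hRA⟩
          obtain ⟨u, hu, rfl⟩ := hreg A B R hAB (fun e => hRA e.symm)
          exact ⟨⟨u, (hiff u hu).mp hR⟩, rfl⟩
      have := Fintype.ofFinite {R : Sylow 3 G // t • R = R}
      rw [Nat.card_eq_fintype_card, Fintype.card_congr (Equiv.subtypeEquivRight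
        (p := fun R : {R : Sylow 3 G // t • R = R} => R.1 ≠ A) (q := fun R => R ≠ ⟨A, hA⟩)
        fun R => ⟨fun h' e => h' (congrArg Subtype.val e), fun h' e => h' (Subtype.ext e)⟩),
        Fintype.card_subtype_compl, Fintype.card_subtype_eq, ← Nat.card_eq_fintype_card] at h1
      have : 0 < Nat.card {R : Sylow 3 G // t • R = R} := Nat.pos_of_ne_zero (by omega)
      omega
    have hF9 : Nat.card F ∣ 9 := hP9 A ▸ card_dvd_of_le inf_le_left
    have hF1 : Nat.card F = 1 := by
      have h3 := (show ∀ k ∈ Nat.divisors 9, k = 1 ∨ k = 3 ∨ k = 9 by decide) _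
        (Nat.mem_divisors.mpr ⟨hF9, by norm_num⟩)
      rcases h3 with e | e | e
      · exact e
      · omega
      · exfalso
        have ht1 : t ≠ 1 := fun e => by rw [e, orderOf_one] at ht; norm_num at ht
        refine ht1 (hCP A B hAB t ?_ hB)
        rw [mem_centralizer_iff]
        intro u hu
        have : F = (A : Subgroup G) := eq_of_le_of_card_ge inf_le_left (by rw [e, hP9])
        exact mem_centralizer_singleton_iff.mp (this.symm ▸ hu : u ∈ F).2
    refine ⟨fun u hu => ?_, fun R hR => ?_⟩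
    · have hu' : t * u * t⁻¹ ∈ (A : Subgroup G) := (mem_normalizer_iff.mp htA u).mp hu
      have h2 : u * (t * u * t⁻¹) ∈ F := by
        refine Subgroup.mem_inf.mpr ⟨mul_mem hu hu', mem_centralizer_singleton_iff.mpr ?_⟩
        rw [inv_eq_of_mul_eq_one_right htt]
        calc u * (t * u * t) * t = u * (t * u) * (t * t) := by group
          _ = u * (t * u) := by rw [htt, mul_one]
          _ = (t * t) * u * (t * u * (t * t)) * 1 := by rw [htt]; group
          _ = t * ((t * u * t⁻¹) * u) := by
            rw [inv_eq_of_mul_eq_one_right htt]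
            have e := habel A _ _ hu' hu
            rw [inv_eq_of_mul_eq_one_right htt] at e
            rw [e, htt]
            calc 1 * u * (t * u * 1) * 1 = (t * t) * u * (t * u) := by rw [htt]; group
              _ = t * (t * u * t * u) := by group
              _ = t * (u * (t * u * t)) := by rw [e]
          _ = t * (u * (t * u * t⁻¹)) := by rw [habel A _ _ hu' hu]
          _ = _ := by rw [inv_eq_of_mul_eq_one_right htt]
      rw [card_eq_one.mp hF1, mem_bot] at h2
      exact eq_inv_of_mul_eq_one_right h2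
    · by_cases hRA : R = A
      · exact Or.inl hRA
      obtain ⟨u, hu, rfl⟩ := hreg A B R hAB (fun e => hRA e.symm)
      have h2 := (hiff u hu).mp hR
      rw [card_eq_one.mp hF1, mem_bot] at h2
      exact Or.inr (by rw [h2, one_smul])
  obtain ⟨Q0, hQ0⟩ : ∃ R : Sylow 3 G, R ≠ P := by
    have : Nontrivial (Sylow 3 G) := Finite.one_lt_card_iff_nontrivial.mp (by omega)
    exact exists_ne P
  set N := normalizer ((P : Subgroup G) : Set G) with hN
  set W := N ⊓ normalizer ((Q0 : Subgroup G) : Set G) with hW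
  have hN72 : Nat.card N = 72 := by
    have := card_normalizer_mul_card_sylow P
    rw [hn, h, ← hN] at this
    omega
  have hW8 : Nat.card W = 8 := by
    have h9 : (normalizer ((Q0 : Subgroup G) : Set G)).relIndex N = 9 := by
      have hst : (normalizer ((Q0 : Subgroup G) : Set G)).subgroupOf N = stabilizer N Q0 := by
        ext a
        rw [mem_subgroupOf, mem_stabilizer_iff]
        exact Sylow.smul_eq_iff_mem_normalizer.symm
      rw [relIndex, hst, index_stabilizer]
      have horb : orbit N Q0 = {R | R ≠ P} := by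
        ext R
        constructor
        · rintro ⟨a, rfl⟩ e
          exact hQ0 (by
            rw [show Q0 = (a : G)⁻¹ • (a : G) • Q0 from (inv_smul_smul _ _).symm,
              show (a : G) • Q0 = P from e]
            exact Sylow.smul_eq_iff_mem_normalizer.mpr (inv_mem a.2))
        · intro hR
          obtain ⟨u, hu, rfl⟩ := hreg P Q0 R hQ0.symm (fun e => hR e.symm)
          exact ⟨⟨u, le_normalizer hu⟩, rfl⟩
      rw [horb, ← Nat.card_coe_set_eq, Nat.card_eq_fintype_card]
      simp only [Set.coe_setOf]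
      rw [Fintype.card_subtype_compl, Fintype.card_subtype_eq, hn']
    rw [relIndex] at h9
    have h2 := card_mul_index ((normalizer ((Q0 : Subgroup G) : Set G)).subgroupOf N)
    rw [h9, hN72] at h2
    have h3 : Nat.card ((normalizer ((Q0 : Subgroup G) : Set G)).subgroupOf N) = Nat.card W := by
      rw [← inf_subgroupOf_left]
      exact Nat.card_congr (subgroupOfEquivOfLe inf_le_left).toEquiv
    omega
  have hWfix : ∀ a ∈ W, a • P = P ∧ a • Q0 = Q0 := fun a ha =>
    ⟨Sylow.smul_eq_iff_mem_normalizer.mpr ha.1, Sylow.smul_eq_iff_mem_normalizer.mpr ha.2⟩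
  obtain ⟨z, hzW, hz⟩ : ∃ z ∈ W, orderOf z = 2 := by
    obtain ⟨z, hz⟩ := exists_prime_orderOf_dvd_card' 2 (G := W) (by rw [hW8]; norm_num)
    exact ⟨z, z.2, by rw [orderOf_coe]; exact hz⟩
  have hzuniq : ∀ t : G, orderOf t = 2 → t • P = P → t • Q0 = Q0 → t = z := by
    intro t ht htP htQ
    have hi1 := ((hinv_fix t ht).2 P Q0 hQ0.symm htP htQ).1
    have hi2 := ((hinv_fix z hz).2 P Q0 hQ0.symm (hWfix z hzW).1 (hWfix z hzW).2).1
    have h2 : t * z = 1 := by
      refine hCP P Q0 hQ0.symm _ (mem_centralizer_iff.mpr fun u hu => ?_)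
        (by rw [mul_smul, (hWfix z hzW).2, htQ])
      have e2 := hi1 u⁻¹ (inv_mem hu)
      rw [inv_inv] at e2
      have e3 : (t * z) * u * (t * z)⁻¹ = u := by
        calc _ = t * (z * u * z⁻¹) * t⁻¹ := by group
          _ = u := by rw [hi2 u hu, e2]
      exact (mul_inv_eq_iff_eq_mul.mp e3).symm
    rw [eq_inv_of_mul_eq_one_left h2]
    exact inv_eq_of_mul_eq_one_right (by rw [← pow_two, ← hz, pow_orderOf_eq_one])
  -- all involutions are conjugate to `z`
  have hconj : ∀ t : G, orderOf t = 2 → ∃ g : G, g * t * g⁻¹ = z := by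
    intro t ht
    obtain ⟨⟨⟨A, hA⟩⟩, -⟩ := Nat.card_pos_iff.mp (Nat.pos_of_ne_zero (hinv_fix t ht).1)
    obtain ⟨B, hB, hBA⟩ : ∃ B, t • B = B ∧ B ≠ A := by
      by_contra hcon
      push Not at hcon
      -- a unique fixed point is impossible
      have h1 : Nat.card {R : Sylow 3 G // t • R = R} = 1 := by
        refine Nat.card_eq_one_iff_unique.mpr ⟨⟨fun a b => Subtype.ext
          ((hcon a.1 a.2).trans (hcon b.1 b.2).symm)⟩, ⟨⟨A, hA⟩⟩⟩
      have hs2 : (MulAction.toPerm t : Equiv.Perm (Sylow 3 G)) ^ 2 = 1 := by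
        rw [toPerm_pow, show t ^ 2 = 1 from ht ▸ pow_orderOf_eq_one t]
        ext R; simp
      have h0 := Equiv.Perm.cycleType_of_pow_prime_eq_one (p := 2) hs2
      have h2 := Equiv.Perm.sum_cycleType (MulAction.toPerm t : Equiv.Perm (Sylow 3 G))
      rw [h0, Multiset.sum_replicate, smul_eq_mul] at h2
      have h3 := support_card_add (MulAction.toPerm t : Equiv.Perm (Sylow 3 G))
      rw [hn', show Nat.card {a // (MulAction.toPerm t : Equiv.Perm (Sylow 3 G)) a = a} = 1 from h1]
        at h3
      omega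
    obtain ⟨g, hg⟩ := exists_smul_eq G A P
    have hgB : g • B ≠ P := fun e => hBA (smul_left_cancel g (e.trans hg.symm))
    obtain ⟨u, hu, huB⟩ := hreg P (g • B) Q0 hgB.symm hQ0.symm
    have huP : u • P = P := Sylow.smul_eq_iff_mem_normalizer.mpr (le_normalizer hu)
    have hfixconj : ∀ R : Sylow 3 G, t • R = R → ((u * g) * t * (u * g)⁻¹) • (u * g) • R = (u * g) • R := by
      intro R hR
      rw [← mul_smul, inv_mul_cancel_right, mul_smul, hR]
    refine ⟨u * g, hzuniq _ ?_ ?_ ?_⟩
    · rw [show u * g * t * (u * g)⁻¹ = MulAut.conj (u * g) t from rfl, MulEquiv.orderOf_eq, ht]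
    · have := hfixconj A hA
      rwa [mul_smul u g A, hg, huP] at this
    · have := hfixconj B hB
      rwa [mul_smul u g B, huB] at this
  have hC16 : Nat.card (centralizer ({z} : Set G)) = 16 := by
    obtain ⟨x, hx, hxz⟩ := exists_four h
    obtain ⟨g, hg⟩ := hconj (x ^ 2) (by
      rw [orderOf_pow_of_dvd two_ne_zero (by rw [hx]; norm_num), hx])
    rw [← hg]
    exact conj_centralizer g hxz
  let S : Sylow 2 G := Sylow.ofCard (centralizer ({z} : Set G)) (by
    rw [hC16, h, show (720 : ℕ) = 2 ^ 4 * 45 by norm_num,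
      Nat.factorization_mul (by norm_num) (by norm_num), Finsupp.add_apply,
      Nat.factorization_pow, Finsupp.smul_apply, Nat.prime_two.factorization_self,
      Nat.factorization_eq_zero_of_not_dvd (show ¬ 2 ∣ 45 by norm_num)]
    norm_num)
  have hS : ∀ a, a ∈ (S : Subgroup G) ↔ a * z = z * a := fun a => mem_centralizer_singleton_iff
  have hzz : z * z = 1 := by rw [← pow_two, ← hz, pow_orderOf_eq_one]
  have hWS : W ≤ (S : Subgroup G) := by
    intro a ha
    rw [hS]
    have h1 := hzuniq (a * z * a⁻¹) (by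
      rw [show a * z * a⁻¹ = MulAut.conj a z from rfl, MulEquiv.orderOf_eq, hz])
      (by rw [mul_smul, mul_smul, inv_smul_eq_iff.mpr (hWfix a ha).1.symm, (hWfix z hzW).1,
        (hWfix a ha).1])
      (by rw [mul_smul, mul_smul, inv_smul_eq_iff.mpr (hWfix a ha).2.symm, (hWfix z hzW).2,
        (hWfix a ha).2])
    exact mul_inv_eq_iff_eq_mul.mp h1
  have hSpair : ∀ a ∈ (S : Subgroup G), ∀ R, (R = P ∨ R = Q0) → a • R = P ∨ a • R = Q0 := by
    intro a ha R hR
    refine ((hinv_fix z hz).2 P Q0 hQ0.symm (hWfix z hzW).1 (hWfix z hzW).2).2 _ ?_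
    rw [← mul_smul, ← (hS a).mp ha, mul_smul]
    rcases hR with rfl | rfl
    · rw [(hWfix z hzW).1]
    · rw [(hWfix z hzW).2]
  have hWmem : ∀ a ∈ (S : Subgroup G), a • P = P → a ∈ W := by
    intro a ha haP
    refine Subgroup.mem_inf.mpr ⟨Sylow.smul_eq_iff_mem_normalizer.mp haP,
      Sylow.smul_eq_iff_mem_normalizer.mp ?_⟩
    rcases hSpair a ha Q0 (Or.inr rfl) with e | e
    · exact absurd (smul_left_cancel a (e.trans haP.symm)) hQ0
    · exact e
  -- the elements of `W` other than `1, z` square to `z`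
  have hsq : ∀ q ∈ W, q = 1 ∨ q = z ∨ (q ^ 2 = z ∧ orderOf q = 4) := by
    intro q hq
    have hdvd : orderOf q ∣ 2 ^ 3 := by
      have := orderOf_dvd_natCard (⟨q, hq⟩ : W)
      rwa [Subgroup.orderOf_mk, hW8] at this
    obtain ⟨i, hi, hiq⟩ := (Nat.dvd_prime_pow Nat.prime_two).mp hdvd
    have hpow : ∀ j, q ^ j • P = P ∧ q ^ j • Q0 = Q0 := fun j =>
      ⟨pow_fixed (hWfix q hq).1 j, pow_fixed (hWfix q hq).2 j⟩
    interval_cases i
    · exact Or.inl (orderOf_eq_one_iff.mp (by simpa using hiq))
    · exact Or.inr (Or.inl (hzuniq q (by simpa using hiq) (hWfix q hq).1 (hWfix q hq).2))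
    · refine Or.inr (Or.inr ⟨hzuniq _ ?_ (hpow 2).1 (hpow 2).2, by simpa using hiq⟩)
      rw [orderOf_pow_of_dvd two_ne_zero (by rw [hiq]; norm_num), hiq]; norm_num
    · exfalso
      have hq4 : q ^ 4 = z := hzuniq _ (by
        rw [orderOf_pow_of_dvd (by norm_num) (by rw [hiq]; norm_num), hiq]; norm_num)
        (hpow 4).1 (hpow 4).2
      set s : Equiv.Perm (Sylow 3 G) := MulAction.toPerm q with hs
      have hzfix : ∀ R, z • R = R → R = P ∨ R = Q0 :=
        ((hinv_fix z hz).2 P Q0 hQ0.symm (hWfix z hzW).1 (hWfix z hzW).2).2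
      have hsupp : s.support = Finset.univ \ {P, Q0} := by
        ext R
        simp only [Equiv.Perm.mem_support, Finset.mem_sdiff, Finset.mem_univ, true_and,
          Finset.mem_insert, Finset.mem_singleton]
        constructor
        · rintro hne (rfl | rfl)
          · exact hne (hWfix q hq).1
          · exact hne (hWfix q hq).2
        · intro hne hfixR
          exact hne (hzfix R (hq4 ▸ pow_fixed (show q • R = R from hfixR) 4))
      have := sign_of_semiregular s 2 1
        (by rw [hs, toPerm_pow, show q ^ 2 ^ (2 + 1) = 1 by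
              rw [← hiq]; exact pow_orderOf_eq_one q]
            ext R; simp)
        (fun R hR e => by
          rw [hs, toPerm_pow, show q ^ 2 ^ 2 = z from hq4] at e
          rcases hzfix R e with rfl | rfl
          · exact hR (hWfix q hq).1
          · exact hR (hWfix q hq).2)
        (by rw [hsupp, Finset.card_sdiff_of_subset (Finset.subset_univ _), Finset.card_univ, hn',
          Finset.card_pair hQ0.symm]; norm_num)
      rw [hs, sign_toPerm hG] at this
      exact absurd this (by decide)
  -- `z` is not isolated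
  obtain ⟨w, hwS, hw, hwz⟩ : ∃ w ∈ (S : Subgroup G), orderOf w = 2 ∧ w ≠ z := by
    by_contra hcon
    push Not at hcon
    have hiso : Cfsg.IsIsolatedInvolution z := ⟨hz, fun g hg =>
      hcon _ ((hS _).mpr hg.eq.symm) (by
        rw [show g * z * g⁻¹ = MulAut.conj g z from rfl, MulEquiv.orderOf_eq, hz])⟩
    have hcore : Cfsg.pPrimeCore 2 G = ⊥ := by
      rcases (Cfsg.pPrimeCore_normal 2 G).eq_bot_or_eq_top with e | e
      · exact e
      · exfalso
        have h1 : ¬ 2 ∣ Nat.card ↥(Cfsg.pPrimeCore 2 G) := CfsgLib.PCore.not_dvd_card_pPrimeCore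
        rw [e, card_top, h] at h1
        norm_num at h1
    refine Residual.centralizer_ne_top hG (x := z) (fun e => by
      rw [e, orderOf_one] at hz; norm_num at hz) (eq_top_iff.mpr fun g _ => ?_)
    have h1 := CfsgLib.Involutions.zstar G z hiso g
    rw [hcore, mem_bot, mul_inv_eq_one, mul_inv_eq_iff_eq_mul] at h1
    exact mem_centralizer_singleton_iff.mpr h1
  have hnotW : ∀ w ∈ (S : Subgroup G), orderOf w = 2 → w ≠ z → w ∉ W := fun w _ hw hwz hwW =>
    hwz (hzuniq w hw (hWfix w hwW).1 (hWfix w hwW).2)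
  -- an involution outside `W` commutes with no element of order 4 of `W`
  have hnocomm : ∀ w ∈ (S : Subgroup G), orderOf w = 2 → w ≠ z → ∀ q ∈ W, q ≠ 1 → q ≠ z →
      w * q ≠ q * w := by
    intro w hwS hw hwz q hq hq1 hqz hc
    obtain ⟨hq2, -⟩ := ((hsq q hq).resolve_left hq1).resolve_left hqz
    obtain ⟨g, hg⟩ := hconj w hw
    set A := g⁻¹ • P
    set B := g⁻¹ • Q0
    have hAB : A ≠ B := fun e => hQ0 (smul_left_cancel g⁻¹ e).symm
    have hwR : ∀ R : Sylow 3 G, z • R = R → w • (g⁻¹ • R) = g⁻¹ • R := fun R hR => by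
      rw [← mul_smul, show w * g⁻¹ = g⁻¹ * z by rw [← hg]; group, mul_smul, hR]
    have hwA : w • A = A := hwR P (hWfix z hzW).1
    have hwB : w • B = B := hwR Q0 (hWfix z hzW).2
    have hfixw := ((hinv_fix w hw).2 A B hAB hwA hwB).2
    have hqpres : ∀ R : Sylow 3 G, w • R = R → w • q • R = q • R := fun R hR => by
      rw [← mul_smul, hc, mul_smul, hR]
    have hqqA : q ^ 2 • A = A := by
      rw [pow_two, mul_smul]
      rcases hfixw _ (hqpres A hwA) with e | e
      · rw [e, e]
      · rcases hfixw _ (hqpres B hwB) with e' | e'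
        · rw [e, e']
        · exact absurd (smul_left_cancel q (e.trans e'.symm)) hAB
    rw [hq2] at hqqA
    have hwP : w • P ≠ P := fun e => hnotW w hwS hw hwz (hWmem w hwS e)
    have hwQ : w • Q0 ≠ Q0 := by
      intro e
      rcases hSpair w hwS P (Or.inl rfl) with e' | e'
      · exact hwP e'
      · exact hQ0 (smul_left_cancel w (e'.trans e.symm)).symm
    rcases ((hinv_fix z hz).2 P Q0 hQ0.symm (hWfix z hzW).1 (hWfix z hzW).2).2 A hqqA with e | e
    · exact hwP (e ▸ hwA)
    · exact hwQ (e ▸ hwA)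
  have hsymm : ∀ {a : G}, orderOf a = 2 → a⁻¹ = a := fun {a} ha =>
    inv_eq_of_mul_eq_one_right (by rw [← pow_two, ← ha, pow_orderOf_eq_one])
  -- at most one cyclic subgroup of order 4 of `W` is inverted
  have huniq : ∀ w ∈ (S : Subgroup G), orderOf w = 2 → w ≠ z → ∀ a ∈ W, ∀ b ∈ W,
      a ^ 2 = z → b ^ 2 = z → w * a * w⁻¹ = a⁻¹ → w * b * w⁻¹ = b⁻¹ → b = a ∨ b = a⁻¹ := by
    intro w hwS hw hwz a ha b hb ha2 hb2 hwa hwb
    by_cases h1 : a * b = 1
    · exact Or.inr (eq_inv_of_mul_eq_one_right h1)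
    by_cases h2 : a * b = z
    · refine Or.inl ?_
      rw [← ha2, pow_two] at h2
      exact mul_left_cancel h2
    refine absurd ?_ (hnocomm w hwS hw hwz (a * b) (mul_mem ha hb) h1 h2)
    have hza : a⁻¹ = z * a := by
      rw [inv_eq_iff_mul_eq_one, ← mul_assoc, (hS a).mp (hWS ha), mul_assoc, ← pow_two, ha2, hzz]
    have hzb : b⁻¹ = z * b := by
      rw [inv_eq_iff_mul_eq_one, ← mul_assoc, (hS b).mp (hWS hb), mul_assoc, ← pow_two, hb2, hzz]
    have h3 : w * (a * b) * w⁻¹ = a * b := by
      calc _ = (w * a * w⁻¹) * (w * b * w⁻¹) := by group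
        _ = (z * a) * (z * b) := by rw [hwa, hwb, hza, hzb]
        _ = (a * z) * (z * b) := by rw [(hS a).mp (hWS ha)]
        _ = a * (z * z) * b := by group
        _ = a * b := by rw [hzz, mul_one]
    exact mul_inv_eq_iff_eq_mul.mp h3
  have hWi : (W.subgroupOf (S : Subgroup G)).index = 2 := by
    have := (W.subgroupOf (S : Subgroup G)).card_mul_index
    rw [Nat.card_congr (subgroupOfEquivOfLe hWS).toEquiv, hW8,
      show Nat.card (S : Subgroup G) = 16 from hC16] at this
    omega
  have hWn : ∀ s ∈ (S : Subgroup G), ∀ q ∈ W, s * q * s⁻¹ ∈ W := by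
    intro s hs q hq
    have hn := normal_of_index_eq_two hWi
    exact mem_subgroupOf.mp (hn.conj_mem ⟨q, hWS hq⟩ (mem_subgroupOf.mpr hq) ⟨s, hs⟩)
  have hmulW : ∀ a ∈ (S : Subgroup G), ∀ b ∈ (S : Subgroup G), a ∉ W → b ∉ W → a * b ∈ W := by
    intro a ha b hb haW hbW
    exact mem_subgroupOf.mp ((mul_mem_iff_of_index_two hWi (a := ⟨a, ha⟩) (b := ⟨b, hb⟩)).mpr
      (iff_of_false (fun e => haW (mem_subgroupOf.mp e)) fun e => hbW (mem_subgroupOf.mp e)))
  -- the element `i` inverted by `w`
  obtain ⟨i, hiW, hi2, hi4, hwi⟩ : ∃ i ∈ W, i ^ 2 = z ∧ orderOf i = 4 ∧ w * i * w⁻¹ = i⁻¹ := by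
    obtain ⟨a, ha, ha2, ha4⟩ : ∃ a ∈ W, a ^ 2 = z ∧ orderOf a = 4 := by
      by_contra hcon
      push Not at hcon
      have hle : Nat.card W ≤ ({1, z} : Finset G).card := by
        rw [← Nat.card_eq_finsetCard]
        refine Nat.card_le_card_of_injective (fun a => ⟨a.1, ?_⟩)
          (fun a b hab => Subtype.ext (congrArg Subtype.val hab :))
        rcases hsq a.1 a.2 with e | e | ⟨e, e'⟩
        · simp [e]
        · simp [e]
        · exact absurd e' (hcon a.1 a.2 e)
      have := hle.trans Finset.card_le_two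
      omega
    set b := w * a * w⁻¹ with hb
    have hbW : b ∈ W := hWn w hwS a ha
    have hwb : w * b * w⁻¹ = a := by
      rw [hb, hsymm hw]
      calc w * (w * a * w) * w = (w * w) * a * (w * w) := by group
        _ = a := by rw [← pow_two, ← hw, pow_orderOf_eq_one]; group
    have hb2 : b ^ 2 = z := by
      rw [hb, conj_pow, ha2, (hS w).mp hwS, mul_inv_cancel_right]
    by_cases h1 : a * b = 1
    · exact ⟨a, ha, ha2, ha4, by rw [← hb]; exact eq_inv_of_mul_eq_one_right h1⟩
    by_cases h2 : a * b = z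
    · exfalso
      have : a = b := (mul_left_cancel (h2.trans (by rw [← ha2, pow_two]))).symm
      refine hnocomm w hwS hw hwz a ha (fun e => ?_) (fun e => ?_) ?_
      · rw [e, orderOf_one] at ha4; norm_num at ha4
      · rw [e, hz] at ha4; norm_num at ha4
      · exact mul_inv_eq_iff_eq_mul.mp (hb ▸ this.symm)
    obtain ⟨h3, h4⟩ := ((hsq _ (mul_mem ha hbW)).resolve_left h1).resolve_left h2
    refine ⟨a * b, mul_mem ha hbW, h3, h4, eq_inv_of_mul_eq_one_left ?_⟩
    calc w * (a * b) * w⁻¹ * (a * b) = (w * a * w⁻¹) * (w * b * w⁻¹) * (a * b) := by group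
      _ = b * a * (a * b) := by rw [hwb, ← hb]
      _ = b * (a ^ 2) * b := by rw [pow_two]; group
      _ = z * b ^ 2 := by rw [ha2, (hS b).mp (hWS hbW), pow_two, mul_assoc]
      _ = 1 := by rw [hb2, hzz]
  have hcomme : ∀ {e : G}, e ∈ zpowers i → e * i * e⁻¹ = i := by
    intro e he
    obtain ⟨k, rfl⟩ := mem_zpowers_iff.mp he
    group
  have hconjw : ∀ {e : G}, e ∈ zpowers i → w * e * w⁻¹ = e⁻¹ := by
    intro e he
    obtain ⟨k, rfl⟩ := mem_zpowers_iff.mp he
    rw [← conj_zpow, hwi, inv_zpow]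
  have hinX : ∀ q ∈ W, w * q * w⁻¹ = q⁻¹ → q ∈ zpowers i := by
    intro q hq hwq
    rcases hsq q hq with rfl | rfl | ⟨e, -⟩
    · exact one_mem _
    · exact hi2 ▸ pow_mem (mem_zpowers i) 2
    · rcases huniq w hwS hw hwz i hiW q hq hi2 e hwi hwq with rfl | rfl
      · exact mem_zpowers q
      · exact inv_mem (mem_zpowers i)
  have hww : w * w = 1 := by rw [← pow_two, ← hw, pow_orderOf_eq_one]
  -- every involution of `S` outside `W` lies in `⟨i⟩ w`
  have hout : ∀ v ∈ (S : Subgroup G), orderOf v = 2 → v ≠ z → v * w ∈ zpowers i := by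
    intro v hv hv2 hvz
    refine hinX _ (hmulW v hv w hwS (hnotW v hv hv2 hvz) (hnotW w hwS hw hwz)) ?_
    rw [mul_inv_rev, hsymm hv2, hsymm hw]
    calc w * (v * w) * w = w * v * (w * w) := by group
      _ = w * v := by rw [hww, mul_one]
  let M : Subgroup G :=
    { carrier := {y | y ∈ zpowers i ∨ y * w ∈ zpowers i}
      one_mem' := Or.inl (one_mem _)
      mul_mem' := by
        rintro a b (ha | ha) (hb | hb)
        · exact Or.inl (mul_mem ha hb)
        · exact Or.inr (by rw [mul_assoc]; exact mul_mem ha hb)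
        · refine Or.inr ?_
          have hbw : w * b * w⁻¹ ∈ zpowers i := (hconjw hb).symm ▸ inv_mem hb
          rw [show a * b * w = (a * w) * (w⁻¹ * b * w) by group, hsymm hw]
          rw [hsymm hw] at hbw
          exact mul_mem ha hbw
        · refine Or.inl ?_
          have h2 : w * (b * w) * w⁻¹ ∈ zpowers i := (hconjw hb).symm ▸ inv_mem hb
          have h3 := mul_mem ha h2
          rwa [show a * w * (w * (b * w) * w⁻¹) = a * (w * w) * b by group, hww, mul_one] at h3
      inv_mem' := by
        rintro a (ha | ha)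
        · exact Or.inl (inv_mem ha)
        · refine Or.inr ?_
          have h2 := hconjw (inv_mem ha)
          have h3 : w * (a * w)⁻¹ * w⁻¹ ∈ zpowers i := by rw [h2]; exact inv_mem (inv_mem ha)
          rwa [show w * (a * w)⁻¹ * w⁻¹ = (w * w⁻¹) * a⁻¹ * w⁻¹ by group, mul_inv_cancel, one_mul,
            hsymm hw] at h3 }
  have hXW : zpowers i ≤ W := zpowers_le.mpr hiW
  have hMS : M ≤ (S : Subgroup G) := by
    rintro y (hy | hy)
    · exact hWS (hXW hy)
    · have := mul_mem (hWS (hXW hy)) hwS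
      rwa [mul_assoc, hww, mul_one] at this
  have hX4 : Nat.card (zpowers i) = 4 := by rw [Nat.card_zpowers, hi4]
  obtain ⟨j, hjW, hjX⟩ : ∃ j ∈ W, j ∉ zpowers i := by
    by_contra hcon
    push Not at hcon
    have := card_le_of_le (show W ≤ zpowers i from hcon)
    omega
  obtain ⟨hj2, hj4⟩ : j ^ 2 = z ∧ orderOf j = 4 :=
    ((hsq j hjW).resolve_left fun e => hjX (e ▸ one_mem _)).resolve_left fun e =>
      hjX (e ▸ hi2 ▸ pow_mem (mem_zpowers i) 2)
  have hjM : j ∉ M := by
    rintro (e | e)
    · exact hjX e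
    · refine hnotW w hwS hw hwz ?_
      have := mul_mem (inv_mem hjW) (hXW e)
      rwa [← mul_assoc, inv_mul_cancel, one_mul] at this
  have hM : M.relIndex (S : Subgroup G) = 2 := by
    have hmul := (M.subgroupOf (S : Subgroup G)).card_mul_index
    rw [Nat.card_congr (subgroupOfEquivOfLe hMS).toEquiv,
      show Nat.card (S : Subgroup G) = 16 from hC16] at hmul
    have hwM : w ∈ M := Or.inr (by rw [hww]; exact one_mem _)
    have h5 : 4 < Nat.card M := by
      have hle : zpowers i ≤ M := fun y hy => Or.inl hy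
      rcases (card_le_of_le hle).eq_or_lt with e | e
      · exfalso
        have h2 := eq_of_le_of_card_ge hle e.ge
        exact hnotW w hwS hw hwz (hXW (h2 ▸ hwM))
      · omega
    have hne : (M.subgroupOf (S : Subgroup G)).index ≠ 1 := fun e => hjM (by
      have := mem_top (⟨j, hWS hjW⟩ : (S : Subgroup G))
      rw [← index_eq_one.mp e, mem_subgroupOf] at this
      exact this)
    rw [relIndex]
    have hdvd : (M.subgroupOf (S : Subgroup G)).index ∣ 2 ^ 4 := ⟨Nat.card M, by
      rw [mul_comm]; exact (hmul.trans (by norm_num)).symm⟩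
    obtain ⟨k, hk, hk'⟩ := (Nat.dvd_prime_pow Nat.prime_two).mp hdvd
    rw [hk'] at hmul hne ⊢
    interval_cases k <;> first | (exact absurd rfl hne) | rfl | omega
  have hnoidx : ∀ H : Subgroup G, H.index ≠ 2 := fun H hH => by
    have := index_gt h (H := H) fun e => by rw [e, index_top] at hH; norm_num at hH
    omega
  have hord : ∀ y ∈ (S : Subgroup G), y ∉ M → 2 ^ (2 - 1) < orderOf y := by
    intro y hy hyM
    norm_num
    by_contra hle
    rcases (show orderOf y = 1 ∨ orderOf y = 2 by
      have := orderOf_pos y; omega) with e | e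
    · exact hyM (Or.inl (orderOf_eq_one_iff.mp e ▸ one_mem _))
    · by_cases hyz : y = z
      · exact hyM (Or.inl (hyz ▸ hi2 ▸ pow_mem (mem_zpowers i) 2))
      · exact hyM (Or.inr (hout y hy e hyz))
  obtain ⟨g, hg⟩ := Cfsg.Agent.S3225.result (by rw [h]; decide) hnoidx S M hMS hM 2 (by norm_num)
    hord j (hWS hjW) (by rw [hj4]; norm_num)
  set y := g * j * g⁻¹ with hy
  have hy4 : orderOf y = 4 := by
    rw [hy, show g * j * g⁻¹ = MulAut.conj g j from rfl, MulEquiv.orderOf_eq, hj4]
  have hyX : y ∈ zpowers i := by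
    rcases hg with e | e
    · exact e
    · exfalso
      have h2 : y ^ 2 = 1 := by
        have hc := hconjw e
        rw [hsymm hw, mul_inv_rev, hsymm hw] at hc
        have : y * y = (y * w) * (w * (y * w) * w) := by
          calc y * y = y * (w * w) * y * (w * w) := by rw [hww]; group
            _ = _ := by group
        rw [pow_two, this, hc, mul_assoc, ← mul_assoc w, hww, one_mul, mul_inv_cancel]
      have := orderOf_le_of_pow_eq_one two_pos h2
      omega
  have hy2 : y ^ 2 = z := by
    obtain ⟨hy2, -⟩ := ((hsq y (hXW hyX)).resolve_left fun e => by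
      rw [e, orderOf_one] at hy4; norm_num at hy4).resolve_left fun e => by
      rw [e, hz] at hy4; norm_num at hy4
    exact hy2
  have hgS : g ∈ (S : Subgroup G) := by
    rw [hy, conj_pow, hj2] at hy2
    exact (hS g).mpr (mul_inv_eq_iff_eq_mul.mp hy2)
  set w' := g⁻¹ * w * g with hw'
  have hw'S : w' ∈ (S : Subgroup G) := mul_mem (mul_mem (inv_mem hgS) hwS) hgS
  have hw'2 : orderOf w' = 2 := by
    rw [hw', show g⁻¹ * w * g = MulAut.conj g⁻¹ w by simp, MulEquiv.orderOf_eq, hw]
  have hw'z : w' ≠ z := fun e => hwz (by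
    calc w = g * w' * g⁻¹ := by rw [hw']; group
      _ = z := by rw [e, mul_inv_eq_iff_eq_mul]; exact (hS g).mp hgS)
  have hw'i : w' * i * w'⁻¹ = i⁻¹ := by
    have he := hout w' hw'S hw'2 hw'z
    have e1 : w' = (w' * w) * w := by rw [mul_assoc, hww, mul_one]
    rw [e1]
    calc (w' * w) * w * i * ((w' * w) * w)⁻¹ = (w' * w) * (w * i * w⁻¹) * (w' * w)⁻¹ := by group
      _ = ((w' * w) * i * (w' * w)⁻¹)⁻¹ := by rw [hwi]; group
      _ = i⁻¹ := by rw [hcomme he]
  have hw'j : w' * j * w'⁻¹ = j⁻¹ := by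
    have hj : j = g⁻¹ * y * g := by rw [hy]; group
    rw [hw', hj]
    calc g⁻¹ * w * g * (g⁻¹ * y * g) * (g⁻¹ * w * g)⁻¹ = g⁻¹ * (w * y * w⁻¹) * g := by group
      _ = (g⁻¹ * y * g)⁻¹ := by rw [hconjw hyX]; group
  rcases huniq w' hw'S hw'2 hw'z i hiW j hjW hi2 hj2 hw'i hw'j with e | e
  · exact hjX (e ▸ mem_zpowers i)
  · exact hjX (e ▸ inv_mem (mem_zpowers i))

/-- No simple group has order `720`. -/
theorem card_ne (h : Nat.card G = 720) : False := by
  classical
  have : Fact (Nat.Prime 3) := ⟨by norm_num⟩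
  have : Fact (Nat.Prime 2) := ⟨Nat.prime_two⟩
  have : Fact (Nat.Prime 5) := ⟨by norm_num⟩
  have hG := nc h
  have hP9 : ∀ P : Sylow 3 G, Nat.card P = 9 := fun P => by
    simpa using card_sylow_of_card_eq (k := 2) (m := 80) (by rw [h]; norm_num) (by norm_num) P
  have hle : ∀ (P : Sylow 3 G) {D : Subgroup G}, D ≤ (P : Subgroup G) →
      (P : Subgroup G) ≤ centralizer (D : Set G) := fun P D hD a ha =>
    mem_centralizer_iff.mpr fun b hb => congrArg Subtype.val
      ((IsPGroup.isMulCommutative_of_card_eq_prime_sq (p := 3) (G := (P : Subgroup G))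
        (by rw [hP9]; norm_num)).is_comm.comm ⟨b, hD hb⟩ ⟨a, ha⟩)
  have hti : ∀ P Q : Sylow 3 G, P ≠ Q → (P : Subgroup G) ⊓ (Q : Subgroup G) = ⊥ := by
    intro P Q hPQ
    by_contra hb
    have hd : Nat.card ((P : Subgroup G) ⊓ (Q : Subgroup G) : Subgroup G) ∣ 9 :=
      hP9 P ▸ card_dvd_of_le inf_le_left
    have h1 : Nat.card ((P : Subgroup G) ⊓ (Q : Subgroup G) : Subgroup G) ≠ 1 :=
      fun e => hb (card_eq_one.mp e)
    have h3 := (show ∀ k ∈ Nat.divisors 9, k = 1 ∨ k = 3 ∨ k = 9 by decide) _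
      (Nat.mem_divisors.mpr ⟨hd, by norm_num⟩)
    rcases h3 with e | e | e
    · exact h1 e
    · exact intersection h e hPQ (hle P inf_le_left) (hle Q inf_le_right)
    · exact hPQ (Sylow.ext ((eq_of_le_of_card_ge inf_le_left (by rw [e, hP9])).symm.trans
        (eq_of_le_of_card_ge inf_le_right (by rw [e, hP9]))))
  have hm := card_sylow_mem (p := 3) hG (k := 2) (m := 80) two_ne_zero (by rw [h]; norm_num)
    (by norm_num)
  rw [show ((Nat.divisors 80).filter fun n => n % 3 = 1 ∧ 1 < n) = {4, 10, 16, 40} from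
    by decide +kernel] at hm
  simp only [Finset.mem_insert, Finset.mem_singleton] at hm
  rcases hm with hn | hn | hn | hn
  · have h2 := two_mul_card_dvd_factorial_card_sylow (p := 3) hG (by rw [h]; norm_num)
    rw [hn, h] at h2
    exact absurd h2 (by decide)
  · exact false_of_ti h hn hti
  · -- the normaliser of order 45 has a normal subgroup of order 5
    obtain ⟨P⟩ := (inferInstance : Nonempty (Sylow 3 G))
    set N := normalizer ((P : Subgroup G) : Set G) with hN
    have hN45 : Nat.card N = 45 := by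
      have := card_normalizer_mul_card_sylow P
      rw [hn, h, ← hN] at this
      omega
    obtain ⟨y, hy⟩ := exists_prime_orderOf_dvd_card' 5 (G := N) (by rw [hN45]; norm_num)
    have hy' : orderOf (y : G) = 5 := by rw [orderOf_coe]; exact hy
    obtain ⟨Q, hQ, -⟩ := exists_unique_sylow_mem hy' (card_five h)
    have hy1 : (y : G) ≠ 1 := fun e => by rw [e, orderOf_one] at hy'; norm_num at hy'
    have hQN : (Q : Subgroup G) ≤ N := by
      rw [eq_zpowers_of_mem (card_five h Q) hQ hy1, zpowers_le]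
      exact y.2
    have h1 := Residual.card_eq_sylow_mul Q hQN
    rw [hN45] at h1
    have h20 : Nat.card (normalizer ((Q : Subgroup G) : Set G) ⊓ N : Subgroup G) ∣ 20 :=
      (card_dvd_of_le inf_le_left).trans (dvd_of_eq (five_data h Q).2.2)
    have h5 : 5 ∣ Nat.card (normalizer ((Q : Subgroup G) : Set G) ⊓ N : Subgroup G) :=
      (dvd_of_eq (card_five h Q).symm).trans (card_dvd_of_le (le_inf le_normalizer hQN))
    have hf := card_sylow_modEq_one 5 N
    rw [Nat.ModEq] at hf
    have hcases := (show ∀ k ∈ Nat.divisors 20, 5 ∣ k → k = 5 ∨ k = 10 ∨ k = 20 by decide) _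
      (Nat.mem_divisors.mpr ⟨h20, by norm_num⟩) h5
    rcases hcases with e | e | e <;> rw [e] at h1 <;> omega
  · -- two Sylow 3-subgroups meet
    obtain ⟨P, R, hne, hidx⟩ := exists_pair_of_not_modEq (G := G) (p := 3) (k := 2)
      (by rw [hn, Nat.ModEq]; norm_num)
    have := hti R P hne.symm
    rw [show (R : Subgroup G).subgroupOf (P : Subgroup G) = ⊥ by
      rw [subgroupOf_eq_bot, disjoint_iff, this]] at hidx
    rw [index_bot, hP9] at hidx
    norm_num at hidx

end CfsgLib.Small.Order720
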