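import Cfsg.Agent.Lib.Small.PrimeExceptional
import Cfsg.Agent.Lib.Small.AbelianFocal
import Cfsg.Agent.Lib.Small.Order504

/-!
No simple group has order 3648 or 3744: the degree equation for the prime 19, resp. 13, has no
solution.
-/

set_option autoImplicit false

namespace CfsgLib.Small.Order3648

open Subgroup CfsgLib.Small

variable {G : Type*} [Group G] [Finite G] [IsSimpleGroup G]

/-- A self-centralising Sylow subgroup of prime order `p` with normaliser of order `2 p` gives an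
irreducible degree `≡ ±1 (mod p)` adjacent to another degree. -/
theorem degrees {p m n t : ℕ} [Fact p.Prime] (hc : Nat.card G = p * m) (hm : ¬ p ∣ m)
    (hn : ∀ d ∈ m.divisors, d % p = 1 → 1 < d → d = n) (hnp : m = 2 * n) (ht : t * 2 = p - 1)
    (ht3 : 4 ≤ t) :
    ∃ (ε a : ℤ) (d0 d : ℕ), (ε = 1 ∨ ε = -1) ∧ (a = 1 ∨ a = -1) ∧ d0 ∣ Nat.card G ∧
      d ∣ Nat.card G ∧ 1 < d ∧ d ^ 2 < Nat.card G ∧ (d : ℤ) ≡ a [ZMOD p] ∧
      1 - ε * d0 + a * d = 0 := by
  classical
  have := Fintype.ofFinite G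
  have hp : p.Prime := Fact.out
  have hm1 : 1 < m := by
    by_contra h
    have : m = 1 ∨ m = 0 := by omega
    rcases this with e | e
    · subst e; omega
    · exact hm (e ▸ dvd_zero p)
  have hG : ¬ IsMulCommutative G := nc_of_not_prime (by
    rw [hc]; exact Nat.not_prime_mul hp.ne_one (by omega))
  obtain ⟨P⟩ := (inferInstance : Nonempty (Sylow p G))
  have hP : Nat.card P = p := by
    simpa using card_sylow_of_card_eq (k := 1) (m := m) (by rw [hc, pow_one]) hm P
  have hmem := card_sylow_mem (p := p) hG (k := 1) (m := m) one_ne_zero (by rw [hc, pow_one]) hm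
  rw [Finset.mem_filter] at hmem
  have hnn := hn _ hmem.1 hmem.2.1 hmem.2.2
  obtain ⟨e, he1, -, ⟨c, hcc⟩, hCe, hall⟩ := sylow_prime_order_data hG P hP
  rw [hnn, hc, hcc, hnp] at hall
  have hce : c * e = 2 := by
    have h1 : p * (c * e * n) = p * (2 * n) := by rw [← hall]; ring
    have h2 := Nat.eq_of_mul_eq_mul_left hp.pos h1
    exact Nat.eq_of_mul_eq_mul_right (by omega) h2
  have hc1 : c = 1 := by
    rcases (Nat.dvd_prime Nat.prime_two).mp (Dvd.intro e hce : c ∣ 2) with h | h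
    · exact h
    · subst h; omega
  subst hc1
  obtain rfl : e = 2 := by omega
  rw [mul_one] at hcc
  rw [hcc] at hCe
  have hCK : centralizer ((P : Subgroup G) : Set G) = (P : Subgroup G) := by
    refine (eq_of_le_of_card_ge (fun x hx => mem_centralizer_iff.mpr fun y hy => ?_)
      (by rw [hcc, hP])).symm
    have hcyc : IsCyclic (P : Subgroup G) := isCyclic_of_prime_card hP
    let _ := IsCyclic.commGroup (α := (P : Subgroup G))
    exact congrArg Subtype.val (mul_comm (⟨y, hy⟩ : (P : Subgroup G)) ⟨x, hx⟩)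
  have hCle : ∀ k ∈ (P : Subgroup G), k ≠ 1 → centralizer ({k} : Set G) ≤ (P : Subgroup G) :=
    fun k hk hk1 => by
      rw [← Order504.centralizer_eq_of_zpowers (eq_zpowers_of_mem hP hk hk1), hCK]
  obtain ⟨ε, a', d0, S, a, d, hε, hd0, hd01, -, hS, hrel, hnorm, hsq⟩ :=
    PrimeExceptional.degree_relation (commutator_eq_top hG) hP hCle (e := 2) (t := t) hCe.symm
      ht (by omega)
  have hε2 : ε ^ 2 = 1 := by rcases hε with rfl | rfl <;> norm_num
  push_cast at hrel hnorm
  have h2 : 0 ≤ ∑ ψ ∈ S, a ψ ^ 2 := Finset.sum_nonneg fun ψ _ => sq_nonneg _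
  have ha' : a' = 0 := by
    by_contra h0
    have h1 : 1 ≤ a' ^ 2 := by
      have := mul_self_pos.mpr h0
      nlinarith
    have h3 : (3 : ℤ) ≤ (t : ℤ) - 1 := by omega
    have := mul_le_mul h3 h1 zero_le_one (by omega)
    nlinarith [sq_nonneg (a' - ε)]
  subst ha'
  have hnorm' : ∑ ψ ∈ S, a ψ ^ 2 = 1 := by linear_combination hnorm - hε2
  obtain ⟨ψ, hψ⟩ : S.Nonempty := by
    rw [Finset.nonempty_iff_ne_empty]
    rintro rfl
    simp at hnorm'
  have hle := Finset.single_le_sum (fun x _ => sq_nonneg (a x)) hψ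
  rw [hnorm'] at hle
  obtain ⟨hdd, hd1, ha0, hmod⟩ := hS ψ hψ
  have hab1 : a ψ = 1 ∨ a ψ = -1 := by
    have h1 : a ψ ≤ 1 := by nlinarith
    have h2 : -1 ≤ a ψ := by nlinarith
    omega
  have hone : S = {ψ} := by
    refine Finset.eq_singleton_iff_unique_mem.mpr ⟨hψ, fun φ hφ => by_contra fun hne => ?_⟩
    have h1 := Finset.sum_le_sum_of_subset_of_nonneg
      (Finset.insert_subset_iff.mpr ⟨hφ, Finset.singleton_subset_iff.mpr hψ⟩)
      (fun x _ _ => sq_nonneg (a x))
    rw [hnorm', Finset.sum_pair hne] at h1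
    have h3 : 1 ≤ a φ ^ 2 := by
      have := mul_self_pos.mpr (hS φ hφ).2.2.1
      nlinarith
    rcases hab1 with e | e <;> rw [e] at h1 <;> omega
  rw [hone, Finset.sum_singleton] at hrel hsq
  refine ⟨ε, a ψ, d0, d ψ, hε, hab1, hd0, hdd, hd1, ?_, hmod, by linear_combination hrel⟩
  have : 0 < t * d0 ^ 2 := by positivity
  omega

theorem card_ne (h : Nat.card G = 3648) : False := by
  have : Fact (Nat.Prime 19) := ⟨by norm_num⟩
  obtain ⟨ε, a, d0, d, hε, ha, hd0, hd, hd1, hsq, hmod, hrel⟩ :=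
    degrees (G := G) (p := 19) (m := 192) (n := 96) (t := 9) (by rw [h]) (by norm_num)
      (by decide +kernel) (by norm_num) (by norm_num) (by norm_num)
  rw [h] at hd0 hd hsq
  have hlist : ∀ k ∈ Finset.range 61, k ∣ 3648 → 1 < k → k % 19 ≠ 1 ∧ k % 19 ≠ 18 := by
    decide +kernel
  have hdlt : d < 61 := by nlinarith
  obtain ⟨h1, h2⟩ := hlist d (Finset.mem_range.mpr hdlt) hd hd1
  rw [Int.ModEq] at hmod
  rcases ha with rfl | rfl <;> omega

theorem card_ne' (h : Nat.card G = 3744) : False := by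
  have : Fact (Nat.Prime 13) := ⟨by norm_num⟩
  obtain ⟨ε, a, d0, d, hε, ha, hd0, hd, hd1, hsq, hmod, hrel⟩ :=
    degrees (G := G) (p := 13) (m := 288) (n := 144) (t := 6) (by rw [h]) (by norm_num)
      (by decide +kernel) (by norm_num) (by norm_num) (by norm_num)
  rw [h] at hd0 hd hsq
  have hlist : ∀ k ∈ Finset.range 62, k ∣ 3744 → 1 < k → k % 13 ≠ 1 ∧ (k % 13 = 12 → k = 12) := by
    decide +kernel
  have hdlt : d < 62 := by nlinarith
  obtain ⟨h1, h2⟩ := hlist d (Finset.mem_range.mpr hdlt) hd hd1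
  rw [Int.ModEq] at hmod
  rcases ha with rfl | rfl
  · omega
  obtain rfl : d = 12 := h2 (by omega)
  rcases hε with rfl | rfl
  · omega
  · obtain rfl : d0 = 11 := by omega
    norm_num at hd0

end CfsgLib.Small.Order3648
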