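import Cfsg.Agent.Lib.Small.SieveCriteria
import Cfsg.Agent.Lib.Small.Fixed
import Cfsg.Agent.Lib.Small.Order3648
import Cfsg.Agent.Lib.Involutions.Transfer
import Cfsg.Agent.Lib.Transfer.Basic
import Cfsg.Agent.S3224

/-!
Tools for the orders that survive the sieve, and the orders 756, 1008, 1040, 1080.
-/

set_option autoImplicit false

namespace CfsgLib.Small.Residual

open Subgroup MulAction CfsgLib.Small

variable {G : Type*} [Group G] [Finite G]

/-- The Sylow subgroups of `G` lying in `H`, counted through one of them. -/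
theorem card_eq_sylow_mul {p : ℕ} [Fact p.Prime] {H : Subgroup G} (P : Sylow p G)
    (hPH : (P : Subgroup G) ≤ H) :
    Nat.card (Sylow p H) * Nat.card (normalizer ((P : Subgroup G) : Set G) ⊓ H : Subgroup G) =
      Nat.card H := by
  have h := card_normalizer_mul_card_sylow (P.subtype hPH)
  rw [← h, mul_comm]
  congr 1
  rw [Sylow.coe_subtype, ← subgroupOf_normalizer_eq hPH, ← inf_subgroupOf_right]
  exact (Nat.card_congr (subgroupOfEquivOfLe inf_le_right).toEquiv).symm

/-- For `|P| = p` the Sylow subgroups of `H` are those of `G` lying in `H`. -/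
theorem card_sylow_le_eq {p : ℕ} [hp : Fact p.Prime] (hP : ∀ P : Sylow p G, Nat.card P = p)
    {H : Subgroup G} (hH : p ∣ Nat.card H) :
    Nat.card {Q : Sylow p G // (Q : Subgroup G) ≤ H} = Nat.card (Sylow p H) := by
  refine Nat.card_congr (Equiv.ofBijective (fun Q => Q.1.subtype Q.2) ⟨?_, ?_⟩)
  · rintro ⟨Q, hQ⟩ ⟨R, hR⟩ h
    exact Subtype.ext (Sylow.subtype_injective h)
  · intro R
    have hmap : IsPGroup p ((R : Subgroup H).map H.subtype) := R.2.map H.subtype
    obtain ⟨Q, hQ⟩ := hmap.exists_le_sylow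
    have hpR : p ∣ Nat.card R := R.dvd_card_of_dvd_card hH
    have heq : (R : Subgroup H).map H.subtype = (Q : Subgroup G) := by
      refine eq_of_le_of_card_ge hQ ?_
      rw [hP Q, card_map_of_injective H.subtype_injective]
      exact Nat.le_of_dvd Nat.card_pos hpR
    refine ⟨⟨Q, heq ▸ map_subtype_le _⟩, Sylow.ext ?_⟩
    change (Q : Subgroup G).subgroupOf H = (R : Subgroup H)
    rw [← heq, ← comap_subtype, comap_map_eq_self_of_injective H.subtype_injective]

/-- The involution of `C(P)`, for `|C(P)| = 2p`, is central in `N(P)`. -/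
theorem normalizer_le_centralizer_involution {p : ℕ} [hp : Fact p.Prime] (P : Sylow p G)
    (hP : Nat.card P = p) (hp2 : p ≠ 2)
    (hcc : Nat.card (centralizer ((P : Subgroup G) : Set G)) = p * 2) {u : G}
    (huC : u ∈ centralizer ((P : Subgroup G) : Set G)) (hu : orderOf u = 2) :
    normalizer ((P : Subgroup G) : Set G) ≤ centralizer ({u} : Set G) := by
  set C := centralizer ((P : Subgroup G) : Set G) with hC
  have hPC : (P : Subgroup G) ≤ C := fun a ha => mem_centralizer_iff.mpr fun b hb => by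
    have hcyc : IsCyclic (P : Subgroup G) := isCyclic_of_prime_card hP
    let _ := IsCyclic.commGroup (α := (P : Subgroup G))
    exact congrArg Subtype.val (mul_comm (⟨b, hb⟩ : (P : Subgroup G)) ⟨a, ha⟩)
  have hPi : ((P : Subgroup G).subgroupOf C).index = 2 := by
    have := ((P : Subgroup G).subgroupOf C).card_mul_index
    rw [Nat.card_congr (subgroupOfEquivOfLe hPC).toEquiv, hP, hcc] at this
    exact Nat.eq_of_mul_eq_mul_left hp.out.pos this
  obtain ⟨k, hk⟩ := hp.out.odd_of_ne_two hp2
  have huniq : ∀ v ∈ C, orderOf v = 2 → v = u := by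
    intro v hv hv2
    have hout : ∀ w : C, orderOf (w : G) = 2 → w ∉ (P : Subgroup G).subgroupOf C := by
      intro w hw hwP
      have := orderOf_dvd_natCard (⟨(w : G), mem_subgroupOf.mp hwP⟩ : (P : Subgroup G))
      rw [Subgroup.orderOf_mk, hw, hP] at this
      exact hp2 ((Nat.prime_dvd_prime_iff_eq Nat.prime_two hp.out).mp this).symm
    have hmul := (mul_mem_iff_of_index_two hPi (a := ⟨v, hv⟩) (b := (⟨u, huC⟩ : C))).mpr
      (iff_of_false (hout ⟨v, hv⟩ hv2) (hout ⟨u, huC⟩ hu))
    rw [mem_subgroupOf] at hmul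
    change v * u ∈ (P : Subgroup G) at hmul
    have hcm : u * (v * u) = (v * u) * u := (mem_centralizer_iff.mp huC _ hmul).symm
    have huu : u * u = 1 := by rw [← pow_two, ← hu, pow_orderOf_eq_one]
    have hvv : v * v = 1 := by rw [← pow_two, ← hv2, pow_orderOf_eq_one]
    have hsq : (v * u) ^ 2 = 1 := by
      have h1 : v * u * u = v := by rw [mul_assoc, huu, mul_one]
      calc (v * u) ^ 2 = v * (u * (v * u)) := by rw [pow_two, mul_assoc]
        _ = v * v := by rw [hcm, h1]
        _ = 1 := hvv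
    have hp' : (v * u) ^ p = 1 := by
      have := orderOf_dvd_natCard (⟨v * u, hmul⟩ : (P : Subgroup G))
      rw [Subgroup.orderOf_mk, hP] at this
      exact orderOf_dvd_iff_pow_eq_one.mp this
    rw [hk, pow_succ, pow_mul, hsq, one_pow, one_mul] at hp'
    rw [eq_inv_of_mul_eq_one_left hp']
    exact inv_eq_of_mul_eq_one_right huu
  intro g hg
  have hgu : g * u * g⁻¹ ∈ C := by
    rw [hC, mem_centralizer_iff]
    intro a ha
    have ha' : g⁻¹ * a * g ∈ (P : Subgroup G) := by
      have := (mem_normalizer_iff.mp (inv_mem hg) a).mp ha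
      rwa [inv_inv] at this
    have : g⁻¹ * a * g * u = u * (g⁻¹ * a * g) := mem_centralizer_iff.mp huC _ ha'
    calc a * (g * u * g⁻¹) = g * ((g⁻¹ * a * g) * u) * g⁻¹ := by group
      _ = g * (u * (g⁻¹ * a * g)) * g⁻¹ := by rw [this]
      _ = g * u * g⁻¹ * a := by group
  have h1 := huniq _ hgu (by rw [show g * u * g⁻¹ = MulAut.conj g u from rfl,
    MulEquiv.orderOf_eq, hu])
  exact mem_centralizer_singleton_iff.mpr (mul_inv_eq_iff_eq_mul.mp h1)

variable [IsSimpleGroup G]

omit [Finite G] in
theorem centralizer_ne_top (hG : ¬ IsMulCommutative G) {x : G} (hx : x ≠ 1) :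
    centralizer ({x} : Set G) ≠ ⊤ := by
  intro h
  refine hx (mem_bot.mp (center_eq_bot_of_nc hG ▸ mem_center_iff.mpr fun g => ?_))
  exact mem_centralizer_singleton_iff.mp (h ▸ mem_top g)

/-- In a simple group of order `16 m`, `m` odd, no involution centraliser has 2-part `4`. -/
theorem not_klein_centralizer (hG : ¬ IsMulCommutative G) {m : ℕ} (hm : ¬ 2 ∣ m)
    (hc : Nat.card G = 2 ^ 4 * m) {u : G} (hu : orderOf u = 2)
    (h8 : ¬ 8 ∣ Nat.card (centralizer ({u} : Set G))) : False := by
  have : Fact (Nat.Prime 2) := ⟨Nat.prime_two⟩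
  have hu2 : IsPGroup 2 (zpowers u) :=
    IsPGroup.of_card (n := 1) (by rw [Nat.card_zpowers, hu, pow_one])
  obtain ⟨S, hS⟩ := hu2.exists_le_sylow
  have huS : u ∈ (S : Subgroup G) := hS (mem_zpowers u)
  have hS16 : Nat.card S = 2 ^ 4 := card_sylow_of_card_eq hc hm S
  set u' : (S : Subgroup G) := ⟨u, huS⟩
  have hu' : orderOf u' = 2 := by rw [← orderOf_coe]; exact hu
  have hCle : ((centralizer ({u'} : Set (S : Subgroup G))).map (S : Subgroup G).subtype) ≤
      centralizer ({u} : Set G) := by
    rintro _ ⟨a, ha, rfl⟩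
    exact mem_centralizer_singleton_iff.mpr
      (congrArg Subtype.val (mem_centralizer_singleton_iff.mp ha))
  obtain ⟨i, hi, hiC⟩ := (Nat.dvd_prime_pow Nat.prime_two).mp
    (hS16 ▸ card_subgroup_dvd_card (centralizer ({u'} : Set (S : Subgroup G))))
  have hi2 : i ≤ 2 := by
    by_contra h
    refine h8 ((show 8 ∣ 2 ^ i from (pow_dvd_pow 2 (by omega : 3 ≤ i))).trans ?_)
    rw [← hiC, ← card_map_of_injective (S : Subgroup G).subtype_injective]
    exact card_dvd_of_le hCle
  have hC4 : Nat.card (centralizer ({u'} : Set (S : Subgroup G))) = 4 := by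
    have hle : zpowers u' ≤ centralizer ({u'} : Set (S : Subgroup G)) := by
      rw [zpowers_le, mem_centralizer_singleton_iff]
    by_contra h
    have h2 : 2 ≤ 2 ^ i := by
      have := card_le_of_le hle
      rwa [Nat.card_zpowers, hu', hiC] at this
    have hi1 : i = 1 := by
      rcases Nat.lt_or_ge i 2 with h' | h'
      · interval_cases i <;> simp at h2 ⊢
      · exact absurd (by rw [hiC, show i = 2 by omega]; norm_num) h
    -- the centre of `S` would lie in `⟨u⟩`, so `u` would be central
    have hzu : centralizer ({u'} : Set (S : Subgroup G)) = zpowers u' := by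
      refine (eq_of_le_of_card_ge hle ?_).symm
      rw [hiC, hi1, pow_one, Nat.card_zpowers, hu']
    have : Nontrivial (S : Subgroup G) := Finite.one_lt_card_iff_nontrivial.mp (by rw [hS16]; norm_num)
    have hZ := S.2.center_nontrivial
    obtain ⟨⟨z, hz⟩, hz1⟩ := exists_ne (1 : center (S : Subgroup G))
    have hzc : z ∈ centralizer ({u'} : Set (S : Subgroup G)) :=
      mem_centralizer_singleton_iff.mpr (mem_center_iff.mp hz u').symm
    rw [hzu] at hzc
    have hzu' : z = u' := by
      obtain ⟨j, hj⟩ := mem_zpowers_iff.mp hzc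
      rw [← zpow_mod_orderOf, hu'] at hj
      rcases Int.emod_two_eq_zero_or_one j with e | e
      · rw [show ((2 : ℕ) : ℤ) = 2 from rfl, e, zpow_zero] at hj
        exact absurd (Subtype.ext hj.symm) hz1
      · rw [show ((2 : ℕ) : ℤ) = 2 from rfl, e, zpow_one] at hj
        exact hj.symm
    subst hzu'
    have htop : centralizer ({u'} : Set (S : Subgroup G)) = ⊤ := by
      refine eq_top_iff.mpr fun a _ => mem_centralizer_singleton_iff.mpr ?_
      exact (mem_center_iff.mp hz a)
    rw [htop, card_top, hS16, hi1] at hiC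
    norm_num at hiC
  -- a cyclic subgroup of order `8`
  obtain ⟨c, hc8⟩ : ∃ c : (S : Subgroup G), orderOf c = 8 := by
    rcases Cfsg.Agent.S3224.result S.2 u' hu' hC4 with ⟨n, ⟨f⟩⟩ | hq | h4
    · refine ⟨f.symm (DihedralGroup.r 1), ?_⟩
      rw [MulEquiv.orderOf_eq, DihedralGroup.orderOf_r_one]
      have := Nat.card_congr f.toEquiv
      rw [hS16, DihedralGroup.nat_card] at this
      omega
    · obtain ⟨n, hn, hcard, x, y, hx, -, -⟩ := hq
      have : n + 1 = 4 := Nat.pow_right_injective le_rfl (hcard.symm.trans hS16)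
      exact ⟨x, by rw [hx, show n = 3 by omega]; norm_num⟩
    · rw [hS16] at h4; norm_num at h4
  set M := zpowers c with hM
  have hM8 : Nat.card M = 8 := by rw [hM, Nat.card_zpowers, hc8]
  have hMi : M.index = 2 := by
    have := M.card_mul_index
    rw [hM8, hS16] at this
    omega
  have hMn : M.Normal := normal_of_index_eq_two hMi
  -- an involution of `M` is central in `S`
  have hcen : ∀ a ∈ M, orderOf a = 2 → centralizer ({a} : Set (S : Subgroup G)) = ⊤ := by
    intro a ha ha2
    have huniq : ∀ b ∈ M, orderOf b = 2 → b = c ^ 4 := by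
      intro b hb hb2
      obtain ⟨j, hj⟩ := mem_zpowers_iff.mp hb
      rw [← zpow_mod_orderOf, hc8] at hj
      have h0 := Int.emod_nonneg j (show ((8 : ℕ) : ℤ) ≠ 0 by norm_num)
      have h1 := Int.emod_lt_of_pos j (show (0 : ℤ) < ((8 : ℕ) : ℤ) by norm_num)
      obtain ⟨k, hk⟩ := Int.eq_ofNat_of_zero_le h0
      rw [hk] at hj h1
      rw [zpow_natCast] at hj
      have h2 := pow_orderOf_eq_one b
      rw [hb2, ← hj, ← pow_mul, ← orderOf_dvd_iff_pow_eq_one, hc8] at h2
      have hk8 : k < 8 := by exact_mod_cast h1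
      rcases (show k = 0 ∨ k = 4 by omega) with rfl | rfl
      · rw [← hj, pow_zero, orderOf_one] at hb2
        norm_num at hb2
      · exact hj.symm
    refine eq_top_iff.mpr fun s _ => mem_centralizer_singleton_iff.mpr ?_
    have h1 := huniq _ (hMn.conj_mem a ha s) (by
      rw [show s * a * s⁻¹ = MulAut.conj s a from rfl, MulEquiv.orderOf_eq, ha2])
    rw [← huniq a ha ha2] at h1
    exact mul_inv_eq_iff_eq_mul.mp h1
  set Q := M.map (S : Subgroup G).subtype
  have hQS : Q.relIndex (S : Subgroup G) = 2 := by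
    rw [relIndex, show Q.subgroupOf (S : Subgroup G) = M from
      comap_map_eq_self_of_injective (S : Subgroup G).subtype_injective M]
    exact hMi
  rcases exists_or_forall_not (fun g : G => g * u * g⁻¹ ∈ Q) with ⟨g, a, ha, hag⟩ | hno
  · have ha2 : orderOf a = 2 := by
      rw [← orderOf_coe, show (a : G) = g * u * g⁻¹ from hag,
        show g * u * g⁻¹ = MulAut.conj g u from rfl, MulEquiv.orderOf_eq, hu]
    refine h8 ?_
    have hconj : (centralizer ({u} : Set G)).map (MulAut.conj g).toMonoidHom =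
        centralizer ({(a : G)} : Set G) := by
      ext y
      rw [show (a : G) = g * u * g⁻¹ from hag, mem_map_equiv, mem_centralizer_singleton_iff,
        mem_centralizer_singleton_iff, MulAut.conj_symm_apply]
      constructor <;> intro h
      · have h' := congrArg (fun w => g * w * g⁻¹) h
        simpa [mul_assoc] using h'
      · have h' := congrArg (fun w => g⁻¹ * w * g) h
        simpa [mul_assoc] using h'
    rw [← card_map_of_injective (f := (MulAut.conj g).toMonoidHom) (MulAut.conj g).injective,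
      hconj]
    refine (show 8 ∣ Nat.card (S : Subgroup G) by rw [hS16]; norm_num).trans (card_dvd_of_le ?_)
    intro s hs
    have h1 : (⟨s, hs⟩ : (S : Subgroup G)) ∈ centralizer ({a} : Set (S : Subgroup G)) := by
      rw [hcen a ha ha2]; exact mem_top _
    have h2 : s * (a : G) = (a : G) * s :=
      congrArg Subtype.val (mem_centralizer_singleton_iff.mp h1)
    exact mem_centralizer_singleton_iff.mpr h2
  · obtain ⟨N, hN, hN2, -⟩ := CfsgLib.Transfer.thompson_transfer S Q hQS u
      (hu ▸ pow_orderOf_eq_one u) (fun g _ => hno g)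
    rcases eq_bot_or_top N with h | h
    · rw [h, index_bot, hc] at hN2; omega
    · rw [h, index_top] at hN2; omega

/-- No simple group has order `756`. -/
theorem card_ne_756 (h : Nat.card G = 756) : False := by
  classical
  have := Fintype.ofFinite G
  have : Fact (Nat.Prime 7) := ⟨by norm_num⟩
  have hG : ¬ IsMulCommutative G := nc_of_not_prime (by rw [h]; norm_num)
  obtain ⟨P⟩ := (inferInstance : Nonempty (Sylow 7 G))
  have hP : Nat.card P = 7 := by
    simpa using card_sylow_of_card_eq (k := 1) (m := 108) (by rw [h]; norm_num) (by norm_num) P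
  have hn := card_sylow_mem (p := 7) hG (k := 1) (m := 108) one_ne_zero (by rw [h]; norm_num)
    (by norm_num)
  rw [show ((Nat.divisors 108).filter fun n => n % 7 = 1 ∧ 1 < n) = {36} from by decide +kernel,
    Finset.mem_singleton] at hn
  obtain ⟨e, he1, he2, ⟨c, hcc⟩, hCe, hall⟩ := sylow_prime_order_data hG P hP
  rw [hn, h, hcc] at hall
  have hce : c * e = 3 := by
    have : 7 * (c * e) * 36 = 7 * 3 * 36 := by rw [← mul_assoc 7 c e]; omega
    omega
  obtain ⟨rfl, rfl⟩ : c = 1 ∧ e = 3 := by
    rcases (Nat.dvd_prime Nat.prime_three).mp (Dvd.intro e hce) with e' | e' <;> subst e' <;> omega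
  rw [mul_one] at hcc
  rw [hcc] at hCe
  have hCK : centralizer ((P : Subgroup G) : Set G) = (P : Subgroup G) := by
    refine (eq_of_le_of_card_ge (fun x hx => mem_centralizer_iff.mpr fun y hy => ?_)
      (by rw [hcc, hP])).symm
    have hcyc : IsCyclic (P : Subgroup G) := isCyclic_of_prime_card hP
    let _ := IsCyclic.commGroup (α := (P : Subgroup G))
    exact congrArg Subtype.val (mul_comm (⟨y, hy⟩ : (P : Subgroup G)) ⟨x, hx⟩)
  obtain ⟨ε, a', d0, S, a, d, hε, hd0, hd01, hd0m, hS, hrel, hnorm, hsq⟩ :=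
    PrimeExceptional.degree_relation (commutator_eq_top hG) hP (fun k hk hk1 => by
      rw [← Order504.centralizer_eq_of_zpowers (eq_zpowers_of_mem hP hk hk1), hCK])
      (e := 3) (t := 2) (by rw [← hCe]) (by norm_num) le_rfl
  push_cast at hrel hnorm hd0m
  have h2 : 0 ≤ ∑ ψ ∈ S, a ψ ^ 2 := Finset.sum_nonneg fun ψ _ => sq_nonneg _
  have hε2 : ε ^ 2 = 1 := by rcases hε with rfl | rfl <;> norm_num
  have ha' : a' = 0 ∨ a' = ε := by
    have hb1 : a' ≤ 1 := by rcases hε with rfl | rfl <;> nlinarith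
    have hb2 : -1 ≤ a' := by rcases hε with rfl | rfl <;> nlinarith
    rcases hε with rfl | rfl <;> interval_cases a' <;> norm_num at hnorm ⊢ <;> omega
  have hsum : ∑ ψ ∈ S, a ψ ^ 2 = 2 := by
    rcases ha' with rfl | rfl <;> linarith
  have hx : ∀ ψ ∈ S, a ψ ^ 2 = 1 ∧ (a ψ * (d ψ : ℤ) = -6 ∨ a ψ * (d ψ : ℤ) = -27) := by
    intro ψ hψ
    obtain ⟨hdd, hd1, ha0, hmod⟩ := hS ψ hψ
    have hle := Finset.single_le_sum (fun x _ => sq_nonneg (a x)) hψ
    rw [hsum] at hle
    have hb1 : a ψ ≤ 1 := by nlinarith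
    have hb2 : -1 ≤ a ψ := by nlinarith
    have hdlt : d ψ < 28 := by
      have h3 := Finset.single_le_sum (f := fun x => d x ^ 2) (fun x _ => Nat.zero_le _) hψ
      rw [h] at hsq
      by_contra hge
      have : 28 ^ 2 ≤ d ψ ^ 2 := Nat.pow_le_pow_left (by omega) 2
      omega
    have hlist := (show ∀ k ∈ Finset.range 28, k ∣ 756 → 1 < k →
      k % 7 ≠ 1 ∧ (k % 7 = 6 → k = 6 ∨ k = 27) by decide +kernel) _ (Finset.mem_range.mpr hdlt)
      (h ▸ hdd) hd1
    rw [Int.ModEq] at hmod
    rcases (show a ψ = 1 ∨ a ψ = -1 by omega) with e' | e' <;> rw [e'] at hmod ⊢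
    · omega
    · refine ⟨by norm_num, ?_⟩
      rcases hlist.2 (by omega) with e'' | e'' <;> rw [e''] <;> norm_num
  have hcard : S.card = 2 := by
    have : ∑ ψ ∈ S, a ψ ^ 2 = S.card := by
      rw [Finset.sum_congr rfl fun ψ hψ => (hx ψ hψ).1]; simp
    omega
  obtain ⟨φ, ψ, hne, rfl⟩ := Finset.card_eq_two.mp hcard
  rw [Finset.sum_pair hne] at hrel hsq
  have h1 := (hx φ (by simp)).2
  have h3 := (hx ψ (by simp)).2
  have hd0lt : d0 < 20 := by
    by_contra hge
    have : 20 ^ 2 ≤ d0 ^ 2 := Nat.pow_le_pow_left (by omega) 2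
    omega
  have hl := (show ∀ k ∈ Finset.range 20, k ∣ 756 → k ≠ 11 by decide +kernel) _
    (Finset.mem_range.mpr hd0lt) (h ▸ hd0)
  rcases ha' with rfl | rfl <;> rcases hε with rfl | rfl <;> ring_nf at hrel <;>
    rcases h1 with h1 | h1 <;> rcases h3 with h3 | h3 <;>
    · first | omega | (rw [mul_comm] at h1; omega)

/-- No simple group has order `1040`. -/
theorem card_ne_1040 (h : Nat.card G = 1040) : False := by
  have : Fact (Nat.Prime 13) := ⟨by norm_num⟩
  obtain ⟨ε, a, d0, d, hε, ha, hd0, hd, hd1, hsq, hmod, hrel⟩ :=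
    Order3648.degrees (G := G) (p := 13) (m := 80) (n := 40) (t := 6) (by rw [h]) (by norm_num)
      (by decide +kernel) (by norm_num) (by norm_num) (by norm_num)
  rw [h] at hd hsq
  have hdlt : d < 33 := by nlinarith
  obtain ⟨h1, h2⟩ := (show ∀ k ∈ Finset.range 33, k ∣ 1040 → 1 < k → k % 13 ≠ 1 ∧ k % 13 ≠ 12 by
    decide +kernel) d (Finset.mem_range.mpr hdlt) hd hd1
  rw [Int.ModEq] at hmod
  rcases ha with rfl | rfl <;> omega

/-- No simple group has order `1080`. -/
theorem card_ne_1080 (h : Nat.card G = 1080) : False := by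
  classical
  have : Fact (Nat.Prime 5) := ⟨by norm_num⟩
  have : Fact (Nat.Prime 3) := ⟨by norm_num⟩
  have hG : ¬ IsMulCommutative G := nc_of_not_prime (by rw [h]; norm_num)
  have h5 : ∀ Q : Sylow 5 G, Nat.card Q = 5 := fun Q => by
    simpa using card_sylow_of_card_eq (k := 1) (m := 216) (by rw [h]; norm_num) (by norm_num) Q
  have hm := card_sylow_mem (p := 5) hG (k := 1) (m := 216) one_ne_zero (by rw [h]; norm_num)
    (by norm_num)
  rw [show ((Nat.divisors 216).filter fun n => n % 5 = 1 ∧ 1 < n) = {6, 36, 216} from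
    by decide +kernel] at hm
  have hdata : ∀ Q : Sylow 5 G, Nat.card (Sylow 5 G) = 36 ∧
      Nat.card (centralizer ((Q : Subgroup G) : Set G)) = 15 ∧
      Nat.card (normalizer ((Q : Subgroup G) : Set G)) = 30 := by
    intro Q
    obtain ⟨e, he1, he2, ⟨c, hcc⟩, hCe, hall⟩ := sylow_prime_order_data hG Q (h5 Q)
    rw [hcc, h] at hall
    have he : e = 2 ∨ e = 4 := (show ∀ d ∈ Nat.divisors (5 - 1), 1 < d → d = 2 ∨ d = 4 from
      by decide) e (Nat.mem_divisors.mpr ⟨he2, by norm_num⟩) he1
    simp only [Finset.mem_insert, Finset.mem_singleton] at hm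
    rcases hm with hn | hn | hn
    · have h2 := two_mul_card_dvd_factorial_card_sylow (p := 5) hG (by rw [h]; norm_num)
      rw [hn, h] at h2
      exact absurd h2 (by decide)
    · refine ⟨hn, ?_⟩
      rw [hn] at hall
      rw [← hCe, hcc]
      rcases he with rfl | rfl <;> constructor <;> omega
    · exfalso
      rw [hn] at hall
      rcases he with rfl | rfl <;> omega
  obtain ⟨P⟩ := (inferInstance : Nonempty (Sylow 5 G))
  obtain ⟨hn, hC, hN⟩ := hdata P
  obtain ⟨x', hx'⟩ := exists_prime_orderOf_dvd_card' 3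
    (G := centralizer ((P : Subgroup G) : Set G)) (by rw [hC]; norm_num)
  set x : G := (x' : G)
  have hx : orderOf x = 3 := by rw [orderOf_coe]; exact hx'
  have hx1 : x ≠ 1 := fun e => by rw [e, orderOf_one] at hx; norm_num at hx
  have hx3 : x ^ 3 = 1 := hx ▸ pow_orderOf_eq_one x
  set H := centralizer ({x} : Set G) with hH
  have hPH : (P : Subgroup G) ≤ H := fun a ha =>
    mem_centralizer_singleton_iff.mpr (mem_centralizer_iff.mp x'.2 a ha)
  have h5H : 5 ∣ Nat.card H := h5 P ▸ card_dvd_of_le hPH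
  -- the Sylow subgroups fixed by `x` are those inside `H`
  have hiff : ∀ Q : Sylow 5 G, x • Q = Q ↔ (Q : Subgroup G) ≤ H := by
    intro Q
    rw [Sylow.smul_eq_iff_mem_normalizer]
    constructor
    · intro hxN
      obtain ⟨-, hCQ, hNQ⟩ := hdata Q
      set C := (centralizer ((Q : Subgroup G) : Set G)).subgroupOf
        (normalizer ((Q : Subgroup G) : Set G))
      have hCi : C.index = 2 := by
        have := C.card_mul_index
        rw [Nat.card_congr (subgroupOfEquivOfLe (centralizer_le_normalizer' _)).toEquiv,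
          hCQ, hNQ] at this
        omega
      have hxC : x ∈ centralizer ((Q : Subgroup G) : Set G) := by
        have h2 := sq_mem_of_index_two hCi ⟨x, hxN⟩
        rw [mem_subgroupOf] at h2
        have e : x = (x ^ 2) ^ 2 := by rw [← pow_mul, show 2 * 2 = 3 + 1 from rfl, pow_add, hx3]; simp
        rw [e]
        exact pow_mem h2 2
      exact fun a ha => mem_centralizer_singleton_iff.mpr (mem_centralizer_iff.mp hxC a ha)
    · intro hQ
      refine centralizer_le_normalizer' _ (mem_centralizer_iff.mpr fun a ha => ?_)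
      exact mem_centralizer_singleton_iff.mp (hQ ha)
  have hfix : Nat.card (fixedPoints (zpowers x) (Sylow 5 G)) = Nat.card (Sylow 5 H) := by
    rw [← card_sylow_le_eq h5 h5H]
    refine Nat.card_congr (Equiv.subtypeEquivRight fun Q => ⟨fun hQ => (hiff Q).mp
      (hQ ⟨x, mem_zpowers x⟩), fun hQ z => ?_⟩)
    exact (show (z : G) ∈ stabilizer G Q from
      (zpowers_le.mpr (mem_stabilizer_iff.mpr ((hiff Q).mpr hQ))) z.2)
  have hmod := (IsPGroup.of_card (p := 3) (n := 1) (G := zpowers x)
    (by rw [Nat.card_zpowers, hx, pow_one])).card_modEq_card_fixedPoints (Sylow 5 G)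
  rw [hfix, hn, Nat.ModEq] at hmod
  have hf5 := card_sylow_modEq_one 5 H
  rw [Nat.ModEq] at hf5
  have hNH := card_eq_sylow_mul P hPH
  have hdvd : Nat.card H ∣ 1080 := h ▸ card_subgroup_dvd_card H
  set f := Nat.card (Sylow 5 H) with hf
  set j := Nat.card (normalizer ((P : Subgroup G) : Set G) ⊓ H : Subgroup G) with hj
  have hj15 : 15 ∣ j := by
    have h3 : 3 ∣ j := by
      rw [← hx, hj, ← Subgroup.orderOf_mk x (Subgroup.mem_inf.mpr
        ⟨centralizer_le_normalizer' _ x'.2, mem_centralizer_singleton_iff.mpr rfl⟩)]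
      exact orderOf_dvd_natCard _
    have h5j : 5 ∣ j := h5 P ▸ card_dvd_of_le (le_inf le_normalizer hPH)
    exact Nat.Coprime.mul_dvd_of_dvd_of_dvd (by norm_num : Nat.Coprime 3 5) h3 h5j
  have hj30 : j ∣ 30 := hN ▸ card_dvd_of_le inf_le_left
  have hftot : f ≤ 36 := by
    rw [hf, ← card_sylow_le_eq h5 h5H, ← hn]
    exact Finite.card_subtype_le _
  have hf6 : f = 6 ∨ f = 36 := by
    have h1 : f * 15 ∣ 1080 := ((Nat.mul_dvd_mul_left f hj15).trans (dvd_of_eq hNH)).trans hdvd
    have h2 : f ∣ 72 := Nat.dvd_of_mul_dvd_mul_right (by norm_num : 0 < 15) (h1.trans (dvd_refl _))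
    exact (show ∀ k ∈ Nat.divisors 72, k ≤ 36 → k % 5 = 1 → k % 3 = 0 → k = 6 ∨ k = 36 by decide)
      f (Nat.mem_divisors.mpr ⟨h2, by norm_num⟩) hftot hf5 (by omega)
  have hHne : H ≠ ⊤ := centralizer_ne_top hG hx1
  have hidx := two_mul_card_dvd_factorial_index hG hHne
  have hHi := card_mul_index H
  rw [h] at hidx hHi
  rcases hf6 with hf6 | hf36
  swap
  · have : Nat.card H = 36 * j := by rw [← hNH, hf36]
    obtain ⟨i, hi⟩ := hj15
    have hi2 : i ∣ 2 := Nat.dvd_of_mul_dvd_mul_left (by norm_num : 0 < 15) (hi ▸ hj30)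
    have hle := Nat.le_of_dvd two_pos hi2
    have : H.index ≤ 2 := by
      by_contra hgt
      have h3 := Nat.mul_le_mul (show 540 ≤ Nat.card H by
        rcases Nat.eq_zero_or_pos i with e | e
        · rw [e, mul_zero] at hi; rw [this, hi] at hHi; omega
        · omega) (show 3 ≤ H.index by omega)
      omega
    interval_cases H.index <;> norm_num at hidx
  · rcases (show j = 15 ∨ j = 30 from by
      have := (show ∀ k ∈ Nat.divisors 30, 15 ∣ k → k = 15 ∨ k = 30 by decide) j
        (Nat.mem_divisors.mpr ⟨hj30, by norm_num⟩) hj15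
      exact this) with ej | ej
    swap
    · have : H.index = 6 := by rw [← hNH, hf6, ej] at hHi; omega
      rw [this] at hidx
      exact absurd hidx (by decide)
    have hH90 : Nat.card H = 2 * 45 := by rw [← hNH, hf6, ej]
    obtain ⟨K, hK⟩ := CfsgLib.Involutions.exists_index_two_of_card_eq_two_mul_odd (G := H)
      (by decide : Odd 45) hH90
    have hKn : K.Normal := normal_of_index_eq_two hK
    have hK45 : Nat.card K = 45 := by
      have := K.card_mul_index
      rw [hK, hH90] at this
      omega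
    have hle : ∀ R : Sylow 5 H, (R : Subgroup H) ≤ K := by
      intro R a ha
      have hR : Nat.card R = 5 := by
        simpa using card_sylow_of_card_eq (k := 1) (m := 18) (G := H) (by rw [hH90]; norm_num)
          (by norm_num) R
      have h2 := sq_mem_of_index_two hK a
      have e : a = (a ^ 2) ^ 3 := by
        have h5a : a ^ 5 = 1 := by
          have := orderOf_dvd_natCard (⟨a, ha⟩ : (R : Subgroup H))
          rw [Subgroup.orderOf_mk, hR] at this
          exact orderOf_dvd_iff_pow_eq_one.mp this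
        rw [← pow_mul, show 2 * 3 = 5 + 1 from rfl, pow_succ, h5a, one_mul]
      rw [e]
      exact pow_mem h2 3
    have h1 : Nat.card (Sylow 5 K) = 1 := by
      obtain ⟨R⟩ := (inferInstance : Nonempty (Sylow 5 K))
      have h2 := index_sylow_of_card_eq (k := 1) (m := 9) (G := K) (by rw [hK45]; norm_num)
        (by norm_num) R
      have h3 := R.card_dvd_index
      rw [h2] at h3
      have h4 := card_sylow_modEq_one 5 K
      rw [Nat.ModEq] at h4
      exact (show ∀ k ∈ Nat.divisors 9, k % 5 = 1 → k = 1 by decide) _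
        (Nat.mem_divisors.mpr ⟨h3, by norm_num⟩) h4
    have : Subsingleton (Sylow 5 K) := (Nat.card_eq_one_iff_unique.mp h1).1
    have : Subsingleton (Sylow 5 H) := ⟨fun R R' =>
      Sylow.subtype_injective (hP := hle R) (hQ := hle R') (Subsingleton.elim _ _)⟩
    have := Finite.card_le_one_iff_subsingleton.mpr this
    omega

/-- No simple group has order `1008`. -/
theorem card_ne_1008 (h : Nat.card G = 1008) : False := by
  classical
  have : Fact (Nat.Prime 7) := ⟨by norm_num⟩
  have hG : ¬ IsMulCommutative G := nc_of_not_prime (by rw [h]; norm_num)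
  obtain ⟨P⟩ := (inferInstance : Nonempty (Sylow 7 G))
  have h7 : ∀ Q : Sylow 7 G, Nat.card Q = 7 := fun Q => by
    simpa using card_sylow_of_card_eq (k := 1) (m := 144) (by rw [h]; norm_num) (by norm_num) Q
  obtain ⟨e, he1, he2, ⟨c, hcc⟩, hCe, hall⟩ := sylow_prime_order_data hG P (h7 P)
  have hmem := card_sylow_mem (p := 7) hG (k := 1) (m := 144) one_ne_zero (by rw [h]; norm_num)
    (by norm_num)
  rw [show ((Nat.divisors 144).filter fun n => n % 7 = 1 ∧ 1 < n) = {8, 36} from
    by decide +kernel, Finset.mem_insert, Finset.mem_singleton] at hmem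
  rw [hcc, h] at hall
  have he : e = 2 ∨ e = 3 ∨ e = 6 := (show ∀ d ∈ Nat.divisors (7 - 1), 1 < d →
    d = 2 ∨ d = 3 ∨ d = 6 from by decide) e (Nat.mem_divisors.mpr ⟨he2, by norm_num⟩) he1
  have hn36 : Nat.card (Sylow 7 G) = 36 := by
    rcases hmem with hn | hn
    swap; · exact hn
    exfalso
    -- `n = 8` gives `|C(P)| = 7 c` with `c ∣ 1`
    have hd := (Sieve.card_centralizer_dvd hG P (h7 P) (t := 1) (by rw [hn])).1
    rw [hcc, Nat.factorial_one] at hd
    have hc1 : c = 1 := Nat.dvd_one.mp (Nat.dvd_of_mul_dvd_mul_left (by norm_num) hd)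
    rw [hn, hc1] at hall
    rcases he with rfl | rfl | rfl <;> norm_num at hall
  rw [hn36] at hall
  have hce : c = 2 ∧ e = 2 := by rcases he with rfl | rfl | rfl <;> omega
  obtain ⟨rfl, rfl⟩ := hce
  obtain ⟨u, huC, hu⟩ : ∃ u ∈ centralizer ((P : Subgroup G) : Set G), orderOf u = 2 := by
    obtain ⟨u', hu'⟩ := exists_prime_orderOf_dvd_card' 2
      (G := centralizer ((P : Subgroup G) : Set G)) (by rw [hcc]; norm_num)
    exact ⟨u', u'.2, by rw [orderOf_coe]; exact hu'⟩
  have hu1 : u ≠ 1 := fun e => by rw [e, orderOf_one] at hu; norm_num at hu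
  set H := centralizer ({u} : Set G)
  have hPH : (P : Subgroup G) ≤ H := fun a ha =>
    mem_centralizer_singleton_iff.mpr (mem_centralizer_iff.mp huC a ha)
  refine not_klein_centralizer hG (m := 63) (by norm_num) (by rw [h]; norm_num) hu fun h8 => ?_
  have hNH := card_eq_sylow_mul P hPH
  have hNle : normalizer ((P : Subgroup G) : Set G) ≤ H :=
    normalizer_le_centralizer_involution P (h7 P) (by norm_num) hcc huC hu
  rw [inf_eq_left.mpr hNle, ← hCe, hcc] at hNH
  have hdvd : Nat.card H ∣ 1008 := h ▸ card_subgroup_dvd_card H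
  have hf := card_sylow_modEq_one 7 H
  rw [Nat.ModEq] at hf
  have hidx := two_mul_card_dvd_factorial_index hG (centralizer_ne_top hG hu1)
  have hHi := card_mul_index H
  rw [h] at hidx hHi
  set f := Nat.card (Sylow 7 H)
  have hf36 : f ∣ 36 := by
    refine Nat.dvd_of_mul_dvd_mul_right (by norm_num : 0 < 28) ?_
    exact (dvd_of_eq (by rw [← hNH])).trans hdvd
  rcases (show ∀ k ∈ Nat.divisors 36, k % 7 = 1 → k = 1 ∨ k = 36 by decide) f
    (Nat.mem_divisors.mpr ⟨hf36, by norm_num⟩) hf with e | e <;> rw [e] at hNH <;>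
    rw [← hNH] at h8 hHi
  · norm_num at h8
  · rw [show H.index = 1 by omega] at hidx
    norm_num at hidx

end CfsgLib.Small.Residual
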