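import Cfsg.Agent.Lib.Small.SieveCriteria

/-!
A decidable necessary condition on the order of a non-commutative simple group, for orders below
`6889 = 83 * 83`.
-/

set_option autoImplicit false

namespace CfsgLib.Small.Sieve

/-- The primes below `83`. -/
def primeList : List ℕ :=
  [2, 3, 5, 7, 11, 13, 17, 19, 23, 29, 31, 37, 41, 43, 47, 53, 59, 61, 67, 71, 73, 79]

/-- Whether `d` points can carry a group of order `n` of even permutations. -/
def factOK (n d : ℕ) : Bool := decide (40 ≤ d) || d.factorial % (2 * n) == 0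

/-- The criterion for a prime dividing `n` once, with cofactor `m`. -/
def onceOK (n p m : ℕ) : Bool :=
  (List.range' 1 (m / p)).any fun t =>
    m % (t * p + 1) == 0 && factOK n (t * p + 1) &&
      (List.range' 2 (p - 2)).any fun e =>
        (p - 1) % e == 0 && m / (t * p + 1) % e == 0 &&
          (decide (7 < t) || t.factorial % (m / (t * p + 1) / e) == 0) &&
          (!(t == 2) || p == 2 || m / (t * p + 1) == e) &&
          (!(t == 1) || 2 * e == p - 1 || 2 ^ e == p + 1)

/-- The criterion for `p ^ k`, `2 ≤ k`, exactly dividing `n`, with cofactor `m`. -/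
def manyOK (n p k m : ℕ) : Bool :=
  (!(k == 2) || !(Nat.gcd m ((p * p - 1) * (p - 1)) == 1)) &&
    (List.range' 1 (m / p)).any fun t =>
      m % (t * p + 1) == 0 && factOK n (t * p + 1) &&
        ((t * p + 1) % (p * p) == 1 ||
          (List.range' 1 (m / p)).any fun s =>
            m % (s * p + 1) == 0 && factOK n (m / (s * p + 1)))

/-- All criteria at the prime `p`. -/
def primeOK (n p : ℕ) : Bool :=
  (List.range' 1 13).all fun k =>
    !(n % p ^ k == 0) || n % p ^ (k + 1) == 0 ||
      (if k == 1 then onceOK n p (n / p) else manyOK n p k (n / p ^ k))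

/-- All criteria. -/
def survive (n : ℕ) : Bool :=
  decide (3 ≤ (primeList.filter fun p => n % p == 0).length) &&
    primeList.prod ^ 13 % n == 0 &&
      primeList.reverse.all (fun p => !(n % p == 0) || primeOK n p)

theorem factOK_of_dvd {n d : ℕ} (h : 2 * n ∣ d.factorial) : factOK n d = true := by
  simp [factOK, Nat.dvd_iff_mod_eq_zero.mp h]

theorem le_div_of_dvd {m t p : ℕ} (hp : 0 < p) (hm : 0 < m) (h : t * p + 1 ∣ m) : t ≤ m / p :=
  (Nat.le_div_iff_mul_le hp).mpr (by have := Nat.le_of_dvd hm h; omega)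

variable {G : Type*} [Group G] [Finite G] [IsSimpleGroup G]

theorem onceOK_of_simple (hG : ¬ IsMulCommutative G) {p m : ℕ} [Fact p.Prime]
    (hc : Nat.card G = p * m) (hm : ¬ p ∣ m) : onceOK (Nat.card G) p m = true := by
  obtain ⟨t, e, ht, hdm, hfac, he1, hep, he, hem, hct, ht2, ht1⟩ := prime_once hG hc hm
  have hm0 : 0 < m := Nat.pos_of_ne_zero fun h => hm (h ▸ dvd_zero p)
  have hp := (Fact.out : p.Prime).pos
  simp only [onceOK, List.any_eq_true, List.mem_range'_1, Bool.and_eq_true, Bool.or_eq_true,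
    decide_eq_true_eq, beq_iff_eq, Bool.not_eq_true', beq_eq_false_iff_ne]
  have h2 : (t ≠ 2 ∨ p = 2) ∨ m / (t * p + 1) = e := by
    by_cases h : t = 2
    · by_cases h' : p = 2
      · exact Or.inl (Or.inr h')
      · exact Or.inr (ht2 h h')
    · exact Or.inl (Or.inl h)
  have h3 : (t ≠ 1 ∨ 2 * e = p - 1) ∨ 2 ^ e = p + 1 := by
    by_cases h : t = 1
    · rcases ht1 h with h' | h'
      · exact Or.inl (Or.inr h')
      · exact Or.inr h'
    · exact Or.inl (Or.inl h)
  exact ⟨t, ⟨ht, by have := le_div_of_dvd hp hm0 hdm; omega⟩,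
    ⟨Nat.dvd_iff_mod_eq_zero.mp hdm, factOK_of_dvd hfac⟩, e, ⟨he1, by omega⟩,
    ⟨⟨⟨Nat.dvd_iff_mod_eq_zero.mp he, Nat.dvd_iff_mod_eq_zero.mp hem⟩,
      Or.inr (Nat.dvd_iff_mod_eq_zero.mp hct)⟩, h2⟩, h3⟩

theorem manyOK_of_simple (hG : ¬ IsMulCommutative G) {p k m : ℕ} [Fact p.Prime] (hk : 2 ≤ k)
    (hc : Nat.card G = p ^ k * m) (hm : ¬ p ∣ m) : manyOK (Nat.card G) p k m = true := by
  obtain ⟨t, ht, hdm, hfac, hor⟩ := prime_many hG (by omega) hk hc hm
  have hm0 : 0 < m := Nat.pos_of_ne_zero fun h => hm (h ▸ dvd_zero p)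
  have hp := (Fact.out : p.Prime).pos
  simp only [manyOK, List.any_eq_true, List.mem_range'_1, Bool.and_eq_true, Bool.or_eq_true,
    beq_iff_eq, Bool.not_eq_true', beq_eq_false_iff_ne]
  refine ⟨?_, t, ⟨ht, by have := le_div_of_dvd hp hm0 hdm; omega⟩,
    ⟨Nat.dvd_iff_mod_eq_zero.mp hdm, factOK_of_dvd hfac⟩, ?_⟩
  · by_cases h : k = 2
    · subst h
      exact Or.inr (not_sq hG hc hm)
    · exact Or.inl h
  · rcases hor with h | ⟨s, hs, hsm, hsf⟩
    · exact Or.inl h
    · exact Or.inr ⟨s, ⟨hs, by have := le_div_of_dvd hp hm0 hsm; omega⟩,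
        Nat.dvd_iff_mod_eq_zero.mp hsm, factOK_of_dvd hsf⟩

theorem primeOK_of_simple (hG : ¬ IsMulCommutative G) {p : ℕ} [Fact p.Prime]
    : primeOK (Nat.card G) p = true := by
  simp only [primeOK, List.all_eq_true, List.mem_range'_1, Bool.or_eq_true, Bool.not_eq_true',
    beq_eq_false_iff_ne, beq_iff_eq]
  intro k hk
  by_cases h1 : Nat.card G % p ^ k = 0
  swap; · exact Or.inl (Or.inl h1)
  by_cases h2 : Nat.card G % p ^ (k + 1) = 0
  · exact Or.inl (Or.inr h2)
  refine Or.inr ?_
  have hdvd := Nat.dvd_of_mod_eq_zero h1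
  have hc : Nat.card G = p ^ k * (Nat.card G / p ^ k) := (Nat.mul_div_cancel' hdvd).symm
  have hm : ¬ p ∣ Nat.card G / p ^ k := fun h => h2 (by
    rw [hc, pow_succ]
    exact Nat.dvd_iff_mod_eq_zero.mp (Nat.mul_dvd_mul_left _ h))
  by_cases hk1 : k = 1
  · subst hk1
    rw [pow_one] at hc hm
    simpa using onceOK_of_simple hG hc hm
  · rw [if_neg hk1]
    exact manyOK_of_simple hG (by omega) hc hm

theorem prime_mem_list {q : ℕ} (hq : q.Prime) (hlt : q < 83) : q ∈ primeList :=
  (show ∀ q, q < 83 → q.Prime → q ∈ primeList by decide +kernel) q hlt hq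

theorem prime_of_mem {q : ℕ} (hq : q ∈ primeList) : q.Prime :=
  (show ∀ q ∈ primeList, q.Prime by decide +kernel) q hq

/-- No large prime divides the order. -/
theorem prime_lt (hG : ¬ IsMulCommutative G) (hn : Nat.card G < 6889) {q : ℕ} (hq : q.Prime)
    (hd : q ∣ Nat.card G) : q < 83 := by
  by_contra h
  have : Fact q.Prime := ⟨hq⟩
  obtain ⟨m, hm⟩ := hd
  have hm83 : m < 83 := by
    by_contra h'
    have := Nat.mul_le_mul (Nat.le_of_not_lt h) (Nat.le_of_not_lt h')
    omega
  have hm0 : 0 < m := Nat.pos_of_ne_zero fun h0 => by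
    have := Nat.card_pos (α := G)
    rw [hm, h0, mul_zero] at this
    omega
  obtain ⟨t, -, ht, hdm, -⟩ := prime_once hG hm (fun h0 => by
    have := Nat.le_of_dvd hm0 h0; omega)
  have h1 := Nat.le_of_dvd hm0 hdm
  have h2 : q ≤ t * q := Nat.le_mul_of_pos_left q ht
  omega

/-- Every order of a non-commutative simple group below `6889` survives. -/
theorem survive_of_simple (hG : ¬ IsMulCommutative G) (hn : Nat.card G < 6889) :
    survive (Nat.card G) = true := by
  classical
  set L := primeList.filter fun p => Nat.card G % p == 0 with hL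
  have hall : ∀ q, q.Prime → q ∣ Nat.card G → q ∈ L := fun q hq hd => List.mem_filter.mpr
    ⟨prime_mem_list hq (prime_lt hG hn hq hd), by simpa using Nat.dvd_iff_mod_eq_zero.mp hd⟩
  simp only [survive, Bool.and_eq_true, List.all_eq_true, Bool.or_eq_true, decide_eq_true_eq,
    beq_iff_eq, Bool.not_eq_true', beq_eq_false_iff_ne]
  refine ⟨⟨?_, ?_⟩, fun p hp => ?_⟩
  · by_contra h
    have hns : ¬ Group.IsSolvable G := fun hs =>
      hG ⟨⟨IsSimpleGroup.comm_iff_isSolvable.mpr hs⟩⟩
    have h3 := CfsgLib.FewOrders.three_le_card_primeFactors hns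
    have hsub : (Nat.card G).primeFactors ⊆ L.toFinset := fun q hq => by
      rw [Nat.mem_primeFactors] at hq
      exact List.mem_toFinset.mpr (hall q hq.1 hq.2.1)
    have := (h3.trans (Finset.card_le_card hsub)).trans L.toFinset_card_le
    exact h this
  · rw [← Nat.dvd_iff_mod_eq_zero]
    have h0 : Nat.card G ≠ 0 := Nat.card_pos.ne'
    rw [← Nat.factorization_le_iff_dvd h0 (pow_ne_zero _ (by decide +kernel))]
    intro q
    by_cases hq : q.Prime ∧ q ∣ Nat.card G
    swap
    · rw [Nat.factorization_eq_zero_iff _ _ |>.mpr (by tauto)]; exact Nat.zero_le _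
    · rw [Nat.factorization_pow, Finsupp.smul_apply, smul_eq_mul]
      have h1 : 1 ≤ primeList.prod.factorization q := hq.1.factorization_pos_of_dvd
        (by decide +kernel) (List.dvd_prod (List.mem_of_mem_filter (hall q hq.1 hq.2)))
      have h2 : (Nat.card G).factorization q ≤ 12 := by
        by_contra h
        have := Nat.le_of_dvd (Nat.card_pos (α := G))
          ((pow_dvd_pow q (by omega : 13 ≤ (Nat.card G).factorization q)).trans
            (Nat.ordProj_dvd _ q))
        have := Nat.pow_le_pow_left hq.1.two_le 13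
        omega
      omega
  · have : Fact p.Prime := ⟨prime_of_mem (List.mem_reverse.mp hp)⟩
    exact Or.inr (primeOK_of_simple hG)

end CfsgLib.Small.Sieve
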