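import Cfsg.Agent.Lib.Small.MidLemmas
import Cfsg.Agent.Lib.Blocks12.PrimeDegrees

/-!
No simple group has order 3696, 3780, 4160, 4212, 4400, 4536, 4620, 4760, 4928, 4960 or 5104.
-/

set_option autoImplicit false

namespace CfsgLib.Small.Mid

open Subgroup MulAction CfsgLib.Small

variable {G : Type*} [Group G] [Finite G] [IsSimpleGroup G]

/-- No simple group has order `3696`. -/
theorem card_ne_3696 (h : Nat.card G = 3696) : False := by
  classical
  have : Fact (Nat.Prime 11) := ⟨by norm_num⟩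
  have : Fact (Nat.Prime 3) := ⟨Nat.prime_three⟩
  have hG : ¬ IsMulCommutative G := nc_of_not_prime (by rw [h]; norm_num)
  have hd := once_data (p := 11) (m := 336) hG (by norm_num) (by rw [h]) (by norm_num) [(56, 2)]
    (by decide +kernel)
  obtain ⟨P⟩ := (inferInstance : Nonempty (Sylow 11 G))
  obtain ⟨hP, c, e, hmem, -, hcc, -, hall⟩ := hd P
  simp only [List.mem_singleton, Prod.mk.injEq] at hmem
  obtain ⟨hn, rfl⟩ := hmem
  rw [hn] at hall
  obtain rfl : c = 3 := by omega
  obtain ⟨φ, -, hker, hfix⟩ := OrbitHom.exists_orbit_hom hG P hP (by norm_num) (t := 5)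
    (by rw [hn])
  obtain ⟨x, hx⟩ := exists_prime_orderOf_dvd_card' 3
    (G := centralizer ((P : Subgroup G) : Set G)) (by rw [hcc]; norm_num)
  have hxo : orderOf (x : G) = 3 := by rw [orderOf_coe]; exact hx
  have hne : φ x ≠ 1 := fun e1 => by
    have := Subgroup.orderOf_dvd_natCard _ (hker x e1)
    rw [hP, hxo] at this
    norm_num at this
  obtain ⟨j, hj0, hj⟩ := perm_prime_fixed (q := 3) (s := φ x)
    (by rw [← map_pow, ← hx, pow_orderOf_eq_one, map_one]) hne
  rw [Fintype.card_fin] at hj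
  have hf := hfix x (by rw [hxo]; norm_num)
  obtain ⟨h1, h2⟩ := fix_eq_card_sylow (p := 11) (fun Q => (hd Q).1) P x.2 fun Q => by
    obtain ⟨-, c', e', hmem', hrel', -⟩ := hd Q
    simp only [List.mem_singleton, Prod.mk.injEq] at hmem'
    rw [hrel', hmem'.2, hxo]
    norm_num
  rw [← h1, hf, show Nat.card {i // φ x i = i} = 2 by omega] at h2
  have h3 := h2.trans (card_subgroup_dvd_card _)
  rw [h] at h3
  norm_num at h3

/-- No simple group has order `3780`. -/
theorem card_ne_3780 (h : Nat.card G = 3780) : False := by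
  classical
  have : Fact (Nat.Prime 7) := ⟨by norm_num⟩
  have : Fact (Nat.Prime 5) := ⟨by norm_num⟩
  have hG : ¬ IsMulCommutative G := nc_of_not_prime (by rw [h]; norm_num)
  obtain ⟨P⟩ := (inferInstance : Nonempty (Sylow 7 G))
  obtain ⟨hP, c, e, hmem, -, hcc, -, hall⟩ := once_data (p := 7) (m := 540) hG (by norm_num)
    (by rw [h]) (by norm_num) [(36, 3)] (by decide +kernel) P
  simp only [List.mem_singleton, Prod.mk.injEq] at hmem
  obtain ⟨hn, rfl⟩ := hmem
  rw [hn] at hall
  obtain rfl : c = 5 := by omega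
  obtain ⟨x, hx⟩ := exists_prime_orderOf_dvd_card' 5
    (G := centralizer ((P : Subgroup G) : Set G)) (by rw [hcc]; norm_num)
  have hxo : orderOf (x : G) = 5 := by rw [orderOf_coe]; exact hx
  obtain ⟨Q, hQ⟩ := (IsPGroup.of_card (p := 5) (n := 1) (G := zpowers (x : G))
    (by rw [Nat.card_zpowers, hxo, pow_one])).exists_le_sylow
  obtain ⟨hQ5, c', e', hmem', -, hcc', -, hall'⟩ := once_data (p := 5) (m := 756) hG (by norm_num)
    (by rw [h]) (by norm_num) [(126, 2)] (by decide +kernel) Q
  simp only [List.mem_singleton, Prod.mk.injEq] at hmem'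
  obtain ⟨hn', rfl⟩ := hmem'
  rw [hn'] at hall'
  obtain rfl : c' = 3 := by omega
  have heq : zpowers (x : G) = (Q : Subgroup G) :=
    eq_of_le_of_card_ge hQ (by rw [hQ5, Nat.card_zpowers, hxo])
  have h7 : (P : Subgroup G) ≤ centralizer ((Q : Subgroup G) : Set G) := by
    intro a ha
    rw [← heq, mem_centralizer_iff]
    intro b hb
    obtain ⟨i, rfl⟩ := mem_zpowers_iff.mp hb
    exact (Commute.zpow_left
      (show Commute (x : G) a from (mem_centralizer_iff.mp x.2 a ha).symm) i).eq
  have h8 := card_dvd_of_le h7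
  rw [hP, hcc'] at h8
  norm_num at h8

/-- No simple group has order `4160`. -/
theorem card_ne_4160 (h : Nat.card G = 4160) : False := by
  classical
  have : Fact (Nat.Prime 13) := ⟨by norm_num⟩
  have : Fact (Nat.Prime 2) := ⟨Nat.prime_two⟩
  have hG : ¬ IsMulCommutative G := nc_of_not_prime (by rw [h]; norm_num)
  obtain ⟨P⟩ := (inferInstance : Nonempty (Sylow 13 G))
  obtain ⟨hP, c, e, hmem, -, hcc, -, hall⟩ := once_data (p := 13) (m := 320) hG (by norm_num)
    (by rw [h]) (by norm_num) [(40, 4)] (by decide +kernel) P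
  simp only [List.mem_singleton, Prod.mk.injEq] at hmem
  obtain ⟨hn, rfl⟩ := hmem
  rw [hn] at hall
  obtain rfl : c = 2 := by omega
  obtain ⟨φ, hsign, hker, -⟩ := OrbitHom.exists_orbit_hom hG P hP (by norm_num) (t := 3)
    (by rw [hn])
  obtain ⟨x, hx⟩ := exists_prime_orderOf_dvd_card' 2
    (G := centralizer ((P : Subgroup G) : Set G)) (by rw [hcc]; norm_num)
  have h2 : φ x * φ x = 1 := by
    rw [← map_mul, ← pow_two, ← hx, pow_orderOf_eq_one, map_one]
  have h1 : φ x = 1 :=
    (show ∀ s : Equiv.Perm (Fin 3), s * s = 1 → Equiv.Perm.sign s = 1 → s = 1 by decide +kernel)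
      _ h2 (hsign x)
  have := Subgroup.orderOf_dvd_natCard _ (hker x h1)
  rw [hP, orderOf_coe, hx] at this
  norm_num at this

/-- No simple group has order `4212`. -/
theorem card_ne_4212 (h : Nat.card G = 4212) : False := by
  have : Fact (Nat.Prime 13) := ⟨by norm_num⟩
  have hG : ¬ IsMulCommutative G := nc_of_not_prime (by rw [h]; norm_num)
  obtain ⟨P⟩ := (inferInstance : Nonempty (Sylow 13 G))
  obtain ⟨hP, c, e, hmem, hrel, -, -, -⟩ := once_data (p := 13) (m := 324) hG (by norm_num)
    (by rw [h]) (by norm_num) [(27, 12)] (by decide +kernel) P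
  simp only [List.mem_singleton, Prod.mk.injEq] at hmem
  obtain ⟨g, -, hg⟩ := exists_mem_dvd_orderOf (p := 13) hP
  rw [hrel, hmem.2] at hg
  exact not_cyclic_two hG (k := 2) (m := 1053) two_ne_zero (by norm_num) (by rw [h]; norm_num)
    (dvd_trans (by norm_num) hg)

/-- No simple group has order `4760`. -/
theorem card_ne_4760 (h : Nat.card G = 4760) : False := by
  have : Fact (Nat.Prime 17) := ⟨by norm_num⟩
  have hG : ¬ IsMulCommutative G := nc_of_not_prime (by rw [h]; norm_num)
  obtain ⟨P⟩ := (inferInstance : Nonempty (Sylow 17 G))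
  obtain ⟨hP, c, e, hmem, hrel, -, -, -⟩ := once_data (p := 17) (m := 280) hG (by norm_num)
    (by rw [h]) (by norm_num) [(35, 8)] (by decide +kernel) P
  simp only [List.mem_singleton, Prod.mk.injEq] at hmem
  obtain ⟨g, -, hg⟩ := exists_mem_dvd_orderOf (p := 17) hP
  rw [hrel, hmem.2] at hg
  exact not_cyclic_two hG (k := 3) (m := 595) (by norm_num) (by norm_num) (by rw [h]; norm_num)
    (dvd_trans (by norm_num) hg)

/-- No simple group has order `4400`. -/
theorem card_ne_4400 (h : Nat.card G = 4400) : False := by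
  have : Fact (Nat.Prime 11) := ⟨by norm_num⟩
  have hG : ¬ IsMulCommutative G := nc_of_not_prime (by rw [h]; norm_num)
  obtain ⟨P⟩ := (inferInstance : Nonempty (Sylow 11 G))
  obtain ⟨hP, c, e, hmem, -, hcc, hN, hall⟩ := once_data (p := 11) (m := 400) hG (by norm_num)
    (by rw [h]) (by norm_num) [(100, 2)] (by decide +kernel) P
  simp only [List.mem_singleton, Prod.mk.injEq] at hmem
  obtain ⟨hn, rfl⟩ := hmem
  rw [hn] at hall
  obtain rfl : c = 2 := by omega
  obtain ⟨u, f, hu, -, -, hCu, hf1, hf2, hf3⟩ := exists_involution hG (by norm_num) P hP hcc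
  rw [hn] at hf2 hf3
  rw [hN] at hCu
  obtain rfl : f = 1 :=
    (show ∀ f ∈ Nat.divisors 100, f % 11 = 1 → f < 100 → f = 1 by decide +kernel) f
      (Nat.mem_divisors.mpr ⟨hf2, by norm_num⟩) hf1 hf3
  exact not_small_centralizer (G := G) (k := 4) (m := 275) (by norm_num) (by norm_num)
    (by rw [h]; norm_num) hu (by rw [hCu]; norm_num)

/-- No simple group has order `4928`. -/
theorem card_ne_4928 (h : Nat.card G = 4928) : False := by
  have : Fact (Nat.Prime 7) := ⟨by norm_num⟩
  have : Fact (Nat.Prime 11) := ⟨by norm_num⟩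
  have : Fact (Nat.Prime 2) := ⟨Nat.prime_two⟩
  have hG : ¬ IsMulCommutative G := nc_of_not_prime (by rw [h]; norm_num)
  obtain ⟨P⟩ := (inferInstance : Nonempty (Sylow 7 G))
  obtain ⟨hP, c, e, hmem, -, hcc, hN, hall⟩ := once_data (p := 7) (m := 704) hG (by norm_num)
    (by rw [h]) (by norm_num) [(176, 2)] (by decide +kernel) P
  simp only [List.mem_singleton, Prod.mk.injEq] at hmem
  obtain ⟨hn, rfl⟩ := hmem
  rw [hn] at hall
  obtain rfl : c = 2 := by omega
  obtain ⟨u, f, hu, -, -, hCu, hf1, hf2, hf3⟩ := exists_involution hG (by norm_num) P hP hcc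
  rw [hn] at hf2 hf3
  rw [hN] at hCu
  have hi := (centralizer ({u} : Set G)).card_mul_index
  rw [hCu, h] at hi
  have hu1 : u ≠ 1 := fun e1 => by rw [e1, orderOf_one] at hu; norm_num at hu
  rcases (show ∀ f ∈ Nat.divisors 176, f % 7 = 1 → f < 176 → f = 1 ∨ f = 8 ∨ f = 22
      by decide +kernel) f (Nat.mem_divisors.mpr ⟨hf2, by norm_num⟩) hf1 hf3 with rfl | rfl | rfl
  · exact not_small_centralizer (G := G) (k := 6) (m := 77) (by norm_num) (by norm_num)
      (by rw [h]; norm_num) hu (by rw [hCu]; norm_num)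
  · obtain ⟨Q⟩ := (inferInstance : Nonempty (Sylow 11 G))
    obtain ⟨hQ, c', e', hmem', -, hcc', -, hall'⟩ := once_data (p := 11) (m := 448) hG (by norm_num)
      (by rw [h]) (by norm_num) [(56, 2)] (by decide +kernel) Q
    simp only [List.mem_singleton, Prod.mk.injEq] at hmem'
    obtain ⟨hn', rfl⟩ := hmem'
    rw [hn'] at hall'
    obtain rfl : c' = 4 := by omega
    obtain ⟨v, hv⟩ := exists_prime_orderOf_dvd_card' 2
      (G := centralizer ((Q : Subgroup G) : Set G)) (by rw [hcc']; norm_num)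
    obtain ⟨y, hy⟩ := exists_prime_orderOf_dvd_card' 11 (G := (Q : Subgroup G)) (dvd_of_eq hQ.symm)
    exact not_commute_involution hG (p := 11) (by norm_num) (y := (y : G)) (u := (v : G))
      (by rw [orderOf_coe]; exact hy) (by rw [orderOf_coe]; exact hv)
      (mem_centralizer_iff.mp v.2 y y.2) (H := centralizer ({u} : Set G))
      (by rw [hCu]; norm_num) (by omega)
  · have hi' : (centralizer ({u} : Set G)).index = 8 := by omega
    have := two_mul_card_dvd_factorial_index hG (Residual.centralizer_ne_top hG hu1)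
    rw [hi', h] at this
    norm_num [Nat.factorial] at this

/-- No simple group has order `4620`. -/
theorem card_ne_4620 (h : Nat.card G = 4620) : False := by
  classical
  have : Fact (Nat.Prime 11) := ⟨by norm_num⟩
  have : Fact (Nat.Prime 7) := ⟨by norm_num⟩
  have : Fact (Nat.Prime 5) := ⟨by norm_num⟩
  have hG : ¬ IsMulCommutative G := nc_of_not_prime (by rw [h]; norm_num)
  have hd11 := once_data (p := 11) (m := 420) hG (by norm_num) (by rw [h]) (by norm_num)
    [(210, 2)] (by decide +kernel)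
  have hd7 := once_data (p := 7) (m := 660) hG (by norm_num) (by rw [h]) (by norm_num)
    [(330, 2)] (by decide +kernel)
  have hd5 := once_data (p := 5) (m := 924) hG (by norm_num) (by rw [h]) (by norm_num)
    [(66, 2), (231, 2), (231, 4)] (by decide +kernel)
  obtain ⟨P11⟩ := (inferInstance : Nonempty (Sylow 11 G))
  obtain ⟨P5⟩ := (inferInstance : Nonempty (Sylow 5 G))
  obtain ⟨P7⟩ := (inferInstance : Nonempty (Sylow 7 G))
  obtain ⟨-, c11, e11, hmem11, -⟩ := hd11 P11
  simp only [List.mem_singleton, Prod.mk.injEq] at hmem11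
  obtain ⟨hP7, c7, e7, hmem7, -⟩ := hd7 P7
  simp only [List.mem_singleton, Prod.mk.injEq] at hmem7
  obtain ⟨hP5, c5, e5, hmem5, -, hcc5, -, hall5⟩ := hd5 P5
  simp only [List.mem_cons, List.not_mem_nil, or_false, Prod.mk.injEq] at hmem5
  have h231 : Nat.card (Sylow 5 G) = 231 := by
    rcases hmem5 with ⟨hn5, rfl⟩ | ⟨hn5, -⟩ | ⟨hn5, -⟩
    · exfalso
      rw [hn5] at hall5
      obtain rfl : c5 = 7 := by omega
      obtain ⟨x, hx⟩ := exists_prime_orderOf_dvd_card' 7
        (G := centralizer ((P5 : Subgroup G) : Set G)) (by rw [hcc5]; norm_num)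
      have hxo : orderOf (x : G) = 7 := by rw [orderOf_coe]; exact hx
      obtain ⟨Q, hQ⟩ := (IsPGroup.of_card (p := 7) (n := 1) (G := zpowers (x : G))
        (by rw [Nat.card_zpowers, hxo, pow_one])).exists_le_sylow
      obtain ⟨hQ7, cq, eq, hmemq, -, hccq, -, hallq⟩ := hd7 Q
      simp only [List.mem_singleton, Prod.mk.injEq] at hmemq
      rw [hmemq.1, hmemq.2] at hallq
      obtain rfl : cq = 1 := by omega
      have heq : zpowers (x : G) = (Q : Subgroup G) :=
        eq_of_le_of_card_ge hQ (by rw [hQ7, Nat.card_zpowers, hxo])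
      have h55 : (P5 : Subgroup G) ≤ centralizer ((Q : Subgroup G) : Set G) := by
        intro a ha
        rw [← heq, mem_centralizer_iff]
        intro b hb
        obtain ⟨i, rfl⟩ := mem_zpowers_iff.mp hb
        exact (Commute.zpow_left
          (show Commute (x : G) a from (mem_centralizer_iff.mp x.2 a ha).symm) i).eq
      have h8 := card_dvd_of_le h55
      rw [hP5, hccq] at h8
      norm_num at h8
    · exact hn5
    · exact hn5
  have hsum := sum_card_orderOf_le (G := G) {11, 7, 5}
  rw [Finset.sum_insert (by decide), Finset.sum_insert (by decide), Finset.sum_singleton,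
    card_orderOf_eq_prime (p := 11) fun Q => (hd11 Q).1,
    card_orderOf_eq_prime (p := 7) fun Q => (hd7 Q).1,
    card_orderOf_eq_prime (p := 5) fun Q => (hd5 Q).1, hmem11.1, hmem7.1, h231, h] at hsum
  omega

/-- No simple group has order `4536`. -/
theorem card_ne_4536 (h : Nat.card G = 4536) : False := by
  classical
  have : Fact (Nat.Prime 7) := ⟨by norm_num⟩
  have : Fact (Nat.Prime 3) := ⟨Nat.prime_three⟩
  have hG : ¬ IsMulCommutative G := nc_of_not_prime (by rw [h]; norm_num)
  have hfac : ∀ H : Subgroup G, H ≠ ⊤ → 9 ≤ H.index := by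
    intro H hH
    have hdvd := two_mul_card_dvd_factorial_index hG hH
    rw [h] at hdvd
    by_contra hlt
    exact (show ∀ k < 9, ¬ 2 * 4536 ∣ Nat.factorial k by decide +kernel) _ (by omega) hdvd
  have hd := once_data (p := 7) (m := 648) hG (by norm_num) (by rw [h]) (by norm_num)
    [(36, 3), (36, 6), (162, 2)] (by decide +kernel)
  obtain ⟨P⟩ := (inferInstance : Nonempty (Sylow 7 G))
  obtain ⟨hP, c, e, hmem, -, hcc, hN, hall⟩ := hd P
  simp only [List.mem_cons, List.not_mem_nil, or_false, Prod.mk.injEq] at hmem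
  by_cases h162 : Nat.card (Sylow 7 G) = 162
  · have hc : c = 2 ∧ e = 2 := by
      rcases hmem with ⟨hn, rfl⟩ | ⟨hn, rfl⟩ | ⟨hn, rfl⟩
      · omega
      · omega
      · rw [hn] at hall; omega
    obtain ⟨rfl, rfl⟩ := hc
    obtain ⟨u, f, hu, -, -, hCu, hf1, hf2, hf3⟩ := exists_involution hG (by norm_num) P hP hcc
    rw [h162] at hf2 hf3
    rw [hN] at hCu
    obtain rfl : f = 1 :=
      (show ∀ f ∈ Nat.divisors 162, f % 7 = 1 → f < 162 → f = 1 ∨ f = 36 by decide +kernel) f
        (Nat.mem_divisors.mpr ⟨hf2, by norm_num⟩) hf1 hf3 |>.resolve_right fun h36 => by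
          subst h36; norm_num at hf2
    exact not_small_centralizer (G := G) (k := 3) (m := 567) (by norm_num) (by norm_num)
      (by rw [h]; norm_num) hu (by rw [hCu]; norm_num)
  have hn : Nat.card (Sylow 7 G) = 36 := by omega
  rw [hn] at hall
  have hc3 : 3 ∣ c := by
    rcases hmem with ⟨-, rfl⟩ | ⟨-, rfl⟩ | ⟨hn', -⟩ <;> omega
  have hc6 : c ∣ 6 := by
    rcases hmem with ⟨-, rfl⟩ | ⟨-, rfl⟩ | ⟨hn', -⟩
    · exact ⟨1, by omega⟩
    · exact ⟨2, by omega⟩
    · omega
  obtain ⟨φ, -, hker, hfix⟩ := OrbitHom.exists_orbit_hom hG P hP (by norm_num) (t := 5)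
    (by rw [hn])
  obtain ⟨x, hx⟩ := exists_prime_orderOf_dvd_card' 3
    (G := centralizer ((P : Subgroup G) : Set G)) (by rw [hcc]; exact hc3.mul_left 7)
  have hxo : orderOf (x : G) = 3 := by rw [orderOf_coe]; exact hx
  have hne : φ x ≠ 1 := fun e1 => by
    have := Subgroup.orderOf_dvd_natCard _ (hker x e1)
    rw [hP, hxo] at this
    norm_num at this
  obtain ⟨j, hj0, hj⟩ := perm_prime_fixed (q := 3) (s := φ x)
    (by rw [← map_pow, ← hx, pow_orderOf_eq_one, map_one]) hne
  rw [Fintype.card_fin] at hj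
  have hf : Nat.card (fixedBy (Sylow 7 G) (x : G)) = 15 := by
    rw [hfix x (by rw [hxo]; norm_num)]
    omega
  set H := centralizer ({(x : G)} : Set G) with hH
  have hPH : (P : Subgroup G) ≤ H := fun a ha =>
    mem_centralizer_singleton_iff.mpr (mem_centralizer_iff.mp x.2 a ha)
  have hxx : (x : G) ∈ H := mem_centralizer_singleton_iff.mpr rfl
  have hx1 : (x : G) ≠ 1 := fun e1 => by rw [e1, orderOf_one] at hxo; norm_num at hxo
  have hPall : ∀ Q : Sylow 7 G, Nat.card Q = 7 := fun Q => (hd Q).1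
  -- the Sylow 7-subgroups in `C(x)`
  have hf15 : Nat.card (Sylow 7 H) ≤ 15 := by
    rw [← Residual.card_sylow_le_eq hPall (hP ▸ card_dvd_of_le hPH), ← hf]
    refine Nat.card_le_card_of_injective (fun Q => ⟨Q.1, ?_⟩) fun Q R e1 => ?_
    · refine Sylow.smul_eq_iff_mem_normalizer.mpr (centralizer_le_normalizer' _ ?_)
      exact mem_centralizer_iff.mpr fun a ha =>
        mem_centralizer_singleton_iff.mp (Q.2 ha)
    · exact Subtype.ext (congrArg (fun R => R.1) e1)
  have hmul := Residual.card_eq_sylow_mul P hPH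
  have hfd : Nat.card (Sylow 7 H) ∈ Nat.divisors 4536 := Nat.mem_divisors.mpr
    ⟨h ▸ (Dvd.intro _ hmul).trans (card_subgroup_dvd_card H), by norm_num⟩
  have hfm := card_sylow_modEq_one 7 H
  rw [Nat.ModEq] at hfm
  -- a Sylow 3-subgroup containing `x`
  obtain ⟨T, hT⟩ := (IsPGroup.of_card (p := 3) (n := 1) (G := zpowers (x : G))
    (by rw [Nat.card_zpowers, hxo, pow_one])).exists_le_sylow
  have hTc : Nat.card T = 3 ^ 4 :=
    card_sylow_of_card_eq (k := 4) (m := 56) (by rw [h]; norm_num) (by norm_num) T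
  obtain ⟨h9, z, hzT, hz, hTz⟩ :=
    sq_dvd_centralizer (q := 3) (by norm_num) hTc (hT (mem_zpowers _)) hxo
  rcases (show ∀ f ∈ Nat.divisors 4536, f % 7 = 1 % 7 → f ≤ 15 → f = 1 ∨ f = 8 by decide +kernel)
    _ hfd hfm hf15 with hf1 | hf8
  · -- `C(x)` normalises `P`
    rw [hf1, one_mul] at hmul
    have hHN : H ≤ normalizer ((P : Subgroup G) : Set G) := by
      have := eq_of_le_of_card_ge (inf_le_right : normalizer ((P : Subgroup G) : Set G) ⊓ H ≤ H)
        hmul.ge
      exact this ▸ inf_le_left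
    have hzN : z ∈ normalizer ((P : Subgroup G) : Set G) := hHN (mem_centralizer_singleton_iff.mpr
      (mem_centralizer_singleton_iff.mp (hTz (hT (mem_zpowers (x : G))))).symm)
    have hT81 : 81 ∣ Nat.card (centralizer ({z} : Set G)) := by
      have := card_dvd_of_le hTz
      rwa [show Nat.card (T : Subgroup G) = 81 by rw [hTc]; rfl] at this
    have hz1 : z ≠ 1 := fun e1 => by rw [e1, orderOf_one] at hz; norm_num at hz
    by_cases hzC : z ∈ centralizer ((P : Subgroup G) : Set G)
    · have h7 : 7 ∣ Nat.card (centralizer ({z} : Set G)) := hP ▸ card_dvd_of_le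
        (fun a ha => mem_centralizer_singleton_iff.mpr (mem_centralizer_iff.mp hzC a ha))
      have h567 := Nat.Coprime.mul_dvd_of_dvd_of_dvd (show Nat.Coprime 81 7 by norm_num) hT81 h7
      have hi := (centralizer ({z} : Set G)).card_mul_index
      obtain ⟨r, hr⟩ := h567
      rw [hr, h] at hi
      have h9i := hfac _ (Residual.centralizer_ne_top hG hz1)
      have : 81 * 7 * 1 * 9 ≤ 81 * 7 * r * (centralizer ({z} : Set G)).index :=
        Nat.mul_le_mul (Nat.mul_le_mul_left _ (Nat.pos_of_ne_zero fun e1 => by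
          rw [e1] at hi; simp at hi)) h9i
      omega
    · have hb := fix_bound P hPall hzN hzC
      rw [hn] at hb
      have hform := card_fixedBy_mul_card_class (normalizer ((P : Subgroup G) : Set G)) z
      rw [card_fixedBy_quotient_normalizer_eq] at hform
      have hidx : (normalizer ((P : Subgroup G) : Set G)).index = 36 := by
        rw [← hn, Sylow.card_eq_index_normalizer P]
        rfl
      rw [hidx] at hform
      have hcl := Order1440.card_conj_mul z
      obtain ⟨r, hr⟩ := hT81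
      rw [hr, h] at hcl
      have h56 : Nat.card {g : G // IsConj z g} ∣ 56 := ⟨r, by
        have : Nat.card {g : G // IsConj z g} * (81 * r) =
          81 * (Nat.card {g : G // IsConj z g} * r) := by ring
        omega⟩
      have h9f : 9 ∣ Nat.card (fixedBy (Sylow 7 G) z) := by
        refine (Nat.Coprime.dvd_of_dvd_mul_right ?_ (Dvd.intro _ (show 9 * (4 *
          Nat.card {g : G // IsConj z g ∧ g ∈ normalizer ((P : Subgroup G) : Set G)}) =
          Nat.card (fixedBy (Sylow 7 G) z) * Nat.card {g : G // IsConj z g} by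
            rw [hform]; ring)))
        exact Nat.Coprime.coprime_dvd_right h56 (by norm_num)
      have hpos : 0 < Nat.card (fixedBy (Sylow 7 G) z) := by
        have : Nonempty (fixedBy (Sylow 7 G) z) :=
          ⟨⟨P, Sylow.smul_eq_iff_mem_normalizer.mpr hzN⟩⟩
        exact Nat.card_pos
      have := Nat.le_of_dvd hpos h9f
      omega
  · rw [hf8] at hmul
    have h9' : 9 ∣ Nat.card H := h9
    have h7 : 7 ∣ Nat.card H := hP ▸ card_dvd_of_le hPH
    have h8 : 8 ∣ Nat.card H := Dvd.intro _ hmul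
    have h504 : 504 ∣ Nat.card H := by
      have := Nat.Coprime.mul_dvd_of_dvd_of_dvd (show Nat.Coprime 8 63 by norm_num) h8
        (Nat.Coprime.mul_dvd_of_dvd_of_dvd (show Nat.Coprime 9 7 by norm_num) h9' h7)
      exact this
    obtain ⟨r, hr⟩ := h504
    have hi := H.card_mul_index
    rw [hr, h] at hi
    have h9i := hfac H (Residual.centralizer_ne_top hG hx1)
    have hi9 : H.index = 9 := by
      by_contra hne9
      have h10 : 504 * 1 * 10 ≤ 504 * r * H.index :=
        Nat.mul_le_mul (Nat.mul_le_mul_left _ (Nat.pos_of_ne_zero fun e1 => by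
          rw [e1] at hi; simp at hi)) (by omega)
      omega
    obtain ⟨y, hy⟩ := exists_prime_orderOf_dvd_card' 7 (G := (P : Subgroup G))
      (dvd_of_eq hP.symm)
    have hyo : orderOf (y : G) = 7 := by rw [orderOf_coe]; exact hy
    have hCy : centralizer ({(y : G)} : Set G) = centralizer ((P : Subgroup G) : Set G) :=
      (Order504.centralizer_eq_of_zpowers (eq_zpowers_of_mem hP y.2 fun e1 => by
        rw [e1, orderOf_one] at hyo; norm_num at hyo)).symm
    have hdv := centralizer_dvd_of_index hyo (H := H) (Residual.centralizer_ne_top hG hx1) (by omega)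
    rw [hi9, hCy, hcc] at hdv
    norm_num [Nat.factorial] at hdv
    have hc2 : c ∣ 2 := Nat.dvd_of_mul_dvd_mul_left (by norm_num : 0 < 7) (by simpa using hdv)
    have := Nat.le_of_dvd (by norm_num) (hc3.trans hc2)
    omega

/-- No simple group has order `5104`. -/
theorem card_ne_5104 (h : Nat.card G = 5104) : False := by
  have : Fact (Nat.Prime 29) := ⟨by norm_num⟩
  obtain ⟨ε, a, d0, d, hε, ha, hd0, hd, hd1, hsq, hmod, hrel⟩ :=
    Order3648.degrees (G := G) (p := 29) (m := 176) (n := 88) (t := 14) (by rw [h]) (by norm_num)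
      (by decide +kernel) (by norm_num) (by norm_num) (by norm_num)
  rw [h] at hd hsq
  have hdlt : d < 72 := by nlinarith
  obtain ⟨h1, h2⟩ := (show ∀ k ∈ Finset.range 72, k ∣ 5104 → 1 < k → k % 29 ≠ 1 ∧ k % 29 ≠ 28 by
    decide +kernel) d (Finset.mem_range.mpr hdlt) hd hd1
  rw [Int.ModEq] at hmod
  rcases ha with rfl | rfl <;> omega

/-- No simple group has order `4960`. -/
theorem card_ne_4960 (h : Nat.card G = 4960) : False := by
  classical
  have : Fact (Nat.Prime 31) := ⟨by norm_num⟩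
  have := Fintype.ofFinite G
  have hG : ¬ IsMulCommutative G := nc_of_not_prime (by rw [h]; norm_num)
  obtain ⟨P⟩ := (inferInstance : Nonempty (Sylow 31 G))
  obtain ⟨hP, c, e, hmem, -, hcc, hN, hall⟩ := once_data (p := 31) (m := 160) hG (by norm_num)
    (by rw [h]) (by norm_num) [(32, 5)] (by decide +kernel) P
  simp only [List.mem_singleton, Prod.mk.injEq] at hmem
  obtain ⟨hn, rfl⟩ := hmem
  rw [hn] at hall
  obtain rfl : c = 1 := by omega
  have hCK : centralizer ((P : Subgroup G) : Set G) = (P : Subgroup G) := by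
    refine (eq_of_le_of_card_ge (fun x hx => mem_centralizer_iff.mpr fun y hy => ?_)
      (by rw [hcc, hP])).symm
    have hcyc : IsCyclic (P : Subgroup G) := isCyclic_of_prime_card hP
    let _ := IsCyclic.commGroup (α := (P : Subgroup G))
    exact congrArg Subtype.val (mul_comm (⟨y, hy⟩ : (P : Subgroup G)) ⟨x, hx⟩)
  have hCle : ∀ k ∈ (P : Subgroup G), k ≠ 1 → centralizer ({k} : Set G) ≤ (P : Subgroup G) :=
    fun k hk hk1 => by
      rw [← Order504.centralizer_eq_of_zpowers (eq_zpowers_of_mem hP hk hk1), hCK]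
  obtain ⟨ε, a', d0, S, a, d, hε, hd0, hd01, hd0m, hS, hrel, hnorm, hsq, hdeg, -⟩ :=
    PrimeExceptional.degree_relation_full (commutator_eq_top hG) hP hCle (e := 5) (t := 6)
      (by rw [hN]) (by norm_num) (by norm_num)
  rw [h] at hd0 hsq
  push_cast at hrel hnorm hd0m
  have hε2 : ε ^ 2 = 1 := by rcases hε with rfl | rfl <;> norm_num
  have hS0 : 0 ≤ ∑ ψ ∈ S, a ψ ^ 2 := Finset.sum_nonneg fun ψ _ => sq_nonneg _
  have ha' : a' = 0 := by
    by_contra h0
    have h1 : a' ^ 2 ≤ 1 := by nlinarith [sq_nonneg (a' - ε)]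
    have h2 : a' = 1 ∨ a' = -1 := by
      have h1a : a' ≤ 1 := by nlinarith
      have h1b : -1 ≤ a' := by nlinarith
      omega
    have h3 : a' = ε ∧ ∑ ψ ∈ S, a ψ ^ 2 = 0 := by
      rcases hε with rfl | rfl <;> rcases h2 with rfl | rfl <;> constructor <;> linarith
    have hemp : ∑ ψ ∈ S, a ψ * d ψ = 0 := Finset.sum_eq_zero fun ψ hψ => by
      have := (Finset.sum_eq_zero_iff_of_nonneg fun x _ => sq_nonneg (a x)).mp h3.2 ψ hψ
      exact absurd (sq_eq_zero_iff.mp this) (hS ψ hψ).2.2.1
    rw [hemp, h3.1] at hrel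
    rcases hε with rfl | rfl <;> omega
  subst ha'
  have hnorm' : ∑ ψ ∈ S, a ψ ^ 2 = 4 := by linear_combination hnorm - hε2
  have hd0le : d0 ≤ 28 := by nlinarith [Nat.zero_le (∑ ψ ∈ S, d ψ ^ 2)]
  have hd05 := (show ∀ k ∈ Finset.range 29, k ∣ 4960 → 1 < k →
      k % 31 ≠ 26 ∧ (k % 31 = 5 → k = 5) by decide +kernel) d0
    (Finset.mem_range.mpr (by omega)) hd0 hd01
  rw [Int.ModEq] at hd0m
  obtain rfl : ε = 1 := by
    rcases hε with rfl | rfl
    · rfl
    · exfalso; omega
  obtain rfl : d0 = 5 := hd05.2 (by omega)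
  -- each term contributes positively, and a degree two is impossible
  have hterm : ∀ ψ ∈ S, 32 ≤ a ψ * d ψ := by
    intro ψ hψ
    obtain ⟨hdd, hd1, ha0, hmod⟩ := hS ψ hψ
    rw [h] at hdd
    have hle := Finset.single_le_sum (fun x _ => sq_nonneg (a x)) hψ
    rw [hnorm'] at hle
    have hab : a ψ = 1 ∨ a ψ = -1 ∨ a ψ = 2 ∨ a ψ = -2 := by
      have h1 : a ψ ≤ 2 := by nlinarith
      have h2 : -2 ≤ a ψ := by nlinarith
      omega
    have hdle : d ψ ≤ 70 := by
      have := Finset.single_le_sum (fun x _ => Nat.zero_le (d x ^ 2)) hψ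
      nlinarith
    have hd2 : d ψ ≠ 2 := fun e2 => by
      refine CfsgLib.PrimeDegrees.degree_ne_two (fun hc => hG ⟨⟨hc⟩⟩) ψ ?_
      simp [Cfsg.charDegree, hdeg ψ, e2]
    obtain ⟨hl1, hl2, hl3, hl4⟩ := (show ∀ k ∈ Finset.range 71, k ∣ 4960 → 1 < k →
        k % 31 ≠ 30 ∧ k % 31 ≠ 29 ∧ (k % 31 = 1 → 32 ≤ k) ∧ (k % 31 = 2 → k = 2 ∨ 32 ≤ k) by
      decide +kernel) _ (Finset.mem_range.mpr (by omega)) hdd hd1
    rw [Int.ModEq] at hmod
    rcases hab with e1 | e1 | e1 | e1 <;> rw [e1] at hmod ⊢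
    · have := hl3 (by omega); omega
    · omega
    · rcases hl4 (by omega) with h2 | h2
      · exact absurd h2 hd2
      · omega
    · omega
  have hpos : 0 < S.card := Finset.card_pos.mpr (Finset.nonempty_of_ne_empty fun e1 => by
    rw [e1, Finset.sum_empty] at hnorm'; norm_num at hnorm')
  have hge := Finset.card_nsmul_le_sum S (fun ψ => a ψ * (d ψ : ℤ)) 32 hterm
  rw [nsmul_eq_mul] at hge
  have : (1 : ℤ) ≤ S.card := by exact_mod_cast hpos
  push_cast at hrel
  nlinarith

end CfsgLib.Small.Mid
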