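import Cfsg.Agent.Lib.Small.MidLemmas

/-!
No simple group has order 3960, 4680, 5148, 5376, 5460 or 5940.
-/

set_option autoImplicit false

namespace CfsgLib.Small.Mid

open Subgroup MulAction CfsgLib.Small

variable {G : Type*} [Group G] [Finite G]

/-- An element of order `r` centralising a subgroup of order `q` makes `q` divide the order of
the centraliser of a Sylow `r`-subgroup, if these have order `r`. -/
theorem cross {q r : ℕ} [hr : Fact r.Prime] {Q : Subgroup G} (hQ : Nat.card Q = q)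
    (hR : ∀ R : Sylow r G, Nat.card R = r ∧ ¬ q ∣ Nat.card (centralizer ((R : Subgroup G) : Set G)))
    (hd : r ∣ Nat.card (centralizer (Q : Set G))) : False := by
  obtain ⟨x, hx⟩ := exists_prime_orderOf_dvd_card' r (G := centralizer (Q : Set G)) hd
  have hxo : orderOf (x : G) = r := by rw [orderOf_coe]; exact hx
  obtain ⟨R, hxR⟩ := (IsPGroup.of_card (p := r) (n := 1) (G := zpowers (x : G))
    (by rw [Nat.card_zpowers, hxo, pow_one])).exists_le_sylow
  have heq : zpowers (x : G) = (R : Subgroup G) :=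
    eq_of_le_of_card_ge hxR (by rw [(hR R).1, Nat.card_zpowers, hxo])
  refine (hR R).2 (hQ ▸ card_dvd_of_le fun a ha => ?_)
  rw [← heq, mem_centralizer_iff]
  intro b hb
  obtain ⟨i, rfl⟩ := mem_zpowers_iff.mp hb
  exact (Commute.zpow_left
    (show Commute (x : G) a from (mem_centralizer_iff.mp x.2 a ha).symm) i).eq

set_option maxRecDepth 4000 in
set_option synthInstance.maxSize 4000 in
set_option synthInstance.maxHeartbeats 200000 in
/-- A three-cycle and an even involution on four points give seven distinct permutations. -/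
theorem seven_perms : ∀ s r : Equiv.Perm (Fin 4), s ^ 3 = 1 → s ≠ 1 → r ^ 2 = 1 → r ≠ 1 →
    Equiv.Perm.sign r = 1 →
      ({1, s, s * s, r, s * r, s * s * r, r * s} : Finset (Equiv.Perm (Fin 4))).card = 7 := by
  decide +kernel

variable [IsSimpleGroup G]

/-- No simple group has order `3960`. -/
theorem card_ne_3960 (h : Nat.card G = 3960) : False := by
  classical
  have : Fact (Nat.Prime 11) := ⟨by norm_num⟩
  have : Fact (Nat.Prime 2) := ⟨Nat.prime_two⟩
  have hG : ¬ IsMulCommutative G := nc_of_not_prime (by rw [h]; norm_num)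
  have hd := once_data (p := 11) (m := 360) hG (by norm_num) (by rw [h]) (by norm_num) [(45, 2)]
    (by decide +kernel)
  obtain ⟨P⟩ := (inferInstance : Nonempty (Sylow 11 G))
  obtain ⟨hP, c, e, hmem, hrel, hcc, hN, hall⟩ := hd P
  simp only [List.mem_singleton, Prod.mk.injEq] at hmem
  obtain ⟨hn, rfl⟩ := hmem
  rw [hn] at hall
  obtain rfl : c = 4 := by omega
  set C := centralizer ((P : Subgroup G) : Set G) with hC
  set N := normalizer ((P : Subgroup G) : Set G) with hNdef
  obtain ⟨φ, hsign, hker, hfix⟩ :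
      ∃ φ : C →* Equiv.Perm (Fin 4), (∀ x, Equiv.Perm.sign (φ x) = 1) ∧
        (∀ x, φ x = 1 → (x : G) ∈ (P : Subgroup G)) ∧
        ∀ x : C, Nat.Coprime (orderOf (x : G)) 11 →
          Nat.card (fixedBy (Sylow 11 G) (x : G)) = 1 + 11 * Nat.card {i // φ x i = i} :=
    OrbitHom.exists_orbit_hom hG P hP (by norm_num) (by rw [hn])
  -- involutions of `C(P)` fix only `P`
  have hfix1 : ∀ u ∈ C, orderOf u = 2 → Nat.card (fixedBy (Sylow 11 G) u) = 1 := by
    intro u hu hu2
    have h2 : φ ⟨u, hu⟩ * φ ⟨u, hu⟩ = 1 := by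
      rw [← map_mul, show (⟨u, hu⟩ : C) * ⟨u, hu⟩ = 1 from
        Subtype.ext (by show u * u = 1; rw [← pow_two, ← hu2, pow_orderOf_eq_one]), map_one]
    have h1 : φ ⟨u, hu⟩ ≠ 1 := fun e1 => by
      have := Subgroup.orderOf_dvd_natCard _ (hker _ e1)
      rw [hP, show orderOf ((⟨u, hu⟩ : C) : G) = 2 from hu2] at this
      norm_num at this
    have hz : Nat.card {i // φ ⟨u, hu⟩ i = i} = 0 := by
      rw [Nat.card_eq_fintype_card]
      exact (show ∀ s : Equiv.Perm (Fin 4), s * s = 1 → Equiv.Perm.sign s = 1 → s ≠ 1 →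
        Fintype.card {i // s i = i} = 0 by decide +kernel) _ h2 (hsign _) h1
    have h3 := hfix ⟨u, hu⟩ (by
      rw [show orderOf ((⟨u, hu⟩ : C) : G) = 2 from hu2]; norm_num)
    rw [hz, mul_zero, add_zero] at h3
    exact h3
  -- a Sylow 2-subgroup `T` of `N(P)`
  obtain ⟨T₀⟩ := (inferInstance : Nonempty (Sylow 2 N))
  set T := (T₀ : Subgroup N).map N.subtype with hTdef
  have hT8 : Nat.card T = 2 ^ 3 := by
    rw [hTdef, card_map_of_injective N.subtype_injective]
    exact card_sylow_of_card_eq (k := 3) (m := 11) (by rw [hN]; norm_num) (by norm_num) T₀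
  have hTN : T ≤ N := map_subtype_le _
  have hri : C.relIndex T ≤ 2 := hrel ▸ relIndex_le_of_le_right hTN (by rw [hrel]; norm_num)
  have hTC : ¬ T ≤ C := fun hle => by
    have := card_dvd_of_le hle
    rw [hT8, hcc] at this
    norm_num at this
  have hri2 : C.relIndex T = 2 := by
    have h0 : C.relIndex T ≠ 0 := index_ne_zero_of_finite
    have h1 : C.relIndex T ≠ 1 := fun e1 => hTC (relIndex_eq_one.mp e1)
    omega
  have hW : Nat.card (C ⊓ T : Subgroup G) = 4 := by
    have h1 := (C.subgroupOf T).card_mul_index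
    have h2 : Nat.card (C.subgroupOf T) = Nat.card (C ⊓ T : Subgroup G) := by
      rw [← inf_subgroupOf_right C T]
      exact Nat.card_congr (subgroupOfEquivOfLe inf_le_right).toEquiv
    rw [show (C.subgroupOf T).index = 2 from hri2, hT8, h2] at h1
    omega
  obtain ⟨u', hu'⟩ := exists_prime_orderOf_dvd_card' 2 (G := (C ⊓ T : Subgroup G))
    (by rw [hW]; norm_num)
  have hu2 : orderOf (u' : G) = 2 := by rw [orderOf_coe]; exact hu'
  obtain ⟨-, z, hzT, hz, hTz⟩ := sq_dvd_centralizer (q := 2) (k := 3) (by norm_num) hT8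
    (Subgroup.mem_inf.mp u'.2).2 hu2
  -- an involution of `C(P)` centralised by `T`
  obtain ⟨u, huC, hu, hTu⟩ : ∃ u, u ∈ C ∧ orderOf u = 2 ∧ T ≤ centralizer ({u} : Set G) := by
    by_cases hzC : z ∈ C
    · exact ⟨z, hzC, hz, hTz⟩
    refine ⟨u', (Subgroup.mem_inf.mp u'.2).1, hu2, ?_⟩
    have hab : IsMulCommutative (C ⊓ T : Subgroup G) :=
      IsPGroup.isMulCommutative_of_card_eq_prime_sq (p := 2) (by rw [hW]; rfl)
    set D := T ⊓ centralizer ({(u' : G)} : Set G)
    have hWD : C ⊓ T ≤ D := le_inf inf_le_right fun a ha => mem_centralizer_singleton_iff.mpr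
      (congrArg Subtype.val (hab.is_comm.comm (⟨a, ha⟩ : (C ⊓ T : Subgroup G)) u'))
    have hzD : z ∈ D := Subgroup.mem_inf.mpr ⟨hzT, mem_centralizer_singleton_iff.mpr
      (mem_centralizer_singleton_iff.mp (hTz (Subgroup.mem_inf.mp u'.2).2)).symm⟩
    obtain ⟨i, -, hi⟩ := (Nat.dvd_prime_pow Nat.prime_two).mp
      ((card_dvd_of_le (inf_le_left : D ≤ T)).trans (dvd_of_eq hT8))
    have h4 := card_le_of_le hWD
    rw [hW, hi] at h4
    have hi3 : 3 ≤ i := by
      by_contra hlt
      have h5 : C ⊓ T = D := eq_of_le_of_card_ge hWD (by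
        rw [hW, hi]
        exact Nat.pow_le_pow_right two_pos (by omega : i ≤ 2))
      exact hzC (Subgroup.mem_inf.mp (h5 ▸ hzD)).1
    have h6 : D = T := eq_of_le_of_card_ge inf_le_left (by
      rw [hT8, hi]
      exact Nat.pow_le_pow_right two_pos hi3)
    exact fun a ha => (Subgroup.mem_inf.mp (show a ∈ D by rw [h6]; exact ha)).2
  have hNu : N ≤ centralizer ({u} : Set G) := by
    have h11 : 11 ∣ Nat.card (N ⊓ centralizer ({u} : Set G) : Subgroup G) := hP ▸ card_dvd_of_le
      (le_inf le_normalizer fun a ha => mem_centralizer_singleton_iff.mpr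
        (mem_centralizer_iff.mp huC a ha))
    have h8 : 8 ∣ Nat.card (N ⊓ centralizer ({u} : Set G) : Subgroup G) := by
      have := card_dvd_of_le (le_inf hTN hTu)
      rwa [hT8] at this
    have h88 := Nat.Coprime.mul_dvd_of_dvd_of_dvd (show Nat.Coprime 8 11 by norm_num) h8 h11
    have := eq_of_le_of_card_ge (inf_le_left : N ⊓ centralizer ({u} : Set G) ≤ N) (by
      rw [hN]; exact Nat.le_of_dvd Nat.card_pos h88)
    exact this ▸ inf_le_right
  exact fix_one_false hG P hu (centralizer_le_normalizer' _ huC) hNu (hfix1 u huC hu)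

/-- No simple group has order `4680`. -/
theorem card_ne_4680 (h : Nat.card G = 4680) : False := by
  classical
  have : Fact (Nat.Prime 13) := ⟨by norm_num⟩
  have : Fact (Nat.Prime 3) := ⟨Nat.prime_three⟩
  have hG : ¬ IsMulCommutative G := nc_of_not_prime (by rw [h]; norm_num)
  obtain ⟨P⟩ := (inferInstance : Nonempty (Sylow 13 G))
  obtain ⟨hP, c, e, hmem, -, hcc, hN, hall⟩ := once_data (p := 13) (m := 360) hG (by norm_num)
    (by rw [h]) (by norm_num) [(40, 3)] (by decide +kernel) P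
  simp only [List.mem_singleton, Prod.mk.injEq] at hmem
  obtain ⟨hn, rfl⟩ := hmem
  rw [hn] at hall
  obtain rfl : c = 3 := by omega
  set C := centralizer ((P : Subgroup G) : Set G) with hC
  set N := normalizer ((P : Subgroup G) : Set G) with hNdef
  obtain ⟨φ, -, hker, hfix⟩ :
      ∃ φ : C →* Equiv.Perm (Fin 3), (∀ x, Equiv.Perm.sign (φ x) = 1) ∧
        (∀ x, φ x = 1 → (x : G) ∈ (P : Subgroup G)) ∧
        ∀ x : C, Nat.Coprime (orderOf (x : G)) 13 →
          Nat.card (fixedBy (Sylow 13 G) (x : G)) = 1 + 13 * Nat.card {i // φ x i = i} :=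
    OrbitHom.exists_orbit_hom hG P hP (by norm_num) (by rw [hn])
  obtain ⟨x', hx'⟩ := exists_prime_orderOf_dvd_card' 3 (G := C) (by rw [hcc]; norm_num)
  set x : G := (x' : G) with hxdef
  have hx : orderOf x = 3 := by rw [hxdef, orderOf_coe]; exact hx'
  have hne : φ x' ≠ 1 := fun e1 => by
    have := Subgroup.orderOf_dvd_natCard _ (hker x' e1)
    rw [hP, ← hxdef, hx] at this
    norm_num at this
  obtain ⟨j, hj0, hj⟩ := perm_prime_fixed (q := 3) (s := φ x')
    (by rw [← map_pow, (hx' ▸ pow_orderOf_eq_one x' : x' ^ 3 = 1), map_one]) hne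
  rw [Fintype.card_fin] at hj
  have hf : Nat.card (fixedBy (Sylow 13 G) x) = 1 := by
    rw [hfix x' (by rw [← hxdef, hx]; norm_num), show Nat.card {i // φ x' i = i} = 0 by omega]
  have hxN : x ∈ N := centralizer_le_normalizer' _ x'.2
  have hxP : x • P = P := Sylow.smul_eq_iff_mem_normalizer.mpr hxN
  have hone : ∀ Q : Sylow 13 G, x • Q = Q → Q = P := fun Q hQ =>
    congrArg Subtype.val ((Nat.card_eq_one_iff_unique.mp hf).1.elim
      (⟨Q, hQ⟩ : fixedBy (Sylow 13 G) x) ⟨P, hxP⟩)
  obtain ⟨T, hT⟩ := (IsPGroup.of_card (p := 3) (n := 1) (G := zpowers x)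
    (by rw [Nat.card_zpowers, hx, pow_one])).exists_le_sylow
  have hxT : x ∈ (T : Subgroup G) := hT (mem_zpowers x)
  have hT9 : Nat.card T = 9 :=
    card_sylow_of_card_eq (k := 2) (m := 520) (by rw [h]; norm_num) (by norm_num) T
  have hab : IsMulCommutative (T : Subgroup G) :=
    IsPGroup.isMulCommutative_of_card_eq_prime_sq (p := 3) (by rw [hT9]; rfl)
  have hcentral : ∀ g ∈ normalizer ((T : Subgroup G) : Set G), g * x = x * g := by
    intro g hg
    set w := g * x * g⁻¹ with hw
    have hwT : w ∈ (T : Subgroup G) := (mem_normalizer_iff.mp hg x).mp hxT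
    have hcm : w * x = x * w := congrArg Subtype.val
      (hab.is_comm.comm (⟨w, hwT⟩ : (T : Subgroup G)) ⟨x, hxT⟩)
    have hwP : w • P = P := hone _ (by rw [← mul_smul, ← hcm, mul_smul, hxP])
    -- `w` fixes only `g • P`
    have hwg : w • (g • P) = g • P := by
      rw [← mul_smul, show w * g = g * x by simp [hw], mul_smul, hxP]
    have hfw : Nat.card (fixedBy (Sylow 13 G) w) = 1 := by rw [hw, card_fixedBy_conj, hf]
    have hgP : g • P = P := congrArg Subtype.val ((Nat.card_eq_one_iff_unique.mp hfw).1.elim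
      (⟨g • P, hwg⟩ : fixedBy (Sylow 13 G) w) ⟨P, hwP⟩)
    have hgN : g ∈ N := Sylow.smul_eq_iff_mem_normalizer.mp hgP
    have hwC : w ∈ C := by
      rw [hC, mem_centralizer_iff]
      intro a ha
      have ha' : g⁻¹ * a * g ∈ (P : Subgroup G) := by
        have := (mem_normalizer_iff.mp (inv_mem hgN) a).mp ha
        rwa [inv_inv] at this
      have h1 : g⁻¹ * a * g * x = x * (g⁻¹ * a * g) := mem_centralizer_iff.mp x'.2 _ ha'
      calc a * w = g * ((g⁻¹ * a * g) * x) * g⁻¹ := by rw [hw]; group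
        _ = g * (x * (g⁻¹ * a * g)) * g⁻¹ := by rw [h1]
        _ = w * a := by rw [hw]; group
    have heq : zpowers x = (T : Subgroup G) ⊓ C := by
      refine eq_of_le_of_card_ge (zpowers_le.mpr (Subgroup.mem_inf.mpr ⟨hxT, x'.2⟩)) ?_
      have h1 := Nat.dvd_gcd (card_dvd_of_le (inf_le_left : (T : Subgroup G) ⊓ C ≤ T))
        (card_dvd_of_le (inf_le_right : (T : Subgroup G) ⊓ C ≤ C))
      rw [hT9, hcc] at h1
      rw [Nat.card_zpowers, hx]
      exact Nat.le_of_dvd (by norm_num) h1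
    have hwz : w ∈ zpowers x := heq ▸ Subgroup.mem_inf.mpr ⟨hwT, hwC⟩
    obtain ⟨i, hi⟩ := mem_zpowers_iff.mp hwz
    have hi' : x ^ (i % 3) = w := by
      rw [← hi, show (3 : ℤ) = ((3 : ℕ) : ℤ) from rfl, ← hx, zpow_mod_orderOf]
    have hi0 := Int.emod_nonneg i (show (3 : ℤ) ≠ 0 by norm_num)
    have hi3 := Int.emod_lt_of_pos i (show (0 : ℤ) < 3 by norm_num)
    rcases (show i % 3 = 0 ∨ i % 3 = 1 ∨ i % 3 = 2 by omega) with e1 | e1 | e1 <;> rw [e1] at hi'
    · rw [zpow_zero] at hi'
      have hx0 : x = 1 := by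
        calc x = g⁻¹ * w * g := by rw [hw]; group
          _ = 1 := by rw [← hi']; group
      rw [hx0, orderOf_one] at hx
      norm_num at hx
    · rw [zpow_one, hw] at hi'
      exact mul_inv_eq_iff_eq_mul.mp hi'.symm
    · -- then `g²` centralises `x`, and `g` has odd order
      have hx3 : x * x * x = 1 := by
        rw [show x * x * x = x ^ 3 by simp [pow_succ, mul_assoc], ← hx, pow_orderOf_eq_one]
      have hxx : g * x * g⁻¹ = x⁻¹ := by
        rw [← hw, ← hi', zpow_two]
        exact eq_inv_of_mul_eq_one_left hx3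
      have hg2 : Commute (g ^ 2) x := by
        have h1 : g * x⁻¹ * g⁻¹ = x := by rw [← conj_inv, hxx, inv_inv]
        have h2 : g ^ 2 * x * (g ^ 2)⁻¹ = x :=
          calc g ^ 2 * x * (g ^ 2)⁻¹ = g * (g * x * g⁻¹) * g⁻¹ := by rw [pow_two]; group
            _ = x := by rw [hxx, h1]
        exact mul_inv_eq_iff_eq_mul.mp h2
      obtain ⟨l, hl⟩ : Odd (orderOf g) := Odd.of_dvd_nat (n := 117) (by decide) (by
        rw [show (117 : ℕ) = 13 * 3 * 3 from rfl, ← hN]
        exact Subgroup.orderOf_dvd_natCard _ hgN)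
      have hgg : g = (g ^ 2) ^ (l + 1) := by
        rw [← pow_mul, show 2 * (l + 1) = orderOf g + 1 by omega, pow_succ, pow_orderOf_eq_one,
          one_mul]
      rw [hgg]
      exact (hg2.pow_left (l + 1)).eq
  have := central_eq_one hG T hab hxT hcentral
  rw [this, orderOf_one] at hx
  norm_num at hx

/-- No simple group has order `5148`. -/
theorem card_ne_5148 (h : Nat.card G = 5148) : False := by
  classical
  have : Fact (Nat.Prime 11) := ⟨by norm_num⟩
  have : Fact (Nat.Prime 3) := ⟨Nat.prime_three⟩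
  have hG : ¬ IsMulCommutative G := nc_of_not_prime (by rw [h]; norm_num)
  have hd := once_data (p := 11) (m := 468) hG (by norm_num) (by rw [h]) (by norm_num) [(78, 2)]
    (by decide +kernel)
  obtain ⟨P⟩ := (inferInstance : Nonempty (Sylow 11 G))
  obtain ⟨hP, c, e, hmem, -, hcc, hN, hall⟩ := hd P
  simp only [List.mem_singleton, Prod.mk.injEq] at hmem
  obtain ⟨hn, rfl⟩ := hmem
  rw [hn] at hall
  obtain rfl : c = 3 := by omega
  obtain ⟨φ, -, hker, hfix⟩ := OrbitHom.exists_orbit_hom hG P hP (by norm_num) (t := 7)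
    (by rw [hn])
  obtain ⟨x, hx⟩ := exists_prime_orderOf_dvd_card' 3
    (G := centralizer ((P : Subgroup G) : Set G)) (by rw [hcc]; norm_num)
  have hxo : orderOf (x : G) = 3 := by rw [orderOf_coe]; exact hx
  have hx1 : (x : G) ≠ 1 := fun e1 => by rw [e1, orderOf_one] at hxo; norm_num at hxo
  have hne : φ x ≠ 1 := fun e1 => by
    have := Subgroup.orderOf_dvd_natCard _ (hker x e1)
    rw [hP, hxo] at this
    norm_num at this
  obtain ⟨j, hj0, hj⟩ := perm_prime_fixed (q := 3) (s := φ x)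
    (by rw [← map_pow, ← hx, pow_orderOf_eq_one, map_one]) hne
  rw [Fintype.card_fin] at hj
  obtain ⟨h1, h2⟩ := fix_eq_card_sylow (p := 11) (fun Q => (hd Q).1) P x.2 fun Q => by
    obtain ⟨-, c', e', hmem', hrel', -⟩ := hd Q
    simp only [List.mem_singleton, Prod.mk.injEq] at hmem'
    rw [hrel', hmem'.2, hxo]
    norm_num
  rw [hfix x (by rw [hxo]; norm_num)] at h1
  set H := centralizer ({(x : G)} : Set G) with hH
  have h2' := h2.trans (card_subgroup_dvd_card H)
  rw [h, ← h1] at h2'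
  rcases (show j = 1 ∨ j = 2 by omega) with rfl | rfl
  · rw [show Nat.card {i // φ x i = i} = 4 by omega] at h2'
    norm_num at h2'
  rw [show Nat.card {i // φ x i = i} = 1 by omega] at h1
  have hPH : (P : Subgroup G) ≤ H := fun a ha =>
    mem_centralizer_singleton_iff.mpr (mem_centralizer_iff.mp x.2 a ha)
  have hmul := Residual.card_eq_sylow_mul P hPH
  rw [← h1] at hmul
  set M := normalizer ((P : Subgroup G) : Set G) ⊓ H with hM
  have h33 : 33 ∣ Nat.card M := Nat.Coprime.mul_dvd_of_dvd_of_dvd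
    (show Nat.Coprime 11 3 by norm_num) (hP ▸ card_dvd_of_le (le_inf le_normalizer hPH))
    (hxo ▸ Subgroup.orderOf_dvd_natCard M (Subgroup.mem_inf.mpr
      ⟨centralizer_le_normalizer' _ x.2, mem_centralizer_singleton_iff.mpr rfl⟩))
  obtain ⟨r, hr⟩ := h33
  have hi := H.card_mul_index
  rw [← hmul, hr, h] at hi
  have hi13 : H.index ∣ 13 := ⟨r, by
    have : (1 + 11 * 1) * (33 * r) * H.index = 396 * (H.index * r) := by ring
    omega⟩
  rcases (Nat.dvd_prime (by norm_num)).mp hi13 with e1 | e1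
  · exact Residual.centralizer_ne_top hG hx1 (index_eq_one.mp e1)
  obtain ⟨y, hy⟩ := exists_prime_orderOf_dvd_card' 11 (G := (P : Subgroup G)) (dvd_of_eq hP.symm)
  have hyo : orderOf (y : G) = 11 := by rw [orderOf_coe]; exact hy
  have hCy : centralizer ({(y : G)} : Set G) = centralizer ((P : Subgroup G) : Set G) :=
    (Order504.centralizer_eq_of_zpowers (eq_zpowers_of_mem hP y.2 fun e2 => by
      rw [e2, orderOf_one] at hyo; norm_num at hyo)).symm
  have hdv := centralizer_dvd_of_index hyo (H := H) (Residual.centralizer_ne_top hG hx1)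
    (by omega)
  rw [e1, hCy, hcc] at hdv
  norm_num [Nat.factorial] at hdv

/-- No simple group has order `5376`. -/
theorem card_ne_5376 (h : Nat.card G = 5376) : False := by
  have : Fact (Nat.Prime 7) := ⟨by norm_num⟩
  have : Fact (Nat.Prime 2) := ⟨Nat.prime_two⟩
  have hG : ¬ IsMulCommutative G := nc_of_not_prime (by rw [h]; norm_num)
  obtain ⟨P⟩ := (inferInstance : Nonempty (Sylow 7 G))
  obtain ⟨hP, c, e, hmem, -, hcc, hN, hall⟩ := once_data (p := 7) (m := 768) hG (by norm_num)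
    (by rw [h]) (by norm_num) [(64, 2), (64, 3), (64, 6)] (by decide +kernel) P
  simp only [List.mem_cons, List.not_mem_nil, or_false, Prod.mk.injEq] at hmem
  have hc2 : 2 ∣ c := by
    rcases hmem with ⟨hn, rfl⟩ | ⟨hn, rfl⟩ | ⟨hn, rfl⟩ <;> rw [hn] at hall <;> omega
  obtain ⟨v, hv⟩ := exists_prime_orderOf_dvd_card' 2
    (G := centralizer ((P : Subgroup G) : Set G)) (by rw [hcc]; exact hc2.mul_left 7)
  obtain ⟨y, hy⟩ := exists_prime_orderOf_dvd_card' 7 (G := (P : Subgroup G)) (dvd_of_eq hP.symm)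
  obtain ⟨S⟩ := (inferInstance : Nonempty (Sylow 2 G))
  have hm := card_sylow_mem (p := 2) hG (k := 8) (m := 21) (by norm_num) (by rw [h]; norm_num)
    (by norm_num)
  rw [show ((Nat.divisors 21).filter fun n => n % 2 = 1 ∧ 1 < n) = {3, 7, 21} from
    by decide +kernel] at hm
  simp only [Finset.mem_insert, Finset.mem_singleton] at hm
  have h21 : Nat.card (Sylow 2 G) = 21 := by
    have h2 := two_mul_card_dvd_factorial_card_sylow (p := 2) hG (by rw [h]; norm_num)
    rw [h] at h2
    rcases hm with hn | hn | hn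
    · rw [hn] at h2; exact absurd h2 (by decide +kernel)
    · rw [hn] at h2; exact absurd h2 (by decide +kernel)
    · exact hn
  have hNS := card_normalizer_eq h21 S
  have hi := (normalizer ((S : Subgroup G) : Set G)).card_mul_index
  rw [h] at hNS hi
  have h256 : Nat.card (normalizer ((S : Subgroup G) : Set G)) = 256 := by omega
  exact not_commute_involution hG (p := 7) (by norm_num) (y := (y : G)) (u := (v : G))
    (by rw [orderOf_coe]; exact hy) (by rw [orderOf_coe]; exact hv)
    (mem_centralizer_iff.mp v.2 y y.2) (H := normalizer ((S : Subgroup G) : Set G))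
    (by rw [h256]; norm_num) (by rw [h256] at hi; omega)

/-- No simple group has order `5460`. -/
theorem card_ne_5460 (h : Nat.card G = 5460) : False := by
  classical
  have : Fact (Nat.Prime 13) := ⟨by norm_num⟩
  have : Fact (Nat.Prime 7) := ⟨by norm_num⟩
  have : Fact (Nat.Prime 5) := ⟨by norm_num⟩
  have : Fact (Nat.Prime 3) := ⟨Nat.prime_three⟩
  have hG : ¬ IsMulCommutative G := nc_of_not_prime (by rw [h]; norm_num)
  have h4 : ∀ g : G, ¬ 4 ∣ orderOf g := fun g hg => not_cyclic_two hG (k := 2) (m := 1365)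
    two_ne_zero (by norm_num) (by rw [h]; norm_num) hg
  obtain ⟨P⟩ := (inferInstance : Nonempty (Sylow 13 G))
  have hd13 : ∀ Q : Sylow 13 G, Nat.card Q = 13 ∧ Nat.card (Sylow 13 G) = 105 ∧
      Nat.card (centralizer ((Q : Subgroup G) : Set G)) = 13 * 2 ∧
      Nat.card (normalizer ((Q : Subgroup G) : Set G)) = 52 := by
    intro Q
    obtain ⟨hQ, c, e, hmem, hrel, hcc, hN, hall⟩ := once_data (p := 13) (m := 420) hG (by norm_num)
      (by rw [h]) (by norm_num) [(105, 2), (105, 4)] (by decide +kernel) Q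
    simp only [List.mem_cons, List.not_mem_nil, or_false, Prod.mk.injEq] at hmem
    rcases hmem with ⟨hn, rfl⟩ | ⟨hn, rfl⟩
    · rw [hn] at hall
      obtain rfl : c = 2 := by omega
      exact ⟨hQ, hn, hcc, hN⟩
    · exfalso
      obtain ⟨g, -, hg⟩ := exists_mem_dvd_orderOf (p := 13) hQ
      rw [hrel] at hg
      exact h4 g hg
  obtain ⟨hP, h105, hcP, hNP⟩ := hd13 P
  obtain ⟨u, f, hu, -, -, hCu, hf1, hf2, hf3⟩ := exists_involution hG (by norm_num) P hP hcP
  rw [h105] at hf2 hf3
  obtain rfl : f = 1 :=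
    (show ∀ f ∈ Nat.divisors 105, f % 13 = 1 → f < 105 → f = 1 by decide +kernel) f
      (Nat.mem_divisors.mpr ⟨hf2, by norm_num⟩) hf1 hf3
  have heven : ∀ {q : ℕ}, q.Prime → q ≠ 2 → q ≠ 13 → ∀ Q : Subgroup G, Nat.card Q = q →
      2 ∣ Nat.card (centralizer (Q : Set G)) → False := by
    intro q hq hq2 hq13 Q hQ hd
    have : Fact (Nat.Prime 2) := ⟨Nat.prime_two⟩
    obtain ⟨v, hv⟩ := exists_prime_orderOf_dvd_card' 2 (G := centralizer (Q : Set G)) hd
    obtain ⟨g, hg⟩ := isConj_iff.mp (involutions_conj hG (m := 1365) (by norm_num)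
      (by rw [h]; norm_num) hu (show orderOf (v : G) = 2 by rw [orderOf_coe]; exact hv))
    have hcv : Nat.card (centralizer ({(v : G)} : Set G)) = 52 := by
      rw [← hg, Order720.centralizer_conj_card, hCu, hNP]
    have hdv := card_dvd_of_le (show Q ≤ centralizer ({(v : G)} : Set G) from fun a ha =>
      mem_centralizer_singleton_iff.mpr (mem_centralizer_iff.mp v.2 a ha))
    rw [hQ, hcv] at hdv
    rcases (hq.dvd_mul.mp (show q ∣ 4 * 13 from hdv)) with h2 | h2
    · rw [show (4 : ℕ) = 2 ^ 2 from rfl] at h2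
      exact hq2 ((Nat.prime_dvd_prime_iff_eq hq Nat.prime_two).mp (hq.dvd_of_dvd_pow h2))
    · exact hq13 ((Nat.prime_dvd_prime_iff_eq hq (by norm_num)).mp h2)
  have hd5 : ∀ Q : Sylow 5 G, Nat.card Q = 5 ∧ Nat.card (Sylow 5 G) = 546 ∧
      Nat.card (centralizer ((Q : Subgroup G) : Set G)) = 5 := by
    intro Q
    obtain ⟨hQ, c, e, hmem, hrel, hcc, -, hall⟩ := once_data (p := 5) (m := 1092) hG (by norm_num)
      (by rw [h]) (by norm_num) [(91, 2), (91, 4), (546, 2)] (by decide +kernel) Q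
    simp only [List.mem_cons, List.not_mem_nil, or_false, Prod.mk.injEq] at hmem
    rcases hmem with ⟨hn, rfl⟩ | ⟨hn, rfl⟩ | ⟨hn, rfl⟩ <;> rw [hn] at hall
    · exfalso
      exact heven (q := 5) (by norm_num) (by norm_num) (by norm_num) _ hQ
        (by rw [hcc, show c = 6 by omega]; norm_num)
    · exfalso
      obtain ⟨g, -, hg⟩ := exists_mem_dvd_orderOf (p := 5) hQ
      rw [hrel] at hg
      exact h4 g hg
    · exact ⟨hQ, hn, by rw [hcc, show c = 1 by omega]⟩
  have hd7 : ∀ Q : Sylow 7 G, Nat.card Q = 7 ∧ Nat.card (Sylow 7 G) = 260 ∧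
      Nat.card (centralizer ((Q : Subgroup G) : Set G)) = 7 := by
    intro Q
    obtain ⟨hQ, c, e, hmem, -, hcc, -, hall⟩ := once_data (p := 7) (m := 780) hG (by norm_num)
      (by rw [h]) (by norm_num) [(78, 2), (260, 3)] (by decide +kernel) Q
    simp only [List.mem_cons, List.not_mem_nil, or_false, Prod.mk.injEq] at hmem
    rcases hmem with ⟨hn, rfl⟩ | ⟨hn, rfl⟩ <;> rw [hn] at hall
    · exfalso
      exact cross (r := 5) hQ (fun R => ⟨(hd5 R).1, by rw [(hd5 R).2.2]; norm_num⟩)
        (by rw [hcc, show c = 5 by omega]; norm_num)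
    · exact ⟨hQ, hn, by rw [hcc, show c = 1 by omega]⟩
  have hd3 : ∀ Q : Sylow 3 G, Nat.card Q = 3 ∧ Nat.card (Sylow 3 G) = 910 := by
    intro Q
    obtain ⟨hQ, c, e, hmem, -, hcc, -, hall⟩ := once_data (p := 3) (m := 1820) hG (by norm_num)
      (by rw [h]) (by norm_num) [(70, 2), (91, 2), (130, 2), (910, 2)] (by decide +kernel) Q
    simp only [List.mem_cons, List.not_mem_nil, or_false, Prod.mk.injEq] at hmem
    rcases hmem with ⟨hn, rfl⟩ | ⟨hn, rfl⟩ | ⟨hn, rfl⟩ | ⟨hn, rfl⟩ <;> rw [hn] at hall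
    · exfalso
      exact cross (r := 13) hQ (fun R => ⟨(hd13 R).1, by rw [(hd13 R).2.2.1]; norm_num⟩)
        (by rw [hcc, show c = 13 by omega]; norm_num)
    · exfalso
      exact heven (q := 3) (by norm_num) (by norm_num) (by norm_num) _ hQ
        (by rw [hcc, show c = 10 by omega]; norm_num)
    · exfalso
      exact cross (r := 7) hQ (fun R => ⟨(hd7 R).1, by rw [(hd7 R).2.2]; norm_num⟩)
        (by rw [hcc, show c = 7 by omega]; norm_num)
    · exact ⟨hQ, hn⟩
  obtain ⟨P7⟩ := (inferInstance : Nonempty (Sylow 7 G))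
  obtain ⟨P5⟩ := (inferInstance : Nonempty (Sylow 5 G))
  obtain ⟨P3⟩ := (inferInstance : Nonempty (Sylow 3 G))
  have hsum := sum_card_orderOf_le (G := G) {13, 7, 5, 3}
  rw [Finset.sum_insert (by decide), Finset.sum_insert (by decide), Finset.sum_insert (by decide),
    Finset.sum_singleton,
    card_orderOf_eq_prime (p := 13) fun Q => (hd13 Q).1,
    card_orderOf_eq_prime (p := 7) fun Q => (hd7 Q).1,
    card_orderOf_eq_prime (p := 5) fun Q => (hd5 Q).1,
    card_orderOf_eq_prime (p := 3) fun Q => (hd3 Q).1, h105, (hd7 P7).2.1, (hd5 P5).2.1,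
    (hd3 P3).2, h] at hsum
  omega

/-- No simple group has order `5940`. -/
theorem card_ne_5940 (h : Nat.card G = 5940) : False := by
  classical
  have : Fact (Nat.Prime 11) := ⟨by norm_num⟩
  have : Fact (Nat.Prime 3) := ⟨Nat.prime_three⟩
  have : Fact (Nat.Prime 2) := ⟨Nat.prime_two⟩
  have hG : ¬ IsMulCommutative G := nc_of_not_prime (by rw [h]; norm_num)
  obtain ⟨P⟩ := (inferInstance : Nonempty (Sylow 11 G))
  obtain ⟨hP, c, e, hmem, -, hcc, -, hall⟩ := once_data (p := 11) (m := 540) hG (by norm_num)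
    (by rw [h]) (by norm_num) [(45, 2)] (by decide +kernel) P
  simp only [List.mem_singleton, Prod.mk.injEq] at hmem
  obtain ⟨hn, rfl⟩ := hmem
  rw [hn] at hall
  obtain rfl : c = 6 := by omega
  obtain ⟨φ, hsign, hker, -⟩ := OrbitHom.exists_orbit_hom hG P hP (by norm_num) (t := 4)
    (by rw [hn])
  have hel : ∀ q : ℕ, q.Prime → q ∣ 6 → ∃ x, φ x ^ q = 1 ∧ φ x ≠ 1 := by
    intro q hq hq6
    have : Fact q.Prime := ⟨hq⟩
    obtain ⟨x, hx⟩ := exists_prime_orderOf_dvd_card' q
      (G := centralizer ((P : Subgroup G) : Set G)) (by rw [hcc]; exact hq6.mul_left 11)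
    refine ⟨x, by rw [← map_pow, ← hx, pow_orderOf_eq_one, map_one], fun e1 => ?_⟩
    have hd' := Subgroup.orderOf_dvd_natCard _ (hker x e1)
    rw [hP, orderOf_coe, hx] at hd'
    have h11 := (Nat.prime_dvd_prime_iff_eq hq (by norm_num)).mp hd'
    rw [h11] at hq6
    norm_num at hq6
  obtain ⟨x, hx, hx1⟩ := hel 3 Nat.prime_three (by norm_num)
  obtain ⟨y, hy, hy1⟩ := hel 2 Nat.prime_two (by norm_num)
  have h7 := seven_perms _ _ hx hx1 hy hy1 (hsign y)
  have hsub : ({1, φ x, φ x * φ x, φ y, φ x * φ y, φ x * φ x * φ y, φ y * φ x} : Finset _) ⊆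
      (φ.range : Set (Equiv.Perm (Fin 4))).toFinset := by
    intro a ha
    rw [Set.mem_toFinset, SetLike.mem_coe]
    have hxr : φ x ∈ φ.range := ⟨x, rfl⟩
    have hyr : φ y ∈ φ.range := ⟨y, rfl⟩
    simp only [Finset.mem_insert, Finset.mem_singleton] at ha
    rcases ha with rfl | rfl | rfl | rfl | rfl | rfl | rfl
    exacts [one_mem _, hxr, mul_mem hxr hxr, hyr, mul_mem hxr hyr,
      mul_mem (mul_mem hxr hxr) hyr, mul_mem hyr hxr]
  have h1 := Finset.card_le_card hsub
  rw [h7, Set.toFinset_card, ← Nat.card_eq_fintype_card] at h1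
  have h2 := Nat.dvd_gcd (card_range_dvd φ) (card_subgroup_dvd_card φ.range)
  rw [hcc, Nat.card_eq_fintype_card (α := Equiv.Perm (Fin 4)), Fintype.card_perm,
    Fintype.card_fin] at h2
  rw [show Nat.gcd (11 * 6) (Nat.factorial 4) = 6 by decide +kernel] at h2
  have h6 := Nat.le_of_dvd (by norm_num) h2
  change 7 ≤ Nat.card φ.range at h1
  omega

end CfsgLib.Small.Mid
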