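import Cfsg.Agent.Lib.Characters.TIFNChar
import Cfsg.Agent.Lib.Characters.LinearTwist
import Cfsg.Agent.Lib.Small.Basic

/-!
The degree equation of Brauer for a perfect group with a self-centralising subgroup of prime
order `p` and `(p - 1) / |N(P) : P| ≥ 2`.
-/

set_option autoImplicit false

noncomputable section

namespace CfsgLib.Small.PrimeExceptional

open Cfsg CfsgLib.Characters CfsgLib.FrobKernelChar
open scoped ComplexConjugate

universe u

variable {G : Type u} [Group G] [Fintype G]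

set_option maxHeartbeats 1600000 in
open scoped Classical in
/-- The degree equation, together with the character sums behind it. -/
theorem degree_relation_full (hperf : commutator G = ⊤) {p : ℕ} [hp : Fact p.Prime] {K : Subgroup G}
    (hK : Nat.card K = p)
    (hC : ∀ k ∈ K, k ≠ 1 → Subgroup.centralizer ({k} : Set G) ≤ K)
    {e t : ℕ} (hN : Nat.card (Subgroup.normalizer (K : Set G)) = p * e) (hte : t * e = p - 1)
    (ht : 2 ≤ t) :
    ∃ (ε a' : ℤ) (d0 : ℕ) (S : Finset (IrrCharacter G)) (a : IrrCharacter G → ℤ)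
      (d : IrrCharacter G → ℕ),
      (ε = 1 ∨ ε = -1) ∧ d0 ∣ Nat.card G ∧ 1 < d0 ∧ (d0 : ℤ) ≡ a' + e * ε [ZMOD p] ∧
      (∀ ψ ∈ S, d ψ ∣ Nat.card G ∧ 1 < d ψ ∧ a ψ ≠ 0 ∧ (d ψ : ℤ) ≡ a ψ [ZMOD p]) ∧
      1 + (t * a' - ε) * d0 + ∑ ψ ∈ S, a ψ * d ψ = 0 ∧
      ((t : ℤ) - 1) * a' ^ 2 + (a' - ε) ^ 2 + ∑ ψ ∈ S, a ψ ^ 2 = e ∧
      1 + t * d0 ^ 2 + ∑ ψ ∈ S, d ψ ^ 2 ≤ Nat.card G ∧
      (∀ ψ : IrrCharacter G, (ψ : G → ℂ) 1 = (d ψ : ℂ)) ∧ a (principalIrr G) = 1 ∧
      (∀ ψ, a ψ ≠ 0 → ψ ≠ principalIrr G → ψ ∉ S → d ψ = d0) ∧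
      (∀ ψ, ψ ∈ S → ψ ≠ principalIrr G) ∧
      ∑ ψ, a ψ ^ 2 = (e : ℤ) + 1 ∧
      ∃ α0 : G → ℂ, ∀ ψ : IrrCharacter G,
        ∑ x ∈ Finset.univ.filter (fun x => x ∈ K ∧ x ≠ 1), α0 x * (ψ : G → ℂ) x⁻¹ =
          (Nat.card (Subgroup.normalizer (K : Set G)) : ℂ) * (a ψ : ℂ) := by
  classical
  set N := Subgroup.normalizer (K : Set G)
  have : Fintype ↥N := Fintype.ofFinite _
  set H : Subgroup ↥N := K.subgroupOf N
  have hn : H.Normal := Subgroup.normal_in_normalizer
  have hKN : K ≤ N := Subgroup.le_normalizer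
  have hH : Nat.card H = p := (Nat.card_congr (Subgroup.subgroupOfEquivOfLe hKN).toEquiv).trans hK
  have hidx : H.index = e := by
    have := H.card_mul_index
    rw [hH, hN] at this
    exact Nat.eq_of_mul_eq_mul_left hp.out.pos this
  have he : e ≠ 0 := by
    rintro rfl
    exact Subgroup.index_ne_zero_of_finite hidx
  have hfree := CfsgLib.TIFNChar.free (K := K) hC
  have hab : ∀ a ∈ K, ∀ b ∈ K, a * b = b * a := by
    have : IsCyclic K := isCyclic_of_prime_card hK
    let _ := IsCyclic.commGroup (α := K)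
    exact fun a ha b hb => congrArg Subtype.val (mul_comm (⟨a, ha⟩ : K) ⟨b, hb⟩)
  have hTI : ∀ g : G, g ∉ N → ∀ k ∈ K, g * k * g⁻¹ ∈ K → k = 1 := by
    intro g hg k hk hgk
    by_contra hk1
    refine hg ?_
    have hz := eq_zpowers_of_mem hK hk hk1
    have hmap : K.map (MulAut.conj g).toMonoidHom = K := by
      refine Subgroup.eq_of_le_of_card_ge ?_ (le_of_eq
        (Nat.card_congr (K.equivMapOfInjective _ (MulAut.conj g).injective).toEquiv))
      rw [hz, MonoidHom.map_zpowers, Subgroup.zpowers_le, ← hz]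
      exact hgk
    refine (Subgroup.mem_normalizer_iff).mpr fun y => ⟨fun hy => ?_, fun hy => ?_⟩
    · rw [← hmap]; exact ⟨y, hy, rfl⟩
    · rw [← hmap] at hy
      obtain ⟨z, hz', hzy⟩ := hy
      rwa [← (MulAut.conj g).injective hzy]
  -- characters of the normaliser
  set R := relSet H with hR
  have hdeg : ∀ χ ∈ R, (χ : N → ℂ) 1 = (e : ℂ) := fun χ hχ => by
    rw [CfsgLib.TIFNChar.degree_eq_index hC hab (mem_relSet.1 hχ), ← hidx]
  have hirr := sum_sq_irrelevant (K := H)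
  rw [hidx] at hirr
  have hcardR : R.card = t := by
    have h := sum_sq_degrees (G := N)
    rw [← Finset.sum_add_sum_compl R, Finset.sum_congr rfl (g := fun _ => ((e : ℂ) ^ 2))
      (fun χ hχ => by rw [hdeg χ hχ]), Finset.sum_const, nsmul_eq_mul, hN] at h
    simp only [sq] at h
    rw [hirr] at h
    have h' : R.card * (e * e) + e = p * e := by exact_mod_cast h
    have hp1 : p = t * e + 1 := by have := hp.out.pos; omega
    rw [hp1] at h'
    exact Nat.eq_of_mul_eq_mul_right (show 0 < e * e by positivity) (by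
      rw [add_mul, one_mul, mul_assoc] at h'; omega)
  obtain ⟨χ0, hχ0⟩ : R.Nonempty := Finset.card_pos.1 (by omega)
  obtain ⟨εc, f, hεc, hf, hdiff⟩ := CfsgLib.TIFNChar.exceptional_abelian hTI hC hab
  obtain ⟨ε, hε, hεz⟩ : ∃ z : ℤ, (z = 1 ∨ z = -1) ∧ εc = (z : ℂ) := by
    rcases hεc with h | h
    · exact ⟨1, Or.inl rfl, by simp [h]⟩
    · exact ⟨-1, Or.inr rfl, by simp [h]⟩
  set i0 : {χ : IrrCharacter ↥N // Relevant H (χ : N → ℂ)} := ⟨χ0, mem_relSet.1 hχ0⟩
  -- the virtual character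
  set α : N → ℂ := (∑ η ∈ Rᶜ, ((η : N → ℂ) 1) • (η : N → ℂ)) - (χ0 : N → ℂ) with hα
  have hαcl : IsClassFunction N α := isClassFunction_sub
    (isClassFunction_sum _ fun η _ => isClassFunction_smul (irr_isClassFunction η) _)
    (irr_isClassFunction χ0)
  have hα1 : α 1 = 0 := by
    simp only [hα, Pi.sub_apply, Finset.sum_apply, Pi.smul_apply, smul_eq_mul]
    rw [hirr, hdeg χ0 hχ0, sub_self]
  have hsupp : ∀ x : N, x ∉ H → α x = 0 := by
    intro x hx
    simp only [hα, Pi.sub_apply, Finset.sum_apply, Pi.smul_apply, smul_eq_mul]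
    rw [vanish_off hfree χ0.2 (mem_relSet.1 hχ0) hx, sub_zero]
    have h := sum_degree_mul_irr (G := N) x
    rw [if_neg (fun h => hx (by rw [h]; exact H.one_mem)), ← Finset.sum_add_sum_compl R,
      Finset.sum_eq_zero (fun η hη => by
        rw [vanish_off hfree η.2 (mem_relSet.1 hη) hx, mul_zero]), zero_add] at h
    exact h
  have hαgen : IsGeneralizedCharacter N α := by
    refine isGeneralizedCharacter_sub (isGeneralizedCharacter_sum _ fun η => ?_)
      (isGeneralizedCharacter_irr χ0)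
    intro _
    obtain ⟨n, hn⟩ := exists_degree (irr_isCharacter η)
    rw [hn]
    exact isGeneralizedCharacter_natCast_smul (isGeneralizedCharacter_irr η) n
  -- restrictions
  have hres : ∀ ψ : IrrCharacter G, IsCharacter N (fun x : N => (ψ : G → ℂ) x) := fun ψ =>
    CfsgLib.Clifford.isCharacter_subtype (irr_isCharacter ψ) N
  have hk : ∀ (ψ : IrrCharacter G) (η : IrrCharacter N), ∃ m : ℕ,
      classInner (η : N → ℂ) (fun x : N => (ψ : G → ℂ) x) = m ∧
      classInner (fun x : N => (ψ : G → ℂ) x) (η : N → ℂ) = m := by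
    intro ψ η
    obtain ⟨m, hm⟩ := classInner_char_nat (irr_isCharacter η) (hres ψ)
    exact ⟨m, hm, by rw [classInner_conj_symm, hm, map_natCast]⟩
  choose m hm hm' using hk
  have hindcl : ∀ ψ : IrrCharacter G, IsClassFunction G (ψ : G → ℂ) := fun ψ => irr_isClassFunction ψ
  -- multiplicities of relevant characters
  have hmdiff : ∀ (ψ : IrrCharacter G) (i : {χ : IrrCharacter ↥N // Relevant H (χ : N → ℂ)}),
      (m ψ i.1 : ℤ) - m ψ χ0 =
        ε * ((if f i = ψ then 1 else 0) - (if f i0 = ψ then 1 else 0)) := by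
    intro ψ i
    have h := CfsgLib.Induction.classInner_indFun (H := N)
      ((i.1 : N → ℂ) - (i0.1 : N → ℂ)) (hindcl ψ)
    rw [hdiff i i0, classInner_smul_left, classInner_sub_left, classInner_irr, classInner_irr,
      classInner_sub_left, hm, hm, hεz] at h
    have h' : ((m ψ i.1 : ℤ) - m ψ χ0 : ℤ) =
        ε * ((if f i = ψ then 1 else 0) - (if f i0 = ψ then 1 else 0)) := by
      have : (((m ψ i.1 : ℤ) - m ψ χ0 : ℤ) : ℂ) =
          ((ε * ((if f i = ψ then 1 else 0) - (if f i0 = ψ then 1 else 0)) : ℤ) : ℂ) := by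
        push_cast
        exact h.symm
      exact_mod_cast this
    exact h'
  -- coefficients
  obtain ⟨A, hA⟩ : ∃ A : IrrCharacter G → ℤ, ∀ ψ : IrrCharacter G,
      classInner (indFun N α) (ψ : G → ℂ) = (A ψ : ℂ) :=
    Classical.axiomOfChoice fun ψ => classInner_generalized_int
      (CfsgLib.CharArtin.isGeneralizedCharacter_indFun _ hαgen) (isGeneralizedCharacter_irr ψ)
  have hdd : ∀ η : IrrCharacter N, ∃ n : ℕ, (η : N → ℂ) 1 = n :=
    fun η => exists_degree (irr_isCharacter η)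
  choose dN hdN using hdd
  set S0 : IrrCharacter G → ℤ := fun ψ => ∑ η ∈ Rᶜ, (dN η : ℤ) * m ψ η with hS0
  have hAeq : ∀ ψ, A ψ = S0 ψ - m ψ χ0 := by
    intro ψ
    have h := CfsgLib.Induction.classInner_indFun (H := N) α (hindcl ψ)
    rw [hA, hα, classInner_sub_left, classInner_sum_left] at h
    simp only [classInner_smul_left, hm, hdN] at h
    have : (A ψ : ℂ) = ((S0 ψ - m ψ χ0 : ℤ) : ℂ) := by
      rw [h, hS0]; push_cast; rfl
    exact_mod_cast this
  have hDG : ∀ ψ : IrrCharacter G, ∃ n : ℕ, (ψ : G → ℂ) 1 = n ∧ 0 < n ∧ n ∣ Nat.card G :=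
    irr_degree_dvd_card
  choose D hD hD0 hDdvd using hDG
  have hDeq : ∀ ψ, (D ψ : ℤ) = S0 ψ + e * ∑ χ ∈ R, (m ψ χ : ℤ) := by
    intro ψ
    have h := congrFun (classFunction_eq_sum
      (isClassFunction_of_isCharacter (hres ψ))) 1
    simp only [Finset.sum_apply, Pi.smul_apply, smul_eq_mul, hm', hdN, OneMemClass.coe_one,
      hD] at h
    rw [← Finset.sum_add_sum_compl R] at h
    have : ((D ψ : ℤ) : ℂ) = ((S0 ψ + e * ∑ χ ∈ R, (m ψ χ : ℤ) : ℤ) : ℂ) := by
      rw [hS0]
      push_cast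
      rw [h, Finset.mul_sum, add_comm]
      refine congrArg₂ (· + ·) (Finset.sum_congr rfl fun η _ => mul_comm _ _)
        (Finset.sum_congr rfl fun η hη => ?_)
      have he' := hdeg η hη
      rw [hdN] at he'
      rw [he', mul_comm]
    exact_mod_cast this
  -- congruence
  have hsumm : ∀ ψ, ∑ χ ∈ R, (m ψ χ : ℤ) = t * m ψ χ0 +
      ε * ((∑ χ ∈ R.attach, if f ⟨χ.1, mem_relSet.1 χ.2⟩ = ψ then 1 else 0) -
        t * (if f i0 = ψ then 1 else 0)) := by
    intro ψ
    rw [← Finset.sum_attach, Finset.sum_congr rfl (g := fun χ => (m ψ χ0 : ℤ) +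
      ε * ((if f ⟨χ.1, mem_relSet.1 χ.2⟩ = ψ then 1 else 0) - (if f i0 = ψ then 1 else 0)))
      (fun χ _ => by
        have := hmdiff ψ ⟨χ.1, mem_relSet.1 χ.2⟩
        linarith), Finset.sum_add_distrib, Finset.sum_const, Finset.card_attach, hcardR,
      nsmul_eq_mul, ← Finset.mul_sum, Finset.sum_sub_distrib, Finset.sum_const,
      Finset.card_attach, hcardR, nsmul_eq_mul]
  have hpte : (p : ℤ) = t * e + 1 := by
    have := hp.out.pos
    have h1 : p = t * e + 1 := by omega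
    exact_mod_cast h1
  -- exceptional characters
  let E : Finset (IrrCharacter G) :=
    R.attach.image fun χ => f ⟨χ.1, mem_relSet.1 χ.2⟩
  have hE : ∀ i, f i ∈ E := fun i =>
    Finset.mem_image.2 ⟨⟨i.1, mem_relSet.2 i.2⟩, Finset.mem_attach _ _, rfl⟩
  have hEcard : E.card = t := by
    show (R.attach.image fun χ => f ⟨χ.1, mem_relSet.1 χ.2⟩).card = t
    rw [Finset.card_image_of_injective (f := fun χ : {x // x ∈ R} => f ⟨χ.1, mem_relSet.1 χ.2⟩) _
      (fun a b h => Subtype.ext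
      (congrArg (fun i : {χ : IrrCharacter ↥N // Relevant H (χ : N → ℂ)} => i.1) (hf h))),
      Finset.card_attach, hcardR]
  have hcount : ∀ ψ, (∑ χ ∈ R.attach, if f ⟨χ.1, mem_relSet.1 χ.2⟩ = ψ then 1 else 0 : ℤ) =
      if ψ ∈ E then 1 else 0 := by
    intro ψ
    by_cases hψ : ψ ∈ E
    · obtain ⟨χ, hχ, rfl⟩ := Finset.mem_image.1 hψ
      rw [if_pos hψ, Finset.sum_eq_single_of_mem χ hχ fun b _ hb => if_neg fun h => hb
        (Subtype.ext (congrArg (fun i : {χ : IrrCharacter ↥N // Relevant H (χ : N → ℂ)} => i.1)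
          (hf h))), if_pos rfl]
    · rw [if_neg hψ]
      exact Finset.sum_eq_zero fun χ hχ => if_neg fun h => hψ (by rw [← h]; exact hE _)
  have hmod : ∀ ψ, (D ψ : ℤ) ≡ A ψ + ε * (e * (if ψ ∈ E then 1 else 0) +
      (if f i0 = ψ then 1 else 0)) [ZMOD p] := by
    intro ψ
    rw [hDeq, hsumm, hcount, hAeq, Int.modEq_iff_dvd, hpte]
    exact ⟨-(m ψ χ0 : ℤ) + ε * (if f i0 = ψ then 1 else 0), by ring⟩
  have hAshift : ∀ i, i ≠ i0 → A (f i) = A (f i0) + ε := by
    intro i hi
    have h := CfsgLib.TIFNChar.isometry hTI hC (α := (i.1 : N → ℂ) - (i0.1 : N → ℂ)) (β := α)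
      hαcl hsupp hα1
    rw [hdiff i i0, classInner_smul_left, classInner_sub_left, classInner_conj_symm,
      hA, classInner_conj_symm _ (f i0 : G → ℂ), hA] at h
    have hz : classInner ((i.1 : N → ℂ) - (i0.1 : N → ℂ)) α = 1 := by
      have hi' : i.1 ≠ χ0 := fun e => hi (Subtype.ext e)
      rw [hα, classInner_sub_right, classInner_sum_right, Finset.sum_eq_zero, zero_sub,
        classInner_sub_left, classInner_irr, classInner_irr, if_neg hi',
        if_pos (show i0.1 = χ0 from rfl)]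
      · simp
      · intro η hη
        have h1 : i.1 ≠ η := fun e => Finset.mem_compl.1 hη (e ▸ mem_relSet.2 i.2)
        have h2 : i0.1 ≠ η := fun e => Finset.mem_compl.1 hη (e ▸ hχ0)
        rw [classInner_smul_right, classInner_sub_left, classInner_irr, classInner_irr, if_neg h1,
          if_neg h2]
        simp
    rw [hz, map_intCast, map_intCast, hεz] at h
    have h' : ε * (A (f i) - A (f i0)) = 1 := by
      have : ((ε * (A (f i) - A (f i0)) : ℤ) : ℂ) = ((1 : ℤ) : ℂ) := by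
        push_cast; exact h
      exact_mod_cast this
    rcases hε with h1 | h1 <;> rw [h1] at h' ⊢ <;> omega
  set a' := A (f i0) + ε
  set d0 := D (f i0)
  have hDconst : ∀ i, D (f i) = d0 := by
    intro i
    have h : indFun N ((i.1 : N → ℂ) - (i0.1 : N → ℂ)) 1 = 0 := by
      rw [CfsgLib.Induction.indFun_one_apply, Pi.sub_apply, hdeg _ (mem_relSet.2 i.2),
        hdeg _ hχ0, sub_self, mul_zero]
    rw [hdiff i i0, Pi.smul_apply, Pi.sub_apply, hD, hD, smul_eq_mul, mul_eq_zero] at h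
    rcases h with h | h
    · rcases hεc with h' | h' <;> rw [h'] at h <;> norm_num at h
    · exact_mod_cast sub_eq_zero.1 h
  -- only the principal character has degree one
  have hlin : ∀ ψ : IrrCharacter G, D ψ = 1 → ψ = principalIrr G := by
    intro ψ h1
    obtain ⟨g, hg⟩ := CfsgLib.LinearExt.exists_unitsHom (irr_isCharacter ψ)
      (by rw [hD, h1, Nat.cast_one])
    refine Subtype.ext ?_
    rw [hg]
    funext x
    have hx : x ∈ g.ker := (hperf ▸ Abelianization.commutator_subset_ker g :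
      ⊤ ≤ g.ker) (Subgroup.mem_top x)
    show ((g x : ℂˣ) : ℂ) = 1
    rw [MonoidHom.mem_ker.1 hx, Units.val_one]
  have hd01 : 1 < d0 := by
    by_contra hle
    have h1 : d0 = 1 := by have := hD0 (f i0); omega
    obtain ⟨χ1, hχ1, hne⟩ := Finset.exists_mem_ne (show 1 < R.card by omega) χ0
    have e1 := hlin _ ((hDconst ⟨χ1, mem_relSet.1 hχ1⟩).trans h1)
    have e2 := hlin _ h1
    exact hne (congrArg Subtype.val (hf (e1.trans e2.symm)))
  have hprinE : principalIrr G ∉ E := fun h => by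
    obtain ⟨χ, -, hχ⟩ := Finset.mem_image.1 h
    have h1 := hDconst ⟨χ.1, mem_relSet.1 χ.2⟩
    rw [hχ] at h1
    have h2 : (D (principalIrr G) : ℂ) = 1 := by rw [← hD]; rfl
    have h3 : D (principalIrr G) = 1 := by exact_mod_cast h2
    omega
  have hAone : A (principalIrr G) = 1 := by
    have h := CfsgLib.Induction.classInner_indFun (H := N) α (hindcl (principalIrr G))
    rw [hA] at h
    have hp1 : principalIrr N ∈ Rᶜ := Finset.mem_compl.2 fun hh => by
      obtain ⟨k, -, hk⟩ := mem_relSet.1 hh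
      exact hk rfl
    rw [hα, classInner_sub_left, classInner_sum_left, Finset.sum_eq_single_of_mem _ hp1] at h
    · rw [classInner_smul_left, show (fun x : N => (principalIrr G : G → ℂ) x) =
        (principalIrr N : N → ℂ) from rfl, classInner_irr, classInner_irr, if_pos rfl,
        if_neg (show ¬ χ0 = principalIrr N from fun e =>
          Finset.mem_compl.1 hp1 (by rw [← e]; exact hχ0))] at h
      simp at h
      exact_mod_cast h
    · intro η _ hne
      rw [classInner_smul_left, show (fun x : N => (principalIrr G : G → ℂ) x) =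
        (principalIrr N : N → ℂ) from rfl, classInner_irr, if_neg hne, mul_zero]
  -- norm
  have hnorm : ∑ ψ, A ψ ^ 2 = (e : ℤ) + 1 := by
    have h := CfsgLib.TIFNChar.isometry hTI hC (α := α) hαcl hsupp hα1
    rw [classInner_self_eq_sum_sq (CfsgLib.Induction.isClassFunction_indFun _ α) hA] at h
    have hz : classInner α α = ((e + 1 : ℤ) : ℂ) := by
      let c : IrrCharacter N → ℤ := fun η => if η ∈ R then (if η = χ0 then -1 else 0) else (dN η : ℤ)
      have hc : ∀ η : IrrCharacter N, classInner α (η : N → ℂ) = (c η : ℂ) := by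
        intro η
        rw [hα, classInner_sub_left, classInner_irr_sum, classInner_irr]
        by_cases hη : η ∈ R
        · by_cases hη0 : η = χ0
          · subst hη0; simp [c, hη]
          · simp [c, hη, hη0, Ne.symm hη0]
        · have : ¬ χ0 = η := fun e => hη (by rw [← e]; exact hχ0)
          simp [c, hη, this, hdN]
      rw [classInner_self_eq_sum_sq hαcl hc, ← Finset.sum_add_sum_compl R]
      rw [Finset.sum_eq_single_of_mem χ0 hχ0 (fun b hb hne => by simp [c, hb, hne])]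
      have h2 : ((∑ η ∈ Rᶜ, c η ^ 2 : ℤ) : ℂ) = (e : ℂ) := by
        rw [← hirr]
        push_cast
        exact Finset.sum_congr rfl fun η hη => by
          show ((c η : ℂ)) ^ 2 = _
          rw [show c η = (dN η : ℤ) from if_neg (Finset.mem_compl.1 hη), hdN]; push_cast; ring
      have h2' : ∑ η ∈ Rᶜ, c η ^ 2 = (e : ℤ) := by exact_mod_cast h2
      have h1 : c χ0 = -1 := by simp [c, hχ0]
      rw [h2', h1]
      push_cast; ring
    rw [hz] at h
    exact_mod_cast h
  have hexp : indFun N α 1 = ∑ ψ : IrrCharacter G, (A ψ : ℂ) * (D ψ : ℂ) := by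
    have h := congrFun (classFunction_eq_sum (CfsgLib.Induction.isClassFunction_indFun N α)) 1
    simp only [Finset.sum_apply, Pi.smul_apply, smul_eq_mul, hA, hD] at h
    exact h
  have hrel : ∑ ψ, A ψ * D ψ = 0 := by
    rw [CfsgLib.Induction.indFun_one_apply, hα1, mul_zero] at hexp
    have : ((∑ ψ, A ψ * D ψ : ℤ) : ℂ) = ((0 : ℤ) : ℂ) := by push_cast; exact hexp.symm
    exact_mod_cast this
  -- splitting the sums
  set S := Finset.univ.filter fun ψ : IrrCharacter G => A ψ ≠ 0 ∧ ψ ∉ E ∧ ψ ≠ principalIrr G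
  have hf0E : f i0 ∈ E := hE i0
  have hsplit : ∀ F : IrrCharacter G → ℤ, (∀ ψ, A ψ = 0 → F ψ = 0) →
      ∑ ψ, F ψ = F (principalIrr G) + (F (f i0) + ∑ ψ ∈ E.erase (f i0), F ψ) + ∑ ψ ∈ S, F ψ := by
    intro F hF
    rw [Finset.add_sum_erase _ _ hf0E, ← Finset.sum_add_sum_compl E, ← Finset.add_sum_erase Eᶜ F
      (Finset.mem_compl.2 hprinE)]
    have : ∑ ψ ∈ Eᶜ.erase (principalIrr G), F ψ = ∑ ψ ∈ S, F ψ := by
      refine (Finset.sum_subset (fun ψ hψ => ?_) fun ψ hψ hψS => ?_).symm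
      · obtain ⟨-, -, h1, h2⟩ := Finset.mem_filter.1 hψ
        exact Finset.mem_erase.2 ⟨h2, Finset.mem_compl.2 h1⟩
      · obtain ⟨h1, h2⟩ := Finset.mem_erase.1 hψ
        refine hF ψ (by_contra fun h => hψS (Finset.mem_filter.2
          ⟨Finset.mem_univ _, h, Finset.mem_compl.1 h2, h1⟩))
    rw [this]; ring
  have hEerase : ∀ ψ ∈ E.erase (f i0), A ψ = a' ∧ D ψ = d0 := by
    intro ψ hψ
    obtain ⟨hne, hψE⟩ := Finset.mem_erase.1 hψ
    obtain ⟨χ, -, rfl⟩ := Finset.mem_image.1 hψE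
    exact ⟨hAshift _ (fun h => hne (congrArg f h)), hDconst _⟩
  have hEc : ((E.erase (f i0)).card : ℤ) = (t : ℤ) - 1 := by
    rw [Finset.card_erase_of_mem hf0E, hEcard]
    omega
  have hA0 : A (f i0) = a' - ε := by simp [a']
  refine ⟨ε, a', d0, S, A, D, hε, hDdvd _, hd01, ?_, fun ψ hψ => ?_, ?_, ?_, ?_, hD, hAone,
    fun ψ h0 h1 hS => ?_, fun ψ hψ => (Finset.mem_filter.1 hψ).2.2.2, hnorm,
    fun x => if h : x ∈ N then α ⟨x, h⟩ else 0, fun ψ => ?_⟩
  · have h := hmod (f i0)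
    rw [if_pos hf0E, if_pos rfl, hA0, mul_one] at h
    convert h using 1; ring
  · obtain ⟨-, h0, h1, h2⟩ := Finset.mem_filter.1 hψ
    refine ⟨hDdvd ψ, ?_, h0, ?_⟩
    · have := hD0 ψ
      by_contra hle
      exact h2 (hlin ψ (by omega))
    · have h := hmod ψ
      rw [if_neg h1, if_neg (fun e => h1 (by rw [← e]; exact hf0E)), mul_zero, add_zero, mul_zero, add_zero] at h
      exact h
  · have h := hsplit (fun ψ => A ψ * D ψ) (fun ψ h => by rw [h, zero_mul])
    rw [hrel, hA0, Finset.sum_congr rfl (g := fun _ => a' * (d0 : ℤ))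
      (fun ψ hψ => by rw [(hEerase ψ hψ).1, (hEerase ψ hψ).2]), Finset.sum_const, nsmul_eq_mul,
      hEc, hAone] at h
    have h1 : (D (principalIrr G) : ℂ) = 1 := by rw [← hD]; rfl
    have h1' : D (principalIrr G) = 1 := by exact_mod_cast h1
    rw [h1'] at h
    linear_combination -h
  · have h := hsplit (fun ψ => A ψ ^ 2) (fun ψ h => by rw [h]; norm_num)
    rw [hnorm, hA0, Finset.sum_congr rfl (g := fun _ => a' ^ 2)
      (fun ψ hψ => by rw [(hEerase ψ hψ).1]), Finset.sum_const, nsmul_eq_mul, hEc, hAone] at h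
    linear_combination -h
  · have h := sum_sq_degrees (G := G)
    have h' : ∑ ψ, D ψ ^ 2 = Nat.card G := by
      have : ((∑ ψ, D ψ ^ 2 : ℕ) : ℂ) = ((Nat.card G : ℕ) : ℂ) := by
        push_cast
        rw [← h]
        exact Finset.sum_congr rfl fun ψ _ => by rw [hD]
      exact_mod_cast this
    rw [← h']
    have hdisj : Disjoint (insert (principalIrr G) E) S := by
      rw [Finset.disjoint_left]
      intro ψ hψ hS
      obtain ⟨-, -, h1, h2⟩ := Finset.mem_filter.1 hS
      rcases Finset.mem_insert.1 hψ with e | e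
      · exact h2 e
      · exact h1 e
    refine le_trans (le_of_eq ?_) (Finset.sum_le_sum_of_subset (Finset.subset_univ
      (insert (principalIrr G) E ∪ S)))
    rw [Finset.sum_union hdisj, Finset.sum_insert hprinE,
      Finset.sum_congr (s₁ := E) rfl (g := fun _ => d0 ^ 2) (fun ψ hψ => by
        obtain ⟨χ, -, rfl⟩ := Finset.mem_image.1 hψ
        rw [hDconst]), Finset.sum_const, smul_eq_mul, hEcard]
    have h1 : (D (principalIrr G) : ℂ) = 1 := by rw [← hD]; rfl
    have h1' : D (principalIrr G) = 1 := by exact_mod_cast h1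
    rw [h1', one_pow]
  · have hψE : ψ ∈ E := by_contra fun hE' => hS (Finset.mem_filter.2 ⟨Finset.mem_univ _, h0, hE', h1⟩)
    obtain ⟨χ, -, rfl⟩ := Finset.mem_image.1 hψE
    exact hDconst _
  · have h := CfsgLib.Induction.classInner_indFun (H := N) α (hindcl ψ)
    rw [hA] at h
    have hN0 : (Nat.card ↥N : ℂ) ≠ 0 := Nat.cast_ne_zero.2 Nat.card_pos.ne'
    rw [h, classInner, ← mul_assoc, mul_inv_cancel₀ hN0, one_mul]
    rw [← Finset.sum_filter_of_ne (p := fun x : ↥N => (x : G) ∈ K ∧ (x : G) ≠ 1)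
      (s := (Finset.univ : Finset ↥N)) (fun x _ hx => ?_)]
    · refine (Finset.sum_bij (fun (x : ↥N) _ => (x : G)) (fun x hx => ?_) (by intro a _ b _ e; exact Subtype.ext e)
        (fun x hx => ?_) (fun x hx => ?_)).symm
      · exact Finset.mem_filter.2 ⟨Finset.mem_univ _, (Finset.mem_filter.1 hx).2⟩
      · exact ⟨⟨x, hKN (Finset.mem_filter.1 hx).2.1⟩,
          Finset.mem_filter.2 ⟨Finset.mem_univ _, (Finset.mem_filter.1 hx).2⟩, rfl⟩
      · show α x * _ = (if h : (x : G) ∈ N then α ⟨x, h⟩ else 0) * _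
        rw [dif_pos x.2, irr_apply_inv]
    · refine ⟨?_, fun e1 => hx ?_⟩
      · by_contra hxK
        exact hx (by rw [hsupp x (fun hh => hxK (Subgroup.mem_subgroupOf.1 hh)), zero_mul])
      · rw [show x = 1 from Subtype.ext e1, hα1, zero_mul]

/-- The degree equation for the principal block of a self-centralising subgroup of prime order. -/
theorem degree_relation (hperf : commutator G = ⊤) {p : ℕ} [hp : Fact p.Prime] {K : Subgroup G}
    (hK : Nat.card K = p)
    (hC : ∀ k ∈ K, k ≠ 1 → Subgroup.centralizer ({k} : Set G) ≤ K)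
    {e t : ℕ} (hN : Nat.card (Subgroup.normalizer (K : Set G)) = p * e) (hte : t * e = p - 1)
    (ht : 2 ≤ t) :
    ∃ (ε a' : ℤ) (d0 : ℕ) (S : Finset (IrrCharacter G)) (a : IrrCharacter G → ℤ)
      (d : IrrCharacter G → ℕ),
      (ε = 1 ∨ ε = -1) ∧ d0 ∣ Nat.card G ∧ 1 < d0 ∧ (d0 : ℤ) ≡ a' + e * ε [ZMOD p] ∧
      (∀ ψ ∈ S, d ψ ∣ Nat.card G ∧ 1 < d ψ ∧ a ψ ≠ 0 ∧ (d ψ : ℤ) ≡ a ψ [ZMOD p]) ∧
      1 + (t * a' - ε) * d0 + ∑ ψ ∈ S, a ψ * d ψ = 0 ∧
      ((t : ℤ) - 1) * a' ^ 2 + (a' - ε) ^ 2 + ∑ ψ ∈ S, a ψ ^ 2 = e ∧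
      1 + t * d0 ^ 2 + ∑ ψ ∈ S, d ψ ^ 2 ≤ Nat.card G := by
  classical
  obtain ⟨ε, a', d0, S, a, d, h1, h2, h3, h4, h5, h6, h7, h8, -⟩ :=
    degree_relation_full hperf hK hC hN hte ht
  exact ⟨ε, a', d0, S, a, d, h1, h2, h3, h4, h5, h6, h7, h8⟩

end CfsgLib.Small.PrimeExceptional
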