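import Cfsg.Agent.Lib.Small.CentralFive
import Cfsg.Agent.Lib.Small.PrimeExceptional

/-!
No simple group has order 4200, 4800, 5400, 5600 or 5880.
-/

set_option autoImplicit false
set_option maxHeartbeats 1000000

namespace CfsgLib.Small.Mid

open Subgroup MulAction CfsgLib.Small

variable {G : Type*} [Group G] [Finite G] [IsSimpleGroup G]

/-- If `|P| = p²` and `n_p ≢ 1 (mod p²)`, some element of order `p` has a centraliser with more
than one Sylow `p`-subgroup. -/
theorem sq_data (hG : ¬ IsMulCommutative G) {p m : ℕ} [hp : Fact p.Prime]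
    (hc : Nat.card G = p ^ 2 * m) (hm : ¬ p ∣ m) (hn : ¬ Nat.card (Sylow p G) ≡ 1 [MOD p ^ 2])
    (S : List ℕ)
    (hS : ∀ r ∈ m.divisors, (∃ f ∈ r.divisors, 1 < f ∧ f % p = 1) →
      2 * (p ^ 2 * m) ∣ (m / r).factorial → r ∈ S) :
    ∃ (a : G) (r : ℕ), orderOf a = p ∧ r ∈ S ∧ r * (centralizer ({a} : Set G)).index = m ∧
      Nat.card (centralizer ({a} : Set G)) = p ^ 2 * r ∧
      1 < Nat.card (Sylow p (centralizer ({a} : Set G))) := by
  obtain ⟨P, R, hne, hidx⟩ := exists_pair_of_not_modEq (k := 2) hn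
  have hPc : ∀ T : Sylow p G, Nat.card T = p ^ 2 := fun T => card_sylow_of_card_eq hc hm T
  set D := (P : Subgroup G) ⊓ (R : Subgroup G)
  obtain ⟨i, hi, hDi⟩ := (Nat.dvd_prime_pow hp.out).mp
    ((card_dvd_of_le (inf_le_left : D ≤ P)).trans (dvd_of_eq (hPc P)))
  have hi1 : i = 1 := by
    rcases (show i = 0 ∨ i = 1 ∨ i = 2 by omega) with rfl | rfl | rfl
    · exfalso
      have h1 := ((R : Subgroup G).subgroupOf (P : Subgroup G)).card_mul_index
      rw [hPc P, ← inf_subgroupOf_right, Nat.card_congr (subgroupOfEquivOfLe inf_le_right).toEquiv,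
        inf_comm, hDi, pow_zero, one_mul] at h1
      rw [inf_subgroupOf_left] at h1
      rw [h1] at hidx
      have := (Nat.pow_le_pow_iff_right hp.out.one_lt).mp hidx
      omega
    · rfl
    · exfalso
      have h1 : D = (P : Subgroup G) := eq_of_le_of_card_ge inf_le_left (by rw [hPc, hDi])
      exact hne (Sylow.ext (eq_of_le_of_card_ge (inf_eq_left.mp h1) (by rw [hPc, hPc])))
  obtain ⟨a', ha'⟩ := exists_prime_orderOf_dvd_card' p (G := D)
    (by rw [hDi, hi1, pow_one])
  have hao : orderOf (a' : G) = p := by rw [orderOf_coe]; exact ha'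
  have hle : ∀ T : Sylow p G, (a' : G) ∈ (T : Subgroup G) →
      (T : Subgroup G) ≤ centralizer ({(a' : G)} : Set G) := fun T haT b hb => by
    have hab : IsMulCommutative (T : Subgroup G) :=
      IsPGroup.isMulCommutative_of_card_eq_prime_sq (hPc T)
    exact mem_centralizer_singleton_iff.mpr
      (congrArg Subtype.val (hab.is_comm.comm (⟨b, hb⟩ : (T : Subgroup G)) ⟨a', haT⟩))
  have hPH := hle P (Subgroup.mem_inf.mp a'.2).1
  have hRH := hle R (Subgroup.mem_inf.mp a'.2).2
  set H := centralizer ({(a' : G)} : Set G)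
  have hn1 : 1 < Nat.card (Sylow p H) := Finite.one_lt_card_iff_nontrivial.mpr
    ⟨⟨P.subtype hPH, R.subtype hRH, fun e => hne (Sylow.subtype_injective e)⟩⟩
  obtain ⟨r, hr⟩ := (hPc P) ▸ card_dvd_of_le hPH
  have hmi := H.card_mul_index
  rw [hr, hc, mul_assoc] at hmi
  have hri : r * H.index = m := Nat.eq_of_mul_eq_mul_left (pow_pos hp.out.pos 2) hmi
  have hr0 : r ≠ 0 := fun e => by rw [e, mul_zero] at hr; exact Nat.card_pos.ne' hr
  have hm0 : m ≠ 0 := fun e => hm (e ▸ dvd_zero p)
  refine ⟨a', r, hao, hS r (Nat.mem_divisors.mpr ⟨⟨_, hri.symm⟩, hm0⟩) ?_ ?_, hri, hr, hn1⟩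
  · obtain ⟨T⟩ := (inferInstance : Nonempty (Sylow p H))
    refine ⟨_, Nat.mem_divisors.mpr ⟨?_, hr0⟩, hn1, ?_⟩
    · exact index_sylow_of_card_eq (k := 2) (m := r) hr
        (fun hpr => hm (hpr.trans ⟨_, hri.symm⟩)) T ▸ T.card_dvd_index
    · have h1 := card_sylow_modEq_one p H
      rw [Nat.ModEq, Nat.mod_eq_of_lt hp.out.one_lt] at h1
      exact h1
  · rw [← hri, Nat.mul_div_cancel_left _ (Nat.pos_of_ne_zero hr0)]
    have h1 := two_mul_card_dvd_factorial_index hG (H := H) (Residual.centralizer_ne_top hG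
      fun e => by rw [e, orderOf_one] at hao; exact hp.out.ne_one hao.symm)
    rwa [hc, ← hri] at h1

omit [IsSimpleGroup G] in
/-- A group of order twice an odd number `p² s` has one Sylow `p`-subgroup if `s` allows no more. -/
theorem not_twice_odd {p s : ℕ} [hp : Fact p.Prime] (hp2 : p ≠ 2) {H : Subgroup G}
    (hH : Nat.card H = p ^ 2 * (2 * s)) (hs : ¬ 2 ∣ s) (hps : ¬ p ∣ s)
    (hf : ∀ f ∈ s.divisors, f % p = 1 → f = 1) (hn : 1 < Nat.card (Sylow p H)) : False := by
  obtain ⟨K, hK, hle⟩ := exists_odd_half (H := H) (q := p) hp2 (m := p ^ 2 * s) (fun h2 => by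
    rcases Nat.prime_two.dvd_mul.mp h2 with h3 | h3
    · exact hp2 ((Nat.prime_dvd_prime_iff_eq Nat.prime_two hp.out).mp
        (Nat.prime_two.dvd_of_dvd_pow h3)).symm
    · exact hs h3) (by rw [hH]; ring)
  obtain ⟨T⟩ := (inferInstance : Nonempty (Sylow p K))
  have h1 := card_sylow_modEq_one p K
  rw [Nat.ModEq, Nat.mod_eq_of_lt hp.out.one_lt] at h1
  have h2 : Nat.card (Sylow p K) = 1 := hf _ (Nat.mem_divisors.mpr
    ⟨index_sylow_of_card_eq hK hps T ▸ T.card_dvd_index, fun e => hs (e ▸ dvd_zero 2)⟩) h1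
  omega

/-- No simple group has order `4200`. -/
theorem card_ne_4200 (h : Nat.card G = 4200) : False := by
  have : Fact (Nat.Prime 5) := ⟨by norm_num⟩
  have : Fact (Nat.Prime 7) := ⟨by norm_num⟩
  have : Fact (Nat.Prime 2) := ⟨Nat.prime_two⟩
  have hG : ¬ IsMulCommutative G := nc_of_not_prime (by rw [h]; norm_num)
  have hm := card_sylow_mem (p := 5) hG (k := 2) (m := 168) (by norm_num) (by rw [h]; norm_num)
    (by norm_num)
  rw [show ((Nat.divisors 168).filter fun n => n % 5 = 1 ∧ 1 < n) = {6, 21, 56} from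
    by decide +kernel] at hm
  simp only [Finset.mem_insert, Finset.mem_singleton] at hm
  obtain ⟨a, r, hao, hr, hri, hC, hn⟩ := sq_data (p := 5) (m := 168) hG (by rw [h]; norm_num)
    (by norm_num) (by rcases hm with e | e | e <;> rw [e] <;> decide) [6, 12] (by decide +kernel)
  simp only [List.mem_cons, List.not_mem_nil, or_false] at hr
  rcases hr with rfl | rfl
  · exact not_twice_odd (p := 5) (s := 3) (by norm_num) hC (by norm_num) (by norm_num)
      (by decide +kernel) hn
  obtain ⟨P⟩ := (inferInstance : Nonempty (Sylow 7 G))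
  obtain ⟨hP, c, e, hmem, -, hcc, -, hall⟩ := once_data (p := 7) (m := 600) hG (by norm_num)
    (by rw [h]) (by norm_num) [(50, 2), (50, 3), (50, 6)] (by decide +kernel) P
  simp only [List.mem_cons, List.not_mem_nil, or_false, Prod.mk.injEq] at hmem
  have hc2 : 2 ∣ c := by
    rcases hmem with ⟨hn', rfl⟩ | ⟨hn', rfl⟩ | ⟨hn', rfl⟩ <;> rw [hn'] at hall <;> omega
  obtain ⟨v, hv⟩ := exists_prime_orderOf_dvd_card' 2
    (G := centralizer ((P : Subgroup G) : Set G)) (by rw [hcc]; exact hc2.mul_left 7)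
  obtain ⟨y, hy⟩ := exists_prime_orderOf_dvd_card' 7 (G := (P : Subgroup G)) (dvd_of_eq hP.symm)
  exact not_commute_involution hG (p := 7) (by norm_num) (y := (y : G)) (u := (v : G))
    (by rw [orderOf_coe]; exact hy) (by rw [orderOf_coe]; exact hv)
    (mem_centralizer_iff.mp v.2 y y.2) (H := centralizer ({a} : Set G))
    (by rw [hC]; norm_num) (by omega)

/-- No simple group has order `5400`. -/
theorem card_ne_5400 (h : Nat.card G = 5400) : False := by
  have : Fact (Nat.Prime 5) := ⟨by norm_num⟩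
  have hG : ¬ IsMulCommutative G := nc_of_not_prime (by rw [h]; norm_num)
  have hm := card_sylow_mem (p := 5) hG (k := 2) (m := 216) (by norm_num) (by rw [h]; norm_num)
    (by norm_num)
  rw [show ((Nat.divisors 216).filter fun n => n % 5 = 1 ∧ 1 < n) = {6, 36, 216} from
    by decide +kernel] at hm
  simp only [Finset.mem_insert, Finset.mem_singleton] at hm
  obtain ⟨P⟩ := (inferInstance : Nonempty (Sylow 5 G))
  have h216 : Nat.card (Sylow 5 G) ≠ 216 := by
    intro e
    have hN := card_normalizer_eq e P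
    rw [h] at hN
    have hP : Nat.card P = 25 :=
      card_sylow_of_card_eq (k := 2) (m := 216) (by rw [h]; norm_num) (by norm_num) P
    have hab : IsMulCommutative (P : Subgroup G) :=
      IsPGroup.isMulCommutative_of_card_eq_prime_sq (p := 5) (by rw [hP]; norm_num)
    have heq := eq_of_le_of_card_ge (le_normalizer : (P : Subgroup G) ≤
      normalizer ((P : Subgroup G) : Set G)) (by rw [hP]; omega)
    refine not_normalizer_le_centralizer hG (p := 5) (by rw [h]; norm_num) P ?_
    rw [← heq]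
    exact fun b hb => mem_centralizer_iff.mpr fun c hc =>
      congrArg Subtype.val (hab.is_comm.comm (⟨c, hc⟩ : (P : Subgroup G)) ⟨b, hb⟩)
  obtain ⟨a, r, hao, hr, hri, hC, hn⟩ := sq_data (p := 5) (m := 216) hG (by rw [h]; norm_num)
    (by norm_num) (by rcases hm with e | e | e <;> first | exact absurd e h216 | (rw [e]; decide))
    [6, 12, 18] (by decide +kernel)
  simp only [List.mem_cons, List.not_mem_nil, or_false] at hr
  rcases hr with rfl | rfl | rfl
  · exact not_twice_odd (p := 5) (s := 3) (by norm_num) hC (by norm_num) (by norm_num)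
      (by decide +kernel) hn
  · refine CentralFive.false_of_central hG hao (by rw [hC]; norm_num) hn (fun H hH hle => ?_)
      (Or.inr (by omega))
    have hd := two_mul_card_dvd_factorial_index hG hH
    rw [h] at hd
    have hdvd := index_dvd_of_le hle
    rw [show (centralizer ({a} : Set G)).index = 18 by omega] at hdvd
    have h18 : H.index = 18 :=
      (show ∀ d ∈ Nat.divisors 18, 2 * 5400 ∣ d.factorial → d = 18 by decide +kernel) _
        (Nat.mem_divisors.mpr ⟨hdvd, by norm_num⟩) hd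
    have h1 := H.card_mul_index
    rw [h18, h] at h1
    exact (eq_of_le_of_card_ge hle (by rw [hC]; omega)).symm
  · exact not_twice_odd (p := 5) (s := 9) (by norm_num) hC (by norm_num) (by norm_num)
      (by decide +kernel) hn

/-- No simple group has order `5600`. -/
theorem card_ne_5600 (h : Nat.card G = 5600) : False := by
  classical
  have : Fact (Nat.Prime 5) := ⟨by norm_num⟩
  have : Fact (Nat.Prime 7) := ⟨by norm_num⟩
  have : Fact (Nat.Prime 2) := ⟨Nat.prime_two⟩
  have := Fintype.ofFinite G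
  have hG : ¬ IsMulCommutative G := nc_of_not_prime (by rw [h]; norm_num)
  have hm := card_sylow_mem (p := 5) hG (k := 2) (m := 224) (by norm_num) (by rw [h]; norm_num)
    (by norm_num)
  rw [show ((Nat.divisors 224).filter fun n => n % 5 = 1 ∧ 1 < n) = {16, 56} from
    by decide +kernel] at hm
  simp only [Finset.mem_insert, Finset.mem_singleton] at hm
  obtain ⟨a, r, hao, hr, hri, hC, hn⟩ := sq_data (p := 5) (m := 224) hG (by rw [h]; norm_num)
    (by norm_num) (by rcases hm with e | e <;> rw [e] <;> decide) [16] (by decide +kernel)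
  simp only [List.mem_singleton] at hr
  subst hr
  obtain ⟨P⟩ := (inferInstance : Nonempty (Sylow 7 G))
  obtain ⟨hP, c, e, hmem, -, hcc, hN, hall⟩ := once_data (p := 7) (m := 800) hG (by norm_num)
    (by rw [h]) (by norm_num) [(50, 2), (400, 2)] (by decide +kernel) P
  simp only [List.mem_cons, List.not_mem_nil, or_false, Prod.mk.injEq] at hmem
  rcases hmem with ⟨hn', rfl⟩ | ⟨hn', rfl⟩ <;> rw [hn'] at hall
  · obtain rfl : c = 8 := by omega
    obtain ⟨v, hv⟩ := exists_prime_orderOf_dvd_card' 2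
      (G := centralizer ((P : Subgroup G) : Set G)) (by rw [hcc]; norm_num)
    obtain ⟨y, hy⟩ := exists_prime_orderOf_dvd_card' 7 (G := (P : Subgroup G)) (dvd_of_eq hP.symm)
    exact not_commute_involution hG (p := 7) (by norm_num) (y := (y : G)) (u := (v : G))
      (by rw [orderOf_coe]; exact hy) (by rw [orderOf_coe]; exact hv)
      (mem_centralizer_iff.mp v.2 y y.2) (H := centralizer ({a} : Set G))
      (by rw [hC]; norm_num) (by omega)
  obtain rfl : c = 1 := by omega
  have hCK : centralizer ((P : Subgroup G) : Set G) = (P : Subgroup G) := by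
    refine (eq_of_le_of_card_ge (fun x hx => mem_centralizer_iff.mpr fun y hy => ?_)
      (by rw [hcc, hP])).symm
    have hcyc : IsCyclic (P : Subgroup G) := isCyclic_of_prime_card hP
    let _ := IsCyclic.commGroup (α := (P : Subgroup G))
    exact congrArg Subtype.val (mul_comm (⟨y, hy⟩ : (P : Subgroup G)) ⟨x, hx⟩)
  have hCle : ∀ k ∈ (P : Subgroup G), k ≠ 1 → centralizer ({k} : Set G) ≤ (P : Subgroup G) :=
    fun k hk hk1 => by
      rw [← Order504.centralizer_eq_of_zpowers (eq_zpowers_of_mem hP hk hk1), hCK]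
  obtain ⟨ε, a', d0, S, b, d, hε, hd0, hd01, hd0m, hS, hrel, hnorm, hsq⟩ :=
    PrimeExceptional.degree_relation (commutator_eq_top hG) hP hCle (e := 2) (t := 3)
      (by rw [hN]) (by norm_num) (by norm_num)
  rw [h] at hd0 hsq
  push_cast at hrel hnorm hd0m
  have hε2 : ε ^ 2 = 1 := by rcases hε with rfl | rfl <;> norm_num
  have hS0 : 0 ≤ ∑ ψ ∈ S, b ψ ^ 2 := Finset.sum_nonneg fun ψ _ => sq_nonneg _
  have ha' : a' = 0 := by
    by_contra h0
    have h1 : a' ^ 2 ≤ 1 := by nlinarith [sq_nonneg (a' - ε)]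
    have h2 : a' = 1 ∨ a' = -1 := by
      have h1a : a' ≤ 1 := by nlinarith
      have h1b : -1 ≤ a' := by nlinarith
      omega
    have h3 : a' = ε ∧ ∑ ψ ∈ S, b ψ ^ 2 = 0 := by
      rcases hε with rfl | rfl <;> rcases h2 with rfl | rfl <;> constructor <;> linarith
    have hemp : ∑ ψ ∈ S, b ψ * d ψ = 0 := Finset.sum_eq_zero fun ψ hψ => by
      have := (Finset.sum_eq_zero_iff_of_nonneg fun x _ => sq_nonneg (b x)).mp h3.2 ψ hψ
      exact absurd (sq_eq_zero_iff.mp this) (hS ψ hψ).2.2.1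
    rw [hemp, h3.1] at hrel
    rcases hε with rfl | rfl <;> omega
  subst ha'
  have hnorm' : ∑ ψ ∈ S, b ψ ^ 2 = 1 := by linear_combination hnorm - hε2
  have hb : ∀ ψ ∈ S, b ψ = 1 ∨ b ψ = -1 := fun ψ hψ => by
    have hle := Finset.single_le_sum (fun x _ => sq_nonneg (b x)) hψ
    rw [hnorm'] at hle
    have h1 : b ψ ≤ 1 := by nlinarith
    have h2 : -1 ≤ b ψ := by nlinarith
    have h3 := (hS ψ hψ).2.2.1
    omega
  have hcard : S.card = 1 := by
    rw [Finset.sum_congr rfl (g := fun _ => (1 : ℤ))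
      (fun ψ hψ => by rcases hb ψ hψ with e | e <;> rw [e] <;> norm_num),
      Finset.sum_const, nsmul_one] at hnorm'
    exact_mod_cast hnorm'
  obtain ⟨ψ, rfl⟩ := Finset.card_eq_one.mp hcard
  rw [Finset.sum_singleton] at hrel hsq
  obtain ⟨hdd, hd1, -, hmod⟩ := hS ψ (Finset.mem_singleton_self ψ)
  rw [h] at hdd
  have hd0le : d0 ≤ 43 := by nlinarith
  have hdle : d ψ ≤ 74 := by nlinarith
  have hkey := (show ∀ x ∈ (Nat.divisors 5600).filter (fun x => 1 < x ∧ x ≤ 43 ∧
      (x % 7 = 2 ∨ x % 7 = 5)), ∀ y ∈ (Nat.divisors 5600).filter (fun y => 1 < y ∧ y ≤ 74 ∧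
      (y % 7 = 1 ∨ y % 7 = 6)), x + 1 ≠ y ∧ y + 1 ≠ x by decide +kernel)
  rw [Int.ModEq] at hmod hd0m
  obtain ⟨hk1, hk2⟩ := hkey d0 (Finset.mem_filter.mpr ⟨Nat.mem_divisors.mpr ⟨hd0, by norm_num⟩,
      hd01, hd0le, by rcases hε with rfl | rfl <;> omega⟩) (d ψ)
    (Finset.mem_filter.mpr ⟨Nat.mem_divisors.mpr ⟨hdd, by norm_num⟩, hd1, hdle, by
      rcases hb ψ (Finset.mem_singleton_self ψ) with e | e <;> rw [e] at hmod <;> omega⟩)
  rcases hε with rfl | rfl <;>
    rcases hb ψ (Finset.mem_singleton_self ψ) with e | e <;> rw [e] at hrel <;> omega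

omit [IsSimpleGroup G] in
/-- An abelian Sylow subgroup equal to its normaliser has a normal complement. -/
theorem exists_complement {H : Subgroup G} {p k m : ℕ} [Fact p.Prime] (hk : k = 2)
    (hH : Nat.card H = p ^ k * m) (hm : ¬ p ∣ m) (hn : Nat.card (Sylow p H) = m) :
    ∃ M : Subgroup G, M ≤ H ∧ Nat.card M = m ∧ H ≤ normalizer (M : Set G) := by
  subst hk
  obtain ⟨T⟩ := (inferInstance : Nonempty (Sylow p H))
  have hT : Nat.card T = p ^ 2 := card_sylow_of_card_eq hH hm T
  have hN := card_normalizer_mul_card_sylow T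
  rw [hn, hH] at hN
  have hm0 : 0 < m := Nat.pos_of_ne_zero fun e => hm (e ▸ dvd_zero p)
  have heq := eq_of_le_of_card_ge
    (le_normalizer : (T : Subgroup H) ≤ normalizer ((T : Subgroup H) : Set H))
    (by rw [hT]; exact (Nat.eq_of_mul_eq_mul_right hm0 hN).le)
  have hab : IsMulCommutative (T : Subgroup H) := IsPGroup.isMulCommutative_of_card_eq_prime_sq hT
  have hle : normalizer ((T : Subgroup H) : Set H) ≤ centralizer ((T : Subgroup H) : Set H) := by
    rw [← heq]
    exact fun b hb => mem_centralizer_iff.mpr fun c hc =>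
      congrArg Subtype.val (hab.is_comm.comm (⟨c, hc⟩ : (T : Subgroup H)) ⟨b, hb⟩)
  obtain ⟨L, hn', hc⟩ : ∃ L : Subgroup H, L.Normal ∧ L.IsComplement' (T : Subgroup H) :=
    ⟨_, MonoidHom.normal_ker _, MonoidHom.ker_transferSylow_isComplement' T hle⟩
  refine ⟨L.map H.subtype, map_subtype_le _, ?_, ?_⟩
  · rw [card_map_of_injective H.subtype_injective]
    have := hc.card_mul_card
    rw [hT, hH, mul_comm] at this
    exact Nat.eq_of_mul_eq_mul_left (pow_pos (Fact.out : p.Prime).pos 2) this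
  · intro g hg
    rw [mem_normalizer_iff]
    intro b
    constructor
    · rintro ⟨l, hl, rfl⟩
      exact ⟨⟨g, hg⟩ * l * ⟨g, hg⟩⁻¹, hn'.conj_mem l hl _, rfl⟩
    · rintro ⟨l, hl, hlb⟩
      refine ⟨(⟨g, hg⟩ : H)⁻¹ * l * ⟨g, hg⟩, ?_, ?_⟩
      · have := hn'.conj_mem l hl (⟨g, hg⟩ : H)⁻¹
        rwa [inv_inv] at this
      · show g⁻¹ * (l : G) * g = b
        rw [show (l : G) = g * b * g⁻¹ from hlb]; group

/-- No simple group has order `4800`. -/
theorem card_ne_4800 (h : Nat.card G = 4800) : False := by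
  have : Fact (Nat.Prime 5) := ⟨by norm_num⟩
  have : Fact (Nat.Prime 2) := ⟨Nat.prime_two⟩
  have hG : ¬ IsMulCommutative G := nc_of_not_prime (by rw [h]; norm_num)
  have hm := card_sylow_mem (p := 5) hG (k := 2) (m := 192) (by norm_num) (by rw [h]; norm_num)
    (by norm_num)
  rw [show ((Nat.divisors 192).filter fun n => n % 5 = 1 ∧ 1 < n) = {6, 16, 96} from
    by decide +kernel] at hm
  simp only [Finset.mem_insert, Finset.mem_singleton] at hm
  obtain ⟨a, r, hao, hr, hri, hC, hn⟩ := sq_data (p := 5) (m := 192) hG (by rw [h]; norm_num)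
    (by norm_num) (by rcases hm with e | e | e <;> rw [e] <;> decide) [6, 12, 16]
    (by decide +kernel)
  simp only [List.mem_cons, List.not_mem_nil, or_false] at hr
  rcases hr with rfl | rfl | rfl
  · exact not_twice_odd (p := 5) (s := 3) (by norm_num) hC (by norm_num) (by norm_num)
      (by decide +kernel) hn
  · refine CentralFive.false_of_central hG hao (by rw [hC]; norm_num) hn (fun H hH hle => ?_)
      (Or.inl (by omega))
    have hd := two_mul_card_dvd_factorial_index hG hH
    rw [h] at hd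
    have hdvd := index_dvd_of_le hle
    rw [show (centralizer ({a} : Set G)).index = 16 by omega] at hdvd
    have h16 : H.index = 16 :=
      (show ∀ d ∈ Nat.divisors 16, 2 * 4800 ∣ d.factorial → d = 16 by decide +kernel) _
        (Nat.mem_divisors.mpr ⟨hdvd, by norm_num⟩) hd
    have h1 := H.card_mul_index
    rw [h16, h] at h1
    exact (eq_of_le_of_card_ge hle (by rw [hC]; omega)).symm
  set K := centralizer ({a} : Set G)
  obtain ⟨T₀⟩ := (inferInstance : Nonempty (Sylow 5 K))
  have h1 := card_sylow_modEq_one 5 K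
  rw [Nat.ModEq] at h1
  have hn16 : Nat.card (Sylow 5 K) = 16 :=
    (show ∀ f ∈ Nat.divisors 16, f % 5 = 1 % 5 → 1 < f → f = 16 by decide +kernel) _
      (Nat.mem_divisors.mpr
        ⟨index_sylow_of_card_eq hC (by norm_num) T₀ ▸ T₀.card_dvd_index, by norm_num⟩) h1 hn
  obtain ⟨M, hMK, hM, hKM⟩ := exists_complement (p := 5) rfl hC (by norm_num) hn16
  obtain ⟨S, hS⟩ := (IsPGroup.of_card (p := 2) (n := 4) (by rw [hM]; norm_num) :
    IsPGroup 2 M).exists_le_sylow
  have hS64 : Nat.card S = 64 :=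
    card_sylow_of_card_eq (k := 6) (m := 75) (by rw [h]; norm_num) (by norm_num) S
  have hlt := lt_inf_normalizer (P := S) (D := M) (hS.lt_of_ne fun e => by
    rw [e, hS64] at hM; norm_num at hM)
  set B := (S : Subgroup G) ⊓ normalizer (M : Set G)
  obtain ⟨i, -, hi⟩ := (Nat.dvd_prime_pow Nat.prime_two).mp
    ((card_dvd_of_le (inf_le_left : B ≤ S)).trans (dvd_of_eq (hS64.trans (by norm_num :
      (64 : ℕ) = 2 ^ 6))))
  have hi5 : 5 ≤ i := by
    by_contra hlt5
    refine hlt.ne (eq_of_le_of_card_ge hlt.le ?_)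
    rw [hM, hi]
    exact (Nat.pow_le_pow_right two_pos (show i ≤ 4 by omega)).trans (by norm_num)
  have h32 : 32 ∣ Nat.card (normalizer (M : Set G)) :=
    ((pow_dvd_pow 2 hi5).trans (dvd_of_eq hi.symm)).trans (card_dvd_of_le inf_le_right)
  have h25 : 25 ∣ Nat.card (normalizer (M : Set G)) :=
    (Dvd.intro 16 hC.symm).trans (card_dvd_of_le hKM)
  obtain ⟨q, hq⟩ := Nat.Coprime.mul_dvd_of_dvd_of_dvd (show Nat.Coprime 32 25 by norm_num) h32 h25
  have hne : normalizer (M : Set G) ≠ ⊤ := normalizer_ne_top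
    (fun e => by rw [e, card_bot] at hM; norm_num at hM)
    (fun e => by rw [e, card_top, h] at hM; norm_num at hM)
  have hd := two_mul_card_dvd_factorial_index hG hne
  have hmi := (normalizer (M : Set G)).card_mul_index
  rw [hq, h] at hmi
  rw [h] at hd
  have h6 : (normalizer (M : Set G)).index ∈ Nat.divisors 6 := Nat.mem_divisors.mpr ⟨⟨q, by
    have : 32 * 25 * q * (normalizer (M : Set G)).index =
      800 * ((normalizer (M : Set G)).index * q) := by ring
    omega⟩, by norm_num⟩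
  exact (show ∀ d ∈ Nat.divisors 6, ¬ 2 * 4800 ∣ d.factorial by decide +kernel) _ h6 hd

omit [Finite G] [IsSimpleGroup G] in
/-- For a subgroup `A` normalised by a `p`-group `T`, `|A| ≡ |C_A(T)|` modulo `p`. -/
theorem card_modEq_inf_centralizer [Finite G] {p : ℕ} [Fact p.Prime] {T A : Subgroup G}
    (hT : IsPGroup p T) (hA : ∀ t ∈ T, ∀ x ∈ A, t * x * t⁻¹ ∈ A) :
    Nat.card A ≡ Nat.card (A ⊓ centralizer (T : Set G) : Subgroup G) [MOD p] := by
  let act : MulAction T A :=
    { smul := fun t x => ⟨(t : G) * x * (t : G)⁻¹, hA t t.2 x x.2⟩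
      one_smul := fun x => Subtype.ext (show (1 : G) * x * 1⁻¹ = x by simp)
      mul_smul := fun s t x => Subtype.ext
        (show ((s : G) * t) * x * ((s : G) * t)⁻¹ = s * (t * x * (t : G)⁻¹) * (s : G)⁻¹ by group) }
  refine (hT.card_modEq_card_fixedPoints A).trans (congrArg (· % p) (Nat.card_congr
    ⟨fun x => ⟨x.1.1, Subgroup.mem_inf.mpr ⟨x.1.2, mem_centralizer_iff.mpr fun t ht => ?_⟩⟩,
      fun x => ⟨⟨x.1, (Subgroup.mem_inf.mp x.2).1⟩, fun t => Subtype.ext ?_⟩,
      fun _ => rfl, fun _ => rfl⟩))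
  · have h1 : t * x.1.1 * t⁻¹ = x.1.1 := congrArg Subtype.val (x.2 ⟨t, ht⟩)
    exact mul_inv_eq_iff_eq_mul.mp h1
  · show (t : G) * x.1 * (t : G)⁻¹ = x.1
    exact mul_inv_eq_iff_eq_mul.mpr (mem_centralizer_iff.mp (Subgroup.mem_inf.mp x.2).2 t t.2)

/-- No simple group has order `5880`. -/
theorem card_ne_5880 (h : Nat.card G = 5880) : False := by
  have : Fact (Nat.Prime 7) := ⟨by norm_num⟩
  have : Fact (Nat.Prime 2) := ⟨Nat.prime_two⟩
  have hG : ¬ IsMulCommutative G := nc_of_not_prime (by rw [h]; norm_num)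
  have hP49 : ∀ P : Sylow 7 G, Nat.card P = 49 := fun P =>
    card_sylow_of_card_eq (k := 2) (m := 120) (by rw [h]; norm_num) (by norm_num) P
  have hm := card_sylow_mem (p := 7) hG (k := 2) (m := 120) (by norm_num) (by rw [h]; norm_num)
    (by norm_num)
  rw [show ((Nat.divisors 120).filter fun n => n % 7 = 1 ∧ 1 < n) = {8, 15, 120} from
    by decide +kernel] at hm
  simp only [Finset.mem_insert, Finset.mem_singleton] at hm
  obtain ⟨P⟩ := (inferInstance : Nonempty (Sylow 7 G))
  have h120 : Nat.card (Sylow 7 G) ≠ 120 := by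
    intro e
    have hN := card_normalizer_eq e P
    rw [h] at hN
    have hab : IsMulCommutative (P : Subgroup G) :=
      IsPGroup.isMulCommutative_of_card_eq_prime_sq (p := 7) (by rw [hP49]; norm_num)
    have heq := eq_of_le_of_card_ge (le_normalizer : (P : Subgroup G) ≤
      normalizer ((P : Subgroup G) : Set G)) (by rw [hP49]; omega)
    refine not_normalizer_le_centralizer hG (p := 7) (by rw [h]; norm_num) P ?_
    rw [← heq]
    exact fun b hb => mem_centralizer_iff.mpr fun c hc =>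
      congrArg Subtype.val (hab.is_comm.comm (⟨c, hc⟩ : (P : Subgroup G)) ⟨b, hb⟩)
  obtain ⟨a, r, hao, hr, hri, hC, hn⟩ := sq_data (p := 7) (m := 120) hG (by rw [h]; norm_num)
    (by norm_num) (by rcases hm with e | e | e <;> first | exact absurd e h120 | (rw [e]; decide))
    [8] (by decide +kernel)
  simp only [List.mem_singleton] at hr
  subst hr
  set K := centralizer ({a} : Set G) with hKdef
  have hK392 : Nat.card K = 392 := by rw [hC]; norm_num
  have ha1 : a ≠ 1 := fun e => by rw [e, orderOf_one] at hao; norm_num at hao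
  have hfac : ∀ H : Subgroup G, H ≠ ⊤ → H.index ≥ 14 := by
    intro H hH
    have hd := two_mul_card_dvd_factorial_index hG hH
    rw [h] at hd
    by_contra hlt
    exact (show ∀ k < 14, ¬ 2 * 5880 ∣ Nat.factorial k by decide +kernel) _ (by omega) hd
  have hmax : ∀ H : Subgroup G, H ≠ ⊤ → K ≤ H → H = K := by
    intro H hH hle
    have h14 := hfac H hH
    have hdvd := index_dvd_of_le hle
    rw [show K.index = 15 by omega] at hdvd
    have h15 := (show ∀ d ∈ Nat.divisors 15, 14 ≤ d → d = 15 by decide) _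
      (Nat.mem_divisors.mpr ⟨hdvd, by norm_num⟩) h14
    have h1 := H.card_mul_index
    rw [h15, h] at h1
    exact (eq_of_le_of_card_ge hle (by rw [hK392]; omega)).symm
  have hn8 : Nat.card (Sylow 7 K) = 8 := by
    obtain ⟨T₀⟩ := (inferInstance : Nonempty (Sylow 7 K))
    have h1 := card_sylow_modEq_one 7 K
    rw [Nat.ModEq] at h1
    exact (show ∀ f ∈ Nat.divisors 8, f % 7 = 1 % 7 → 1 < f → f = 8 by decide +kernel) _
      (Nat.mem_divisors.mpr
        ⟨index_sylow_of_card_eq hC (by norm_num) T₀ ▸ T₀.card_dvd_index, by norm_num⟩) h1 hn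
  obtain ⟨M, hMK, hM, hKM⟩ := exists_complement (p := 7) rfl hC (by norm_num) hn8
  -- no Sylow 7-subgroup of `K` centralises part of `M`
  have hTM : ∀ T : Subgroup G, T ≤ K → Nat.card T = 49 → ∀ x ∈ M,
      x ∈ centralizer (T : Set G) → x = 1 := by
    intro T hT hT49 x hx hxT
    by_contra hx1
    have hTp : IsPGroup 7 T := IsPGroup.of_card (n := 2) (by rw [hT49]; norm_num)
    have hcong := card_modEq_inf_centralizer hTp (A := M)
      fun t ht y hy => (mem_normalizer_iff.mp (hKM (hT ht)) y).mp hy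
    set B := M ⊓ centralizer (T : Set G)
    have hB := card_dvd_of_le (inf_le_left : B ≤ M)
    rw [hM] at hB
    rw [hM, Nat.ModEq] at hcong
    have hB1 : 1 < Nat.card B := (Subgroup.one_lt_card_iff_ne_bot _).mpr fun e =>
      hx1 (mem_bot.mp (e ▸ Subgroup.mem_inf.mpr ⟨hx, hxT⟩))
    have hB8 := (show ∀ f ∈ Nat.divisors 8, 8 % 7 = f % 7 → 1 < f → f = 8 by decide +kernel) _
      (Nat.mem_divisors.mpr ⟨hB, by norm_num⟩) hcong hB1
    have hMC : M ≤ centralizer (T : Set G) := by
      rw [← eq_of_le_of_card_ge (inf_le_left : B ≤ M) (by rw [hB8, hM])]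
      exact inf_le_right
    obtain ⟨S, hS⟩ := hTp.exists_le_sylow
    have hTS : T = (S : Subgroup G) := eq_of_le_of_card_ge hS (by rw [hP49, hT49])
    have h8 : 8 ∣ Nat.card (normalizer (T : Set G) ⊓ K : Subgroup G) :=
      hM ▸ card_dvd_of_le (le_inf (hMC.trans (centralizer_le_normalizer' _)) hMK)
    have hcount := Residual.card_eq_sylow_mul S (hTS ▸ hT)
    rw [hn8, ← hTS, hK392] at hcount
    omega
  -- `M` is abelian
  have hMab : ∀ x ∈ M, M ≤ centralizer ({x} : Set G) := by
    obtain ⟨T₀⟩ := (inferInstance : Nonempty (Sylow 7 K))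
    set T := (T₀ : Subgroup K).map K.subtype
    have hTK : T ≤ K := map_subtype_le _
    have hT49 : Nat.card T = 49 := by
      rw [card_map_of_injective K.subtype_injective]
      exact card_sylow_of_card_eq hC (by norm_num) T₀
    set Z := (center M).map M.subtype
    have hinv : ∀ t ∈ T, ∀ x ∈ Z, t * x * t⁻¹ ∈ Z := by
      rintro t ht _ ⟨z, hz, rfl⟩
      have hn := mem_normalizer_iff.mp (hKM (hTK ht))
      refine ⟨⟨t * z * t⁻¹, (hn _).mp z.2⟩, mem_center_iff.mpr fun g => Subtype.ext ?_, rfl⟩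
      have hg : t⁻¹ * (g : G) * t ∈ M := (hn _).mpr (by
        rw [show t * (t⁻¹ * (g : G) * t) * t⁻¹ = g by group]; exact g.2)
      have hcm : t⁻¹ * (g : G) * t * z = z * (t⁻¹ * g * t) :=
        congrArg Subtype.val (mem_center_iff.mp hz ⟨_, hg⟩)
      show (g : G) * (t * z * t⁻¹) = t * z * t⁻¹ * g
      calc (g : G) * (t * z * t⁻¹) = t * (t⁻¹ * g * t * z) * t⁻¹ := by group
        _ = t * (z * (t⁻¹ * g * t)) * t⁻¹ := by rw [hcm]
        _ = t * z * t⁻¹ * g := by group
    have hZM : Z ≤ M := map_subtype_le _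
    have hcong := card_modEq_inf_centralizer (p := 7)
      (IsPGroup.of_card (n := 2) (by rw [hT49]; norm_num)) hinv
    have hbot : Z ⊓ centralizer (T : Set G) = ⊥ := (eq_bot_iff_forall _).mpr fun x hx =>
      hTM T hTK hT49 x (hZM (Subgroup.mem_inf.mp hx).1) (Subgroup.mem_inf.mp hx).2
    rw [hbot, card_bot, Nat.ModEq] at hcong
    have hnt : Nontrivial M := Finite.one_lt_card_iff_nontrivial.mp (by rw [hM]; norm_num)
    have hMp : IsPGroup 2 M := IsPGroup.of_card (n := 3) (by rw [hM]; norm_num)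
    have hZ1 : 1 < Nat.card Z := by
      rw [card_map_of_injective M.subtype_injective]
      exact Finite.one_lt_card_iff_nontrivial.mpr hMp.center_nontrivial
    have hZd := card_dvd_of_le hZM
    rw [hM] at hZd
    have hZ8 := (show ∀ f ∈ Nat.divisors 8, f % 7 = 1 % 7 → 1 < f → f = 8 by decide +kernel) _
      (Nat.mem_divisors.mpr ⟨hZd, by norm_num⟩) hcong hZ1
    have hZM' : Z = M := eq_of_le_of_card_ge hZM (by rw [hM, hZ8])
    intro x hx y hy
    obtain ⟨z, hz, rfl⟩ := (hZM'.symm ▸ hy : y ∈ Z)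
    exact mem_centralizer_singleton_iff.mpr
      (congrArg Subtype.val (mem_center_iff.mp hz ⟨x, hx⟩)).symm
  -- a second Sylow 2-subgroup meeting `M`
  have hm2 := card_sylow_mem (p := 2) hG (k := 3) (m := 735) (by norm_num) (by rw [h]; norm_num)
    (by norm_num)
  obtain ⟨S₀, hS₀⟩ := (IsPGroup.of_card (p := 2) (n := 3) (by rw [hM]; norm_num) :
    IsPGroup 2 M).exists_le_sylow
  have hS8 : ∀ S : Sylow 2 G, Nat.card S = 8 := fun S =>
    card_sylow_of_card_eq (k := 3) (m := 735) (by rw [h]; norm_num) (by norm_num) S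
  have hS₀M : M = (S₀ : Subgroup G) := eq_of_le_of_card_ge hS₀ (by rw [hS8, hM])
  have hNM : normalizer (M : Set G) = K := hmax _ (normalizer_ne_top
    (fun e => by rw [e, card_bot] at hM; norm_num at hM)
    (fun e => by rw [e, card_top, h] at hM; norm_num at hM)) hKM
  have hn15 : Nat.card (Sylow 2 G) = 15 := by
    have h1 := card_normalizer_mul_card_sylow S₀
    rw [← hS₀M, hNM, hK392, h] at h1
    omega
  obtain ⟨P₁, R₁, hne₁, hidx⟩ := exists_pair_of_not_modEq (p := 2) (k := 2)
    (by rw [hn15]; decide)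
  obtain ⟨g, hg⟩ := exists_smul_eq G P₁ S₀
  set R := g • R₁
  have hRne : R ≠ S₀ := fun e => hne₁ (smul_left_cancel g (hg.trans e.symm))
  have hE : (P₁ : Subgroup G) ⊓ R₁ ≠ ⊥ := by
    intro e
    have h1 := ((R₁ : Subgroup G).subgroupOf (P₁ : Subgroup G)).card_mul_index
    rw [show (R₁ : Subgroup G).subgroupOf (P₁ : Subgroup G) = ⊥ by
      rw [← inf_subgroupOf_left, e, bot_subgroupOf], card_bot, one_mul, hS8] at h1
    rw [show ((R₁ : Subgroup G).subgroupOf (P₁ : Subgroup G)).index = 8 by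
      rw [show (R₁ : Subgroup G).subgroupOf (P₁ : Subgroup G) = ⊥ by
        rw [← inf_subgroupOf_left, e, bot_subgroupOf], h1]] at hidx
    norm_num at hidx
  obtain ⟨w, hw, hw1⟩ := (Subgroup.nontrivial_iff_exists_ne_one _).mp
    ((Subgroup.nontrivial_iff_ne_bot _).mpr hE)
  set u := g * w * g⁻¹
  have hu1 : u ≠ 1 := fun e => hw1 (by
    calc w = g⁻¹ * u * g := by simp only [u]; group
      _ = 1 := by rw [e]; group)
  have hmemS : ∀ (Q : Sylow 2 G) (x : G), x ∈ (Q : Subgroup G) →
      g * x * g⁻¹ ∈ ((g • Q : Sylow 2 G) : Subgroup G) := fun Q x hx => by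
    rw [Sylow.coe_subgroup_smul]
    exact Subgroup.smul_mem_pointwise_smul x (MulAut.conj g) _ hx
  have huM : u ∈ M := by
    rw [hS₀M, ← hg]
    exact hmemS P₁ w (Subgroup.mem_inf.mp hw).1
  have huR : u ∈ (R : Subgroup G) := hmemS R₁ w (Subgroup.mem_inf.mp hw).2
  set H := centralizer ({u} : Set G) with hHdef
  have hMH : M ≤ H := hMab u huM
  have haH : a ∈ H := mem_centralizer_singleton_iff.mpr
    (mem_centralizer_singleton_iff.mp (hMK huM)).symm
  -- `R` is a conjugate of `M`, hence abelian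
  obtain ⟨l, hl⟩ := exists_smul_eq G S₀ R
  have hRab : ∀ x ∈ (R : Subgroup G), ∀ y ∈ (R : Subgroup G), x * y = y * x := by
    intro x hx y hy
    rw [← hl, Sylow.coe_subgroup_smul, mem_pointwise_smul_iff_inv_smul_mem, ← hS₀M,
      ← map_inv, MulAut.smul_def, MulAut.conj_apply, inv_inv] at hx hy
    have h1 : l⁻¹ * x * l * (l⁻¹ * y * l) = l⁻¹ * y * l * (l⁻¹ * x * l) :=
      mem_centralizer_singleton_iff.mp (hMab _ hy hx)
    calc x * y = l * (l⁻¹ * x * l * (l⁻¹ * y * l)) * l⁻¹ := by group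
      _ = l * (l⁻¹ * y * l * (l⁻¹ * x * l)) * l⁻¹ := by rw [h1]
      _ = y * x := by group
  have hRH : (R : Subgroup G) ≤ H := fun x hx =>
    mem_centralizer_singleton_iff.mpr (hRab x hx u huR)
  have hHtop : H ≠ ⊤ := Residual.centralizer_ne_top hG hu1
  -- `49` does not divide `|H|`
  have h49 : ¬ 49 ∣ Nat.card H := by
    intro hd
    obtain ⟨D', hD'⟩ := (IsPGroup.of_card (p := 7) (n := 1) (G := zpowers (⟨a, haH⟩ : H))
      (by rw [Nat.card_zpowers, Subgroup.orderOf_mk, hao, pow_one])).exists_le_sylow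
    set T := (D' : Subgroup H).map H.subtype with hTdef
    have hT49 : Nat.card T = 49 := by
      rw [hTdef, card_map_of_injective H.subtype_injective]
      obtain ⟨s, hs⟩ := hd
      have hs7 : ¬ 7 ∣ s := fun h7 => by
        have h343 : 343 ∣ Nat.card G :=
          ((show (343 : ℕ) = 49 * 7 by norm_num) ▸ mul_dvd_mul_left 49 h7).trans
            (hs ▸ card_subgroup_dvd_card H)
        rw [h] at h343
        norm_num at h343
      exact card_sylow_of_card_eq (k := 2) (m := s) (by rw [hs]; norm_num) hs7 D'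
    have haT : a ∈ T := ⟨⟨a, haH⟩, hD' (mem_zpowers _), rfl⟩
    have hab : IsMulCommutative T :=
      IsPGroup.isMulCommutative_of_card_eq_prime_sq (p := 7) (by rw [hT49]; norm_num)
    have hTK : T ≤ K := fun t ht => mem_centralizer_singleton_iff.mpr
      (congrArg Subtype.val (hab.is_comm.comm (⟨t, ht⟩ : T) ⟨a, haT⟩))
    exact hu1 (hTM T hTK hT49 u huM (mem_centralizer_iff.mpr fun t ht =>
      mem_centralizer_singleton_iff.mp ((map_subtype_le _ : T ≤ H) ht)))
  -- so `⟨a⟩` is normal in `H`, and `H ≤ K`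
  have hzH : zpowers a ≤ H := zpowers_le.mpr haH
  set D := (zpowers a).subgroupOf H
  have hD7 : Nat.card D = 7 := by
    rw [Nat.card_congr (subgroupOfEquivOfLe hzH).toEquiv, Nat.card_zpowers, hao]
  have h56 : 56 ∣ Nat.card (normalizer (D : Set H)) := by
    refine (show Nat.Coprime 7 8 by norm_num).mul_dvd_of_dvd_of_dvd
      (hD7 ▸ card_dvd_of_le le_normalizer) ?_
    have hle : M.subgroupOf H ≤ normalizer (D : Set H) := fun x hx =>
      centralizer_le_normalizer' _ (mem_centralizer_iff.mpr fun y hy => Subtype.ext (by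
        obtain ⟨i, hi⟩ := mem_zpowers_iff.mp (mem_subgroupOf.mp hy)
        show (y : G) * x = x * y
        rw [← hi]
        exact (Commute.zpow_left (show Commute a (x : G) from
          (mem_centralizer_singleton_iff.mp (hMK (mem_subgroupOf.mp hx))).symm) i).eq))
    have := card_dvd_of_le hle
    rwa [Nat.card_congr (subgroupOfEquivOfLe hMH).toEquiv, hM] at this
  obtain ⟨s, hs⟩ : 56 ∣ Nat.card H := h56.trans (card_subgroup_dvd_card _)
  have hmi := H.card_mul_index
  rw [hs, h] at hmi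
  have h14 := hfac H hHtop
  have hs105 : s * H.index = 105 := by
    have : 56 * s * H.index = 56 * (s * H.index) := by ring
    omega
  have hs7 : ¬ 7 ∣ s := fun h7 => h49 (by
    rw [hs]
    exact (show 49 ∣ 56 * 7 by norm_num).trans (mul_dvd_mul_left 56 h7))
  obtain ⟨T₁, hT₁⟩ := (IsPGroup.of_card (p := 7) (n := 1) (G := D)
    (by rw [hD7, pow_one])).exists_le_sylow
  have hT₁D : D = (T₁ : Subgroup H) := eq_of_le_of_card_ge hT₁ (by
    rw [hD7, card_sylow_of_card_eq (k := 1) (m := 8 * s) (by rw [hs]; ring)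
      (fun h7 => by
        rcases (by norm_num : Nat.Prime 7).dvd_mul.mp h7 with h8 | h8
        · norm_num at h8
        · exact hs7 h8) T₁]
    norm_num)
  have hN := card_normalizer_mul_card_sylow T₁
  rw [← hT₁D, hs] at hN
  obtain ⟨q, hq⟩ := h56
  rw [hq] at hN
  have hqs : q * Nat.card (Sylow 7 H) = s := by
    have : 56 * q * Nat.card (Sylow 7 H) = 56 * (q * Nat.card (Sylow 7 H)) := by ring
    omega
  have hn7 := card_sylow_modEq_one 7 H
  rw [Nat.ModEq] at hn7
  have hn1 : Nat.card (Sylow 7 H) = 1 :=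
    (show ∀ s ∈ Nat.divisors 105, ¬ 7 ∣ s → 14 ≤ 105 / s → ∀ f ∈ Nat.divisors s,
      f % 7 = 1 % 7 → f = 1 by decide +kernel) s (Nat.mem_divisors.mpr ⟨⟨_, hs105.symm⟩, by norm_num⟩)
      hs7 (by
        rw [← hs105, Nat.mul_div_cancel_left _ (Nat.pos_of_ne_zero fun e => by
          rw [e, zero_mul] at hs105; norm_num at hs105)]
        exact h14) _
      (Nat.mem_divisors.mpr ⟨⟨q, by rw [← hqs, mul_comm]⟩, fun e => by
        rw [e, zero_mul] at hs105; norm_num at hs105⟩) hn7
  have hDn : normalizer (D : Set H) = ⊤ := by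
    refine (card_eq_iff_eq_top _).mp ?_
    rw [hs, hq, ← hqs, hn1, mul_one]
  have hNz : normalizer (zpowers a : Set G) = K := by
    refine hmax _ (normalizer_ne_top (fun e => ha1 (zpowers_eq_bot.mp e)) fun e => ?_) ?_
    · have h1 : Nat.card (zpowers a) = Nat.card G := by rw [e, card_top]
      rw [Nat.card_zpowers, hao, h] at h1
      omega
    · intro x hx
      refine centralizer_le_normalizer' _ (mem_centralizer_iff.mpr fun b hb => ?_)
      obtain ⟨i, rfl⟩ := mem_zpowers_iff.mp hb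
      exact (Commute.zpow_left
        (show Commute a x from (mem_centralizer_singleton_iff.mp hx).symm) i).eq
  have hHK : H ≤ K := by
    intro x hx
    rw [← hNz]
    exact subgroupOf_eq_top.mp ((subgroupOf_normalizer_eq hzH).trans hDn) hx
  have hRM : (R : Subgroup G) ≤ normalizer (M : Set G) := hRH.trans (hHK.trans hNM.ge)
  have hRS : (R : Subgroup G) ≤ (S₀ : Subgroup G) := fun x hx => by
    have hpg : IsPGroup 2 (zpowers x) := R.2.to_le (zpowers_le.mpr hx)
    have h2 : x ∈ zpowers x ⊓ (S₀ : Subgroup G) := hpg.inf_normalizer_sylow S₀ ▸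
      Subgroup.mem_inf.mpr ⟨mem_zpowers x, by
        show x ∈ normalizer ((S₀ : Subgroup G) : Set G)
        rw [← hS₀M]; exact hRM hx⟩
    exact h2.2
  exact hRne (Sylow.ext (eq_of_le_of_card_ge hRS (by rw [hS8, hS8])))

end CfsgLib.Small.Mid
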