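import Cfsg.Agent.Lib.Small.TwoExceptional
import Cfsg.Agent.Lib.Small.AbelianFocal
import Cfsg.Agent.Lib.Small.Order5760

/-!
No simple group has order 4032.
-/

set_option autoImplicit false

noncomputable section

namespace CfsgLib.Small.Order4032

open Cfsg CfsgLib.Characters CfsgLib.ClassCount

universe u

variable {G : Type u} [Group G] [Fintype G] [IsSimpleGroup G]

theorem card_ne (h : Nat.card G = 4032) : False := by
  classical
  have : Fact (Nat.Prime 7) := ⟨by norm_num⟩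
  have : Fact (Nat.Prime 2) := ⟨Nat.prime_two⟩
  have hnc : ¬ IsMulCommutative G := nc_of_not_prime (by rw [h]; norm_num)
  have hcomm : ¬ ∀ a b : G, a * b = b * a := fun hc => hnc ⟨⟨hc⟩⟩
  have hperf := commutator_eq_top hnc
  have h7 : ∀ Q : Sylow 7 G, Nat.card Q = 7 := fun Q => by
    simpa using card_sylow_of_card_eq (k := 1) (m := 576) (by rw [h]; norm_num) (by norm_num) Q
  obtain ⟨P⟩ := (inferInstance : Nonempty (Sylow 7 G))
  have hCP : Subgroup.centralizer ((P : Subgroup G) : Set G) = (P : Subgroup G) :=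
    CfsgLib.Blocks.centralizer_sylow_eq (G := G) Nat.prime_two Nat.prime_three (by norm_num)
      (by norm_num) (by norm_num) (a := 6) (b := 2) (by rw [h]; norm_num) P
  obtain ⟨e, he1, he2, -, hCe, hall⟩ := sylow_prime_order_data hnc P (h7 P)
  rw [hCP, h7 P] at hCe hall
  rw [h] at hall
  have he : e = 2 := by
    have hmem := card_sylow_mem (p := 7) hnc (k := 1) (m := 576) one_ne_zero
      (by rw [h]; norm_num) (by norm_num)
    rw [show ((Nat.divisors 576).filter fun n => n % 7 = 1 ∧ 1 < n) = {8, 36, 64, 288} from by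
      decide +kernel] at hmem
    simp only [Finset.mem_insert, Finset.mem_singleton] at hmem
    have hle := Nat.le_of_dvd (by norm_num) he2
    rcases hmem with e' | e' | e' | e' <;> rw [e'] at hall <;> omega
  subst he
  have hC : ∀ k ∈ (P : Subgroup G), k ≠ 1 → Subgroup.centralizer ({k} : Set G) ≤ P := by
    intro k hk hk1 g hg
    rw [← hCP]
    show g ∈ Subgroup.centralizer ((P : Subgroup G) : Set G)
    rw [eq_zpowers_of_mem (h7 P) hk hk1, Subgroup.mem_centralizer_iff]
    intro y hy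
    obtain ⟨i, rfl⟩ := Subgroup.mem_zpowers_iff.mp hy
    exact ((show Commute g k from Subgroup.mem_centralizer_singleton_iff.mp hg).zpow_right i).symm.eq
  obtain ⟨χ1, χ2, δ1, δ2, D1, D2, hδ1, hδ2, hn1, hn2, hD1, hD2, hd1, hd2, h11, h12, hm1, hm2, hsq,
      hrel, hcol, hform⟩ :=
    TwoExceptional.relation hperf (p := 7) (t := 3) le_rfl (by norm_num) (h7 P) hC hCe.symm
  -- the two degrees
  rw [h] at hd1 hd2 hsq
  have hle1 : D1 < 64 := by nlinarith
  have hle2 : D2 < 64 := by nlinarith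
  rw [Int.ModEq] at hm1 hm2
  have hDD : D1 = 9 ∧ D2 = 8 ∧ δ1 = -1 ∧ δ2 = 1 := by
    have key : ∀ x ∈ (Nat.divisors 4032).filter (fun x => 1 < x ∧ x < 64 ∧ (x % 7 = 2 ∨ x % 7 = 5)),
        ∀ y ∈ (Nat.divisors 4032).filter (fun y => 1 < y ∧ y < 64 ∧ (y % 7 = 1 ∨ y % 7 = 6)),
        (x + 1 = y ∨ y + 1 = x) → (x = 9 ∧ y = 8) := by decide +kernel
    obtain ⟨rfl, rfl⟩ := key D1
      (Finset.mem_filter.mpr ⟨Nat.mem_divisors.mpr ⟨hd1, by norm_num⟩, h11, hle1, by
        rcases hδ1 with rfl | rfl <;> omega⟩)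
      D2 (Finset.mem_filter.mpr ⟨Nat.mem_divisors.mpr ⟨hd2, by norm_num⟩, h12, hle2, by
        rcases hδ2 with rfl | rfl <;> omega⟩)
      (by rcases hδ1 with rfl | rfl <;> rcases hδ2 with rfl | rfl <;> omega)
    rcases hδ1 with rfl | rfl <;> rcases hδ2 with rfl | rfl <;> omega
  obtain ⟨rfl, rfl, rfl, rfl⟩ := hDD
  -- a central involution of a Sylow 2-subgroup
  obtain ⟨T⟩ := (inferInstance : Nonempty (Sylow 2 G))
  have hT : Nat.card T = 64 := by
    simpa using card_sylow_of_card_eq (p := 2) (k := 6) (m := 63) (by rw [h]; norm_num)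
      (by norm_num) T
  have hTp : IsPGroup 2 (T : Subgroup G) := T.isPGroup'
  have : Nontrivial (T : Subgroup G) := Finite.one_lt_card_iff_nontrivial.mp (by
    show 1 < Nat.card (T : Subgroup G); rw [hT]; norm_num)
  have hZ := hTp.center_nontrivial
  have hZ2 : 2 ∣ Nat.card (Subgroup.center (T : Subgroup G)) := by
    obtain ⟨i, hi⟩ := IsPGroup.iff_card.mp (hTp.to_subgroup (Subgroup.center (T : Subgroup G)))
    rw [hi]
    refine dvd_pow_self 2 fun e0 => ?_
    rw [e0, pow_zero] at hi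
    exact absurd hi (Finite.one_lt_card_iff_nontrivial.mpr hZ).ne'
  obtain ⟨⟨⟨s, hsT⟩, hsZ⟩, hs⟩ :=
    exists_prime_orderOf_dvd_card' (G := Subgroup.center (T : Subgroup G)) 2 hZ2
  rw [Subgroup.orderOf_mk, Subgroup.orderOf_mk] at hs
  have hs1 : s ≠ 1 := fun e => by rw [e, orderOf_one] at hs; omega
  have hcl : (cls s).card ∣ 63 := by
    have hTC : (T : Subgroup G) ≤ Subgroup.centralizer ({s} : Set G) := fun a ha =>
      Subgroup.mem_centralizer_singleton_iff.mpr
        (congrArg Subtype.val (Subgroup.mem_center_iff.mp hsZ ⟨a, ha⟩))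
    obtain ⟨j, hj⟩ := Subgroup.card_dvd_of_le hTC
    have hmul := card_cls_mul_centralizer s
    rw [hj, hT, h] at hmul
    exact ⟨j, by
      have : (cls s).card * (64 * j) = 64 * ((cls s).card * j) := by ring
      omega⟩
  have hcls : Nat.card {x : G // IsConj s x} = (cls s).card := by
    rw [Nat.card_eq_fintype_card, Fintype.card_subtype]
    exact congrArg Finset.card (Finset.ext fun x => by simp [mem_cls])
  have hinvol : ∀ u : G, IsConj s u → u * u = 1 := by
    intro u hu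
    obtain ⟨c, rfl⟩ := isConj_iff.mp hu
    have : s * s = 1 := by rw [← pow_two, ← hs, pow_orderOf_eq_one]
    rw [show c * s * c⁻¹ * (c * s * c⁻¹) = c * (s * s) * c⁻¹ by group, this]; simp
  have hconst : ∀ x ∈ (P : Subgroup G), x ≠ 1 → (pairs s s {x}).card =
      ((cls s).filter fun u => ∀ y ∈ (P : Subgroup G), u * y * u⁻¹ = y⁻¹).card := by
    intro x hx hx1
    have hPx := eq_zpowers_of_mem (h7 P) hx hx1
    have hx7 : x ^ 7 = 1 := by
      have := orderOf_dvd_natCard (⟨x, hx⟩ : (P : Subgroup G))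
      rw [Subgroup.orderOf_mk, h7 P] at this
      exact orderOf_dvd_iff_pow_eq_one.mp this
    refine Finset.card_bij (fun z _ => z.1) (fun z hz => ?_) (fun z hz w hw e => ?_) (fun u hu => ?_)
    · obtain ⟨hz1, hz2⟩ := Finset.mem_filter.1 hz
      obtain ⟨hu, hv⟩ := Finset.mem_product.1 hz1
      rw [Finset.mem_singleton] at hz2
      refine Finset.mem_filter.2 ⟨hu, fun y hy => ?_⟩
      have huu := hinvol _ (mem_cls.1 hu)
      have hvv := hinvol _ (mem_cls.1 hv)
      have hinv : z.1 * x * z.1⁻¹ = x⁻¹ := by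
        rw [← hz2, mul_inv_rev, ← mul_assoc, huu, one_mul, inv_eq_of_mul_eq_one_right hvv]
      rw [hPx] at hy
      obtain ⟨i, rfl⟩ := Subgroup.mem_zpowers_iff.mp hy
      rw [← conj_zpow, hinv, inv_zpow]
    · obtain ⟨hz1, hz2⟩ := Finset.mem_filter.1 hz
      obtain ⟨hw1, hw2⟩ := Finset.mem_filter.1 hw
      rw [Finset.mem_singleton] at hz2 hw2
      refine Prod.ext e ?_
      have : z.1 * z.2 = z.1 * w.2 := by rw [hz2, show z.1 = w.1 from e, hw2]
      exact mul_left_cancel this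
    · obtain ⟨hu1, hu2⟩ := Finset.mem_filter.1 hu
      refine ⟨(u, u⁻¹ * x), Finset.mem_filter.2 ⟨Finset.mem_product.2 ⟨hu1, ?_⟩,
        Finset.mem_singleton.2 (mul_inv_cancel_left u x)⟩, rfl⟩
      rw [mem_cls]
      refine (mem_cls.1 hu1).trans (isConj_iff.2 ⟨(x ^ 4)⁻¹, ?_⟩)
      have hy := hu2 (x ^ 4) (pow_mem hx 4)
      have huu := hinvol _ (mem_cls.1 hu1)
      have hui : u⁻¹ = u := inv_eq_of_mul_eq_one_left huu
      rw [hui] at hy ⊢
      rw [inv_inv, ← hy]
      calc u * x ^ 4 * u * u * x ^ 4 = u * (x ^ 4 * (u * u) * x ^ 4) := by group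
        _ = u * (x ^ 7 * x) := by rw [huu, mul_one, ← pow_add, ← pow_succ]
        _ = u * x := by rw [hx7, one_mul]
  have hf := hform s _ hconst
  have hnot : ∀ x ∈ (P : Subgroup G), x ≠ 1 → ¬ IsConj s x := by
    intro x hx hx1 hc
    obtain ⟨c, rfl⟩ := isConj_iff.mp hc
    have h2 : orderOf (c * s * c⁻¹) = 2 := by
      rw [← hs]; exact (SemiconjBy.orderOf_eq c (show SemiconjBy c s _ by simp [SemiconjBy])).symm
    have := orderOf_dvd_natCard (⟨_, hx⟩ : (P : Subgroup G))
    rw [Subgroup.orderOf_mk, h7 P, h2] at this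
    norm_num at this
  have hc := hcol s hnot
  rw [h] at hf
  generalize hkdef : (((cls s).filter fun u => ∀ y ∈ (P : Subgroup G), u * y * u⁻¹ = y⁻¹).card) = k
    at hf
  generalize hcldef : (cls s).card = cl at hcl hcls hf
  have hcl0 : 0 < cl := Nat.pos_of_dvd_of_pos hcl (by norm_num)
  have hcl63 : cl ≤ 63 := Nat.le_of_dvd (by norm_num) hcl
  have h0 := Order5760.apply_eq_zero hcomm hn2 hs1 hD2 (by
    rw [hcls]; exact (show Nat.Coprime 8 63 by norm_num).coprime_dvd_right hcl)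
  rw [h0] at hc hf
  push_cast at hc hf
  have e1 : (χ1 : G → ℂ) s = 1 := by linear_combination -hc
  rw [e1] at hf
  have e2 : ((9 * (k * 4032) : ℕ) : ℂ) = ((8 * (cl * cl) : ℕ) : ℂ) := by
    push_cast; linear_combination 9 * hf
  have e3 : 9 * (k * 4032) = 8 * (cl * cl) := Nat.cast_injective e2
  have : cl * cl ≤ 63 * 63 := Nat.mul_le_mul hcl63 hcl63
  have : 0 < cl * cl := Nat.mul_pos hcl0 hcl0
  omega

end CfsgLib.Small.Order4032
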