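import Cfsg.Agent.Lib.Small.AbelianFocal
import Cfsg.Agent.Lib.Small.Order504
import Cfsg.Agent.Lib.Blocks.PrincipalDegree
import Cfsg.Agent.Lib.Blocks.ClassCount
import Cfsg.Agent.Lib.Characters.Burnside

/-!
No simple group has order 4320: the class multiplication formula for an involution inverting an
element of order five has no solution.
-/

set_option autoImplicit false
set_option linter.style.haveILetI false

noncomputable section

namespace CfsgLib.Small.Order4320

open Cfsg CfsgLib.Characters CfsgLib.ClassCount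
open scoped ComplexConjugate

universe u

variable {G : Type u} [Group G] [Fintype G] [IsSimpleGroup G]

theorem sum_prod_signs {n : ℕ} (ω : Fin n → ℂ) (h : ∀ i, ω i = 1 ∨ ω i = -1) :
    ∃ m : ℕ, ∑ i, ω i = (n : ℂ) - 2 * m ∧ ∏ i, ω i = (-1) ^ m := by
  classical
  refine ⟨(Finset.univ.filter fun i => ω i = -1).card, ?_, ?_⟩
  · rw [← Finset.sum_filter_add_sum_filter_not Finset.univ (fun i => ω i = -1),
      Finset.sum_congr rfl (g := fun _ => (-1 : ℂ)) (fun i hi => (Finset.mem_filter.1 hi).2),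
      Finset.sum_congr rfl (g := fun _ => (1 : ℂ))
        (fun i hi => (h i).resolve_right (Finset.mem_filter.1 hi).2),
      Finset.sum_const, Finset.sum_const, nsmul_eq_mul, nsmul_eq_mul]
    have := Finset.card_filter_add_card_filter_not (s := Finset.univ) (p := fun i => ω i = -1)
    rw [Finset.card_univ, Fintype.card_fin] at this
    have e : (n : ℂ) = ((Finset.univ.filter fun i => ω i = -1).card : ℂ) +
        ((Finset.univ.filter fun i => ¬ ω i = -1).card : ℂ) := by exact_mod_cast this.symm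
    rw [e]; ring
  · rw [← Finset.prod_filter_mul_prod_filter_not Finset.univ (fun i => ω i = -1),
      Finset.prod_congr rfl (g := fun _ => (-1 : ℂ)) (fun i hi => (Finset.mem_filter.1 hi).2),
      Finset.prod_congr rfl (g := fun _ => (1 : ℂ))
        (fun i hi => (h i).resolve_right (Finset.mem_filter.1 hi).2),
      Finset.prod_const_one, mul_one, Finset.prod_const]

/-- Values of a nonprincipal character of a nonabelian simple group at an involution. -/
theorem value_involution (hnc : ¬ IsMulCommutative G) {χ : IrrCharacter G} (hne : χ ≠ principalIrr G)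
    {s : G} (hs : orderOf s = 2) {D : ℕ} (hD : (χ : G → ℂ) 1 = D) :
    ∃ v : ℤ, (χ : G → ℂ) s = v ∧ v % 4 = (D : ℤ) % 4 ∧ v ^ 2 < (D : ℤ) ^ 2 := by
  classical
  obtain ⟨_, n, ρ, hρ, rfl⟩ := χ
  haveI := hρ
  obtain ⟨b, ω, hω, hb⟩ := exists_eigenbasis ρ s
  have hpm : ∀ i, ω i = 1 ∨ ω i = -1 := fun i => sq_eq_one_iff.1 (hs ▸ hω i)
  obtain ⟨m, hsum, hprod⟩ := sum_prod_signs ω hpm
  have hDn : D = Module.finrank ℂ (Fin n → ℂ) := by
    change ρ.character 1 = _ at hD
    rw [Representation.char_one] at hD; exact_mod_cast hD.symm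
  have hdet : LinearMap.det (ρ s) = ∏ i, ω i := by
    have hM : LinearMap.toMatrix b b (ρ s) = Matrix.diagonal ω := by
      ext i j
      rw [LinearMap.toMatrix_apply, hb, map_smul, Module.Basis.repr_self, Finsupp.smul_single,
        Finsupp.single_apply, Matrix.diagonal_apply]
      by_cases h : i = j
      · subst h; simp
      · simp [h, Ne.symm h]
    rw [← LinearMap.det_toMatrix b, hM, Matrix.det_diagonal]
  have hone : LinearMap.det (ρ s) = 1 :=
    congrArg Units.val (hom_comm_eq_one hnc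
      (MonoidHom.toHomUnits ((LinearMap.det : ((Fin n → ℂ) →ₗ[ℂ] (Fin n → ℂ)) →* ℂ).comp ρ)) s)
  rw [hdet, hprod] at hone
  have hm : Even m := by
    rcases Nat.even_or_odd m with h | h
    · exact h
    · rw [h.neg_one_pow] at hone; norm_num at hone
  obtain ⟨j, rfl⟩ := hm
  have hval : ρ.character s = (((D : ℤ) - 2 * (j + j : ℕ) : ℤ) : ℂ) := by
    rw [character_eq_sum_of_eigenbasis ρ s b ω hb, hsum, hDn]
    push_cast
    ring
  refine ⟨(D : ℤ) - 2 * (j + j : ℕ), hval, by push_cast; omega, ?_⟩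
  have hnorm := norm_char_le ρ s
  have hne' : ‖ρ.character s‖ ≠ (D : ℝ) := by
    intro h
    rw [hDn] at h
    obtain ⟨c, hc⟩ := (norm_char_eq_iff_scalar ρ s).mp h
    rcases (MonoidHom.normal_ker (ρ : G →* _)).eq_bot_or_eq_top with hk | hk
    · refine hnc (⟨⟨CfsgLib.Burnside.isMulCommutative_of_mem_center (g := s)
        (fun e => by rw [e, orderOf_one] at hs; omega) (Subgroup.mem_center_iff.mpr fun x => ?_)⟩⟩)
      refine (MonoidHom.ker_eq_bot_iff _).mp hk ?_
      rw [map_mul, map_mul, hc]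
      ext v
      simp
    · refine hne (CfsgLib.Burnside.eq_one_of_irr_const (c := (n : ℂ)) fun x => ?_)
      change ρ.character x = n
      have : ρ x = 1 := MonoidHom.mem_ker.mp (hk ▸ Subgroup.mem_top x)
      simp [Representation.character, this]
  rw [← hDn] at hnorm
  have hlt := lt_of_le_of_ne hnorm hne'
  rw [hval, Complex.norm_intCast] at hlt
  have h2 := abs_lt.1 hlt
  have h3 : -(D : ℤ) < (D : ℤ) - 2 * (j + j : ℕ) ∧ (D : ℤ) - 2 * (j + j : ℕ) < D := by
    constructor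
    · exact_mod_cast h2.1
    · exact_mod_cast h2.2
  nlinarith

/-- The values at a self-centralising element `x` of order five with all four nontrivial powers
conjugate. -/
theorem value_five (h5 : ∀ P : Sylow 5 G, Nat.card P = 5) {P : Sylow 5 G} {x : G}
    (hx : x ∈ (P : Subgroup G))
    (hconj : ∀ y ∈ (P : Subgroup G), y ≠ 1 → IsConj x y) (χ : IrrCharacter G) {D : ℕ}
    (hD : (χ : G → ℂ) 1 = D) :
    ∃ c : ℤ, (χ : G → ℂ) x = c ∧ conj ((χ : G → ℂ) x) = c ∧ c % 5 = (D : ℤ) % 5 := by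
  classical
  have : Fintype (P : Subgroup G) := Fintype.ofFinite _
  obtain ⟨m, hm⟩ := exists_mult χ (P : Subgroup G)
  have hval : ∀ t : (P : Subgroup G), t ≠ 1 → (χ : G → ℂ) ((t : G)⁻¹) = (χ : G → ℂ) x := by
    intro t ht
    obtain ⟨g, hg⟩ := isConj_iff.1 (hconj (t : G)⁻¹ (inv_mem t.2)
      (inv_ne_one.2 fun e => ht (Subtype.ext e)))
    rw [← hg]
    exact irr_isClassFunction χ x g
  rw [← Finset.add_sum_erase _ _ (Finset.mem_univ (1 : (P : Subgroup G))),
    Finset.sum_congr rfl (g := fun _ => (χ : G → ℂ) x)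
      (fun t ht => hval t (Finset.ne_of_mem_erase ht)),
    Finset.sum_const, Finset.card_erase_of_mem (Finset.mem_univ _), Finset.card_univ,
    ← Nat.card_eq_fintype_card, h5 P, OneMemClass.coe_one, inv_one, hD, nsmul_eq_mul] at hm
  push_cast at hm
  have hq : (χ : G → ℂ) x = ((((5 * m : ℤ) - D : ℤ) : ℚ) / 4 : ℚ) := by
    push_cast
    linear_combination hm / 4
  have hint : IsIntegral ℤ (((((5 * m : ℤ) - D : ℤ) : ℚ) / 4 : ℚ) : ℂ) := hq ▸ irr_isIntegral χ x
  obtain ⟨c, hc⟩ := exists_int_of_isIntegral_rat hint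
  have hxc : (χ : G → ℂ) x = (c : ℂ) := by rw [hq, ← hc]; simp
  refine ⟨c, hxc, by rw [hxc]; exact map_intCast _ c, ?_⟩
  have h4 : (4 * c : ℤ) = 5 * m - D := by
    have h : ((4 * c : ℤ) : ℚ) = (((5 * m : ℤ) - D : ℤ) : ℚ) := by
      push_cast
      rw [hc]; push_cast; ring
    exact_mod_cast h
  omega

/-- The four degrees. -/
theorem degree_cases : ∀ a ∈ ({4, 6, 9, 16, 24, 36, 54} : Finset ℕ),
    ∀ b ∈ ({4, 6, 9, 16, 24, 36, 54} : Finset ℕ), a ≤ b →
    ∀ c ∈ ({4, 6, 9, 16, 24, 36, 54} : Finset ℕ), b ≤ c →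
    ∀ d ∈ ({4, 6, 9, 16, 24, 36, 54} : Finset ℕ), c ≤ d →
    (1 + ((if a % 5 = 1 then (a : ℤ) else -(a : ℤ)) + (if b % 5 = 1 then (b : ℤ) else -(b : ℤ)) +
      (if c % 5 = 1 then (c : ℤ) else -(c : ℤ)) + (if d % 5 = 1 then (d : ℤ) else -(d : ℤ))) = 0 ∧
      1 + (a ^ 2 + b ^ 2 + c ^ 2 + d ^ 2) ≤ 4320) →
    (a = 4 ∧ b = 4 ∧ c = 9 ∧ d = 16) ∨ (a = 4 ∧ b = 6 ∧ c = 6 ∧ d = 9) ∨
    (a = 4 ∧ b = 9 ∧ c = 24 ∧ d = 36) ∨ (a = 9 ∧ b = 16 ∧ c = 16 ∧ d = 24) := by
  decide +kernel

theorem degree_mem : ∀ k ∈ Finset.range 66, k ∣ 4320 → 1 < k → (k % 5 = 1 ∨ k % 5 = 4) →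
    k ∈ ({4, 6, 9, 16, 24, 36, 54} : Finset ℕ) := by
  decide +kernel

/-- The arithmetic of the class formula for the degrees 4, 9, 24, 36. -/
theorem no_values_three : ∀ a ∈ ({1, -3, 5, -7} : Finset ℤ), ∀ b ∈ ({0, 4, -4} : Finset ℤ),
    ∀ r ∈ Finset.Icc (0 : ℤ) 43,
    r ^ 2 = 12 * (72 - 8 * a ^ 2 - 3 * b ^ 2 + 2 * (a + b - 1) ^ 2) →
    1 + a ^ 2 + b ^ 2 + (a + b - 1) ^ 2 ≤ r → r = 0 := by
  decide +kernel

/-- The arithmetic of the class formula for the degrees 9, 16, 16, 24. -/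
theorem no_values_four : ∀ a ∈ ({1, -3, 5, -7} : Finset ℤ), ∀ p ∈ ({0, 4, -4, 8, -8} : Finset ℤ),
    ∀ b ∈ ({0, 4, -4, 8, -8} : Finset ℤ), ∀ r ∈ Finset.Icc (0 : ℤ) 67,
    r ^ 2 = 6 * (144 - 16 * a ^ 2 + 9 * (p ^ 2 + (a + b - 1 - p) ^ 2) - 6 * b ^ 2) →
    1 + a ^ 2 + b ^ 2 + p ^ 2 + (a + b - 1 - p) ^ 2 ≤ r → r = 0 := by
  decide +kernel

set_option maxHeartbeats 1000000 in
/-- The class formula has no solution. -/
theorem no_solution (D : Fin 4 → ℕ) (v : Fin 4 → ℤ) (r : ℤ)
    (hD : (D 0 = 4 ∧ D 1 = 4 ∧ D 2 = 9 ∧ D 3 = 16) ∨ (D 0 = 4 ∧ D 1 = 6 ∧ D 2 = 6 ∧ D 3 = 9) ∨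
      (D 0 = 4 ∧ D 1 = 9 ∧ D 2 = 24 ∧ D 3 = 36) ∨ (D 0 = 9 ∧ D 1 = 16 ∧ D 2 = 16 ∧ D 3 = 24))
    (hv4 : ∀ i, v i % 4 = (D i : ℤ) % 4) (hvlt : ∀ i, v i ^ 2 < (D i : ℤ) ^ 2) (hr : 0 < r)
    (hcol : 1 + ∑ i, (if D i % 5 = 1 then (1 : ℤ) else -1) * v i = 0)
    (hsq : 1 + ∑ i, v i ^ 2 ≤ r)
    (hform : (r : ℚ) ^ 2 / 864 =
      1 + ∑ i, (((if D i % 5 = 1 then (1 : ℤ) else -1) : ℤ) : ℚ) * (v i : ℚ) ^ 2 / (D i : ℚ)) :
    False := by
  have b := fun i => abs_lt_of_sq_lt_sq (hvlt i) (by positivity)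
  have b0 := abs_lt.1 (b 0); have b1 := abs_lt.1 (b 1)
  have b2 := abs_lt.1 (b 2); have b3 := abs_lt.1 (b 3)
  have m0 := hv4 0; have m1 := hv4 1; have m2 := hv4 2; have m3 := hv4 3
  rcases hD with ⟨e0, e1, e2, e3⟩ | ⟨e0, e1, e2, e3⟩ | ⟨e0, e1, e2, e3⟩ | ⟨e0, e1, e2, e3⟩ <;>
    simp only [Fin.sum_univ_four, e0, e1, e2, e3] at hcol hform hsq b0 b1 b2 b3 m0 m1 m2 m3 <;>
    norm_num at hcol hform b0 b1 b2 b3 m0 m1 m2 m3
  · obtain h0 : v 0 = 0 := by omega
    obtain h1 : v 1 = 0 := by omega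
    rw [h0, h1] at hcol hsq
    rw [h0, h1] at hform
    have h3 : v 3 = v 2 - 1 := by omega
    rw [h3] at hform
    push_cast at hform
    have hr' : r ^ 2 * 1 = 864 + 54 * (v 2 - 1) ^ 2 - 96 * v 2 ^ 2 := by
      have : ((r ^ 2 * 1 : ℤ) : ℚ) = ((864 + 54 * (v 2 - 1) ^ 2 - 96 * v 2 ^ 2 : ℤ) : ℚ) := by
        push_cast; linear_combination 864 * hform
      exact_mod_cast this
    obtain h2 | h2 | h2 | h2 : v 2 = 1 ∨ v 2 = -3 ∨ v 2 = 5 ∨ v 2 = -7 := by omega
    all_goals
      rw [h2] at hr'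
      norm_num at hr'
      have hr30 : r < 30 := by nlinarith
      interval_cases r <;> omega
  · obtain h0 : v 0 = 0 := by omega
    rw [h0] at hcol hsq
    rw [h0] at hform
    have h3 : v 3 = 1 + v 1 + v 2 := by omega
    rw [h3] at hform
    push_cast at hform
    have hr' : r ^ 2 * 1 = 864 + 144 * (v 1 ^ 2 + v 2 ^ 2) - 96 * (1 + v 1 + v 2) ^ 2 := by
      have : ((r ^ 2 * 1 : ℤ) : ℚ) =
          ((864 + 144 * (v 1 ^ 2 + v 2 ^ 2) - 96 * (1 + v 1 + v 2) ^ 2 : ℤ) : ℚ) := by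
        push_cast; linear_combination 864 * hform
      exact_mod_cast this
    obtain h1 | h1 : v 1 = 2 ∨ v 1 = -2 := by omega
    all_goals
      obtain h2 | h2 : v 2 = 2 ∨ v 2 = -2 := by omega
      all_goals
        rw [h1, h2] at hr'
        norm_num at hr'
        have hr50 : r < 50 := by nlinarith
        interval_cases r <;> omega
  · obtain h0 : v 0 = 0 := by omega
    rw [h0] at hcol hsq
    rw [h0] at hform
    have h3 : v 3 = v 1 + v 2 - 1 := by omega
    rw [h3] at hform hsq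
    push_cast at hform
    have hr' : r ^ 2 = 12 * (72 - 8 * v 1 ^ 2 - 3 * v 2 ^ 2 + 2 * (v 1 + v 2 - 1) ^ 2) := by
      have : ((r ^ 2 : ℤ) : ℚ) =
          ((12 * (72 - 8 * v 1 ^ 2 - 3 * v 2 ^ 2 + 2 * (v 1 + v 2 - 1) ^ 2) : ℤ) : ℚ) := by
        push_cast; linear_combination 864 * hform
      exact_mod_cast this
    have hR : r ^ 2 ≤ 840 + 24 * r := by linarith [sq_nonneg (v 1), sq_nonneg (v 2)]
    have hr43 : r ≤ 43 := by nlinarith
    have hb2 : v 2 ^ 2 < 7 ^ 2 := by linarith [sq_nonneg (v 1), sq_nonneg (v 1 + v 2 - 1)]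
    have hb2' := abs_lt.1 (abs_lt_of_sq_lt_sq hb2 (by norm_num))
    have := no_values_three (v 1) (by simp only [Finset.mem_insert, Finset.mem_singleton]; omega)
      (v 2) (by simp only [Finset.mem_insert, Finset.mem_singleton]; omega) r
      (Finset.mem_Icc.2 ⟨hr.le, hr43⟩) hr' (by linarith)
    omega
  · have h2 : v 2 = v 0 + v 3 - 1 - v 1 := by omega
    rw [h2] at hform hsq
    push_cast at hform
    have hr' : r ^ 2 = 6 * (144 - 16 * v 0 ^ 2 + 9 * (v 1 ^ 2 + (v 0 + v 3 - 1 - v 1) ^ 2)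
        - 6 * v 3 ^ 2) := by
      have : ((r ^ 2 : ℤ) : ℚ) = ((6 * (144 - 16 * v 0 ^ 2 +
          9 * (v 1 ^ 2 + (v 0 + v 3 - 1 - v 1) ^ 2) - 6 * v 3 ^ 2) : ℤ) : ℚ) := by
        push_cast; linear_combination 864 * hform
      exact_mod_cast this
    have hR : r ^ 2 ≤ 810 + 54 * r := by linarith [sq_nonneg (v 0), sq_nonneg (v 3)]
    have hr67 : r ≤ 67 := by nlinarith
    have hb1 : v 1 ^ 2 < 9 ^ 2 := by
      linarith [sq_nonneg (v 0), sq_nonneg (v 3), sq_nonneg (v 0 + v 3 - 1 - v 1)]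
    have hb3 : v 3 ^ 2 < 9 ^ 2 := by
      linarith [sq_nonneg (v 0), sq_nonneg (v 1), sq_nonneg (v 0 + v 3 - 1 - v 1)]
    have hb1' := abs_lt.1 (abs_lt_of_sq_lt_sq hb1 (by norm_num))
    have hb3' := abs_lt.1 (abs_lt_of_sq_lt_sq hb3 (by norm_num))
    have := no_values_four (v 0) (by simp only [Finset.mem_insert, Finset.mem_singleton]; omega)
      (v 1) (by simp only [Finset.mem_insert, Finset.mem_singleton]; omega)
      (v 3) (by simp only [Finset.mem_insert, Finset.mem_singleton]; omega) r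
      (Finset.mem_Icc.2 ⟨hr.le, hr67⟩) hr' (by linarith)
    omega

set_option maxHeartbeats 1600000 in
theorem card_ne (h : Nat.card G = 4320) : False := by
  classical
  have : Fact (Nat.Prime 5) := ⟨by norm_num⟩
  have : Fact (Nat.Prime 2) := ⟨Nat.prime_two⟩
  have hnc : ¬ IsMulCommutative G := nc_of_not_prime (by rw [h]; norm_num)
  have h5 : ∀ Q : Sylow 5 G, Nat.card Q = 5 := fun Q => by
    simpa using card_sylow_of_card_eq (k := 1) (m := 864) (by rw [h]; norm_num) (by norm_num) Q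
  obtain ⟨P⟩ := (inferInstance : Nonempty (Sylow 5 G))
  have hCP : Subgroup.centralizer ((P : Subgroup G) : Set G) = (P : Subgroup G) :=
    CfsgLib.Blocks.centralizer_sylow_eq (G := G) Nat.prime_two Nat.prime_three (by norm_num)
      (by norm_num) (by norm_num) (a := 5) (b := 3) (by rw [h]; norm_num) P
  obtain ⟨e, he1, he2, -, hCe, hall⟩ := sylow_prime_order_data hnc P (h5 P)
  rw [hCP, h5 P] at hCe hall
  rw [h] at hall
  have he : e = 4 := by
    have hmem := card_sylow_mem (p := 5) hnc (k := 1) (m := 864) one_ne_zero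
      (by rw [h]; norm_num) (by norm_num)
    rw [show ((Nat.divisors 864).filter fun n => n % 5 = 1 ∧ 1 < n) = {6, 16, 36, 96, 216} from by
      decide +kernel] at hmem
    simp only [Finset.mem_insert, Finset.mem_singleton] at hmem
    have hle := Nat.le_of_dvd (by norm_num) he2
    rcases hmem with e' | e' | e' | e' | e' <;> rw [e'] at hall <;> omega
  subst he
  obtain ⟨⟨x, hxP⟩, hxo⟩ := exists_prime_orderOf_dvd_card' (G := (P : Subgroup G)) 5 (by rw [h5 P])
  rw [Subgroup.orderOf_mk] at hxo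
  have hx1 : x ≠ 1 := fun e => by rw [e, orderOf_one] at hxo; omega
  have hPx := eq_zpowers_of_mem (h5 P) hxP hx1
  have hCx : Subgroup.centralizer ({x} : Set G) = (P : Subgroup G) := by
    rw [← Order504.centralizer_eq_of_zpowers hPx, hCP]
  set N := Subgroup.normalizer ((P : Subgroup G) : Set G) with hNdef
  -- all nontrivial elements of `P` are conjugate
  have hconj : ∀ y ∈ (P : Subgroup G), y ≠ 1 → IsConj x y := by
    intro y hy hy1
    let f : N ⧸ (P : Subgroup G).subgroupOf N → {z : (P : Subgroup G) // z ≠ 1} :=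
      Quotient.lift (fun g : N => ⟨⟨(g : G) * x * (g : G)⁻¹,
        (Subgroup.mem_normalizer_iff.1 g.2 x).1 hxP⟩,
        fun e => hx1 (conj_eq_one_iff.1 (congrArg Subtype.val e))⟩) (fun g g' hg => by
          have hg' : (g : G)⁻¹ * (g' : G) ∈ Subgroup.centralizer ({x} : Set G) := by
            rw [hCx]
            exact Subgroup.mem_subgroupOf.1 (QuotientGroup.leftRel_apply.1
              (show QuotientGroup.leftRel ((P : Subgroup G).subgroupOf N) g g' from hg))
          have hc := Subgroup.mem_centralizer_singleton_iff.1 hg'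
          refine Subtype.ext (Subtype.ext ?_)
          calc (g : G) * x * (g : G)⁻¹
              = (g : G) * (x * ((g : G)⁻¹ * g')) * (g' : G)⁻¹ := by group
            _ = (g : G) * (((g : G)⁻¹ * g') * x) * (g' : G)⁻¹ := by rw [hc]
            _ = (g' : G) * x * (g' : G)⁻¹ := by group)
    have hinj : Function.Injective f := by
      intro a b
      refine Quotient.inductionOn₂' a b fun g g' hgg => ?_
      have hgg' : (g : G) * x * (g : G)⁻¹ = (g' : G) * x * (g' : G)⁻¹ :=
        congrArg (fun z : {z : (P : Subgroup G) // z ≠ 1} => ((z : (P : Subgroup G)) : G)) hgg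
      refine QuotientGroup.eq.2 ?_
      show (g : G)⁻¹ * (g' : G) ∈ (P : Subgroup G)
      rw [← hCx, Subgroup.mem_centralizer_singleton_iff]
      calc (g : G)⁻¹ * g' * x = (g : G)⁻¹ * ((g' : G) * x * (g' : G)⁻¹) * g' := by group
        _ = (g : G)⁻¹ * ((g : G) * x * (g : G)⁻¹) * g' := by rw [hgg']
        _ = x * ((g : G)⁻¹ * g') := by group
    have hcardQ : Nat.card (N ⧸ (P : Subgroup G).subgroupOf N) = 4 := by
      have h1 := ((P : Subgroup G).subgroupOf N).index_mul_card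
      rw [Nat.card_congr (Subgroup.subgroupOfEquivOfLe Subgroup.le_normalizer).toEquiv, h5 P,
        ← hCe, Subgroup.index_eq_card] at h1
      omega
    have hcardT : Nat.card {z : (P : Subgroup G) // z ≠ 1} = 4 := by
      have : Fintype (P : Subgroup G) := Fintype.ofFinite _
      rw [Nat.card_eq_fintype_card, Fintype.card_subtype_compl, Fintype.card_subtype_eq,
        ← Nat.card_eq_fintype_card, h5 P]
    obtain ⟨q, hq⟩ := (hinj.bijective_of_nat_card_le (by rw [hcardQ, hcardT])).2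
      ⟨⟨y, hy⟩, fun e => hy1 (congrArg Subtype.val e)⟩
    induction q using Quotient.inductionOn' with
    | h g => exact isConj_iff.2 ⟨g, congrArg
        (fun z : {z : (P : Subgroup G) // z ≠ 1} => ((z : (P : Subgroup G)) : G)) hq⟩
  -- the inverting involution
  obtain ⟨⟨s, hsN⟩, hso⟩ := exists_prime_orderOf_dvd_card' (G := N) 2 (by rw [← hCe]; norm_num)
  rw [Subgroup.orderOf_mk] at hso
  have hss : s * s = 1 := by rw [← pow_two, ← hso, pow_orderOf_eq_one]
  have hsinv : s * x * s⁻¹ = x⁻¹ := by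
    refine conj_eq_inv_of_sq_commute (p := 5) hxo (by rw [← hPx]; exact hsN) (fun e => ?_)
      (by rw [hss]; simp)
    have hsP : s ∈ (P : Subgroup G) := by
      rw [← hCx, Subgroup.mem_centralizer_singleton_iff]
      exact mul_inv_eq_iff_eq_mul.1 e
    have := orderOf_dvd_natCard (⟨s, hsP⟩ : (P : Subgroup G))
    rw [Subgroup.orderOf_mk, hso, h5 P] at this
    norm_num at this
  have hpairs : (pairs s s {x}).card = 5 := by
    rw [show (5 : ℕ) = ((Finset.univ.filter fun z => z ∈ (P : Subgroup G))).card by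
      rw [← Fintype.card_subtype, ← Nat.card_eq_fintype_card]; exact (h5 P).symm]
    symm
    refine Finset.card_bij (fun t _ => (t * s, s * t⁻¹ * x)) (fun t ht => ?_)
      (fun t _ t' _ e => mul_right_cancel (congrArg Prod.fst e)) (fun z hz => ?_)
    · have htP := (Finset.mem_filter.1 ht).2
      rw [hPx, Subgroup.mem_zpowers_iff] at htP
      obtain ⟨i, rfl⟩ := htP
      have key : ∀ j : ℤ, x ^ (2 * j) * s = x ^ j * s * (x ^ j)⁻¹ := by
        intro j
        have h1 : s * (x ^ j)⁻¹ = x ^ j * s := by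
          have : s * (x ^ j)⁻¹ * s⁻¹ = x ^ j := by
            rw [← zpow_neg, ← conj_zpow, hsinv, inv_zpow', neg_neg]
          conv_rhs => rw [← this]
          group
        rw [mul_assoc, h1, ← mul_assoc, ← zpow_add, two_mul]
      refine Finset.mem_filter.2 ⟨Finset.mem_product.2 ⟨mem_cls.2 ?_, mem_cls.2 ?_⟩,
        Finset.mem_singleton.2 ?_⟩
      · refine isConj_iff.2 ⟨x ^ (3 * i), ?_⟩
        rw [← key]
        congr 1
        rw [zpow_eq_zpow_iff_modEq, hxo]
        exact Int.modEq_iff_dvd.2 ⟨-i, by push_cast; ring⟩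
      · refine isConj_iff.2 ⟨x ^ (3 * (i - 1)), ?_⟩
        rw [← key]
        have h1 : x ^ (i - 1) * s = s * (x ^ i)⁻¹ * x := by
          have h2 : s * ((x ^ (i - 1))⁻¹) * s⁻¹ = x ^ (i - 1) := by
            rw [← zpow_neg, ← conj_zpow, hsinv, inv_zpow', neg_neg]
          conv_lhs => rw [← h2]
          group
        rw [← h1]
        congr 1
        rw [zpow_eq_zpow_iff_modEq, hxo]
        exact Int.modEq_iff_dvd.2 ⟨-(i - 1), by push_cast; ring⟩
      · calc x ^ i * s * (s * (x ^ i)⁻¹ * x) = x ^ i * (s * s) * (x ^ i)⁻¹ * x := by group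
          _ = x := by rw [hss]; group
    · obtain ⟨hz1, hz2⟩ := Finset.mem_filter.1 hz
      obtain ⟨hu, hw⟩ := Finset.mem_product.1 hz1
      rw [Finset.mem_singleton] at hz2
      have hinvol : ∀ u : G, IsConj s u → u * u = 1 := by
        intro u hu
        obtain ⟨c, rfl⟩ := isConj_iff.mp hu
        rw [show c * s * c⁻¹ * (c * s * c⁻¹) = c * (s * s) * c⁻¹ by group, hss]; simp
      have huu := hinvol _ (mem_cls.1 hu)
      have hww := hinvol _ (mem_cls.1 hw)
      have hinv : z.1 * x * z.1⁻¹ = x⁻¹ := by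
        rw [← hz2, mul_inv_rev, ← mul_assoc, huu, one_mul, inv_eq_of_mul_eq_one_right hww]
      refine ⟨z.1 * s⁻¹, Finset.mem_filter.2 ⟨Finset.mem_univ _, ?_⟩,
        Prod.ext (inv_mul_cancel_right _ _) ?_⟩
      · rw [← hCx, Subgroup.mem_centralizer_singleton_iff]
        have h1 : s⁻¹ * x * s = x⁻¹ := by
          have hsi : s⁻¹ = s := inv_eq_of_mul_eq_one_right hss
          calc s⁻¹ * x * s = s * x * s⁻¹ := by rw [hsi]
            _ = x⁻¹ := hsinv
        calc z.1 * s⁻¹ * x = z.1 * (s⁻¹ * x * s) * s⁻¹ := by group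
          _ = z.1 * x⁻¹ * s⁻¹ := by rw [h1]
          _ = (z.1 * x * z.1⁻¹)⁻¹ * z.1 * s⁻¹ := by group
          _ = x * (z.1 * s⁻¹) := by rw [hinv]; group
      · calc s * (z.1 * s⁻¹)⁻¹ * x = s * s * z.1⁻¹ * x := by group
          _ = z.1⁻¹ * (z.1 * z.2) := by rw [hss, one_mul, hz2]
          _ = z.2 := inv_mul_cancel_left _ _
  -- values
  have hdeg : ∀ χ : IrrCharacter G, ∃ D : ℕ, (χ : G → ℂ) 1 = D ∧ 0 < D ∧ D ∣ Nat.card G :=
    fun χ => ⟨_, (degree_eq χ).1, (degree_eq χ).2.2, (degree_eq χ).2.1⟩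
  choose D hD hD0 hDdvd using hdeg
  choose c hc hcc hc5 using fun χ => value_five h5 hxP hconj χ (hD χ)
  have hcx : Nat.card (Subgroup.centralizer ({x} : Set G)) = 5 := by rw [hCx, h5 P]
  have hsum5 : ∑ χ, c χ ^ 2 = 5 := by
    have h0 := column_orth x x
    rw [if_pos (IsConj.refl x), hcx, Finset.sum_congr rfl (g := fun χ => ((c χ ^ 2 : ℤ) : ℂ))
      (fun χ _ => by rw [hcc, hc]; push_cast; ring)] at h0
    exact_mod_cast h0
  have hsum1 : ∑ χ, c χ * (D χ : ℤ) = 0 := by
    have h0 := column_orth x (1 : G)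
    rw [if_neg (fun e => hx1 (isConj_one_right.1 e.symm)),
      Finset.sum_congr rfl (g := fun χ => ((c χ * (D χ : ℤ) : ℤ) : ℂ))
      (fun χ _ => by rw [hD, hc, map_natCast]; push_cast; ring)] at h0
    exact_mod_cast h0
  set π := principalIrr G with hπ
  have hcπ : c π = 1 := by
    have := hc π
    rw [hπ, principalIrr_apply] at this
    exact_mod_cast this.symm
  have hDπ : D π = 1 := by
    have := hD π
    rw [hπ, principalIrr_apply] at this
    exact_mod_cast this.symm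
  set T := (Finset.univ.erase π).filter fun χ => c χ ≠ 0 with hT
  have hsplit : ∀ {M : Type} [AddCommMonoid M] (F : IrrCharacter G → M), (∀ χ, c χ = 0 → F χ = 0) →
      ∑ χ, F χ = F π + ∑ χ ∈ T, F χ := by
    intro M _ F hF
    rw [← Finset.add_sum_erase _ _ (Finset.mem_univ π), hT, Finset.sum_filter_of_ne]
    exact fun χ _ hne h0 => hne (hF χ h0)
  have h4 : ∑ χ ∈ T, c χ ^ 2 = 4 := by
    have := hsplit (fun χ => c χ ^ 2) (fun χ h0 => by simp [h0])
    rw [hsum5, hcπ] at this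
    linarith
  have h1T : 1 + ∑ χ ∈ T, c χ * (D χ : ℤ) = 0 := by
    have := hsplit (fun χ => c χ * (D χ : ℤ)) (fun χ h0 => by simp [h0])
    rw [hsum1, hcπ, hDπ] at this
    push_cast at this
    linarith
  have hge : ∀ χ ∈ T, 1 ≤ c χ ^ 2 := fun χ hχ => by
    have := (Finset.mem_filter.1 hχ).2
    have : 0 < c χ ^ 2 := lt_of_le_of_ne (sq_nonneg _) (Ne.symm (pow_ne_zero 2 this))
    omega
  have hunit : ∀ χ ∈ T, c χ = 1 ∨ c χ = -1 := by
    intro χ hχ
    have hle := Finset.single_le_sum (fun t _ => sq_nonneg (c t)) hχ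
    rw [h4] at hle
    have hb : c χ ≤ 2 := by nlinarith
    have hb' : -2 ≤ c χ := by nlinarith
    have hne := (Finset.mem_filter.1 hχ).2
    by_contra hcon
    rw [not_or] at hcon
    have h22 : c χ = 2 ∨ c χ = -2 := by omega
    have hT1 : T = {χ} := by
      refine Finset.eq_singleton_iff_unique_mem.2 ⟨hχ, fun t ht => by_contra fun hne' => ?_⟩
      have h2 := Finset.sum_le_sum_of_subset_of_nonneg
        (Finset.insert_subset_iff.2 ⟨ht, Finset.singleton_subset_iff.2 hχ⟩)
        (fun t _ _ => sq_nonneg (c t))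
      rw [h4, Finset.sum_pair hne'] at h2
      have := hge t ht
      rcases h22 with e | e <;> rw [e] at h2 <;> linarith
    rw [hT1, Finset.sum_singleton] at h1T
    rcases h22 with e | e <;> rw [e] at h1T <;> omega
  have hcard : T.card = 4 := by
    rw [Finset.sum_congr rfl (g := fun _ => (1 : ℤ))
      (fun χ hχ => by rcases hunit χ hχ with e | e <;> rw [e] <;> norm_num)] at h4
    simp at h4
    exact_mod_cast h4
  have hbound : 1 + ∑ χ ∈ T, D χ ^ 2 ≤ 4320 := by
    have h0 : ∑ χ, D χ ^ 2 = Nat.card G := by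
      have := sum_sq_degrees (G := G)
      simp only [hD] at this
      exact_mod_cast this
    rw [← h, ← h0, ← Finset.add_sum_erase _ _ (Finset.mem_univ π), hDπ]
    have := Finset.sum_le_sum_of_subset (f := fun χ => D χ ^ 2) (s := T)
      (Finset.filter_subset _ (Finset.univ.erase π))
    omega
  have hsign : ∀ χ ∈ T, c χ = (if D χ % 5 = 1 then (1 : ℤ) else -1) ∧
      D χ ∈ ({4, 6, 9, 16, 24, 36, 54} : Finset ℕ) ∧ χ ≠ principalIrr G := by
    intro χ hχ
    have hne : χ ≠ π := Finset.ne_of_mem_erase (Finset.mem_filter.1 hχ).1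
    have hm := hc5 χ
    have hlt : D χ < 66 := by
      have := Finset.single_le_sum (fun t _ => Nat.zero_le (D t ^ 2)) hχ
      nlinarith
    have hD1 : 1 < D χ := by
      by_contra hle
      have hD1 : D χ = 1 := by have := hD0 χ; omega
      refine hne ?_
      obtain ⟨_, n, ρ, hρ, rfl⟩ := χ
      haveI := hρ
      have hd := hD ⟨ρ.character, n, ρ, hρ, rfl⟩
      rw [hD1] at hd
      change ρ.character 1 = _ at hd
      rw [Representation.char_one, Nat.cast_one, Nat.cast_eq_one] at hd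
      refine CfsgLib.Burnside.eq_one_of_irr_const (c := (1 : ℂ)) fun g => ?_
      change ρ.character g = 1
      obtain ⟨b, ω, -, hb⟩ := exists_eigenbasis ρ g
      haveI : Subsingleton (Fin (Module.finrank ℂ (Fin n → ℂ))) := by rw [hd]; infer_instance
      have hdet : LinearMap.det (ρ g) = 1 := congrArg Units.val (hom_comm_eq_one hnc
        (MonoidHom.toHomUnits ((LinearMap.det : ((Fin n → ℂ) →ₗ[ℂ] (Fin n → ℂ)) →* ℂ).comp ρ)) g)
      let i₀ : Fin (Module.finrank ℂ (Fin n → ℂ)) := ⟨0, by omega⟩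
      have hM : LinearMap.toMatrix b b (ρ g) i₀ i₀ = ω i₀ := by
        rw [LinearMap.toMatrix_apply, hb, map_smul, Module.Basis.repr_self]; simp
      rw [character_eq_sum_of_eigenbasis ρ g b ω hb, Fintype.sum_subsingleton _ i₀, ← hM]
      rw [← hdet, ← LinearMap.det_toMatrix b]
      exact_mod_cast (Matrix.det_eq_elem_of_subsingleton (LinearMap.toMatrix b b (ρ g)) i₀).symm
    refine ⟨?_, degree_mem _ (Finset.mem_range.2 hlt) (h ▸ hDdvd χ) hD1 ?_, hne⟩
    · rcases hunit χ hχ with e | e <;> rw [e] at hm ⊢ <;> split_ifs <;> omega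
    · rcases hunit χ hχ with e | e <;> rw [e] at hm <;> omega
  -- enumerate
  obtain ⟨f0, hf0⟩ : ∃ f0 : Fin 4 ≃ T, True :=
    ⟨(Fintype.equivFinOfCardEq (by rw [Fintype.card_coe, hcard])).symm, trivial⟩
  set σ := Tuple.sort (fun i => D (f0 i).1)
  set f : Fin 4 ≃ T := σ.trans f0
  have hmono : Monotone (fun i => D (f i).1) := fun a b hab =>
    Tuple.monotone_sort (fun i => D (f0 i).1) hab
  have hsumT : ∀ {M : Type} [AddCommMonoid M] (F : IrrCharacter G → M),
      ∑ χ ∈ T, F χ = ∑ i, F (f i).1 := by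
    intro M _ F
    rw [← Finset.sum_coe_sort T, ← Equiv.sum_comp f (fun t : T => F t.1)]
  have hcases := degree_cases _ (hsign _ (f 0).2).2.1 _ (hsign _ (f 1).2).2.1 (hmono (by decide))
    _ (hsign _ (f 2).2).2.1 (hmono (by decide)) _ (hsign _ (f 3).2).2.1 (hmono (by decide)) (by
      refine ⟨?_, ?_⟩
      · rw [← h1T, hsumT, Fin.sum_univ_four, (hsign _ (f 0).2).1, (hsign _ (f 1).2).1,
          (hsign _ (f 2).2).1, (hsign _ (f 3).2).1]
        simp only [ite_mul, one_mul, neg_mul]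
      · rw [hsumT, Fin.sum_univ_four] at hbound
        exact hbound)
  -- values at the involution
  choose v hv hv4 hvlt using fun i : Fin 4 =>
    value_involution hnc (hsign _ (f i).2).2.2 hso (hD (f i).1)
  set r := Nat.card (Subgroup.centralizer ({s} : Set G)) with hr
  have hr0 : 0 < r := Nat.card_pos
  refine no_solution (fun i => D (f i).1) v r hcases hv4 hvlt (by exact_mod_cast hr0) ?_ ?_ ?_
  · have h0 := column_orth s x
    rw [if_neg, hsplit _ (fun χ h0 => by rw [hcc, h0, Int.cast_zero, mul_zero]), hcc, hcπ, hπ,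
      principalIrr_apply, hsumT, Finset.sum_congr rfl
      (g := fun i => (((if D (f i).1 % 5 = 1 then (1 : ℤ) else -1) * v i : ℤ) : ℂ))
      (fun i _ => by rw [hcc, hv, (hsign _ (f i).2).1]; push_cast; ring)] at h0
    · push_cast at h0
      rw [one_mul] at h0
      exact_mod_cast h0
    · intro e
      obtain ⟨g, hg⟩ := isConj_iff.1 e
      have := (SemiconjBy.orderOf_eq g (show SemiconjBy g s x by simp [SemiconjBy, ← hg]))
      rw [hso, hxo] at this
      norm_num at this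
  · have h0 := column_orth s s
    rw [if_pos (IsConj.refl s)] at h0
    have hre : (r : ℝ) = ∑ χ : IrrCharacter G, Complex.normSq ((χ : G → ℂ) s) := by
      have := congrArg Complex.re h0
      simp only [Complex.re_sum, Complex.mul_conj, Complex.ofReal_re, Complex.natCast_re] at this
      exact this.symm
    have hle : ∑ χ ∈ insert π T, Complex.normSq ((χ : G → ℂ) s) ≤ (r : ℝ) := by
      rw [hre]
      exact Finset.sum_le_sum_of_subset_of_nonneg (Finset.subset_univ _)
        fun χ _ _ => Complex.normSq_nonneg _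
    rw [Finset.sum_insert (fun hm => Finset.ne_of_mem_erase (Finset.mem_filter.1 hm).1 rfl),
      hπ, principalIrr_apply, map_one, hsumT, Finset.sum_congr rfl
      (g := fun i => ((v i ^ 2 : ℤ) : ℝ)) (fun i _ => by
        rw [hv, Complex.normSq_intCast]; push_cast; ring)] at hle
    exact_mod_cast hle
  · have h0 := card_pairs_mul s s ({x} : Finset G)
    rw [hpairs, h] at h0
    simp only [Finset.sum_singleton, irr_apply_inv, hcc] at h0
    rw [hsplit _ (fun χ h0 => by simp [h0]), hcπ, hsumT] at h0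
    simp only [centralChar, hD, hπ, principalIrr_apply, hv, (hsign _ (f _).2).1] at h0
    have hidx : ((Subgroup.centralizer ({s} : Set G)).index : ℂ) * (r : ℂ) = 4320 := by
      have := (Subgroup.centralizer ({s} : Set G)).index_mul_card
      rw [h, ← hr] at this
      exact_mod_cast this
    have hne : ∀ i, ((D (f i).1 : ℕ) : ℂ) ≠ 0 := fun i => Nat.cast_ne_zero.2 (hD0 _).ne'
    have hI : ((Subgroup.centralizer ({s} : Set G)).index : ℂ) ≠ 0 :=
      Nat.cast_ne_zero.2 Subgroup.index_ne_zero_of_finite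
    have key : ((r : ℂ) ^ 2 / 864) = 1 + ∑ i, ((((if D (f i).1 % 5 = 1 then (1 : ℤ) else -1) : ℤ) : ℂ)
        * (v i : ℂ) ^ 2 / (D (f i).1 : ℂ)) := by
      have h1 : ((5 : ℕ) : ℂ) * ((4320 : ℕ) : ℂ) =
          ((Subgroup.centralizer ({s} : Set G)).index : ℂ) ^ 2 *
          (1 + ∑ i, ((((if D (f i).1 % 5 = 1 then (1 : ℤ) else -1) : ℤ) : ℂ)
            * (v i : ℂ) ^ 2 / (D (f i).1 : ℂ))) := by
        rw [h0, mul_add, Finset.mul_sum]
        congr 1
        · rw [← hπ, hDπ]; push_cast; ring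
        · refine Finset.sum_congr rfl fun i _ => ?_
          have := hne i
          field_simp
      simp only [Nat.cast_ofNat] at h1
      have h2 : (r : ℂ) ^ 2 / 864 * ((Subgroup.centralizer ({s} : Set G)).index : ℂ) ^ 2 =
          5 * 4320 := by
        linear_combination ((((Subgroup.centralizer ({s} : Set G)).index : ℂ) * r + 4320) / 864) * hidx
      rw [h1, mul_comm] at h2
      exact mul_left_cancel₀ (pow_ne_zero 2 hI) h2
    have : (((r : ℚ) ^ 2 / 864 : ℚ) : ℂ) = ((1 + ∑ i, (((if D (f i).1 % 5 = 1 then (1 : ℤ) else -1) : ℤ) : ℚ)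
        * (v i : ℚ) ^ 2 / (D (f i).1 : ℚ) : ℚ) : ℂ) := by
      simp only [Rat.cast_add, Rat.cast_sum, Rat.cast_div, Rat.cast_mul, Rat.cast_pow,
        Rat.cast_intCast, Rat.cast_natCast, Rat.cast_one, Rat.cast_ofNat]
      exact key
    rw [Int.cast_natCast]
    exact Rat.cast_injective this

end CfsgLib.Small.Order4320
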