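import Mathlib

/-!
The finite search for the values of the characters at an element of order 7 and at an involution
in a group of order 5040: no combination of types satisfies the class formula.
-/

set_option autoImplicit false

namespace CfsgLib.Small.Order5040

/-- Possible types `(degree, value at an element of order 7, value at the involution)`. -/
def types : List (ℕ × ℤ × ℤ) :=
  [(6,-1,-2),(6,-1,2),(8,1,0),(8,1,-4),(8,1,4),(9,2,-3),(9,2,1),(9,2,5),(12,-2,0),(12,-2,-4),
  (12,-2,4),(15,1,-5),(15,1,-1),(15,1,3),(16,2,0),(16,2,-4),(16,2,4),(20,-1,0),(20,-1,-4),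
  (20,-1,4),(30,2,-6),(30,2,-2),(30,2,2),(30,2,6),(36,1,0),(36,1,-4),(36,1,4),(40,-2,0),
  (40,-2,-4),(40,-2,4),(48,-1,0),(48,-1,-4),(48,-1,4)]

def leaf (left : ℕ) (a e g : ℤ) : Bool :=
  left == 0 && a == -1 && e == -1 && (7 * (720 + g)) % 1600 == 0

def take (d : ℕ) (c v : ℤ) (w : ℕ) (g' : ℤ) (next : ℕ → ℤ → ℕ → ℤ → ℤ → ℤ → Bool) :
    ℕ → ℕ → ℤ → ℕ → ℤ → ℤ → ℤ → Bool
  | 0, left, a, b, e, f, g => next left a b e f g
  | n + 1, left, a, b, e, f, g =>
    next left a b e f g || (Nat.ble w left && Nat.ble (b + d * d) 5039 &&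
      decide (f + v * v ≤ 39) &&
      take d c v w g' next n (left - w) (a + c * d) (b + d * d) (e + c * v) (f + v * v) (g + g'))

/-- The contribution of a type to the class formula. -/
def gTerm (t : ℕ × ℤ × ℤ) : ℤ := t.2.1 * ((720 / t.1 : ℕ) : ℤ) * t.2.2 * t.2.2

def search : List (ℕ × ℤ × ℤ) → ℕ → ℤ → ℕ → ℤ → ℤ → ℤ → Bool
  | [], left, a, _, e, _, g => leaf left a e g
  | (d, c, v) :: L, left, a, b, e, f, g =>
    if left == 0 then leaf left a e g else
    take d c v (c.natAbs ^ 2) (gTerm (d, c, v)) (search L) 6 left a b e f g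

theorem take_true (d : ℕ) (c v : ℤ) (w : ℕ) (g' : ℤ) (next : ℕ → ℤ → ℕ → ℤ → ℤ → ℤ → Bool) :
    ∀ (m n left : ℕ) (a : ℤ) (b : ℕ) (e f g : ℤ), m ≤ n → m * w ≤ left → b + m * (d * d) ≤ 5039 →
      f + m * (v * v) ≤ 39 →
      next (left - m * w) (a + m * (c * d)) (b + m * (d * d)) (e + m * (c * v)) (f + m * (v * v))
        (g + m * g') = true →
      take d c v w g' next n left a b e f g = true := by
  intro m
  induction m with
  | zero =>
    intro n left a b e f g _ _ _ _ h
    simp only [Nat.zero_mul, Nat.sub_zero, Nat.cast_zero, zero_mul, add_zero] at h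
    cases n <;> simp [take, h]
  | succ m ih =>
    intro n left a b e f g hn hw hb hf h
    obtain ⟨n, rfl⟩ : ∃ k, n = k + 1 := ⟨n - 1, by omega⟩
    rw [Nat.succ_mul] at hw hb h
    have hv : 0 ≤ (m : ℤ) * (v * v) := mul_nonneg (by positivity) (mul_self_nonneg v)
    have h1 : take d c v w g' next n (left - w) (a + c * d) (b + d * d) (e + c * v) (f + v * v)
        (g + g') = true := by
      refine ih n _ _ _ _ _ _ (by omega) (by omega) (by omega) (by push_cast at hf; linarith) ?_
      convert h using 2 <;> first | omega | (push_cast; ring)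
    have hf' : f + v * v ≤ 39 := by push_cast at hf; linarith
    simp only [take, h1, hf', decide_true, Bool.and_true, Bool.or_eq_true, Bool.and_eq_true,
      Nat.ble_eq]
    exact Or.inr ⟨by omega, by omega⟩

theorem search_true : ∀ (L : List (ℕ × ℤ × ℤ)) (m : ℕ × ℤ × ℤ → ℕ) (left : ℕ) (a : ℤ) (b : ℕ)
    (e f g : ℤ), (∀ t ∈ L, t.2.1 ≠ 0) → left ≤ 6 →
    (L.map fun t => m t * t.2.1.natAbs ^ 2).sum = left →
    b + (L.map fun t => m t * (t.1 * t.1)).sum ≤ 5039 →
    f + (L.map fun t => (m t : ℤ) * (t.2.2 * t.2.2)).sum ≤ 39 →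
    a + (L.map fun t => (m t : ℤ) * (t.2.1 * t.1)).sum = -1 →
    e + (L.map fun t => (m t : ℤ) * (t.2.1 * t.2.2)).sum = -1 →
    (7 * (720 + (g + (L.map fun t => (m t : ℤ) * gTerm t).sum))) % 1600 = 0 →
    search L left a b e f g = true := by
  intro L
  induction L with
  | nil =>
    intro m left a b e f g _ _ hl _ _ ha he hg
    simp only [List.map_nil, List.sum_nil, add_zero] at hl ha he hg
    simp [search, leaf, ← hl, ha, he, hg]
  | cons t L ih =>
    intro m left a b e f g hc h6 hl hb hf ha he hg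
    obtain ⟨d, c, v⟩ := t
    simp only [List.map_cons, List.sum_cons] at hl hb hf ha he hg
    have hc' : ∀ t ∈ L, t.2.1 ≠ 0 := fun t ht => hc t (List.mem_cons_of_mem _ ht)
    rcases Nat.eq_zero_or_pos left with h0 | hpos
    · -- nothing is left
      have hz : ∀ t ∈ (d, c, v) :: L, m t = 0 := by
        intro t ht
        have hle : m t * t.2.1.natAbs ^ 2 ≤
            (((d, c, v) :: L).map fun t => m t * t.2.1.natAbs ^ 2).sum :=
          List.le_sum_of_mem (List.mem_map.2 ⟨t, ht, rfl⟩)
        rw [List.map_cons, List.sum_cons, hl, h0, Nat.le_zero, mul_eq_zero] at hle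
        exact hle.resolve_right (pow_ne_zero _ (Int.natAbs_ne_zero.2 (hc t ht)))
      have hs : ∀ F : ℕ × ℤ × ℤ → ℤ, (m (d, c, v) : ℤ) * F (d, c, v) +
          (L.map fun t => (m t : ℤ) * F t).sum = 0 := by
        intro F
        rw [hz _ (List.mem_cons_self ..), Nat.cast_zero, zero_mul, zero_add]
        exact List.sum_eq_zero fun x hx => by
          obtain ⟨t, ht, rfl⟩ := List.mem_map.1 hx
          rw [hz t (List.mem_cons_of_mem _ ht), Nat.cast_zero, zero_mul]
      rw [hs fun t => t.2.1 * t.1, add_zero] at ha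
      rw [hs fun t => t.2.1 * t.2.2, add_zero] at he
      rw [hs gTerm, add_zero] at hg
      simp [search, leaf, h0, ha, he, hg]
    · have hw : 1 ≤ c.natAbs ^ 2 := Nat.one_le_pow _ _
        (Int.natAbs_pos.2 (hc (d, c, v) (List.mem_cons_self ..)))
      have hk : m (d, c, v) * 1 ≤ m (d, c, v) * c.natAbs ^ 2 := Nat.mul_le_mul_left _ hw
      have hf0 : 0 ≤ (L.map fun t => (m t : ℤ) * (t.2.2 * t.2.2)).sum :=
        List.sum_nonneg fun x hx => by
          obtain ⟨t, -, rfl⟩ := List.mem_map.1 hx
          exact mul_nonneg (Nat.cast_nonneg _) (mul_self_nonneg _)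
      simp only [search, show (left == 0) = false by simp [hpos.ne'], Bool.false_eq_true, if_false]
      refine take_true d c v _ _ _ (m (d, c, v)) 6 left a b e f g (by omega) (by omega) (by omega)
        (by linarith) ?_
      refine ih m _ _ _ _ _ _ hc' (by omega) (by omega) (by omega) (by linarith) (by linarith)
        (by linarith) ?_
      rw [← hg]; congr 1; ring

set_option maxHeartbeats 0 in
theorem search_types : search types 6 0 0 0 0 0 = false := by decide +kernel

/-- No multiset of types satisfies all the relations. -/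
theorem no_types (m : ℕ × ℤ × ℤ → ℕ)
    (hw : (types.map fun t => m t * t.2.1.natAbs ^ 2).sum = 6)
    (hD : (types.map fun t => m t * (t.1 * t.1)).sum ≤ 5039)
    (hv : (types.map fun t => (m t : ℤ) * (t.2.2 * t.2.2)).sum ≤ 39)
    (ha : (types.map fun t => (m t : ℤ) * (t.2.1 * t.1)).sum = -1)
    (he : (types.map fun t => (m t : ℤ) * (t.2.1 * t.2.2)).sum = -1)
    (hg : (7 * (720 + (types.map fun t => (m t : ℤ) * gTerm t).sum)) % 1600 = 0) : False := by
  have h := search_true types m 6 0 0 0 0 0 (by decide) le_rfl hw (by simpa using hD)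
    (by simpa using hv) (by simpa using ha) (by simpa using he) (by simpa using hg)
  rw [search_types] at h
  exact Bool.false_ne_true h

end CfsgLib.Small.Order5040
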