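import Cfsg.Agent.Lib.Small.Order5040Five
import Cfsg.Agent.Lib.Small.Order5040Search
import Cfsg.Agent.Lib.Small.Order4320
import Cfsg.Agent.Lib.Small.Order5760

/-!
No simple group has order 5040: the values of the characters at an element of order 7 and at an
involution with centraliser of order 40 are inconsistent.
-/

set_option autoImplicit false
set_option linter.style.haveILetI false

noncomputable section

namespace CfsgLib.Small.Order5040

open Cfsg CfsgLib.Characters CfsgLib.ClassCount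
open scoped ComplexConjugate

universe u

variable {G : Type u} [Group G] [Fintype G]

/-- The values at a self-centralising element `x` of order seven with all six nontrivial powers
conjugate. -/
theorem value_seven (h7 : ∀ P : Sylow 7 G, Nat.card P = 7) {P : Sylow 7 G} {x : G}
    (hconj : ∀ y ∈ (P : Subgroup G), y ≠ 1 → IsConj x y) (χ : IrrCharacter G) {D : ℕ}
    (hD : (χ : G → ℂ) 1 = D) :
    ∃ c : ℤ, (χ : G → ℂ) x = c ∧ conj ((χ : G → ℂ) x) = c ∧ (c - D) % 7 = 0 := by
  classical
  have : Fintype (P : Subgroup G) := Fintype.ofFinite _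
  obtain ⟨m, hm⟩ := exists_mult χ (P : Subgroup G)
  have hval : ∀ t : (P : Subgroup G), t ≠ 1 → (χ : G → ℂ) ((t : G)⁻¹) = (χ : G → ℂ) x := by
    intro t ht
    obtain ⟨g, hg⟩ := isConj_iff.1 (hconj (t : G)⁻¹ (inv_mem t.2)
      (inv_ne_one.2 fun e => ht (Subtype.ext e)))
    rw [← hg]
    exact irr_isClassFunction χ x g
  rw [← Finset.add_sum_erase _ _ (Finset.mem_univ (1 : (P : Subgroup G))),
    Finset.sum_congr rfl (g := fun _ => (χ : G → ℂ) x)
      (fun t ht => hval t (Finset.ne_of_mem_erase ht)),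
    Finset.sum_const, Finset.card_erase_of_mem (Finset.mem_univ _), Finset.card_univ,
    ← Nat.card_eq_fintype_card, h7 P, OneMemClass.coe_one, inv_one, hD, nsmul_eq_mul] at hm
  push_cast at hm
  have hq : (χ : G → ℂ) x = ((((7 * m : ℤ) - D : ℤ) : ℚ) / 6 : ℚ) := by
    push_cast
    linear_combination hm / 6
  have hint : IsIntegral ℤ (((((7 * m : ℤ) - D : ℤ) : ℚ) / 6 : ℚ) : ℂ) := hq ▸ irr_isIntegral χ x
  obtain ⟨c, hc⟩ := exists_int_of_isIntegral_rat hint
  have hxc : (χ : G → ℂ) x = (c : ℂ) := by rw [hq, ← hc]; simp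
  refine ⟨c, hxc, by rw [hxc]; exact map_intCast _ c, ?_⟩
  have h6 : (6 * c : ℤ) = 7 * m - D := by
    have h : ((6 * c : ℤ) : ℚ) = (((7 * m : ℤ) - D : ℤ) : ℚ) := by
      push_cast
      rw [hc]; push_cast; ring
    exact_mod_cast h
  omega

theorem mem_types : ∀ d ∈ Finset.range 71, d ∣ 5040 → 1 < d →
    ∀ c ∈ ({-2, -1, 1, 2} : Finset ℤ), (c - (d : ℤ)) % 7 = 0 →
    ∀ v ∈ Finset.Icc (-6 : ℤ) 6, v % 4 = (d : ℤ) % 4 → v ^ 2 < (d : ℤ) ^ 2 →
    (Nat.gcd d 126 = 1 → v = 0) → (d, c, v) ∈ types := by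
  decide +kernel

theorem types_dvd : ∀ t ∈ types, t.1 ∣ 720 := by decide +kernel

theorem types_nodup : types.Nodup := by decide +kernel

variable [IsSimpleGroup G]

/-- Only the principal character is linear. -/
theorem eq_principal_of_degree_one (hnc : ¬ IsMulCommutative G) {χ : IrrCharacter G}
    (hd : (χ : G → ℂ) 1 = 1) : χ = principalIrr G := by
  obtain ⟨_, n, ρ, hρ, rfl⟩ := χ
  haveI := hρ
  change ρ.character 1 = _ at hd
  rw [Representation.char_one, Nat.cast_eq_one] at hd
  refine CfsgLib.Burnside.eq_one_of_irr_const (c := (1 : ℂ)) fun g => ?_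
  change ρ.character g = 1
  obtain ⟨b, ω, -, hb⟩ := exists_eigenbasis ρ g
  haveI : Subsingleton (Fin (Module.finrank ℂ (Fin n → ℂ))) := by rw [hd]; infer_instance
  have hdet : LinearMap.det (ρ g) = 1 := congrArg Units.val (hom_comm_eq_one hnc
    (MonoidHom.toHomUnits ((LinearMap.det : ((Fin n → ℂ) →ₗ[ℂ] (Fin n → ℂ)) →* ℂ).comp ρ)) g)
  let i₀ : Fin (Module.finrank ℂ (Fin n → ℂ)) := ⟨0, by omega⟩
  have hM : LinearMap.toMatrix b b (ρ g) i₀ i₀ = ω i₀ := by
    rw [LinearMap.toMatrix_apply, hb, map_smul, Module.Basis.repr_self]; simp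
  rw [character_eq_sum_of_eigenbasis ρ g b ω hb, Fintype.sum_subsingleton _ i₀, ← hM]
  rw [← hdet, ← LinearMap.det_toMatrix b]
  exact (Matrix.det_eq_elem_of_subsingleton (LinearMap.toMatrix b b (ρ g)) i₀).symm

set_option maxHeartbeats 1600000 in
theorem card_ne (h : Nat.card G = 5040) : False := by
  classical
  have : Fact (Nat.Prime 5) := ⟨by norm_num⟩
  have : Fact (Nat.Prime 7) := ⟨by norm_num⟩
  have hnc : ¬ IsMulCommutative G := nc h
  obtain ⟨P⟩ := (inferInstance : Nonempty (Sylow 7 G))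
  obtain ⟨hC, hN⟩ := (seven_structure h).2 P
  obtain ⟨x, hxP, hxo, -, hCx⟩ := exists_gen h P
  have hx1 : x ≠ 1 := fun e => by rw [e, orderOf_one] at hxo; omega
  have hcx : Nat.card (Subgroup.centralizer ({x} : Set G)) = 7 := by rw [← hCx, hC]
  set N := Subgroup.normalizer ((P : Subgroup G) : Set G) with hNdef
  -- all nontrivial elements of `P` are conjugate
  have hconj : ∀ y ∈ (P : Subgroup G), y ≠ 1 → IsConj x y := by
    intro y hy hy1
    set C := Subgroup.centralizer ({x} : Set G) with hCdef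
    let f : N ⧸ C.subgroupOf N → {z : (P : Subgroup G) // z ≠ 1} :=
      Quotient.lift (fun g : N => ⟨⟨(g : G) * x * (g : G)⁻¹,
        (Subgroup.mem_normalizer_iff.1 g.2 x).1 hxP⟩,
        fun e => hx1 (conj_eq_one_iff.1 (congrArg Subtype.val e))⟩) (fun g g' hg => by
          have hg' : (g : G)⁻¹ * (g' : G) ∈ C :=
            Subgroup.mem_subgroupOf.1 (QuotientGroup.leftRel_apply.1
              (show QuotientGroup.leftRel (C.subgroupOf N) g g' from hg))
          have hc := Subgroup.mem_centralizer_singleton_iff.1 hg'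
          refine Subtype.ext (Subtype.ext ?_)
          calc (g : G) * x * (g : G)⁻¹
              = (g : G) * (x * ((g : G)⁻¹ * g')) * (g' : G)⁻¹ := by group
            _ = (g : G) * (((g : G)⁻¹ * g') * x) * (g' : G)⁻¹ := by rw [hc]
            _ = (g' : G) * x * (g' : G)⁻¹ := by group)
    have hinj : Function.Injective f := by
      intro a b
      refine Quotient.inductionOn₂' a b fun g g' hgg => ?_
      have hgg' : (g : G) * x * (g : G)⁻¹ = (g' : G) * x * (g' : G)⁻¹ :=
        congrArg (fun z : {z : (P : Subgroup G) // z ≠ 1} => ((z : (P : Subgroup G)) : G)) hgg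
      refine QuotientGroup.eq.2 ?_
      show (g : G)⁻¹ * (g' : G) ∈ C
      rw [hCdef, Subgroup.mem_centralizer_singleton_iff]
      calc (g : G)⁻¹ * g' * x = (g : G)⁻¹ * ((g' : G) * x * (g' : G)⁻¹) * g' := by group
        _ = (g : G)⁻¹ * ((g : G) * x * (g : G)⁻¹) * g' := by rw [hgg']
        _ = x * ((g : G)⁻¹ * g') := by group
    have hcardQ : Nat.card (N ⧸ C.subgroupOf N) = 6 := by
      have h1 := (C.subgroupOf N).index_mul_card
      rw [Nat.card_congr (Subgroup.subgroupOfEquivOfLe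
        (hCx ▸ centralizer_le_normalizer' (P : Subgroup G) : C ≤ N)).toEquiv, hcx, hN,
        Subgroup.index_eq_card] at h1
      omega
    have hcardT : Nat.card {z : (P : Subgroup G) // z ≠ 1} = 6 := by
      have : Fintype (P : Subgroup G) := Fintype.ofFinite _
      rw [Nat.card_eq_fintype_card, Fintype.card_subtype_compl, Fintype.card_subtype_eq,
        ← Nat.card_eq_fintype_card, card_seven h P]
    obtain ⟨q, hq⟩ := (hinj.bijective_of_nat_card_le (by rw [hcardQ, hcardT])).2
      ⟨⟨y, hy⟩, fun e => hy1 (congrArg Subtype.val e)⟩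
    induction q using Quotient.inductionOn' with
    | h g => exact isConj_iff.2 ⟨g, congrArg
        (fun z : {z : (P : Subgroup G) // z ≠ 1} => ((z : (P : Subgroup G)) : G)) hq⟩
  obtain ⟨s, hso, hcs⟩ := exists_involution_forty h
  have hs1 : s ≠ 1 := fun e => by rw [e, orderOf_one] at hso; omega
  have hidx : (Subgroup.centralizer ({s} : Set G)).index = 126 := by
    have := (Subgroup.centralizer ({s} : Set G)).index_mul_card
    rw [h, hcs] at this
    omega
  -- values
  have hdeg : ∀ χ : IrrCharacter G, ∃ D : ℕ, (χ : G → ℂ) 1 = D ∧ 0 < D ∧ D ∣ Nat.card G :=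
    fun χ => ⟨_, (degree_eq χ).1, (degree_eq χ).2.2, (degree_eq χ).2.1⟩
  choose D hD hD0 hDdvd using hdeg
  choose c hc hcc hc7 using fun χ => value_seven (card_seven h) hconj χ (hD χ)
  set π := principalIrr G with hπ
  have hcπ : c π = 1 := by
    have := hc π
    rw [hπ, principalIrr_apply] at this
    exact_mod_cast this.symm
  have hDπ : D π = 1 := by
    have := hD π
    rw [hπ, principalIrr_apply] at this
    exact_mod_cast this.symm
  set T := (Finset.univ.erase π).filter fun χ => c χ ≠ 0 with hT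
  have hsplit : ∀ {M : Type} [AddCommMonoid M] (F : IrrCharacter G → M), (∀ χ, c χ = 0 → F χ = 0) →
      ∑ χ, F χ = F π + ∑ χ ∈ T, F χ := by
    intro M _ F hF
    rw [← Finset.add_sum_erase _ _ (Finset.mem_univ π), hT, Finset.sum_filter_of_ne]
    exact fun χ _ hne h0 => hne (hF χ h0)
  have hπT : π ∉ T := fun hm => Finset.ne_of_mem_erase (Finset.mem_filter.1 hm).1 rfl
  have h6 : ∑ χ ∈ T, c χ ^ 2 = 6 := by
    have h0 := column_orth x x
    rw [if_pos (IsConj.refl x), hcx, Finset.sum_congr rfl (g := fun χ => ((c χ ^ 2 : ℤ) : ℂ))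
      (fun χ _ => by rw [hcc, hc]; push_cast; ring)] at h0
    have h1 : ∑ χ, c χ ^ 2 = 7 := by exact_mod_cast h0
    rw [hsplit (fun χ => c χ ^ 2) (fun χ e => by simp [e]), hcπ] at h1
    linarith
  have hcD : ∑ χ ∈ T, c χ * (D χ : ℤ) = -1 := by
    have h0 := column_orth x (1 : G)
    rw [if_neg (fun e => hx1 (isConj_one_right.1 e.symm)),
      Finset.sum_congr rfl (g := fun χ => ((c χ * (D χ : ℤ) : ℤ) : ℂ))
      (fun χ _ => by rw [hD, hc, map_natCast]; push_cast; ring)] at h0
    have h1 : ∑ χ, c χ * (D χ : ℤ) = 0 := by exact_mod_cast h0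
    rw [hsplit (fun χ => c χ * (D χ : ℤ)) (fun χ e => by simp [e]), hcπ, hDπ] at h1
    push_cast at h1
    linarith
  have hbound : ∑ χ ∈ T, D χ * D χ ≤ 5039 := by
    have h0 : ∑ χ, D χ ^ 2 = Nat.card G := by
      have := sum_sq_degrees (G := G)
      simp only [hD] at this
      exact_mod_cast this
    rw [← Finset.add_sum_erase _ _ (Finset.mem_univ π), hDπ, h] at h0
    have := Finset.sum_le_sum_of_subset (f := fun χ => D χ ^ 2) (s := T)
      (Finset.filter_subset _ (Finset.univ.erase π))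
    simp only [pow_two] at this h0 ⊢
    omega
  have hne : ∀ χ ∈ T, χ ≠ π := fun χ hχ => Finset.ne_of_mem_erase (Finset.mem_filter.1 hχ).1
  choose v hv hv4 hvlt using fun χ : T => Order4320.value_involution hnc (hne χ.1 χ.2) hso (hD χ.1)
  set w : IrrCharacter G → ℤ := fun χ => if hχ : χ ∈ T then v ⟨χ, hχ⟩ else 0 with hw
  have hwv : ∀ χ (hχ : χ ∈ T), (χ : G → ℂ) s = w χ := fun χ hχ => by
    rw [hw]; simp only [dif_pos hχ]; exact hv ⟨χ, hχ⟩
  have hcv : ∑ χ ∈ T, c χ * w χ = -1 := by
    have h0 := column_orth s x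
    rw [if_neg, hsplit _ (fun χ e => by rw [hcc, e, Int.cast_zero, mul_zero]), hcc, hcπ,
      principalIrr_apply, Finset.sum_congr rfl (g := fun χ => ((c χ * w χ : ℤ) : ℂ))
      (fun χ hχ => by rw [hcc, hwv χ hχ]; push_cast; ring)] at h0
    · have h1 : (1 : ℤ) + ∑ χ ∈ T, c χ * w χ = 0 := by
        push_cast at h0; rw [one_mul] at h0; exact_mod_cast h0
      linarith
    · intro e
      obtain ⟨g, hg⟩ := isConj_iff.1 e
      have := SemiconjBy.orderOf_eq g (show SemiconjBy g s x by simp [SemiconjBy, ← hg])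
      rw [hso, hxo] at this
      norm_num at this
  have hv39 : ∑ χ ∈ T, w χ * w χ ≤ 39 := by
    have h0 := column_orth s s
    rw [if_pos (IsConj.refl s), hcs] at h0
    have hre : (40 : ℝ) = ∑ χ : IrrCharacter G, Complex.normSq ((χ : G → ℂ) s) := by
      have := congrArg Complex.re h0
      simp only [Complex.re_sum, Complex.mul_conj, Complex.ofReal_re, Complex.natCast_re] at this
      exact_mod_cast this.symm
    have hle : ∑ χ ∈ insert π T, Complex.normSq ((χ : G → ℂ) s) ≤ (40 : ℝ) := by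
      rw [hre]
      exact Finset.sum_le_sum_of_subset_of_nonneg (Finset.subset_univ _)
        fun χ _ _ => Complex.normSq_nonneg _
    rw [Finset.sum_insert hπT, hπ, principalIrr_apply, map_one, Finset.sum_congr rfl
      (g := fun χ => ((w χ * w χ : ℤ) : ℝ)) (fun χ hχ => by
        rw [hwv χ hχ, Complex.normSq_intCast]; push_cast; ring)] at hle
    have h1 : 1 + ∑ χ ∈ T, w χ * w χ ≤ (40 : ℤ) := by exact_mod_cast hle
    linarith
  -- the types
  set typ : IrrCharacter G → ℕ × ℤ × ℤ := fun χ => (D χ, c χ, w χ) with htyp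
  have hmem : ∀ χ ∈ T, typ χ ∈ types := by
    intro χ hχ
    have hd2 : D χ * D χ ≤ 5039 :=
      le_trans (Finset.single_le_sum (f := fun χ => D χ * D χ) (fun _ _ => Nat.zero_le _) hχ) hbound
    have hlt : D χ < 71 := by nlinarith
    have hD1 : 1 < D χ := by
      by_contra hle
      refine hne χ hχ (eq_principal_of_degree_one hnc ?_)
      rw [hD, show D χ = 1 by have := hD0 χ; omega, Nat.cast_one]
    have hc6 := Finset.single_le_sum (f := fun χ => c χ ^ 2) (fun _ _ => sq_nonneg _) hχ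
    rw [h6] at hc6
    have hc0 := (Finset.mem_filter.1 hχ).2
    have hcb : c χ ∈ ({-2, -1, 1, 2} : Finset ℤ) := by
      have hb : -2 ≤ c χ ∧ c χ ≤ 2 := by constructor <;> nlinarith
      simp only [Finset.mem_insert, Finset.mem_singleton]
      omega
    have hw39 : w χ * w χ ≤ 39 := le_trans (Finset.single_le_sum (f := fun χ => w χ * w χ)
      (fun _ _ => mul_self_nonneg _) hχ) hv39
    have hwv' : w χ = v ⟨χ, hχ⟩ := by rw [hw]; simp only [dif_pos hχ]
    refine mem_types _ (Finset.mem_range.2 hlt) (h ▸ hDdvd χ) hD1 _ hcb (hc7 χ) _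
      (Finset.mem_Icc.2 ⟨by nlinarith, by nlinarith⟩) (hwv' ▸ hv4 ⟨χ, hχ⟩) (hwv' ▸ hvlt ⟨χ, hχ⟩)
      fun hg => ?_
    have hz := Order5760.apply_eq_zero (fun hcomm => hnc ⟨⟨hcomm⟩⟩) (hne χ hχ) hs1 (hD χ) (g := s)
    rw [CfsgLib.Characters.card_isConj_eq_index, hidx] at hz
    have := hwv χ hχ ▸ hz hg
    exact_mod_cast this
  set m : ℕ × ℤ × ℤ → ℕ := fun t => (T.filter fun χ => typ χ = t).card with hm
  have hcount : ∀ {M : Type} [CommSemiring M] (F : ℕ × ℤ × ℤ → M),
      (types.map fun t => (m t : M) * F t).sum = ∑ χ ∈ T, F (typ χ) := by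
    intro M _ F
    rw [← List.sum_toFinset _ types_nodup,
      ← Finset.sum_fiberwise_of_maps_to (fun χ hχ => List.mem_toFinset.2 (hmem χ hχ))
        (fun χ => F (typ χ))]
    refine Finset.sum_congr rfl fun t _ => ?_
    rw [Finset.sum_congr rfl (g := fun _ => F t) (fun χ hχ => by rw [(Finset.mem_filter.1 hχ).2]),
      Finset.sum_const, nsmul_eq_mul]
  refine no_types m ?_ ?_ ?_ ?_ ?_ ?_
  · have h1 := hcount (fun t => t.2.1.natAbs ^ 2)
    simp only [Nat.cast_id] at h1
    rw [h1]
    have h2 : ((∑ χ ∈ T, (typ χ).2.1.natAbs ^ 2 : ℕ) : ℤ) = (6 : ℕ) := by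
      push_cast
      simp only [sq_abs]
      exact h6
    exact_mod_cast h2
  · have h1 := hcount (fun t => t.1 * t.1)
    simp only [Nat.cast_id] at h1
    rw [h1]; exact hbound
  · rw [hcount (fun t => t.2.2 * t.2.2)]; exact hv39
  · rw [hcount (fun t => t.2.1 * t.1)]; exact hcD
  · rw [hcount (fun t => t.2.1 * t.2.2)]; exact hcv
  · rw [hcount gTerm]
    have h0 := card_pairs_mul s s ({x} : Finset G)
    rw [h] at h0
    simp only [Finset.sum_singleton, irr_apply_inv, hcc] at h0
    rw [hsplit _ (fun χ e => by simp [e])] at h0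
    simp only [centralChar, hidx, hD, hcπ, hDπ] at h0
    rw [show (π : G → ℂ) s = 1 by rw [hπ, principalIrr_apply]] at h0
    have key : ((720 * (pairs s s {x}).card * 5040 : ℕ) : ℂ) =
        ((15876 * (720 + ∑ χ ∈ T, gTerm (typ χ)) : ℤ) : ℂ) := by
      push_cast at h0 ⊢
      rw [mul_assoc, h0, mul_add, mul_add, Finset.mul_sum, Finset.mul_sum]
      congr 1
      · norm_num
      · refine Finset.sum_congr rfl fun χ hχ => ?_
        obtain ⟨k, hk⟩ := types_dvd _ (hmem χ hχ)
        change 720 = D χ * k at hk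
        have hg : gTerm (typ χ) = c χ * (k : ℤ) * w χ * w χ := by
          change c χ * ((720 / D χ : ℕ) : ℤ) * w χ * w χ = _
          rw [hk, Nat.mul_div_cancel_left _ (hD0 χ)]
        have hk' : (720 : ℂ) = (D χ : ℂ) * (k : ℂ) := by exact_mod_cast hk
        have : (D χ : ℂ) ≠ 0 := Nat.cast_ne_zero.2 (hD0 χ).ne'
        rw [hwv χ hχ, hg, hk']
        push_cast
        field_simp
        ring
    have key' : ((720 * (pairs s s {x}).card * 5040 : ℕ) : ℤ) =
        15876 * (720 + ∑ χ ∈ T, gTerm (typ χ)) := by exact_mod_cast key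
    omega

end CfsgLib.Small.Order5040
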