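import Cfsg.Agent.Lib.Small.Sieve
import Cfsg.Agent.Lib.Small.LowA
import Cfsg.Agent.Lib.Small.LowC
import Cfsg.Agent.Lib.Small.Order1440
import Cfsg.Agent.Lib.Small.Order2016
import Cfsg.Agent.S0496
import Cfsg.Agent.S0983

/-!
The orders of the non-abelian simple groups of order less than 6000.
-/

set_option autoImplicit false

namespace CfsgLib.Small.Low

open Cfsg

theorem low_chunk0 : ∀ n ∈ List.range' 1093 510, Sieve.survive n = true →
    n ∈ ([1344, 1404, 1440, 1512, 1560, 1620, 1680, 1716, 1800, 1980, 2016, 2080, 2100, 2160, 2268, 2400, 2448, 2464, 2520, 2688, 2700, 2880, 3024, 3120, 3168, 3240, 3360, 3420, 3432, 3600] : List ℕ) := by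
  decide +kernel

theorem low_chunk1 : ∀ n ∈ List.range' 1603 510, Sieve.survive n = true →
    n ∈ ([1344, 1404, 1440, 1512, 1560, 1620, 1680, 1716, 1800, 1980, 2016, 2080, 2100, 2160, 2268, 2400, 2448, 2464, 2520, 2688, 2700, 2880, 3024, 3120, 3168, 3240, 3360, 3420, 3432, 3600] : List ℕ) := by
  decide +kernel

theorem low_chunk2 : ∀ n ∈ List.range' 2113 510, Sieve.survive n = true →
    n ∈ ([1344, 1404, 1440, 1512, 1560, 1620, 1680, 1716, 1800, 1980, 2016, 2080, 2100, 2160, 2268, 2400, 2448, 2464, 2520, 2688, 2700, 2880, 3024, 3120, 3168, 3240, 3360, 3420, 3432, 3600] : List ℕ) := by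
  decide +kernel

theorem low_chunk3 : ∀ n ∈ List.range' 2623 510, Sieve.survive n = true →
    n ∈ ([1344, 1404, 1440, 1512, 1560, 1620, 1680, 1716, 1800, 1980, 2016, 2080, 2100, 2160, 2268, 2400, 2448, 2464, 2520, 2688, 2700, 2880, 3024, 3120, 3168, 3240, 3360, 3420, 3432, 3600] : List ℕ) := by
  decide +kernel

theorem low_chunk4 : ∀ n ∈ List.range' 3133 510, Sieve.survive n = true →
    n ∈ ([1344, 1404, 1440, 1512, 1560, 1620, 1680, 1716, 1800, 1980, 2016, 2080, 2100, 2160, 2268, 2400, 2448, 2464, 2520, 2688, 2700, 2880, 3024, 3120, 3168, 3240, 3360, 3420, 3432, 3600] : List ℕ) := by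
  decide +kernel

universe u

/-- A non-abelian simple group of order between 1093 and 3640 has order 2448, 2520 or 3420. -/
theorem card_mem_mid {G : Type u} [Group G] [Finite G] [IsSimpleGroup G]
    (hG : ¬ IsMulCommutative G) (h1 : 1092 < Nat.card G) (h2 : Nat.card G ≤ 3640) :
    Nat.card G = 2448 ∨ Nat.card G = 2520 ∨ Nat.card G = 3420 := by
  have hs := Sieve.survive_of_simple hG (by omega)
  have key : Nat.card G ∈ ([1344, 1404, 1440, 1512, 1560, 1620, 1680, 1716, 1800, 1980, 2016, 2080, 2100, 2160, 2268, 2400, 2448, 2464, 2520, 2688, 2700, 2880, 3024, 3120, 3168, 3240, 3360, 3420, 3432, 3600] : List ℕ) := by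
    rcases Nat.lt_or_ge (Nat.card G) 1603 with h | h
    · exact low_chunk0 _ (List.mem_range'_1.mpr ⟨by omega, by omega⟩) hs
    rcases Nat.lt_or_ge (Nat.card G) 2113 with h | h
    · exact low_chunk1 _ (List.mem_range'_1.mpr ⟨by omega, by omega⟩) hs
    rcases Nat.lt_or_ge (Nat.card G) 2623 with h | h
    · exact low_chunk2 _ (List.mem_range'_1.mpr ⟨by omega, by omega⟩) hs
    rcases Nat.lt_or_ge (Nat.card G) 3133 with h | h
    · exact low_chunk3 _ (List.mem_range'_1.mpr ⟨by omega, by omega⟩) hs
    exact low_chunk4 _ (List.mem_range'_1.mpr ⟨by omega, by omega⟩) hs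
  simp only [List.mem_cons, List.not_mem_nil, or_false] at key
  rcases key with e | e | e | e | e | e | e | e | e | e | e | e | e | e | e | e | e | e | e | e | e | e | e | e | e | e | e | e | e | e
  · exact (card_ne_1344 hG e).elim
  · exact (card_ne_1404 hG e).elim
  · exact (Order1440.card_ne e).elim
  · exact (card_ne_1512 hG e).elim
  · exact (card_ne_1560 hG e).elim
  · exact (card_ne_1620 hG e).elim
  · exact (card_ne_1680 hG e).elim
  · exact (card_ne_1716 hG e).elim
  · exact (card_ne_1800 hG e).elim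
  · exact (card_ne_1980 hG e).elim
  · exact (Order2016.card_ne e).elim
  · exact (card_ne_2080 hG e).elim
  · exact (card_ne_2100 hG e).elim
  · exact (card_ne_2160 hG e).elim
  · exact (card_ne_2268 hG e).elim
  · exact (card_ne_2400 hG e).elim
  · exact Or.inl e
  · exact (card_ne_2464 hG e).elim
  · exact Or.inr (Or.inl e)
  · exact (card_ne_2688 hG e).elim
  · exact (card_ne_2700 hG e).elim
  · exact (card_ne_2880 hG e).elim
  · exact (card_ne_3024 hG e).elim
  · exact (card_ne_3120 hG e).elim
  · exact (card_ne_3168 hG e).elim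
  · exact (card_ne_3240 hG e).elim
  · exact (card_ne_3360 hG e).elim
  · exact Or.inr (Or.inr e)
  · exact (card_ne_3432 hG e).elim
  · exact (card_ne_3600 hG e).elim

/-- The orders of the non-abelian simple groups of order less than 6000. -/
theorem card_mem {G : Type u} [Group G] [Finite G] [IsSimpleGroup G]
    (hG : ¬ IsMulCommutative G) (h : Nat.card G < 6000) :
    Nat.card G ∈ ([60, 168, 360, 504, 660, 1092, 2448, 2520, 3420, 4080, 5616] : List ℕ) := by
  rcases le_or_gt (Nat.card G) 1092 with h1 | h1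
  · rcases Cfsg.Agent.S0496.result hG h1 with e | e | e | e | e | e <;> rw [e] <;> decide
  rcases le_or_gt (Nat.card G) 3640 with h2 | h2
  · rcases card_mem_mid hG h1 h2 with e | e | e <;> rw [e] <;> decide
  rcases Cfsg.Agent.S0983.result hG h2 (by omega) with e | e | e | e
  · rw [e]; decide
  · rw [e]; decide
  · omega
  · omega

end CfsgLib.Small.Low
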