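import Cfsg.Agent.Classical.SLBasic

/-!
`SL(2, K)` acting on `Option K` (the projective line) by Moebius transformations, and `PSL(2, K)`
as the image of this action.
-/

set_option autoImplicit false

namespace CfsgLib.Small

open Matrix

variable {K : Type*} [Field K] [DecidableEq K]

/-- The permutation representation of `SL(2, K)` on the projective line `Option K`. -/
noncomputable def slPerm (K : Type*) [Field K] [DecidableEq K] :
    SpecialLinearGroup (Fin 2) K →* Equiv.Perm (Option K) where
  toFun g := (MulAction.toPermHom (GL (Fin 2) K) (OnePoint K)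
    (SpecialLinearGroup.toGL g) : Equiv.Perm (OnePoint K))
  map_one' := by rw [map_one, map_one]; rfl
  map_mul' a b := by rw [map_mul, map_mul]; rfl

theorem slPerm_none (g : SpecialLinearGroup (Fin 2) K) :
    slPerm K g none = if g.1 1 0 = 0 then none else some (g.1 0 0 / g.1 1 0) :=
  OnePoint.smul_infty_eq_ite (SpecialLinearGroup.toGL g)

theorem slPerm_some (g : SpecialLinearGroup (Fin 2) K) (k : K) :
    slPerm K g (some k) = if g.1 1 0 * k + g.1 1 1 = 0 then none
      else some ((g.1 0 0 * k + g.1 0 1) / (g.1 1 0 * k + g.1 1 1)) :=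
  OnePoint.smul_some_eq_ite

theorem ker_slPerm :
    (slPerm K).ker = Subgroup.center (SpecialLinearGroup (Fin 2) K) := by
  ext g
  rw [MonoidHom.mem_ker, Matrix.SpecialLinearGroup.mem_center_iff]
  have hdet : g.1 0 0 * g.1 1 1 - g.1 0 1 * g.1 1 0 = 1 := by
    rw [← Matrix.det_fin_two]; exact g.2
  constructor
  · intro h
    have hi := slPerm_none g
    have h0 := slPerm_some g 0
    have h1 := slPerm_some g 1
    rw [h, Equiv.Perm.one_apply] at hi h0 h1
    have hc : g.1 1 0 = 0 := by
      by_contra hc; rw [if_neg hc] at hi; exact Option.some_ne_none _ hi.symm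
    rw [hc] at h0 h1 hdet
    simp only [zero_mul, mul_zero, sub_zero, zero_add] at h0 h1 hdet
    have hd : g.1 1 1 ≠ 0 := right_ne_zero_of_mul_eq_one hdet
    rw [if_neg hd, Option.some.injEq, eq_div_iff hd, zero_mul] at h0
    rw [if_neg hd, Option.some.injEq, eq_div_iff hd, one_mul, mul_one, ← h0, add_zero] at h1
    refine ⟨g.1 0 0, ?_, ?_⟩
    · rw [Fintype.card_fin, sq]
      conv_lhs => arg 2; rw [← h1]
      exact hdet
    · ext i j
      fin_cases i <;> fin_cases j <;> simp [h1, ← h0, hc]
  · rintro ⟨r, hr, hg⟩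
    have hr0 : r ≠ 0 := by rintro rfl; simp at hr
    have h00 : g.1 0 0 = r := by rw [← hg]; simp
    have h11 : g.1 1 1 = r := by rw [← hg]; simp
    have h01 : g.1 0 1 = 0 := by rw [← hg]; simp
    have h10 : g.1 1 0 = 0 := by rw [← hg]; simp
    refine Equiv.ext fun x => ?_
    cases x with
    | none => rw [slPerm_none, if_pos h10]; rfl
    | some k =>
      rw [slPerm_some, h00, h11, h01, h10, zero_mul, zero_add, if_neg hr0, add_zero,
        mul_div_cancel_left₀ k hr0]
      rfl

/-- `PSL(2, K)` is the image of `SL(2, K)` in the permutations of the projective line. -/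
noncomputable def pslEquivRange :
    ProjectiveSpecialLinearGroup (Fin 2) K ≃* (slPerm K).range :=
  (QuotientGroup.quotientMulEquivOfEq ker_slPerm.symm).trans
    (QuotientGroup.quotientKerEquivRange _)

/-- Translations lie in the image. -/
theorem exists_slPerm_translation (b : K) :
    ∃ g, slPerm K g none = none ∧ ∀ x, slPerm K g (some x) = some (x + b) := by
  refine ⟨⟨!![1, b; 0, 1], by simp [Matrix.det_fin_two]⟩, ?_, fun x => ?_⟩
  · refine (slPerm_none _).trans ?_; simp
  · refine (slPerm_some _ _).trans ?_; simp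

/-- Multiplications by squares lie in the image. -/
theorem exists_slPerm_mul {s : K} (hs : s ≠ 0) :
    ∃ g, slPerm K g none = none ∧ ∀ x, slPerm K g (some x) = some (s * s * x) := by
  refine ⟨⟨!![s, 0; 0, s⁻¹], by simp [Matrix.det_fin_two, hs]⟩, ?_, fun x => ?_⟩
  · refine (slPerm_none _).trans ?_; simp
  · refine (slPerm_some _ _).trans ?_; simp [hs]; ring

/-- The maps `x ↦ c / x` with `-c` a nonzero square lie in the image. -/
theorem exists_slPerm_inversion {c s : K} (hs : s ≠ 0) (hc : s * s = -c) :
    ∃ g, slPerm K g none = some 0 ∧ slPerm K g (some 0) = none ∧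
      ∀ x ≠ 0, slPerm K g (some x) = some (c * x⁻¹) := by
  refine ⟨⟨!![0, c * s⁻¹; s⁻¹, 0], ?_⟩, ?_, ?_, fun x hx => ?_⟩
  · rw [Matrix.det_fin_two]
    simp only [Matrix.of_apply, Matrix.cons_val', Matrix.cons_val_zero, Matrix.cons_val_one,
      Matrix.cons_val_fin_one, mul_zero, zero_sub]
    have : c = -(s * s) := by rw [hc, neg_neg]
    subst this
    field_simp
  · refine (slPerm_none _).trans ?_; simp [hs]
  · refine (slPerm_some _ _).trans ?_; simp
  · refine (slPerm_some _ _).trans ?_; simp [hs, hx]
    field_simp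

theorem card_range_slPerm [Fintype K] :
    Nat.gcd 2 (Fintype.card K - 1) * Nat.card (slPerm K).range =
      Fintype.card K * (Fintype.card K ^ 2 - 1) := by
  rw [← Nat.card_congr pslEquivRange.toEquiv]
  have h := Cfsg.Agent.Classical.card_psl_mul (F := K) 2 (by norm_num)
  have hq : 1 < Fintype.card K := Fintype.one_lt_card
  refine Nat.eq_of_mul_eq_mul_left (show 0 < Fintype.card K - 1 by omega) ?_
  rw [mul_left_comm, h, Fin.prod_univ_two, Fin.val_zero, Fin.val_one, pow_zero, pow_one]
  generalize Fintype.card K = q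
  have h1 : q ^ 2 - q = (q - 1) * q := by rw [Nat.sub_mul, one_mul, sq]
  rw [h1]; ring

end CfsgLib.Small
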