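import Mathlib

/-!
Non-commutative groups of order 8: dihedral, or with at least four elements of order 4.
-/

set_option autoImplicit false

namespace CfsgLib.Small

open Subgroup

variable {T : Type*} [Group T] [Finite T]

theorem order_eight_dihedral_or_many_four (h8 : Nat.card T = 8)
    (hnc : ¬ ∀ a b : T, a * b = b * a) :
    Nonempty (T ≃* DihedralGroup 4) ∨ 4 ≤ Nat.card {t : T // orderOf t = 4} := by
  classical
  have hord : ∀ t : T, t = 1 ∨ orderOf t = 2 ∨ orderOf t = 4 := by
    intro t
    have hd : orderOf t ∣ 2 ^ 3 := by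
      rw [show (2:ℕ) ^ 3 = 8 from rfl, ← h8]; exact orderOf_dvd_natCard t
    obtain ⟨i, hi, hi'⟩ := (Nat.dvd_prime_pow Nat.prime_two).mp hd
    interval_cases i
    · exact Or.inl (orderOf_eq_one_iff.mp (by simpa using hi'))
    · exact Or.inr (Or.inl (by simpa using hi'))
    · exact Or.inr (Or.inr (by simpa using hi'))
    · exfalso
      have : IsCyclic T := isCyclic_of_orderOf_eq_card t (by rw [hi', h8]; norm_num)
      let _ := IsCyclic.commGroup (α := T)
      exact hnc mul_comm
  obtain ⟨x, hx⟩ : ∃ x : T, orderOf x = 4 := by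
    by_contra hno
    refine hnc fun a b => ?_
    have hinv : ∀ t : T, t⁻¹ = t := fun t => by
      rcases hord t with h | h | h
      · simp [h]
      · rw [inv_eq_iff_mul_eq_one, ← pow_two, ← h, pow_orderOf_eq_one]
      · exact absurd ⟨t, h⟩ hno
    conv_rhs => rw [← hinv (b * a), mul_inv_rev, hinv a, hinv b]
  have hidx : (zpowers x).index = 2 := by
    have := card_mul_index (zpowers x)
    rw [Nat.card_zpowers, hx, h8] at this; omega
  have hmem := fun {a b : T} => mul_mem_iff_of_index_two hidx (a := a) (b := b)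
  have hxpow : ∀ t ∈ zpowers x, ∃ i : ZMod 4, x ^ i.val = t := by
    intro t ht
    rw [mem_zpowers_iff] at ht
    obtain ⟨n, rfl⟩ := ht
    refine ⟨(n : ZMod 4), ?_⟩
    rw [← zpow_natCast, ZMod.val_intCast]
    conv_rhs => rw [← zpow_mod_orderOf x n, hx]
  have hconj : ∀ y ∉ zpowers x, y * x * y⁻¹ = x⁻¹ := by
    intro y hy
    have hN := normal_of_index_eq_two hidx
    obtain ⟨i, hi⟩ := hxpow _ (hN.conj_mem x (mem_zpowers x) y)
    have ho : orderOf (y * x * y⁻¹) = 4 := by
      rw [show y * x * y⁻¹ = MulAut.conj y x from rfl, MulEquiv.orderOf_eq, hx]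
    have hv := ZMod.val_lt i
    generalize i.val = v at hi hv
    interval_cases v
    · rw [← hi] at ho; simp at ho
    · exfalso
      rw [pow_one, eq_mul_inv_iff_mul_eq] at hi
      refine hnc fun a b => ?_
      have key : ∀ t : T, ∃ i j : ℤ, t = y ^ i * x ^ j := by
        intro t
        by_cases ht : t ∈ zpowers x
        · obtain ⟨n, rfl⟩ := mem_zpowers_iff.mp ht
          exact ⟨0, n, by simp⟩
        · have : y⁻¹ * t ∈ zpowers x := by
            rw [hmem, inv_mem_iff]; exact iff_of_false hy ht
          obtain ⟨n, hn⟩ := mem_zpowers_iff.mp this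
          exact ⟨1, n, by rw [zpow_one, hn, mul_inv_cancel_left]⟩
      obtain ⟨i1, j1, rfl⟩ := key a
      obtain ⟨i2, j2, rfl⟩ := key b
      have hc : Commute x y := hi
      have h1 : Commute (y ^ i1 * x ^ j1) (y ^ i2 * x ^ j2) :=
        (((Commute.refl y).zpow_zpow i1 i2).mul_right (hc.symm.zpow_zpow i1 j2)).mul_left
          ((hc.zpow_zpow j1 i2).mul_right ((Commute.refl x).zpow_zpow j1 j2))
      exact h1.eq
    · rw [← hi, orderOf_pow, hx] at ho
      simp at ho
    · rw [← hi]
      refine eq_inv_of_mul_eq_one_left ?_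
      rw [← pow_succ, show 3 + 1 = 4 from rfl, ← hx, pow_orderOf_eq_one]
  by_cases hinvol : ∃ y ∉ zpowers x, y * y = 1
  · left
    obtain ⟨y, hy, hy2⟩ := hinvol
    have hyinv : y⁻¹ = y := inv_eq_of_mul_eq_one_left hy2
    have hyx : ∀ i : ℕ, x ^ i * y = y * (x ^ i)⁻¹ := by
      intro i
      have h := hconj y hy
      have h' : (y * x * y⁻¹) ^ i = (x⁻¹) ^ i := by rw [h]
      rw [conj_pow, inv_pow] at h'
      rw [← h', hyinv]
      rw [show y * (y * x ^ i * y) = (y * y) * (x ^ i * y) by simp [mul_assoc], hy2, one_mul]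
    have hx4 : x ^ 4 = 1 := hx ▸ pow_orderOf_eq_one x
    have hadd : ∀ i j : ZMod 4, x ^ (i + j).val = x ^ i.val * x ^ j.val := fun i j => by
      rw [← pow_add, ZMod.val_add]; conv_rhs => rw [← pow_mod_orderOf, hx]
    have hsub : ∀ i j : ZMod 4, x ^ (j - i).val = (x ^ i.val)⁻¹ * x ^ j.val := fun i j => by
      rw [eq_inv_mul_iff_mul_eq, ← hadd, add_sub_cancel]
    let f : DihedralGroup 4 → T := fun d => match d with
      | .r i => x ^ i.val
      | .sr i => y * x ^ i.val
    have hf : ∀ a b, f (a * b) = f a * f b := by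
      rintro (i | i) (j | j)
      · exact hadd i j
      · show y * x ^ (j - i).val = x ^ i.val * (y * x ^ j.val)
        rw [← mul_assoc (x ^ i.val), hyx, hsub, mul_assoc]
      · show y * x ^ (i + j).val = y * x ^ i.val * x ^ j.val
        rw [hadd, mul_assoc]
      · show x ^ (j - i).val = y * x ^ i.val * (y * x ^ j.val)
        rw [mul_assoc y, ← mul_assoc (x ^ i.val), hyx, hsub, ← mul_assoc y, ← mul_assoc y, hy2,
          one_mul]
    have hsurj : Function.Surjective f := by
      intro t
      by_cases ht : t ∈ zpowers x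
      · obtain ⟨i, hi⟩ := hxpow t ht; exact ⟨.r i, hi⟩
      · have : y⁻¹ * t ∈ zpowers x := by rw [hmem, inv_mem_iff]; exact iff_of_false hy ht
        obtain ⟨i, hi⟩ := hxpow _ this
        exact ⟨.sr i, by show y * x ^ i.val = t; rw [hi, mul_inv_cancel_left]⟩
    refine ⟨(MulEquiv.ofBijective (MonoidHom.mk' f hf) ?_).symm⟩
    exact (Nat.bijective_iff_surjective_and_card _).mpr
      ⟨hsurj, by rw [h8, Nat.card_eq_fintype_card, DihedralGroup.card]⟩
  · right
    push Not at hinvol
    obtain ⟨y, hy⟩ : ∃ y, y ∉ zpowers x := by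
      by_contra hall
      push Not at hall
      have : zpowers x = ⊤ := eq_top_iff' _ |>.mpr hall
      rw [this, index_top] at hidx; omega
    have hfour : ∀ z ∉ zpowers x, orderOf z = 4 := by
      intro z hz
      rcases hord z with h | h | h
      · exact absurd (h ▸ one_mem _) hz
      · exact absurd (by rw [← pow_two, ← h, pow_orderOf_eq_one]) (hinvol z hz)
      · exact h
    have hyx : y * x ∉ zpowers x := fun h => hy (by
      exact (hmem.mp h).mpr (mem_zpowers x))
    let g : Fin 4 → {t : T // orderOf t = 4} := ![⟨x, hx⟩, ⟨x⁻¹, by rw [orderOf_inv, hx]⟩,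
      ⟨y, hfour y hy⟩, ⟨y * x, hfour _ hyx⟩]
    have hg : Function.Injective g := by
      intro a b hab
      have h := congrArg Subtype.val hab
      have e1 : x ≠ x⁻¹ := fun e => by
        have h2 : orderOf x ∣ 2 :=
          orderOf_dvd_of_pow_eq_one (by rw [pow_two, ← eq_inv_iff_mul_eq_one]; exact e)
        rw [hx] at h2; norm_num at h2
      have e2 : x ≠ y := fun e => hy (e ▸ mem_zpowers x)
      have e3 : x⁻¹ ≠ y := fun e => hy (e ▸ inv_mem (mem_zpowers x))
      have e4 : x ≠ y * x := fun e => hyx (e ▸ mem_zpowers x)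
      have e5 : x⁻¹ ≠ y * x := fun e => hyx (e ▸ inv_mem (mem_zpowers x))
      have e7 : x ≠ 1 := fun e => by rw [e, orderOf_one] at hx; omega
      have e8 : y ≠ 1 := fun e => hy (e ▸ one_mem _)
      have e6 : y ≠ y * x := fun e => by
        have : x = 1 := mul_left_cancel (a := y) (by rw [mul_one]; exact e.symm)
        rw [this, orderOf_one] at hx; omega
      fin_cases a <;> fin_cases b <;> simp only [g] at h ⊢ <;> simp at h ⊢
      all_goals first
        | exact e1 h | exact e1 h.symm | exact e2 h | exact e2 h.symm | exact e3 h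
        | exact e3 h.symm | exact e4 h | exact e4 h.symm | exact e5 h | exact e5 h.symm
        | exact e6 h | exact e6 h.symm | exact e7 h | exact e7 h.symm | exact e8 h | exact e8 h.symm
    simpa using Nat.card_le_card_of_injective g hg

end CfsgLib.Small
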