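import Cfsg.Agent.Lib.Small.SylowLine
import Cfsg.Agent.Lib.Small.OrderEight

/-!
Simple groups of order 168.
-/

set_option autoImplicit false

namespace CfsgLib.Small.Order168

open Subgroup MulAction CfsgLib.Small

variable {G : Type*} [Group G] [Finite G] [IsSimpleGroup G]

theorem nc (h : Nat.card G = 168) : ¬ IsMulCommutative G :=
  nc_of_not_prime (by rw [h]; norm_num)

theorem card_sylow_seven [Fact (Nat.Prime 7)] (h : Nat.card G = 168) :
    Nat.card (Sylow 7 G) = 8 := by
  have hm := card_sylow_mem (p := 7) (nc h) (k := 1) (m := 24) one_ne_zero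
    (by rw [h]; norm_num) (by norm_num)
  rwa [show ((Nat.divisors 24).filter fun n => n % 7 = 1 ∧ 1 < n) = {8} from by decide,
    Finset.mem_singleton] at hm

omit [IsSimpleGroup G] in
theorem card_seven [Fact (Nat.Prime 7)] (h : Nat.card G = 168) (P : Sylow 7 G) :
    Nat.card P = 7 := by
  simpa using card_sylow_of_card_eq (k := 1) (m := 24) (by rw [h]; norm_num) (by norm_num) P

omit [IsSimpleGroup G] in
theorem card_three [Fact (Nat.Prime 3)] (h : Nat.card G = 168) (P : Sylow 3 G) :
    Nat.card P = 3 := by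
  simpa using card_sylow_of_card_eq (k := 1) (m := 56) (by rw [h]; norm_num) (by norm_num) P

omit [IsSimpleGroup G] in
theorem card_two [Fact (Nat.Prime 2)] (h : Nat.card G = 168) (P : Sylow 2 G) :
    Nat.card P = 8 := by
  simpa using card_sylow_of_card_eq (k := 3) (m := 21) (by rw [h]; norm_num) (by norm_num) P

theorem normalizer_seven [Fact (Nat.Prime 7)] (h : Nat.card G = 168) (P : Sylow 7 G) :
    Nat.card (normalizer ((P : Subgroup G) : Set G)) = 21 ∧
      Nat.card (centralizer ((P : Subgroup G) : Set G)) = 7 := by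
  obtain ⟨e, he1, he2, hpC, hCe, hall⟩ := sylow_prime_order_data (nc h) P (card_seven h P)
  rw [card_sylow_seven h, h] at hall
  obtain ⟨c, hc⟩ := hpC
  rw [hc] at hall hCe
  have he3 : e ∈ ((Nat.divisors 6).filter fun d => 1 < d) :=
    Finset.mem_filter.mpr ⟨Nat.mem_divisors.mpr ⟨by simpa using he2, by norm_num⟩, he1⟩
  rw [show ((Nat.divisors 6).filter fun d => 1 < d) = {2, 3, 6} from by decide] at he3
  simp only [Finset.mem_insert, Finset.mem_singleton] at he3
  rw [hc]
  rcases he3 with rfl | rfl | rfl <;> constructor <;> omega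

theorem card_sylow_three [Fact (Nat.Prime 3)] (h : Nat.card G = 168) :
    Nat.card (Sylow 3 G) = 28 := by
  have : Fact (Nat.Prime 7) := ⟨by norm_num⟩
  have hm := card_sylow_mem (p := 3) (nc h) (k := 1) (m := 56) one_ne_zero
    (by rw [h]; norm_num) (by norm_num)
  rw [show ((Nat.divisors 56).filter fun n => n % 3 = 1 ∧ 1 < n) = {4, 7, 28} from by decide] at hm
  simp only [Finset.mem_insert, Finset.mem_singleton] at hm
  rcases hm with hm | hm | hm
  · have := two_mul_card_dvd_factorial_card_sylow (nc h) (p := 3) (by rw [h]; norm_num)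
    rw [hm, h] at this; norm_num [Nat.factorial] at this
  · exfalso
    obtain ⟨P⟩ := (inferInstance : Nonempty (Sylow 7 G))
    obtain ⟨hN, hC⟩ := normalizer_seven h P
    set N := normalizer ((P : Subgroup G) : Set G)
    obtain ⟨⟨x, hxN⟩, hx⟩ := exists_prime_orderOf_dvd_card' (G := N) 3 (by rw [hN]; norm_num)
    rw [Subgroup.orderOf_mk] at hx
    obtain ⟨S, hS, -⟩ := exists_unique_sylow_mem hx (card_three h)
    have hx1 : x ≠ 1 := fun e => by rw [e, orderOf_one] at hx; omega
    have hSz : (S : Subgroup G) = zpowers x := eq_zpowers_of_mem (card_three h S) hS hx1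
    have hSN : (S : Subgroup G) ≤ N := by rw [hSz]; exact zpowers_le.mpr hxN
    have hinj : Function.Injective (fun u : (P : Subgroup G) => (u : G) • S) := by
      intro u v huv
      by_contra hne
      have hw : ((v⁻¹ * u : (P : Subgroup G)) : G) • S = S := by
        simp only [Subgroup.coe_mul, Subgroup.coe_inv, mul_smul]
        rw [inv_smul_eq_iff]; exact huv
      generalize hwd : v⁻¹ * u = w at hw
      have hw1 : (w : G) ≠ 1 := fun e => hne (inv_mul_eq_one.mp
        (hwd.trans (Subtype.ext e))).symm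
      have hwN := Sylow.smul_eq_iff_mem_normalizer.mp hw
      have hcomm : (w : G) * x * (w : G)⁻¹ * x⁻¹ = 1 := by
        have h1 : (w : G) * x * (w : G)⁻¹ * x⁻¹ ∈ (S : Subgroup G) :=
          mul_mem ((mem_normalizer_iff.mp hwN x).mp hS) (inv_mem hS)
        have h2 : (w : G) * x * (w : G)⁻¹ * x⁻¹ ∈ (P : Subgroup G) := by
          have := (mem_normalizer_iff.mp hxN (w : G)⁻¹).mp (inv_mem w.2)
          rw [mul_assoc (w : G) x, mul_assoc]
          exact mul_mem w.2 this
        rw [← orderOf_eq_one_iff]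
        have d1 := orderOf_dvd_natCard (⟨_, h1⟩ : (S : Subgroup G))
        have d2 := orderOf_dvd_natCard (⟨_, h2⟩ : (P : Subgroup G))
        rw [Subgroup.orderOf_mk] at d1 d2
        rw [card_three h S] at d1
        rw [card_seven h P] at d2
        exact Nat.dvd_one.mp (Nat.dvd_gcd d1 d2 : _ ∣ Nat.gcd 3 7)
      rw [mul_inv_eq_one, mul_inv_eq_iff_eq_mul] at hcomm
      have hxC : x ∈ centralizer ((P : Subgroup G) : Set G) := by
        rw [mem_centralizer_iff]
        intro y hy
        rw [eq_zpowers_of_mem (card_seven h P) w.2 hw1] at hy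
        obtain ⟨n, rfl⟩ := mem_zpowers_iff.mp hy
        exact (Commute.zpow_left hcomm n).eq
      have := orderOf_dvd_natCard (⟨x, hxC⟩ : centralizer ((P : Subgroup G) : Set G))
      rw [Subgroup.orderOf_mk, hx, hC] at this
      norm_num at this
    have hbij : Function.Bijective (fun u : (P : Subgroup G) => (u : G) • S) :=
      (Nat.bijective_iff_injective_and_card _).mpr
        ⟨hinj, by rw [card_seven h P]; exact hm.symm⟩
    have hall : ∀ S' : Sylow 3 G, (S' : Subgroup G) ≤ N := by
      intro S'
      obtain ⟨u, rfl⟩ := hbij.2 S'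
      exact Sylow.smul_le hSN ⟨(u : G), le_normalizer u.2⟩
    have hcore : x ∈ N.normalCore := fun g => by
      obtain ⟨S', hS', -⟩ := exists_unique_sylow_mem (g := g * x * g⁻¹)
        (by rw [show g * x * g⁻¹ = MulAut.conj g x from rfl, MulEquiv.orderOf_eq, hx]) (card_three h)
      exact hall S' hS'
    have hNne : N ≠ ⊤ := fun e => by rw [e, card_top, h] at hN; omega
    rw [normalCore_eq_bot hNne] at hcore
    exact hx1 hcore
  · exact hm

theorem normalizer_three [Fact (Nat.Prime 3)] (h : Nat.card G = 168) (P : Sylow 3 G) :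
    Nat.card (normalizer ((P : Subgroup G) : Set G)) = 6 ∧
      Nat.card (centralizer ((P : Subgroup G) : Set G)) = 3 := by
  obtain ⟨e, he1, he2, hpC, hCe, hall⟩ := sylow_prime_order_data (nc h) P (card_three h P)
  have := Nat.le_of_dvd (by norm_num) he2
  obtain rfl : e = 2 := by omega
  rw [card_sylow_three h, h] at hall
  omega

/-- An element commuting with an element of order 3 or 7 lies in the group generated by it. -/
theorem orderOf_dvd_of_commute {q : ℕ} (hq : q = 3 ∨ q = 7) (h : Nat.card G = 168) {x g : G}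
    (hx : orderOf x = q) (hc : Commute g x) : orderOf g ∣ q := by
  have : Fact q.Prime := ⟨by rcases hq with rfl | rfl <;> norm_num⟩
  have hq' : ∀ P : Sylow q G, Nat.card P = q ∧
      Nat.card (centralizer ((P : Subgroup G) : Set G)) = q := by
    rcases hq with rfl | rfl
    · exact fun P => ⟨card_three h P, (normalizer_three h P).2⟩
    · exact fun P => ⟨card_seven h P, (normalizer_seven h P).2⟩
  obtain ⟨P, hP, -⟩ := exists_unique_sylow_mem hx (fun P => (hq' P).1)
  have hx1 : x ≠ 1 := fun e => this.out.ne_one (by rw [← hx, e, orderOf_one])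
  have hg : g ∈ centralizer ((P : Subgroup G) : Set G) := by
    rw [mem_centralizer_iff]
    intro y hy
    rw [eq_zpowers_of_mem (hq' P).1 hP hx1] at hy
    obtain ⟨n, rfl⟩ := mem_zpowers_iff.mp hy
    exact (Commute.zpow_left hc.symm n).eq
  have := orderOf_dvd_natCard (⟨g, hg⟩ : centralizer ((P : Subgroup G) : Set G))
  rwa [Subgroup.orderOf_mk, (hq' P).2] at this

theorem orderOf_mem (h : Nat.card G = 168) (g : G) :
    orderOf g ∈ ({1, 2, 3, 4, 7} : Finset ℕ) := by
  have : Fact (Nat.Prime 2) := ⟨Nat.prime_two⟩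
  have hd : orderOf g ∈ Nat.divisors 168 :=
    Nat.mem_divisors.mpr ⟨h ▸ orderOf_dvd_natCard g, by norm_num⟩
  have key : ∀ q, (q = 3 ∨ q = 7) → q ∣ orderOf g → orderOf g ∣ q := by
    intro q hq hqd
    have h0 : orderOf g ≠ 0 := (orderOf_pos g).ne'
    exact orderOf_dvd_of_commute hq h (orderOf_pow_orderOf_div h0 hqd)
      (Commute.self_pow g _)
  have h8 : orderOf g ≠ 8 := by
    intro h8
    obtain ⟨P, hP⟩ := (IsPGroup.of_card (p := 2) (G := zpowers g) (n := 3)
      (by rw [Nat.card_zpowers, h8]; norm_num)).exists_le_sylow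
    have hPe : zpowers g = (P : Subgroup G) :=
      eq_of_le_of_card_ge hP (by rw [card_two h P, Nat.card_zpowers, h8])
    have hcyc : IsCyclic P := hPe ▸ isCyclic_zpowers g
    exact not_normalizer_le_centralizer (nc h) (by rw [h]; norm_num) P
      (IsCyclic.normalizer_le_centralizer (p := 2) (by rw [h]; norm_num) hcyc)
  rw [show Nat.divisors 168 = {1, 2, 3, 4, 6, 7, 8, 12, 14, 21, 24, 28, 42, 56, 84, 168} from
    by decide +kernel] at hd
  simp only [Finset.mem_insert, Finset.mem_singleton] at hd ⊢
  have h3 := key 3 (Or.inl rfl)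
  have h7 := key 7 (Or.inr rfl)
  rcases hd with e | e | e | e | e | e | e | e | e | e | e | e | e | e | e | e <;>
    simp_all

theorem card_orderOf_three (h : Nat.card G = 168) :
    Nat.card {g : G // orderOf g = 3} = 56 := by
  have : Fact (Nat.Prime 3) := ⟨by norm_num⟩
  rw [card_orderOf_eq_prime (card_three h), card_sylow_three h]

theorem card_orderOf_seven (h : Nat.card G = 168) :
    Nat.card {g : G // orderOf g = 7} = 48 := by
  have : Fact (Nat.Prime 7) := ⟨by norm_num⟩
  rw [card_orderOf_eq_prime (card_seven h), card_sylow_seven h]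

theorem card_orderOf_two_add_four (h : Nat.card G = 168) :
    Nat.card {g : G // orderOf g = 2} + Nat.card {g : G // orderOf g = 4} = 63 := by
  classical
  have := Fintype.ofFinite G
  have hs : Nat.card G = ∑ d ∈ ({1, 2, 3, 4, 7} : Finset ℕ), Nat.card {g : G // orderOf g = d} := by
    simp only [Nat.card_eq_fintype_card, Fintype.card_subtype]
    rw [← Finset.card_univ]
    exact Finset.card_eq_sum_card_fiberwise fun g _ => orderOf_mem h g
  simp only [Finset.sum_insert, Finset.mem_insert, Finset.mem_singleton, Finset.sum_singleton,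
    show ((1:ℕ) = 2) = False by simp, show ((1:ℕ) = 3) = False by simp,
    show ((1:ℕ) = 4) = False by simp, show ((1:ℕ) = 7) = False by simp,
    show ((2:ℕ) = 3) = False by simp, show ((2:ℕ) = 4) = False by simp,
    show ((2:ℕ) = 7) = False by simp, show ((3:ℕ) = 4) = False by simp,
    show ((3:ℕ) = 7) = False by simp, show ((4:ℕ) = 7) = False by simp,
    or_self, not_false_eq_true] at hs
  rw [card_orderOf_eq_one, card_orderOf_three h, card_orderOf_seven h, h] at hs
  omega

theorem card_sylow_two [Fact (Nat.Prime 2)] (h : Nat.card G = 168) :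
    Nat.card (Sylow 2 G) = 21 := by
  classical
  have hm := card_sylow_mem (p := 2) (nc h) (k := 3) (m := 21) (by norm_num)
    (by rw [h]; norm_num) (by norm_num)
  rw [show ((Nat.divisors 21).filter fun n => n % 2 = 1 ∧ 1 < n) = {3, 7, 21} from by decide] at hm
  simp only [Finset.mem_insert, Finset.mem_singleton] at hm
  rcases hm with hm | hm | hm
  · have := two_mul_card_dvd_factorial_card_sylow (nc h) (p := 2) (by rw [h]; norm_num)
    rw [hm, h] at this; norm_num [Nat.factorial] at this
  · exfalso
    have hle : Nat.card {g : G // orderOf g = 2 ∨ orderOf g = 4} ≤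
        Nat.card (Σ P : Sylow 2 G, {x : (P : Subgroup G) // x ≠ 1}) := by
      have hex : ∀ g : {g : G // orderOf g = 2 ∨ orderOf g = 4}, ∃ P : Sylow 2 G, g.1 ∈ P := by
        rintro ⟨g, hg⟩
        have hp : IsPGroup 2 (zpowers g) := by
          rcases hg with hg | hg
          · exact IsPGroup.of_card (n := 1) (by rw [Nat.card_zpowers, hg]; norm_num)
          · exact IsPGroup.of_card (n := 2) (by rw [Nat.card_zpowers, hg]; norm_num)
        obtain ⟨P, hP⟩ := hp.exists_le_sylow
        exact ⟨P, hP (mem_zpowers g)⟩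
      choose P hP using hex
      refine Nat.card_le_card_of_injective (fun g => ⟨P g, ⟨⟨g.1, hP g⟩, fun e => ?_⟩⟩) ?_
      · have : g.1 = 1 := congrArg Subtype.val e
        rcases g.2 with hg | hg <;> rw [this, orderOf_one] at hg <;> omega
      · intro a b hab
        exact Subtype.ext (congrArg (fun q => ((q.2.1 : G))) hab)
    have := Fintype.ofFinite (Sylow 2 G)
    have := Fintype.ofFinite G
    have hsum : Nat.card {g : G // orderOf g = 2 ∨ orderOf g = 4} = 63 := by
      rw [← card_orderOf_two_add_four h, ← Nat.card_sum]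
      exact Nat.card_congr (subtypeOrEquiv (fun g : G => orderOf g = 2) (fun g => orderOf g = 4)
        (Pi.disjoint_iff.mpr fun g => disjoint_iff_inf_le.mpr fun ⟨h2, h4⟩ => by omega))
    rw [hsum, Nat.card_sigma, Finset.sum_congr rfl (g := fun _ => 7), Finset.sum_const,
      smul_eq_mul, Finset.card_univ, ← Nat.card_eq_fintype_card, hm] at hle
    · omega
    · intro P _
      rw [Nat.card_eq_fintype_card]
      simp only [ne_eq, Fintype.card_subtype_compl, Fintype.card_subtype_eq]
      rw [← Nat.card_eq_fintype_card, card_two h P]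
  · exact hm

theorem normalizer_two [Fact (Nat.Prime 2)] (h : Nat.card G = 168) (T : Sylow 2 G) :
    normalizer ((T : Subgroup G) : Set G) = T := by
  symm
  refine eq_of_le_of_card_ge le_normalizer ?_
  have := card_normalizer_eq (card_sylow_two h) T
  rw [h] at this
  rw [card_two h T]; omega

theorem not_comm_two [Fact (Nat.Prime 2)] (h : Nat.card G = 168) (T : Sylow 2 G) :
    ¬ ∀ a b : (T : Subgroup G), a * b = b * a := by
  intro hc
  refine not_normalizer_le_centralizer (nc h) (by rw [h]; norm_num) T ?_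
  rw [normalizer_two h T]
  intro x hx
  rw [mem_centralizer_iff]
  exact fun y hy => congrArg Subtype.val (hc ⟨y, hy⟩ ⟨x, hx⟩)

theorem card_centralizer_of_central [Fact (Nat.Prime 2)] (h : Nat.card G = 168) (T : Sylow 2 G)
    {z : G} (hz : z ∈ (T : Subgroup G)) (hz1 : z ≠ 1)
    (hc : ∀ t ∈ (T : Subgroup G), t * z = z * t) : centralizer ({z} : Set G) = T := by
  have hle : (T : Subgroup G) ≤ centralizer ({z} : Set G) := fun t ht =>
    mem_centralizer_singleton_iff.mpr (hc t ht)
  symm
  refine eq_of_le_of_card_ge hle ?_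
  rw [card_two h T]
  have hdvd : Nat.card (centralizer ({z} : Set G)) ∈ Nat.divisors 168 :=
    Nat.mem_divisors.mpr ⟨h ▸ card_subgroup_dvd_card _, by norm_num⟩
  have hz2 : orderOf z ∣ 8 := by
    have := orderOf_dvd_natCard (⟨z, hz⟩ : (T : Subgroup G))
    rwa [Subgroup.orderOf_mk, card_two h T] at this
  have hnd : ∀ q, (q = 3 ∨ q = 7) → ¬ q ∣ Nat.card (centralizer ({z} : Set G)) := by
    intro q hq hd
    have : Fact q.Prime := ⟨by rcases hq with rfl | rfl <;> norm_num⟩
    obtain ⟨⟨y, hy⟩, hy'⟩ := exists_prime_orderOf_dvd_card' q hd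
    rw [Subgroup.orderOf_mk] at hy'
    have := orderOf_dvd_of_commute hq h hy' (mem_centralizer_singleton_iff.mp hy).symm
    have h1 : orderOf z ∣ Nat.gcd 8 q := Nat.dvd_gcd hz2 this
    have : Nat.gcd 8 q = 1 := by rcases hq with rfl | rfl <;> norm_num
    rw [this, Nat.dvd_one, orderOf_eq_one_iff] at h1
    exact hz1 h1
  rw [show Nat.divisors 168 = {1, 2, 3, 4, 6, 7, 8, 12, 14, 21, 24, 28, 42, 56, 84, 168} from
    by decide +kernel] at hdvd
  simp only [Finset.mem_insert, Finset.mem_singleton] at hdvd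
  have h3 := hnd 3 (Or.inl rfl)
  have h7 := hnd 7 (Or.inr rfl)
  omega

/-- The square of an element of order 4 is central in any Sylow subgroup containing it. -/
theorem sq_central [Fact (Nat.Prime 2)] (h : Nat.card G = 168) (T : Sylow 2 G) {x : G}
    (hx : x ∈ (T : Subgroup G)) : ∀ t ∈ (T : Subgroup G), t * (x * x) = (x * x) * t := by
  intro t ht
  set x' : (T : Subgroup G) := ⟨x, hx⟩
  suffices x' * x' ∈ center (T : Subgroup G) from
    congrArg Subtype.val (mem_center_iff.mp this ⟨t, ht⟩)
  have hpT : IsPGroup 2 (T : Subgroup G) := T.2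
  have hTc := card_two h T
  have : Nontrivial (T : Subgroup G) := Finite.one_lt_card_iff_nontrivial.mp (by rw [hTc]; norm_num)
  have hZ := hpT.center_nontrivial
  have hZ1 : 1 < Nat.card (center (T : Subgroup G)) := Finite.one_lt_card_iff_nontrivial.mpr hZ
  have hQ := (center (T : Subgroup G)).card_eq_card_quotient_mul_card_subgroup
  rw [hTc] at hQ
  have hQd : Nat.card ((T : Subgroup G) ⧸ center (T : Subgroup G)) ∈ Nat.divisors 8 :=
    Nat.mem_divisors.mpr ⟨Dvd.intro _ hQ.symm, by norm_num⟩
  have hnc : ¬ IsCyclic ((T : Subgroup G) ⧸ center (T : Subgroup G)) := fun hcyc =>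
    not_comm_two h T (((QuotientGroup.mk' (center (T : Subgroup G))).isMulCommutative_of_isCyclic_of_ker_le_center
      (by rw [QuotientGroup.ker_mk'])).is_comm.comm)
  have h4 : Nat.card ((T : Subgroup G) ⧸ center (T : Subgroup G)) = 4 := by
    rw [show Nat.divisors 8 = {1, 2, 4, 8} from by decide +kernel] at hQd
    simp only [Finset.mem_insert, Finset.mem_singleton] at hQd
    rcases hQd with e | e | e | e
    · exfalso
      have := (Nat.card_eq_one_iff_unique.mp e).1
      exact hnc isCyclic_of_subsingleton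
    · exact absurd (isCyclic_of_prime_card (p := 2) e) hnc
    · exact e
    · exfalso; rw [e] at hQ; omega
  rw [← QuotientGroup.eq_one_iff, QuotientGroup.mk_mul]
  generalize (x' : (T : Subgroup G) ⧸ center (T : Subgroup G)) = q
  rcases eq_or_ne q 1 with rfl | hq
  · rw [one_mul]
  have hd : orderOf q ∈ Nat.divisors 4 :=
    Nat.mem_divisors.mpr ⟨h4 ▸ orderOf_dvd_natCard q, by norm_num⟩
  rw [show Nat.divisors 4 = {1, 2, 4} from by decide +kernel] at hd
  simp only [Finset.mem_insert, Finset.mem_singleton] at hd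
  rcases hd with e | e | e
  · exact absurd (orderOf_eq_one_iff.mp e) hq
  · rw [← pow_two]; exact orderOf_dvd_iff_pow_eq_one.mp (dvd_of_eq e)
  · exact absurd (isCyclic_of_orderOf_eq_card q (by rw [e, h4])) hnc

/-- An element of order 4 determines the Sylow subgroup containing it. -/
theorem sylow_eq_of_mem [Fact (Nat.Prime 2)] (h : Nat.card G = 168) {T T' : Sylow 2 G} {x : G}
    (hx : orderOf x = 4) (hT : x ∈ T) (hT' : x ∈ T') : T = T' := by
  have h1 : x * x ≠ 1 := fun e => by
    have := orderOf_dvd_of_pow_eq_one (show x ^ 2 = 1 by rw [pow_two, e])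
    rw [hx] at this; norm_num at this
  apply Sylow.ext
  rw [← card_centralizer_of_central h T (mul_mem hT hT) h1 (sq_central h T hT),
    card_centralizer_of_central h T' (mul_mem hT' hT') h1 (sq_central h T' hT')]

theorem dihedral [Fact (Nat.Prime 2)] (h : Nat.card G = 168) (T : Sylow 2 G) :
    Nonempty ((T : Subgroup G) ≃* DihedralGroup 4) := by
  classical
  refine (order_eight_dihedral_or_many_four (card_two h T) (not_comm_two h T)).resolve_right ?_
  intro hmany
  have hconst : ∀ S : Sylow 2 G, Nat.card {t : (S : Subgroup G) // orderOf t = 4} =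
      Nat.card {t : (T : Subgroup G) // orderOf t = 4} := fun S =>
    Nat.card_congr ((Sylow.equiv S T).toEquiv.subtypeEquiv fun t => by
      exact Iff.of_eq (congrArg (· = 4) (MulEquiv.orderOf_eq (Sylow.equiv S T) t).symm))
  let f : (Σ S : Sylow 2 G, {t : (S : Subgroup G) // orderOf t = 4}) → {g : G // orderOf g = 4} :=
    fun q => ⟨q.2.1.1, by rw [Subgroup.orderOf_coe]; exact q.2.2⟩
  have hf : Function.Injective f := by
    rintro ⟨S, ⟨⟨a, ha⟩, hao⟩⟩ ⟨S', ⟨⟨b, hb⟩, hbo⟩⟩ hab
    obtain rfl : a = b := congrArg Subtype.val hab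
    obtain rfl := sylow_eq_of_mem h (Subgroup.orderOf_mk a ha ▸ hao) ha hb
    rfl
  have hle := Nat.card_le_card_of_injective f hf
  have := Fintype.ofFinite (Sylow 2 G)
  rw [Nat.card_sigma, Finset.sum_congr rfl (fun S _ => hconst S), Finset.sum_const, smul_eq_mul,
    Finset.card_univ, ← Nat.card_eq_fintype_card, card_sylow_two h] at hle
  have := card_orderOf_two_add_four h
  omega

theorem dihedral_card_four [Fact (Nat.Prime 2)] (h : Nat.card G = 168) (T : Sylow 2 G) :
    Nat.card {t : (T : Subgroup G) // orderOf t = 4} = 2 := by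
  classical
  obtain ⟨e⟩ := dihedral h T
  rw [Nat.card_congr (e.toEquiv.subtypeEquiv (q := fun d : DihedralGroup 4 => orderOf d = 4)
    fun t => Iff.of_eq (congrArg (· = 4) (MulEquiv.orderOf_eq e t).symm)), Nat.card_eq_fintype_card]
  have hiff : ∀ d : DihedralGroup 4, orderOf d = 4 ↔ (d * d ≠ 1 ∧ d * d * (d * d) = 1) := by
    intro d
    constructor
    · intro hd
      refine ⟨fun e => ?_, ?_⟩
      · have := orderOf_dvd_of_pow_eq_one (show d ^ 2 = 1 by rw [pow_two, e])
        rw [hd] at this; norm_num at this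
      · have h4 : d ^ 4 = 1 := orderOf_dvd_iff_pow_eq_one.mp (dvd_of_eq hd)
        rw [← h4]; simp [pow_succ, mul_assoc]
    · rintro ⟨h1, h2⟩
      exact orderOf_eq_prime_pow (p := 2) (n := 1) (by simpa [pow_two] using h1)
        (by rw [show (2:ℕ) ^ (1 + 1) = 2 * 2 from rfl, pow_mul, pow_two, pow_two]; exact h2)
  rw [Fintype.card_congr (Equiv.subtypeEquivRight hiff)]
  rfl

theorem card_orderOf_four (h : Nat.card G = 168) : Nat.card {g : G // orderOf g = 4} = 42 := by
  classical
  have : Fact (Nat.Prime 2) := ⟨Nat.prime_two⟩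
  let f : (Σ S : Sylow 2 G, {t : (S : Subgroup G) // orderOf t = 4}) → {g : G // orderOf g = 4} :=
    fun q => ⟨q.2.1.1, by rw [Subgroup.orderOf_coe]; exact q.2.2⟩
  have hf : Function.Bijective f := by
    refine ⟨?_, ?_⟩
    · rintro ⟨S, ⟨⟨a, ha⟩, hao⟩⟩ ⟨S', ⟨⟨b, hb⟩, hbo⟩⟩ hab
      obtain rfl : a = b := congrArg Subtype.val hab
      obtain rfl := sylow_eq_of_mem h (Subgroup.orderOf_mk a ha ▸ hao) ha hb
      rfl
    · rintro ⟨g, hg⟩
      obtain ⟨S, hS⟩ := (IsPGroup.of_card (p := 2) (G := zpowers g) (n := 2)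
        (by rw [Nat.card_zpowers, hg]; norm_num)).exists_le_sylow
      exact ⟨⟨S, ⟨⟨g, hS (mem_zpowers g)⟩, by rw [Subgroup.orderOf_mk]; exact hg⟩⟩, rfl⟩
  rw [← Nat.card_congr (Equiv.ofBijective f hf)]
  have := Fintype.ofFinite (Sylow 2 G)
  rw [Nat.card_sigma, Finset.sum_congr rfl (fun S _ => dihedral_card_four h S), Finset.sum_const,
    smul_eq_mul, Finset.card_univ, ← Nat.card_eq_fintype_card, card_sylow_two h]

theorem card_orderOf_two (h : Nat.card G = 168) : Nat.card {g : G // orderOf g = 2} = 21 := by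
  have := card_orderOf_two_add_four h
  have := card_orderOf_four h
  omega

/-- Every involution is the central involution of a Sylow 2-subgroup. -/
theorem exists_sylow_eq_centralizer [Fact (Nat.Prime 2)] (h : Nat.card G = 168) {z : G}
    (hz : orderOf z = 2) : ∃ T : Sylow 2 G, centralizer ({z} : Set G) = T ∧
      ∃ x ∈ (T : Subgroup G), orderOf x = 4 ∧ x * x = z := by
  classical
  have hex : ∀ T : Sylow 2 G, ∃ x ∈ (T : Subgroup G), orderOf x = 4 := by
    intro T
    have : Nonempty {t : (T : Subgroup G) // orderOf t = 4} :=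
      (Nat.card_pos_iff.mp (by rw [dihedral_card_four h T]; norm_num)).1
    obtain ⟨⟨⟨x, hx⟩, hxo⟩⟩ := this
    exact ⟨x, hx, Subgroup.orderOf_mk x hx ▸ hxo⟩
  choose x hx hxo using hex
  have hne : ∀ T, x T * x T ≠ 1 := fun T e => by
    have := orderOf_dvd_of_pow_eq_one (show x T ^ 2 = 1 by rw [pow_two, e])
    rw [hxo] at this; norm_num at this
  have hord : ∀ T, orderOf (x T * x T) = 2 := fun T => by
    rw [← pow_two, orderOf_pow, hxo]; rfl
  have hcent : ∀ T, centralizer ({x T * x T} : Set G) = T := fun T =>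
    card_centralizer_of_central h T (mul_mem (hx T) (hx T)) (hne T) (sq_central h T (hx T))
  let f : Sylow 2 G → {g : G // orderOf g = 2} := fun T => ⟨_, hord T⟩
  have hf : Function.Bijective f := by
    refine (Nat.bijective_iff_injective_and_card _).mpr ⟨fun T T' e => Sylow.ext ?_, ?_⟩
    · rw [← hcent T, ← hcent T', show x T * x T = x T' * x T' from congrArg Subtype.val e]
    · rw [card_sylow_two h, card_orderOf_two h]
  obtain ⟨T, hT⟩ := hf.2 ⟨z, hz⟩
  have hT' : x T * x T = z := congrArg Subtype.val hT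
  exact ⟨T, hT' ▸ hcent T, x T, hx T, hxo T, hT'⟩

theorem two_cubed : (2 : ZMod 7) * 2 * 2 = 1 := by decide

theorem one_ne_two : (1 : ZMod 7) ≠ 2 := by decide

theorem psl_check : PSLCheck 7 3 [1] (2 : ZMod 7) (6 : ZMod 7) := by decide +kernel

theorem psl_param : PSLParam 7 3 (2 : ZMod 7) (6 : ZMod 7) := by constructor <;> decide +kernel

/-- A simple group of order 168 is `PSL(2, 7)`. -/
theorem nonempty_mulEquiv_psl_seven [Fact (Nat.Prime 7)] (h : Nat.card G = 168) :
    Nonempty (G ≃* Matrix.ProjectiveSpecialLinearGroup (Fin 2) (ZMod 7)) := by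
  refine nonempty_mulEquiv_psl (p := 7) (m := 3) (by norm_num) psl_param psl_check
    (by rw [h]) (card_sylow_seven h) ?_
  intro k hk x t φ hφ hxn hxs htn ht0 hcomm
  rw [List.mem_singleton] at hk
  subst hk
  have hord : orderOf x = 3 := by
    rw [← orderOf_injective φ hφ]
    have : Fact (Nat.Prime 3) := ⟨by norm_num⟩
    apply orderOf_eq_prime
    · refine Equiv.ext fun z => ?_
      rw [pow_succ, pow_two, Equiv.Perm.mul_apply, Equiv.Perm.mul_apply, Equiv.Perm.one_apply]
      cases z with
      | none => rw [hxn, hxn, hxn]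
      | some y =>
        rw [hxs, hxs, hxs, ← mul_assoc, ← mul_assoc, show (2 : ZMod 7) * 2 * 2 = 1 from two_cubed,
          one_mul]
    · intro e
      have := hxs 1
      rw [e, Equiv.Perm.one_apply, mul_one, Option.some.injEq] at this
      exact one_ne_two this
  have hc : Commute t x := by
    refine hφ (Equiv.ext fun z => ?_)
    rw [map_mul, map_mul, Equiv.Perm.mul_apply, Equiv.Perm.mul_apply]
    cases z with
    | none => rw [hxn, htn, hxs, mul_zero]
    | some y =>
      rw [hxs, hcomm]
      cases hy : φ t (some y) with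
      | none => rw [Option.map_none, hxn]
      | some w => rw [Option.map_some, hxs, pow_one]
  have hd := orderOf_dvd_of_commute (Or.inl rfl) h hord hc
  have h3 : t ^ 3 = 1 := orderOf_dvd_iff_pow_eq_one.mp hd
  have := congrArg (fun g => φ g none) h3
  simp [pow_succ, map_mul, Equiv.Perm.mul_apply, htn, ht0] at this

end CfsgLib.Small.Order168
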