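import Cfsg.Agent.Lib.Small.Fixed
import Cfsg.Agent.Lib.Small.Order504
import Cfsg.Agent.Lib.StrongEmbedding.PSLTwo

/-!
A simple group of order 4080 is `PSL(2, 16)`: the centralisers of involutions are elementary
abelian of order 16.
-/

set_option autoImplicit false

namespace CfsgLib.Small.Order4080

open Subgroup MulAction CfsgLib.Small

/-- `PSL(n, F)` only depends on the field up to isomorphism. -/
theorem nonempty_psl_congr {F : Type*} [Field F] {K : Type*} [Field K] (f : F ≃+* K) :
    Nonempty (Matrix.ProjectiveSpecialLinearGroup (Fin 2) F ≃*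
      Matrix.ProjectiveSpecialLinearGroup (Fin 2) K) := by
  let eSL : Matrix.SpecialLinearGroup (Fin 2) F ≃* Matrix.SpecialLinearGroup (Fin 2) K :=
    { toFun := Matrix.SpecialLinearGroup.map f.toRingHom
      invFun := Matrix.SpecialLinearGroup.map f.symm.toRingHom
      left_inv := fun g => Subtype.ext (Matrix.ext fun i j => f.symm_apply_apply _)
      right_inv := fun g => Subtype.ext (Matrix.ext fun i j => f.apply_symm_apply _)
      map_mul' := map_mul _ }
  have hc : (Subgroup.center (Matrix.SpecialLinearGroup (Fin 2) F)).map eSL.toMonoidHom =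
      Subgroup.center (Matrix.SpecialLinearGroup (Fin 2) K) := by
    ext y
    simp only [Subgroup.mem_map, Subgroup.mem_center_iff, MulEquiv.coe_toMonoidHom]
    constructor
    · rintro ⟨x, hx, rfl⟩ g
      obtain ⟨g', rfl⟩ := eSL.surjective g
      rw [← map_mul, hx, map_mul]
    · intro hy
      refine ⟨eSL.symm y, fun g => eSL.injective ?_, eSL.apply_symm_apply y⟩
      rw [map_mul, map_mul, eSL.apply_symm_apply]
      exact hy _
  exact ⟨QuotientGroup.congr _ _ eSL hc⟩

variable {G : Type*} [Group G] [Finite G]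

/-- Lower bound for the elements whose `p`-part is nontrivial and whose other part is a
2-element. -/
theorem le_card_singular {p u : ℕ} [hp : Fact p.Prime] (hpP : ∀ P : Sylow p G, Nat.card P = p)
    (hp2 : ¬ p ∣ 16) (h16 : 16 % p = 1) (hu : u ∣ 16) (U : Sylow p G → Subgroup G)
    (hU : ∀ P, U P ≤ centralizer ((P : Subgroup G) : Set G)) (hUc : ∀ P, Nat.card (U P) = u) :
    Nat.card (Sylow p G) * ((p - 1) * u) ≤
      Nat.card {g : G // p ∣ orderOf g ∧ orderOf g ∣ p * 16} := by
  classical
  have hcop : Nat.Coprime p 16 := (Nat.Prime.coprime_iff_not_dvd hp.out).mpr hp2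
  have hu16 : ∀ (P : Sylow p G), ∀ b ∈ U P, orderOf b ∣ 16 := fun P b hb => by
    have := orderOf_dvd_natCard (⟨b, hb⟩ : U P)
    rw [Subgroup.orderOf_mk, hUc] at this
    exact this.trans hu
  have hord : ∀ (P : Sylow p G), ∀ a ∈ (P : Subgroup G), a ≠ 1 → orderOf a = p := by
    intro P a ha ha1
    rw [← Nat.card_zpowers, ← eq_zpowers_of_mem (hpP P) ha ha1, hpP P]
  have hcomm : ∀ (P : Sylow p G), ∀ a ∈ (P : Subgroup G), ∀ b ∈ U P, Commute a b :=
    fun P a ha b hb => mem_centralizer_iff.mp (hU P hb) a ha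
  let f : (Σ P : Sylow p G, {a : (P : Subgroup G) // ¬ a = 1} × U P) →
      {g : G // p ∣ orderOf g ∧ orderOf g ∣ p * 16} := fun q =>
    ⟨(q.2.1.1 : G) * (q.2.2 : G), by
      have ha := hord q.1 _ q.2.1.1.2 (fun e => q.2.1.2 (Subtype.ext e))
      rw [(hcomm q.1 _ q.2.1.1.2 _ q.2.2.2).orderOf_mul_eq_mul_orderOf_of_coprime
        (Nat.Coprime.coprime_dvd_right (hu16 _ _ q.2.2.2) (by rw [ha]; exact hcop)), ha]
      exact ⟨dvd_mul_right p _, Nat.mul_dvd_mul_left p (hu16 _ _ q.2.2.2)⟩⟩
  have hf : Function.Injective f := by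
    rintro ⟨P, ⟨⟨a, ha⟩, ha1⟩, ⟨b, hb⟩⟩ ⟨Q, ⟨⟨a', ha'⟩, ha1'⟩, ⟨b', hb'⟩⟩ e
    have e' : a * b = a' * b' := congrArg Subtype.val e
    have key : ∀ (R : Sylow p G), ∀ x ∈ (R : Subgroup G), x ≠ 1 → ∀ y ∈ U R,
        (x * y) ^ 16 = x := by
      intro R x hx hx1 y hy
      rw [(hcomm R x hx y hy).mul_pow, orderOf_dvd_iff_pow_eq_one.mp (hu16 R y hy), mul_one,
        ← pow_mod_orderOf, hord R x hx hx1, h16, pow_one]
    have h1 : a ≠ 1 := fun e => ha1 (Subtype.ext e)
    have h1' : a' ≠ 1 := fun e => ha1' (Subtype.ext e)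
    obtain rfl : a = a' := by
      rw [← key P a ha h1 b hb, e', key Q a' ha' h1' b' hb']
    obtain rfl : P = Q :=
      (exists_unique_sylow_mem (hord P a ha h1) hpP).unique ha ha'
    obtain rfl : b = b' := mul_left_cancel e'
    rfl
  refine le_of_eq_of_le ?_ (Nat.card_le_card_of_injective f hf)
  have := Fintype.ofFinite (Sylow p G)
  rw [Nat.card_sigma, Finset.sum_congr rfl (g := fun _ => (p - 1) * u), Finset.sum_const,
    smul_eq_mul, Finset.card_univ, ← Nat.card_eq_fintype_card]
  intro P _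
  have := Fintype.ofFinite (P : Subgroup G)
  rw [Nat.card_prod, hUc, Nat.card_eq_fintype_card, Fintype.card_subtype_compl,
    Fintype.card_subtype_eq, ← Nat.card_eq_fintype_card, hpP P]

theorem nc [IsSimpleGroup G] (h : Nat.card G = 4080) : ¬ IsMulCommutative G :=
  nc_of_not_prime (by rw [h]; norm_num)

theorem card_three [Fact (Nat.Prime 3)] (h : Nat.card G = 4080) (P : Sylow 3 G) :
    Nat.card P = 3 := by
  simpa using card_sylow_of_card_eq (k := 1) (m := 1360) (by rw [h]; norm_num) (by norm_num) P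

theorem card_five [Fact (Nat.Prime 5)] (h : Nat.card G = 4080) (P : Sylow 5 G) :
    Nat.card P = 5 := by
  simpa using card_sylow_of_card_eq (k := 1) (m := 816) (by rw [h]; norm_num) (by norm_num) P

theorem card_seventeen [Fact (Nat.Prime 17)] (h : Nat.card G = 4080) (P : Sylow 17 G) :
    Nat.card P = 17 := by
  simpa using card_sylow_of_card_eq (k := 1) (m := 240) (by rw [h]; norm_num) (by norm_num) P

theorem card_two [Fact (Nat.Prime 2)] (h : Nat.card G = 4080) (P : Sylow 2 G) :
    Nat.card P = 16 := by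
  simpa using card_sylow_of_card_eq (k := 4) (m := 255) (by rw [h]; norm_num) (by norm_num) P

/-- An element commuting with a generator of a Sylow subgroup of prime order centralises it. -/
theorem mem_centralizer_of_commute {p : ℕ} [Fact p.Prime] {P : Sylow p G}
    (hP : Nat.card P = p) {x g : G} (hx : x ∈ (P : Subgroup G)) (hx1 : x ≠ 1) (hc : Commute g x) :
    g ∈ centralizer ((P : Subgroup G) : Set G) := by
  rw [Order504.centralizer_eq_of_zpowers (eq_zpowers_of_mem hP hx hx1),
    mem_centralizer_singleton_iff]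
  exact hc.eq

/-- If every Sylow `p`-subgroup has centraliser of order `c`, so has every element of order `p`. -/
theorem card_centralizer_of_orderOf {p c : ℕ} [hp : Fact p.Prime]
    (hP : ∀ P : Sylow p G, Nat.card P = p)
    (hc : ∀ P : Sylow p G, Nat.card (centralizer ((P : Subgroup G) : Set G)) = c)
    {x : G} (hx : orderOf x = p) : Nat.card (centralizer ({x} : Set G)) = c := by
  obtain ⟨P, hPx, -⟩ := exists_unique_sylow_mem hx hP
  rw [← Order504.centralizer_eq_of_zpowers (eq_zpowers_of_mem (hP P) hPx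
    (fun e => hp.out.ne_one (by rw [← hx, e, orderOf_one])))]
  exact hc P

variable [IsSimpleGroup G]

theorem seventeen_le_index (h : Nat.card G = 4080) {H : Subgroup G} (hH : H ≠ ⊤) :
    17 ≤ H.index := by
  have h2 := two_mul_card_dvd_factorial_index (nc h) hH
  rw [h] at h2
  exact (Nat.Prime.dvd_factorial (by norm_num)).mp ((by norm_num : 17 ∣ 2 * 4080).trans h2)

theorem seventeen_data [Fact (Nat.Prime 17)] (h : Nat.card G = 4080) :
    Nat.card (Sylow 17 G) = 120 ∧
      ∀ x : G, orderOf x = 17 → Nat.card (centralizer ({x} : Set G)) = 17 := by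
  have hm := card_sylow_mem (p := 17) (nc h) (k := 1) (m := 240) one_ne_zero
    (by rw [h]; norm_num) (by norm_num)
  rw [show ((Nat.divisors 240).filter fun n => n % 17 = 1 ∧ 1 < n) = {120} from by decide +kernel,
    Finset.mem_singleton] at hm
  refine ⟨hm, fun x hx => card_centralizer_of_orderOf (card_seventeen h) (fun P => ?_) hx⟩
  obtain ⟨e, he1, he2, ⟨c, hc⟩, hCe, hall⟩ := sylow_prime_order_data (nc h) P (card_seventeen h P)
  rw [hm, h, hc] at hall
  rw [hc]
  have h2 : c * e = 2 := by
    rw [mul_assoc 17 c e] at hall; omega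
  rcases (Nat.dvd_prime Nat.prime_two).mp (Dvd.intro e h2 : c ∣ 2) with rfl | rfl <;> omega

theorem five_cases [Fact (Nat.Prime 5)] (h : Nat.card G = 4080) :
    (Nat.card (Sylow 5 G) = 136 ∧ ∀ P : Sylow 5 G,
      Nat.card (centralizer ((P : Subgroup G) : Set G)) = 15) ∨
    (Nat.card (Sylow 5 G) = 51 ∧ ∀ P : Sylow 5 G,
      4 ∣ Nat.card (centralizer ((P : Subgroup G) : Set G)) ∧
      ¬ 3 ∣ Nat.card (centralizer ((P : Subgroup G) : Set G))) := by
  have hm := card_sylow_mem (p := 5) (nc h) (k := 1) (m := 816) one_ne_zero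
    (by rw [h]; norm_num) (by norm_num)
  rw [show ((Nat.divisors 816).filter fun n => n % 5 = 1 ∧ 1 < n) = {6, 16, 51, 136, 816} from
    by decide +kernel] at hm
  simp only [Finset.mem_insert, Finset.mem_singleton] at hm
  have hsmall : 17 ≤ Nat.card (Sylow 5 G) := by
    obtain ⟨P⟩ := (inferInstance : Nonempty (Sylow 5 G))
    rw [P.card_eq_index_normalizer]
    exact seventeen_le_index h (sylow_normalizer_ne_top (nc h) (by rw [h]; norm_num) P)
  have hd : ∀ P : Sylow 5 G, ∃ e c, 1 < e ∧ (e = 2 ∨ e = 4) ∧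
      Nat.card (centralizer ((P : Subgroup G) : Set G)) = 5 * c ∧
      5 * (c * e * Nat.card (Sylow 5 G)) = 4080 := by
    intro P
    obtain ⟨e, he1, he2, ⟨c, hc⟩, hCe, hall⟩ := sylow_prime_order_data (nc h) P (card_five h P)
    refine ⟨e, c, he1, ?_, hc, ?_⟩
    · have := Nat.le_of_dvd (by norm_num) he2
      interval_cases e <;> first | (left; rfl) | (right; rfl) | norm_num at he2
    · rw [← h, ← hall, hc, mul_assoc, mul_assoc, mul_assoc]
  rcases hm with hm | hm | hm | hm | hm
  · omega
  · omega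
  · refine Or.inr ⟨hm, fun P => ?_⟩
    obtain ⟨e, c, he1, he, hc, hall⟩ := hd P
    rw [hm] at hall
    rw [hc]
    rcases he with rfl | rfl
    · have : c = 8 := by omega
      subst this; norm_num
    · have : c = 4 := by omega
      subst this; norm_num
  · refine Or.inl ⟨hm, fun P => ?_⟩
    obtain ⟨e, c, he1, he, hc, hall⟩ := hd P
    rw [hm] at hall
    rcases he with rfl | rfl <;> omega
  · exfalso
    obtain ⟨P⟩ := (inferInstance : Nonempty (Sylow 5 G))
    obtain ⟨e, c, he1, he, hc, hall⟩ := hd P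
    rw [hm] at hall
    rcases he with rfl | rfl <;> omega

theorem three_cases [Fact (Nat.Prime 3)] (h : Nat.card G = 4080) :
    ∃ n c : ℕ, Nat.card (Sylow 3 G) = n ∧
      (∀ x : G, orderOf x = 3 → Nat.card (centralizer ({x} : Set G)) = c) ∧
      ((n = 34 ∧ c = 60) ∨ (n = 85 ∧ c = 24) ∨ (n = 136 ∧ c = 15) ∨ (n = 340 ∧ c = 6)) := by
  have : Fact (Nat.Prime 17) := ⟨by norm_num⟩
  have hm := card_sylow_mem (p := 3) (nc h) (k := 1) (m := 1360) one_ne_zero
    (by rw [h]; norm_num) (by norm_num)
  rw [show ((Nat.divisors 1360).filter fun n => n % 3 = 1 ∧ 1 < n) =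
    {4, 10, 16, 34, 40, 85, 136, 340, 1360} from by decide +kernel] at hm
  simp only [Finset.mem_insert, Finset.mem_singleton] at hm
  obtain ⟨P0⟩ := (inferInstance : Nonempty (Sylow 3 G))
  have hsmall : 17 ≤ Nat.card (Sylow 3 G) := by
    rw [P0.card_eq_index_normalizer]
    exact seventeen_le_index h (sylow_normalizer_ne_top (nc h) (by rw [h]; norm_num) P0)
  have hd : ∀ P : Sylow 3 G,
      Nat.card (centralizer ((P : Subgroup G) : Set G)) * 2 * Nat.card (Sylow 3 G) = 4080 ∧
      3 ∣ Nat.card (centralizer ((P : Subgroup G) : Set G)) := by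
    intro P
    obtain ⟨e, he1, he2, hc, hCe, hall⟩ := sylow_prime_order_data (nc h) P (card_three h P)
    obtain rfl : e = 2 := by
      have := Nat.le_of_dvd (by norm_num) he2; omega
    exact ⟨hall.trans h, hc⟩
  refine ⟨_, Nat.card (centralizer ((P0 : Subgroup G) : Set G)), rfl,
    fun x hx => card_centralizer_of_orderOf (card_three h) (fun P => ?_) hx, ?_⟩
  · have h1 := (hd P).1
    have h2 := (hd P0).1
    exact Nat.eq_of_mul_eq_mul_right (show 0 < 2 * Nat.card (Sylow 3 G) by omega)
      (by rw [← mul_assoc, ← mul_assoc, h1, h2])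
  obtain ⟨h1, h3⟩ := hd P0
  rcases hm with hm | hm | hm | hm | hm | hm | hm | hm | hm <;> rw [hm] at h1 hsmall ⊢
  all_goals try omega
  -- a group of order 51 centralising an element of order 17
  exfalso
  have hc : Nat.card (centralizer ((P0 : Subgroup G) : Set G)) = 51 := by omega
  obtain ⟨⟨y, hy⟩, hy'⟩ := exists_prime_orderOf_dvd_card'
    (G := centralizer ((P0 : Subgroup G) : Set G)) 17 (by rw [hc]; norm_num)
  rw [Subgroup.orderOf_mk] at hy'
  have hPy : (P0 : Subgroup G) ≤ centralizer ({y} : Set G) := fun a ha =>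
    mem_centralizer_singleton_iff.mpr (mem_centralizer_iff.mp hy a ha)
  have := card_dvd_of_le hPy
  rw [card_three h P0, (seventeen_data h).2 y hy'] at this
  norm_num at this

omit [IsSimpleGroup G] in
/-- The centraliser of a subgroup of order 3 does not have order 60. -/
theorem not_sixty [Fact (Nat.Prime 5)] (h : Nat.card G = 4080)
    (h5n : Nat.card (Sylow 5 G) = 136) {x : G} (hx : orderOf x = 3) :
    Nat.card (centralizer ({x} : Set G)) ≠ 60 := by
  intro hc
  set K := centralizer ({x} : Set G)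
  have hm := card_sylow_of_card_eq (G := K) (p := 5) (k := 1) (m := 12) (by rw [hc]; norm_num)
    (by norm_num)
  obtain ⟨S⟩ := (inferInstance : Nonempty (Sylow 5 K))
  have hmul := card_normalizer_mul_card_sylow S
  rw [hc] at hmul
  have hmod := card_sylow_modEq_one 5 K
  rw [Nat.ModEq] at hmod
  have hxK : x ∈ K := mem_centralizer_singleton_iff.mpr rfl
  have hxS : (⟨x, hxK⟩ : K) ∈ normalizer ((S : Subgroup K) : Set K) := by
    refine centralizer_le_normalizer' _ (mem_centralizer_iff.mpr fun a _ => Subtype.ext ?_)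
    exact mem_centralizer_singleton_iff.mp a.2
  have h3 : 3 ∣ Nat.card (normalizer ((S : Subgroup K) : Set K)) := by
    have := orderOf_dvd_natCard (⟨_, hxS⟩ : normalizer ((S : Subgroup K) : Set K))
    rwa [Subgroup.orderOf_mk, Subgroup.orderOf_mk, hx] at this
  have h55 : 5 ∣ Nat.card (normalizer ((S : Subgroup K) : Set K)) :=
    (dvd_of_eq (show 5 = Nat.card (S : Subgroup K) from by simpa using (hm S).symm)).trans
      (card_dvd_of_le le_normalizer)
  have hN60 : Nat.card (normalizer ((S : Subgroup K) : Set K)) = 60 := by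
    have h15 := Nat.Coprime.mul_dvd_of_dvd_of_dvd (by norm_num : Nat.Coprime 3 5) h3 h55
    obtain ⟨d, hd⟩ := h15
    rw [hd, mul_assoc] at hmul
    have h4 : d * Nat.card (Sylow 5 K) = 4 := by omega
    have hle : Nat.card (Sylow 5 K) ≤ 4 := Nat.le_of_dvd (by norm_num) (Dvd.intro_left d h4)
    have : Nat.card (Sylow 5 K) = 1 := by omega
    rw [this, mul_one] at h4
    omega
  set P' := (S : Subgroup K).map K.subtype
  have hP'c : Nat.card P' = 5 := by
    rw [← Nat.card_congr ((S : Subgroup K).equivMapOfInjective K.subtype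
      (Subtype.val_injective)).toEquiv]
    simpa using hm S
  obtain ⟨P, hP⟩ := (IsPGroup.of_card (p := 5) (G := P') (n := 1)
    (by rw [hP'c]; norm_num)).exists_le_sylow
  have hPeq : P' = (P : Subgroup G) := eq_of_le_of_card_ge hP (by rw [hP'c, card_five h P])
  have hle : Nat.card K ≤ Nat.card (normalizer ((P : Subgroup G) : Set G)) := by
    refine Nat.le_of_dvd Nat.card_pos (card_dvd_of_le ?_)
    rw [← hPeq]
    intro g hg
    refine le_normalizer_map (H := (S : Subgroup K)) K.subtype
      (mem_map.mpr ⟨⟨g, hg⟩, ?_, rfl⟩)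
    rw [eq_of_le_of_card_ge (le_top : normalizer ((S : Subgroup K) : Set K) ≤ ⊤)
      (by rw [card_top, hN60, hc])]
    trivial
  have hN := card_normalizer_eq h5n P
  rw [h] at hN
  omega

theorem five_data [Fact (Nat.Prime 5)] (h : Nat.card G = 4080) :
    Nat.card (Sylow 5 G) = 136 ∧
      ∀ P : Sylow 5 G, Nat.card (centralizer ((P : Subgroup G) : Set G)) = 15 := by
  classical
  refine (five_cases h).resolve_right ?_
  rintro ⟨hn5, hc5⟩
  have : Fact (Nat.Prime 3) := ⟨Nat.prime_three⟩
  have : Fact (Nat.Prime 2) := ⟨Nat.prime_two⟩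
  have : Fact (Nat.Prime 17) := ⟨by norm_num⟩
  obtain ⟨n, c, hn, hc, hcases⟩ := three_cases h
  have hno : ¬ 5 ∣ c := by
    intro hd
    obtain ⟨x, hx⟩ := exists_prime_orderOf_dvd_card' (G := G) 3 (by rw [h]; norm_num)
    obtain ⟨⟨y, hy⟩, hy'⟩ := exists_prime_orderOf_dvd_card'
      (G := centralizer ({x} : Set G)) 5 (by rw [hc x hx]; exact hd)
    rw [Subgroup.orderOf_mk] at hy'
    obtain ⟨P, hP, -⟩ := exists_unique_sylow_mem hy' (card_five h)
    have hxP := mem_centralizer_of_commute (card_five h P) hP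
      (fun e => by rw [e, orderOf_one] at hy'; omega)
      (show Commute x y from (mem_centralizer_singleton_iff.mp hy).symm)
    have := orderOf_dvd_natCard (⟨x, hxP⟩ : centralizer ((P : Subgroup G) : Set G))
    rw [Subgroup.orderOf_mk, hx] at this
    exact (hc5 P).2 this
  -- too many elements
  have hU5 : ∀ P : Sylow 5 G, ∃ U : Subgroup G,
      U ≤ centralizer ((P : Subgroup G) : Set G) ∧ Nat.card U = 4 := by
    intro P
    obtain ⟨U, hU⟩ := Sylow.exists_subgroup_card_pow_prime 2
      (show 2 ^ 2 ∣ Nat.card (centralizer ((P : Subgroup G) : Set G)) from (hc5 P).1)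
    refine ⟨U.map (Subgroup.subtype _), map_subtype_le U, ?_⟩
    rw [← Nat.card_congr (U.equivMapOfInjective _ Subtype.val_injective).toEquiv, hU]
    norm_num
  choose U5 hU5 hU5c using hU5
  have h5 := le_card_singular (card_five h) (by norm_num) (by norm_num) (by norm_num : 4 ∣ 16)
    U5 hU5 hU5c
  rw [hn5] at h5
  have h3 : 1360 ≤ Nat.card {g : G // 3 ∣ orderOf g ∧ orderOf g ∣ 3 * 16} := by
    obtain ⟨k, hk16, hkc, hku⟩ : ∃ k, 2 ^ k ∣ 16 ∧ 2 ^ k ∣ c ∧ n * (2 * 2 ^ k) = 1360 := by
      rcases hcases with ⟨e, e'⟩ | ⟨e, e'⟩ | ⟨e, e'⟩ | ⟨e, e'⟩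
      · exact absurd (e' ▸ (by norm_num : 5 ∣ 60)) hno
      · exact ⟨3, by norm_num, by rw [e']; norm_num, by rw [e]; norm_num⟩
      · exact absurd (e' ▸ (by norm_num : 5 ∣ 15)) hno
      · exact ⟨1, by norm_num, by rw [e']; norm_num, by rw [e]; norm_num⟩
    have hU3 : ∀ P : Sylow 3 G, ∃ U : Subgroup G,
        U ≤ centralizer ((P : Subgroup G) : Set G) ∧ Nat.card U = 2 ^ k := by
      intro P
      have hP3 := card_three h P
      obtain ⟨⟨x, hxP⟩, hx⟩ := exists_prime_orderOf_dvd_card' (G := (P : Subgroup G)) 3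
        (by rw [hP3])
      rw [Subgroup.orderOf_mk] at hx
      have hPx := eq_zpowers_of_mem hP3 hxP (fun e => by rw [e, orderOf_one] at hx; omega)
      rw [Order504.centralizer_eq_of_zpowers hPx]
      obtain ⟨U, hU⟩ := Sylow.exists_subgroup_card_pow_prime 2 ((hc x hx) ▸ hkc :
        2 ^ k ∣ Nat.card (centralizer ({x} : Set G)))
      exact ⟨U.map (Subgroup.subtype _), map_subtype_le U, by
        rw [← Nat.card_congr (U.equivMapOfInjective _ Subtype.val_injective).toEquiv, hU]⟩
    choose U3 hU3 hU3c using hU3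
    have := le_card_singular (card_three h) (by norm_num) (by norm_num) hk16 U3 hU3 hU3c
    rw [hn, show 3 - 1 = 2 from rfl] at this
    omega
  have h17 : Nat.card {g : G // orderOf g = 17} = 1920 := by
    rw [card_orderOf_eq_prime (card_seventeen h), (seventeen_data h).1]
  have := Fintype.ofFinite G
  rw [Nat.card_eq_fintype_card, Fintype.card_subtype] at h3 h5 h17
  set A5 := Finset.univ.filter fun g : G => 5 ∣ orderOf g ∧ orderOf g ∣ 5 * 16
  set A3 := Finset.univ.filter fun g : G => 3 ∣ orderOf g ∧ orderOf g ∣ 3 * 16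
  set A17 := Finset.univ.filter fun g : G => orderOf g = 17
  have hd35 : Disjoint A5 A3 := by
    rw [Finset.disjoint_filter]
    intro g _ ha hb
    exact absurd (ha.1.trans hb.2) (by norm_num)
  have hd17 : Disjoint (A5 ∪ A3) A17 := by
    rw [Finset.disjoint_union_left, Finset.disjoint_filter, Finset.disjoint_filter]
    refine ⟨fun g _ ha hb => ?_, fun g _ ha hb => ?_⟩ <;> rw [hb] at ha <;> norm_num at ha
  have hle := Finset.card_le_univ ((A5 ∪ A3) ∪ A17)
  rw [Finset.card_union_of_disjoint hd17, Finset.card_union_of_disjoint hd35,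
    ← Nat.card_eq_fintype_card, h] at hle
  omega

theorem three_five_data [Fact (Nat.Prime 3)] [Fact (Nat.Prime 5)] (h : Nat.card G = 4080) :
    (∀ x : G, orderOf x = 3 → Nat.card (centralizer ({x} : Set G)) = 15) ∧
    (∀ x : G, orderOf x = 5 → Nat.card (centralizer ({x} : Set G)) = 15) := by
  obtain ⟨h5n, h5c⟩ := five_data h
  have h5 : ∀ x : G, orderOf x = 5 → Nat.card (centralizer ({x} : Set G)) = 15 := fun x hx =>
    card_centralizer_of_orderOf (card_five h) h5c hx
  obtain ⟨n, c, hn, hc, hcases⟩ := three_cases h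
  refine ⟨fun x hx => ?_, h5⟩
  obtain ⟨y, hy⟩ := exists_prime_orderOf_dvd_card' (G := G) 5 (by rw [h]; norm_num)
  obtain ⟨⟨z, hz⟩, hz'⟩ := exists_prime_orderOf_dvd_card' (G := centralizer ({y} : Set G)) 3
    (by rw [h5 y hy]; norm_num)
  rw [Subgroup.orderOf_mk] at hz'
  have h5c' : 5 ∣ c := by
    have := orderOf_dvd_natCard
      (⟨y, mem_centralizer_singleton_iff.mpr (mem_centralizer_singleton_iff.mp hz).symm⟩ :
        centralizer ({z} : Set G))
    rwa [Subgroup.orderOf_mk, hy, hc z hz'] at this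
  rcases hcases with ⟨-, e⟩ | ⟨-, e⟩ | ⟨-, e⟩ | ⟨-, e⟩
  · exact absurd ((hc x hx).trans e) (not_sixty h h5n hx)
  · rw [e] at h5c'; norm_num at h5c'
  · exact (hc x hx).trans e
  · rw [e] at h5c'; norm_num at h5c'

omit [Finite G] [IsSimpleGroup G] in
theorem orderOf_dvd_of_commute {q d : ℕ} {x g : G}
    (hC : orderOf x = q → Nat.card (centralizer ({x} : Set G)) = d)
    (hx : orderOf x = q) (hc : Commute g x) : orderOf g ∣ d := by
  have := orderOf_dvd_natCard
    (⟨g, mem_centralizer_singleton_iff.mpr hc.eq⟩ : centralizer ({x} : Set G))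
  rwa [Subgroup.orderOf_mk, hC hx] at this

theorem orderOf_mem (h : Nat.card G = 4080) (g : G) :
    orderOf g ∣ 16 ∨ orderOf g ∣ 15 ∨ orderOf g = 17 := by
  have : Fact (Nat.Prime 3) := ⟨Nat.prime_three⟩
  have : Fact (Nat.Prime 5) := ⟨by norm_num⟩
  have : Fact (Nat.Prime 17) := ⟨by norm_num⟩
  have h0 : orderOf g ≠ 0 := (orderOf_pos g).ne'
  obtain ⟨h3', h5'⟩ := three_five_data h
  by_cases h17 : 17 ∣ orderOf g
  · exact Or.inr (Or.inr (Nat.dvd_antisymm (orderOf_dvd_of_commute ((seventeen_data h).2 _)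
      (orderOf_pow_orderOf_div h0 h17) (Commute.self_pow g _)) h17))
  by_cases h3 : 3 ∣ orderOf g
  · exact Or.inr (Or.inl (orderOf_dvd_of_commute (h3' _)
      (orderOf_pow_orderOf_div h0 h3) (Commute.self_pow g _)))
  by_cases h5 : 5 ∣ orderOf g
  · exact Or.inr (Or.inl (orderOf_dvd_of_commute (h5' _)
      (orderOf_pow_orderOf_div h0 h5) (Commute.self_pow g _)))
  exact Or.inl ((show ∀ d ∈ Nat.divisors 4080, ¬ 17 ∣ d → ¬ 3 ∣ d → ¬ 5 ∣ d → d ∣ 16 from
    by decide +kernel) _ (Nat.mem_divisors.mpr ⟨h ▸ orderOf_dvd_natCard g, by norm_num⟩) h17 h3 h5)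

theorem card_two_elements (h : Nat.card G = 4080) :
    Nat.card {g : G // orderOf g ∣ 16 ∧ g ≠ 1} = 255 := by
  classical
  have : Fact (Nat.Prime 3) := ⟨Nat.prime_three⟩
  have : Fact (Nat.Prime 5) := ⟨by norm_num⟩
  have : Fact (Nat.Prime 17) := ⟨by norm_num⟩
  obtain ⟨h5n, h5c⟩ := five_data h
  obtain ⟨h3', h5'⟩ := three_five_data h
  have hc15 : Nat.card {g : G // orderOf g ∣ 15 ∧ g ≠ 1} = 1904 := by
    let f : (Σ P : Sylow 5 G, {a : centralizer ((P : Subgroup G) : Set G) // ¬ a = 1}) →
        {g : G // orderOf g ∣ 15 ∧ g ≠ 1} := fun q =>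
      ⟨q.2.1.1, by
        have := orderOf_dvd_natCard q.2.1
        rw [h5c q.1] at this
        rwa [Subgroup.orderOf_coe], fun e => q.2.2 (Subtype.ext e)⟩
    have hsub : ∀ x : G, orderOf x = 3 ∨ orderOf x = 5 → ∀ P P' : Sylow 5 G,
        (P : Subgroup G) ≤ centralizer ({x} : Set G) →
        (P' : Subgroup G) ≤ centralizer ({x} : Set G) → P = P' := by
      intro x hx P P' hP hP'
      have hC : Nat.card (centralizer ({x} : Set G)) = 15 := hx.elim (h3' x) (h5' x)
      have hn := card_sylow_modEq_one 5 (centralizer ({x} : Set G))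
      have hmul := card_normalizer_mul_card_sylow (P.subtype hP)
      have h55 : 5 ∣ Nat.card (normalizer ((P.subtype hP : Subgroup (centralizer ({x} : Set G))) :
          Set (centralizer ({x} : Set G)))) := by
        have e : Nat.card (P.subtype hP : Subgroup (centralizer ({x} : Set G))) = 5 :=
          (Nat.card_congr (subgroupOfEquivOfLe hP).toEquiv).trans (card_five h P)
        exact (dvd_of_eq e.symm).trans (card_dvd_of_le le_normalizer)
      rw [Nat.ModEq] at hn
      obtain ⟨d, hd⟩ := h55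
      rw [hd, hC, mul_assoc] at hmul
      have h3d : d * Nat.card (Sylow 5 (centralizer ({x} : Set G))) = 3 := by omega
      have hle : Nat.card (Sylow 5 (centralizer ({x} : Set G))) ≤ 3 :=
        Nat.le_of_dvd (by norm_num) (Dvd.intro_left d h3d)
      have hone : Nat.card (Sylow 5 (centralizer ({x} : Set G))) = 1 := by omega
      have := (Nat.card_eq_one_iff_unique.mp hone).1
      exact Sylow.subtype_injective (this.elim (P.subtype hP) (P'.subtype hP'))
    have hf : Function.Bijective f := by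
      constructor
      · rintro ⟨P, ⟨⟨y, hy⟩, hy1⟩⟩ ⟨P', ⟨⟨y', hy'⟩, hy1'⟩⟩ e
        obtain rfl : y = y' := congrArg Subtype.val e
        suffices P = P' by subst this; rfl
        have hy15 : orderOf y ∣ 15 := (f ⟨P, ⟨⟨y, hy⟩, hy1⟩⟩).2.1
        have hP : (P : Subgroup G) ≤ centralizer ({y} : Set G) := fun a ha =>
          mem_centralizer_singleton_iff.mpr (mem_centralizer_iff.mp hy a ha)
        have hP' : (P' : Subgroup G) ≤ centralizer ({y} : Set G) := fun a ha =>
          mem_centralizer_singleton_iff.mpr (mem_centralizer_iff.mp hy' a ha)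
        obtain ⟨q, hq, hqy⟩ := Nat.exists_prime_and_dvd
          (fun e => hy1 (Subtype.ext (orderOf_eq_one_iff.mp e)) : orderOf y ≠ 1)
        have hq35 : q = 3 ∨ q = 5 :=
          (show ∀ d ∈ Nat.divisors 15, d.Prime → d = 3 ∨ d = 5 from by decide +kernel) q
            (Nat.mem_divisors.mpr ⟨hqy.trans hy15, by norm_num⟩) hq
        have hxo := orderOf_pow_orderOf_div (orderOf_pos y).ne' hqy
        have hsubc : centralizer ({y} : Set G) ≤ centralizer ({y ^ (orderOf y / q)} : Set G) :=
          fun a ha => mem_centralizer_singleton_iff.mpr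
            ((Commute.pow_right (mem_centralizer_singleton_iff.mp ha : Commute a y) _).eq)
        exact hsub _ (hq35.imp (fun e => e ▸ hxo) fun e => e ▸ hxo) P P' (hP.trans hsubc)
          (hP'.trans hsubc)
      · rintro ⟨g, hg, hg1⟩
        have hmk : ∀ x, orderOf x = 5 → Commute g x →
            ∃ a, f a = ⟨g, hg, hg1⟩ := by
          intro x hx hc
          obtain ⟨P, hP, -⟩ := exists_unique_sylow_mem hx (card_five h)
          exact ⟨⟨P, ⟨⟨g, mem_centralizer_of_commute (card_five h P) hP
            (fun e => by rw [e, orderOf_one] at hx; omega) hc⟩,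
            fun e => hg1 (congrArg Subtype.val e)⟩⟩, rfl⟩
        by_cases h5g : 5 ∣ orderOf g
        · exact hmk _ (orderOf_pow_orderOf_div (orderOf_pos g).ne' h5g) (Commute.self_pow g _)
        have hg3 : orderOf g = 3 := by
          rcases (show ∀ d ∈ Nat.divisors 15, ¬ 5 ∣ d → d = 1 ∨ d = 3 from by decide) _
            (Nat.mem_divisors.mpr ⟨hg, by norm_num⟩) h5g with e | e
          · exact absurd (orderOf_eq_one_iff.mp e) hg1
          · exact e
        obtain ⟨⟨x, hx⟩, hx'⟩ := exists_prime_orderOf_dvd_card' (G := centralizer ({g} : Set G)) 5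
          (by rw [h3' g hg3]; norm_num)
        rw [Subgroup.orderOf_mk] at hx'
        exact hmk x hx' (mem_centralizer_singleton_iff.mp hx).symm
    rw [← Nat.card_congr (Equiv.ofBijective f hf)]
    have := Fintype.ofFinite (Sylow 5 G)
    rw [Nat.card_sigma, Finset.sum_congr rfl (g := fun _ => 14), Finset.sum_const, smul_eq_mul,
      Finset.card_univ, ← Nat.card_eq_fintype_card, h5n]
    intro P _
    have := Fintype.ofFinite (centralizer ((P : Subgroup G) : Set G))
    rw [Nat.card_eq_fintype_card, Fintype.card_subtype_compl, Fintype.card_subtype_eq,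
      ← Nat.card_eq_fintype_card, h5c P]
  have hc17 : Nat.card {g : G // orderOf g = 17} = 1920 := by
    rw [card_orderOf_eq_prime (card_seventeen h), (seventeen_data h).1]
  have := Fintype.ofFinite G
  rw [Nat.card_eq_fintype_card, Fintype.card_subtype] at hc15 hc17 ⊢
  rw [Nat.card_eq_fintype_card, ← Finset.card_univ] at h
  have hu : (Finset.univ : Finset G) = ({1} : Finset G) ∪
      ((Finset.univ.filter fun g : G => orderOf g ∣ 16 ∧ g ≠ 1) ∪
       ((Finset.univ.filter fun g : G => orderOf g ∣ 15 ∧ g ≠ 1) ∪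
        (Finset.univ.filter fun g : G => orderOf g = 17))) := by
    ext g
    simp only [Finset.mem_univ, true_iff, Finset.mem_union, Finset.mem_singleton,
      Finset.mem_filter, true_and]
    by_cases hg : g = 1
    · exact Or.inl hg
    rcases orderOf_mem (by rw [Nat.card_eq_fintype_card, ← Finset.card_univ]; exact h) g with
      e | e | e
    · exact Or.inr (Or.inl ⟨e, hg⟩)
    · exact Or.inr (Or.inr (Or.inl ⟨e, hg⟩))
    · exact Or.inr (Or.inr (Or.inr e))
  rw [hu, Finset.card_union_of_disjoint, Finset.card_union_of_disjoint,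
    Finset.card_union_of_disjoint, Finset.card_singleton, hc15, hc17] at h
  · omega
  · rw [Finset.disjoint_filter]
    exact fun g _ ha hb => absurd (hb ▸ ha.1) (by norm_num)
  · rw [Finset.disjoint_union_right, Finset.disjoint_filter, Finset.disjoint_filter]
    refine ⟨fun g _ ha hb => ha.2 ?_, fun g _ ha hb => absurd (hb ▸ ha.1) (by norm_num)⟩
    have := Nat.dvd_gcd ha.1 hb.1
    simpa using this
  · rw [Finset.disjoint_singleton_left]
    simp only [Finset.mem_union, Finset.mem_filter, Finset.mem_univ, true_and, orderOf_one]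
    rintro (⟨-, e⟩ | ⟨-, e⟩ | e)
    · exact e rfl
    · exact e rfl
    · omega

/-- Every nontrivial 2-element is an involution with centraliser of order 16. -/
theorem two_element [Fact (Nat.Prime 2)] (h : Nat.card G = 4080) {w : G} (hw : orderOf w ∣ 16)
    (hw1 : w ≠ 1) :
    orderOf w = 2 ∧ Nat.card (centralizer ({w} : Set G)) = 16 := by
  classical
  have : Fact (Nat.Prime 3) := ⟨Nat.prime_three⟩
  have : Fact (Nat.Prime 5) := ⟨by norm_num⟩
  have : Fact (Nat.Prime 17) := ⟨by norm_num⟩
  obtain ⟨h3', h5'⟩ := three_five_data h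
  obtain ⟨T⟩ := (inferInstance : Nonempty (Sylow 2 G))
  have : Nontrivial (T : Subgroup G) := Finite.one_lt_card_iff_nontrivial.mp (by
    rw [card_two h T]; norm_num)
  have hZ := T.2.center_nontrivial
  obtain ⟨k, hk⟩ := IsPGroup.iff_card.mp (T.2.to_subgroup (center (T : Subgroup G)))
  have hk0 : k ≠ 0 := fun e => by
    rw [e, pow_zero] at hk
    exact (Finite.one_lt_card_iff_nontrivial.mpr hZ).ne' hk
  obtain ⟨z', hz'⟩ := exists_prime_orderOf_dvd_card' (G := center (T : Subgroup G)) 2
    (hk ▸ dvd_pow_self 2 hk0)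
  set z : G := ((z' : (T : Subgroup G)) : G)
  have hzo : orderOf z = 2 := by rw [Subgroup.orderOf_coe, Subgroup.orderOf_coe, hz']
  have hTC : (T : Subgroup G) ≤ centralizer ({z} : Set G) := by
    intro t ht
    rw [mem_centralizer_singleton_iff]
    exact congrArg Subtype.val (mem_center_iff.mp z'.2 ⟨t, ht⟩)
  have hC : Nat.card (centralizer ({z} : Set G)) = 16 := by
    have h16 := card_two h T ▸ card_dvd_of_le hTC
    have hd : Nat.card (centralizer ({z} : Set G)) ∣ 4080 := h ▸ card_subgroup_dvd_card _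
    have hnd : ∀ q d, q.Prime → ¬ 2 ∣ d →
        (∀ x : G, orderOf x = q → Nat.card (centralizer ({x} : Set G)) = d) →
        ¬ q ∣ Nat.card (centralizer ({z} : Set G)) := by
      intro q d hq hd hC hqd
      have : Fact q.Prime := ⟨hq⟩
      obtain ⟨⟨y, hy⟩, hy'⟩ := exists_prime_orderOf_dvd_card' q hqd
      rw [Subgroup.orderOf_mk] at hy'
      have := orderOf_dvd_of_commute (g := z) (hC y) hy' (mem_centralizer_singleton_iff.mp hy).symm
      rw [hzo] at this
      exact hd this
    exact (show ∀ d ∈ Nat.divisors 4080, 16 ∣ d → ¬ 3 ∣ d → ¬ 5 ∣ d → ¬ 17 ∣ d → d = 16 from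
      by decide +kernel) _ (Nat.mem_divisors.mpr ⟨hd, by norm_num⟩) h16
      (hnd 3 15 (by norm_num) (by norm_num) h3') (hnd 5 15 (by norm_num) (by norm_num) h5')
      (hnd 17 17 (by norm_num) (by norm_num) (seventeen_data h).2)
  let f : G ⧸ centralizer ({z} : Set G) → {g : G // orderOf g ∣ 16 ∧ g ≠ 1} :=
    fun q => Quotient.liftOn' q (fun g => ⟨g * z * g⁻¹, by
      rw [show g * z * g⁻¹ = MulAut.conj g z from rfl, MulEquiv.orderOf_eq, hzo]; norm_num,
      fun e => by
        have h1 : z = 1 := conj_eq_one_iff.mp e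
        rw [h1, orderOf_one] at hzo; omega⟩) (fun a b hab => by
      rw [QuotientGroup.leftRel_apply, mem_centralizer_singleton_iff] at hab
      refine Subtype.ext ?_
      show a * z * a⁻¹ = b * z * b⁻¹
      calc a * z * a⁻¹ = a * (z * (a⁻¹ * b)) * b⁻¹ := by group
        _ = a * (a⁻¹ * b * z) * b⁻¹ := by rw [hab]
        _ = b * z * b⁻¹ := by group)
  have hf : Function.Injective f := by
    intro a b
    induction a using QuotientGroup.induction_on with
    | H a =>
      induction b using QuotientGroup.induction_on with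
      | H b =>
        intro e
        have e' : a * z * a⁻¹ = b * z * b⁻¹ := congrArg Subtype.val e
        refine QuotientGroup.eq.mpr (mem_centralizer_singleton_iff.mpr ?_)
        calc a⁻¹ * b * z = a⁻¹ * (b * z * b⁻¹) * b := by group
          _ = z * (a⁻¹ * b) := by rw [← e']; group
  have hidx := card_mul_index (centralizer ({z} : Set G))
  rw [hC, h, index_eq_card] at hidx
  have hbij := (Nat.bijective_iff_injective_and_card f).mpr
    ⟨hf, by rw [card_two_elements h]; omega⟩
  obtain ⟨q, hq⟩ := hbij.2 ⟨w, hw, hw1⟩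
  induction q using QuotientGroup.induction_on with
  | H g =>
    have hgw : g * z * g⁻¹ = w := congrArg Subtype.val hq
    subst hgw
    refine ⟨by rw [show g * z * g⁻¹ = MulAut.conj g z from rfl, MulEquiv.orderOf_eq, hzo], ?_⟩
    rw [← hC]
    refine Nat.card_congr (Equiv.subtypeEquiv (MulAut.conj g⁻¹).toEquiv fun y => ?_)
    simp only [MulEquiv.toEquiv_eq_coe, EquivLike.coe_coe, MulAut.conj_apply, inv_inv,
      mem_centralizer_singleton_iff]
    constructor
    · intro e
      calc g⁻¹ * y * g * z = g⁻¹ * (y * (g * z * g⁻¹)) * g := by group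
        _ = z * (g⁻¹ * y * g) := by rw [e]; group
    · intro e
      calc y * (g * z * g⁻¹) = g * (g⁻¹ * y * g * z) * g⁻¹ := by group
        _ = g * z * g⁻¹ * y := by rw [e]; group

theorem nonempty_mulEquiv_psl_sixteen (h : Nat.card G = 4080) {F : Type*} [Field F] [Fintype F]
    (hF : Fintype.card F = 16) :
    Nonempty (G ≃* Matrix.ProjectiveSpecialLinearGroup (Fin 2) F) := by
  have : Fact (Nat.Prime 2) := ⟨Nat.prime_two⟩
  obtain ⟨T⟩ := (inferInstance : Nonempty (Sylow 2 G))
  have hsq : ∀ t : G, orderOf t = 2 → ∀ c ∈ centralizer ({t} : Set G), c ^ 2 = 1 := by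
    intro t ht c hc
    have hC := (two_element h (by rw [ht]; norm_num)
      (fun e => by rw [e, orderOf_one] at ht; omega) : _ ∧ _).2
    have hd := orderOf_dvd_natCard (⟨c, hc⟩ : centralizer ({t} : Set G))
    rw [Subgroup.orderOf_mk, hC] at hd
    by_cases hc1 : c = 1
    · rw [hc1, one_pow]
    · exact orderOf_dvd_iff_pow_eq_one.mp (dvd_of_eq (two_element h hd hc1).1)
  have hyp : CfsgLib.StrongEmbedding.ElementaryCentralizers.Hyp T := by
    refine ⟨fun hcyc => ?_, fun hn => ?_, fun t ht => ⟨⟨⟨fun a b => ?_⟩⟩, hsq t ht⟩⟩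
    · obtain ⟨g, hg⟩ := hcyc.exists_generator
      have ho : orderOf g = 16 := by
        rw [← card_two h T, ← Nat.card_zpowers]
        exact Nat.card_congr (Equiv.subtypeUnivEquiv fun x => hg x)
      rw [← Subgroup.orderOf_coe] at ho
      have := (two_element h (dvd_of_eq ho) (fun e => by rw [e, orderOf_one] at ho; omega)).1
      omega
    · exact sylow_ne_top (nc h) T (hn.eq_bot_or_eq_top.resolve_left
        (T.ne_bot_of_dvd_card (by rw [h]; norm_num)))
    · have hinv : ∀ c : centralizer ({t} : Set G), c⁻¹ = c := fun c => Subtype.ext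
        (inv_eq_of_mul_eq_one_left (by rw [← pow_two]; exact hsq t ht c c.2))
      rw [← hinv (a * b), mul_inv_rev, hinv a, hinv b]
  obtain ⟨K, _, _, hK, ⟨e⟩⟩ := CfsgLib.StrongEmbedding.PSLTwo.exists_psl hyp
  obtain ⟨e'⟩ := nonempty_psl_congr (FiniteField.ringEquivOfCardEq (K := K) (K' := F)
    (by rw [hK, hF, card_two h T]))
  exact ⟨e.trans e'⟩

end CfsgLib.Small.Order4080
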