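import Cfsg.Agent.Lib.Small.Order504
import Cfsg.Agent.Lib.Small.PSLPerm

/-!
A simple group of order 504 is `PSL(2, 8)`.
-/

set_option autoImplicit false

namespace CfsgLib.Small.Order504

open Subgroup MulAction CfsgLib.Small

section Field

variable {F : Type*} [Field F] [Fintype F]

theorem two_eq_zero (hF : Fintype.card F = 8) : (2 : F) = 0 := by
  have h : ((8 : ℕ) : F) = 0 := hF ▸ Nat.cast_card_eq_zero F
  have h' : (2 : F) ^ 3 = 0 := by
    calc (2 : F) ^ 3 = ((8 : ℕ) : F) := by norm_num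
      _ = 0 := h
  exact pow_eq_zero_iff three_ne_zero |>.mp h'

theorem exists_cubic_root (hF : Fintype.card F = 8) :
    ∃ a : F, a ^ 3 = 1 + a ∧ ∀ y : F, y ≠ 0 → ∃ i < 7, a ^ i = y := by
  classical
  have h2 := two_eq_zero hF
  obtain ⟨b, hb0, hb1⟩ : ∃ b : F, b ≠ 0 ∧ b ≠ 1 := by
    by_contra hno
    push Not at hno
    have hsub : (Finset.univ : Finset F) ⊆ {0, 1} := fun x _ => by
      by_cases hx : x = 0
      · simp [hx]
      · simp [hno x hx]
    have := (Finset.card_le_card hsub).trans Finset.card_le_two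
    rw [Finset.card_univ, hF] at this; omega
  have h7 : b ^ 7 = 1 := by
    have := FiniteField.pow_card_sub_one_eq_one b hb0; rwa [hF] at this
  have hfac : (b - 1) * ((b ^ 3 + b + 1) * (b ^ 3 + b ^ 2 + 1)) = 0 := by
    linear_combination h7 + (b ^ 4 - b ^ 3) * h2
  obtain ⟨a, ha, ha0, ha1⟩ : ∃ a : F, a ^ 3 + a + 1 = 0 ∧ a ≠ 0 ∧ a ≠ 1 := by
    rcases mul_eq_zero.mp hfac with e | e
    · exact absurd (sub_eq_zero.mp e) hb1
    rcases mul_eq_zero.mp e with e | e
    · exact ⟨b, e, hb0, hb1⟩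
    · refine ⟨b⁻¹, ?_, inv_ne_zero hb0, fun e' => hb1 (inv_eq_one.mp e')⟩
      field_simp
      linear_combination e
  have ha3 : a ^ 3 = 1 + a := by linear_combination ha - (a + 1) * h2
  refine ⟨a, ha3, fun y hy => ?_⟩
  have : Fact (Nat.Prime 7) := ⟨by norm_num⟩
  have hord : orderOf a = 7 := orderOf_eq_prime
    (by have := FiniteField.pow_card_sub_one_eq_one a ha0; rwa [hF] at this) ha1
  have hinj : Set.InjOn (fun i => a ^ i) (Set.Iio 7) := hord ▸ pow_injOn_Iio_orderOf
  have himg : (Finset.range 7).image (fun i => a ^ i) = Finset.univ.erase 0 := by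
    refine Finset.eq_of_subset_of_card_le (fun z hz => ?_) ?_
    · obtain ⟨i, -, rfl⟩ := Finset.mem_image.mp hz
      exact Finset.mem_erase.mpr ⟨pow_ne_zero i ha0, Finset.mem_univ _⟩
    · rw [Finset.card_erase_of_mem (Finset.mem_univ _), Finset.card_univ, hF,
        Finset.card_image_of_injOn (hinj.mono fun i hi => by simpa using hi), Finset.card_range]
  have := himg ▸ Finset.mem_erase.mpr ⟨hy, Finset.mem_univ y⟩
  obtain ⟨i, hi, hiy⟩ := Finset.mem_image.mp this
  exact ⟨i, Finset.mem_range.mp hi, hiy⟩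

end Field

theorem prod_step {A : Type*} [CommGroup A] (h2 : ∀ a : A, a * a = 1) (f : ℕ → A)
    (h3 : ∀ i, f (i + 3) = f i * f (i + 1)) :
    f 0 * f 1 = f 3 ∧ f 0 * f 2 = f 6 ∧ f 0 * f 3 = f 1 ∧ f 0 * f 4 = f 5 ∧
      f 0 * f 5 = f 4 ∧ f 0 * f 6 = f 2 := by
  have e3 : f 3 = f 0 * f 1 := h3 0
  have e4 : f 4 = f 1 * f 2 := h3 1
  have e5 : f 5 = f 2 * f 3 := h3 2
  have e6 : f 6 = f 3 * f 4 := h3 3
  have c : ∀ a b : A, a * (a * b) = b := fun a b => by rw [← mul_assoc, h2, one_mul]
  have e6' : f 6 = f 0 * f 2 := by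
    rw [e6, e4, e3, mul_assoc, c]
  have e5' : f 5 = f 0 * f 4 := by
    rw [e5, e4, e3, mul_comm (f 2), mul_assoc]
  refine ⟨e3.symm, e6'.symm, ?_, e5'.symm, ?_, ?_⟩
  · rw [e3, c]
  · rw [e5', c]
  · rw [e6', c]

variable {G : Type*} [Group G] [Finite G] [IsSimpleGroup G]

theorem exists_singer [Fact (Nat.Prime 2)] [Fact (Nat.Prime 7)] (h : Nat.card G = 504)
    (T : Sylow 2 G) :
    ∃ (Q0 : Sylow 2 G) (x v : G), Q0 ≠ T ∧ orderOf x = 7 ∧
      x ∈ normalizer ((T : Subgroup G) : Set G) ∧ x ∈ normalizer ((Q0 : Subgroup G) : Set G) ∧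
      (∀ g, g • T = T → g • Q0 = Q0 → g ∈ zpowers x) ∧
      (∀ S : Sylow 2 G, S ≠ T → ∃! t : (T : Subgroup G), (t : G) • Q0 = S) ∧
      v ∈ (T : Subgroup G) ∧ v ≠ 1 ∧
      x ^ 3 * v * (x ^ 3)⁻¹ = v * (x * v * x⁻¹) ∧
      (∀ t ∈ (T : Subgroup G), t ≠ 1 → ∃ i < 7, x ^ i * v * (x ^ i)⁻¹ = t) := by
  classical
  obtain ⟨hsq, hTI, h9⟩ := two_data h
  have : Nontrivial (Sylow 2 G) := Finite.one_lt_card_iff_nontrivial.mp (by omega)
  obtain ⟨Q0, hQ0⟩ := exists_ne T
  have hTnormT : ∀ t : (T : Subgroup G), (t : G) • T = T := fun t =>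
    Sylow.smul_eq_iff_mem_normalizer.mpr (le_normalizer t.2)
  -- `T` is regular on the other Sylow subgroups
  have hfree : ∀ (t : (T : Subgroup G)) (S : Sylow 2 G), S ≠ T → (t : G) • S = S → t = 1 := by
    intro t S hS hfix
    by_contra ht
    refine hS (hTI S T t (fun e => ht (Subtype.ext e)) ?_ t.2)
    have h1 : (t : G) ∈ (T : Subgroup G) ⊓ (S : Subgroup G) :=
      T.2.inf_normalizer_sylow S ▸
        Subgroup.mem_inf.mpr ⟨t.2, Sylow.smul_eq_iff_mem_normalizer.mp hfix⟩
    exact h1.2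
  have hneT : ∀ t : (T : Subgroup G), (t : G) • Q0 ≠ T := fun t e => hQ0 (by
    have := e.trans (hTnormT t).symm
    exact MulAction.injective (t : G) this)
  have hreg : ∀ S : Sylow 2 G, S ≠ T → ∃! t : (T : Subgroup G), (t : G) • Q0 = S := by
    intro S hS
    let f : ↥(T : Subgroup G) → {S : Sylow 2 G // S ≠ T} := fun t => ⟨(t : G) • Q0, hneT t⟩
    have hf : Function.Injective f := by
      intro a b hab
      have e : (a : G) • Q0 = (b : G) • Q0 := congrArg Subtype.val hab
      have : ((b⁻¹ * a : (T : Subgroup G)) : G) • Q0 = Q0 := by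
        rw [Subgroup.coe_mul, mul_smul, e, Subgroup.coe_inv, inv_smul_smul]
      exact (inv_mul_eq_one.mp (hfree _ Q0 hQ0 this)).symm
    have hbij : Function.Bijective f := (Nat.bijective_iff_injective_and_card f).mpr ⟨hf, by
      have := Fintype.ofFinite (Sylow 2 G)
      rw [card_two h T, Nat.card_eq_fintype_card,
        Fintype.card_congr (Equiv.subtypeEquivRight (q := fun S => ¬ S = T) fun S => Iff.rfl),
        Fintype.card_subtype_compl, Fintype.card_subtype_eq, ← Nat.card_eq_fintype_card, h9]⟩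
    obtain ⟨t, ht⟩ := hbij.2 ⟨S, hS⟩
    refine ⟨t, congrArg Subtype.val ht, fun u hu => hf (Subtype.ext ?_)⟩
    exact hu.trans (congrArg Subtype.val ht).symm
  -- the stabiliser of `T` and `Q0` has order 7
  set N := normalizer ((T : Subgroup G) : Set G)
  set K := N ⊓ normalizer ((Q0 : Subgroup G) : Set G)
  have hN : Nat.card N = 56 := by
    have : Nat.card N * 9 = 504 := (card_normalizer_eq h9 T).trans h
    omega
  have hK : Nat.card K = 7 := by
    let f : ↥(T : Subgroup G) × ↥K → ↥N := fun q =>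
      ⟨q.1.1 * q.2.1, N.mul_mem (le_normalizer q.1.2) (Subgroup.mem_inf.mp q.2.2).1⟩
    have hf : Function.Bijective f := by
      constructor
      · rintro ⟨a, k⟩ ⟨b, k'⟩ e
        have e' : (a : G) * k.1 = b * k'.1 := congrArg Subtype.val e
        have hQ : ∀ k : K, (k : G) • Q0 = Q0 := fun k =>
          Sylow.smul_eq_iff_mem_normalizer.mpr (Subgroup.mem_inf.mp k.2).2
        have hab : a = b := by
          have := congrArg (· • Q0) e'
          simp only [mul_smul, hQ] at this
          exact (hreg _ (hneT b)).unique this rfl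
        subst hab
        exact Prod.ext rfl (Subtype.ext (mul_left_cancel e'))
      · rintro ⟨g, hg⟩
        have hgQ : g • Q0 ≠ T := fun e => hQ0 (by
          refine MulAction.injective g (e.trans ?_)
          exact (Sylow.smul_eq_iff_mem_normalizer.mpr hg).symm)
        obtain ⟨t, ht, -⟩ := hreg _ hgQ
        refine ⟨⟨t, ⟨(t : G)⁻¹ * g, Subgroup.mem_inf.mpr
          ⟨N.mul_mem (N.inv_mem (le_normalizer t.2)) hg, ?_⟩⟩⟩, Subtype.ext (mul_inv_cancel_left _ _)⟩
        refine Sylow.smul_eq_iff_mem_normalizer.mp ?_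
        rw [mul_smul, ← ht, inv_smul_smul]
    have := Nat.card_congr (Equiv.ofBijective f hf)
    rw [Nat.card_prod, hN, card_two h T] at this
    omega
  obtain ⟨⟨x0, hx0K⟩, hx0⟩ := exists_prime_orderOf_dvd_card' (G := K) 7 (by rw [hK])
  rw [Subgroup.orderOf_mk] at hx0
  obtain ⟨⟨v, hv⟩, hv1'⟩ : ∃ v : (T : Subgroup G), v ≠ 1 := by
    have : Nontrivial (T : Subgroup G) := Finite.one_lt_card_iff_nontrivial.mp (by
      rw [card_two h T]; norm_num)
    exact exists_ne 1
  have hv1 : v ≠ 1 := fun e => hv1' (Subtype.ext e)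
  have hcomm : ∀ a ∈ (T : Subgroup G), ∀ b ∈ (T : Subgroup G), a * b = b * a := by
    intro a ha b hb
    have hinv : ∀ t ∈ (T : Subgroup G), t⁻¹ = t :=
      fun t ht => inv_eq_of_mul_eq_one_left (hsq T t ht)
    rw [← hinv _ (mul_mem ha hb), mul_inv_rev, hinv a ha, hinv b hb]
  -- the conjugates of `v` under an element of order 7 of the normaliser
  have hall : ∀ x : G, orderOf x = 7 → x ∈ N →
      (∀ i : ℕ, x ^ i * v * (x ^ i)⁻¹ ∈ (T : Subgroup G)) ∧
      (∀ i j : ℕ, i < 7 → j < 7 → x ^ i * v * (x ^ i)⁻¹ = x ^ j * v * (x ^ j)⁻¹ → i = j) ∧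
      ∀ t ∈ (T : Subgroup G), t ≠ 1 → ∃ i < 7, x ^ i * v * (x ^ i)⁻¹ = t := by
    intro x hx hxN
    have hmem : ∀ i : ℕ, x ^ i * v * (x ^ i)⁻¹ ∈ (T : Subgroup G) := fun i =>
      (mem_normalizer_iff.mp (N.pow_mem hxN i) v).mp hv
    have hkey : ∀ i j : ℕ, i ≤ j → j < 7 →
        x ^ i * v * (x ^ i)⁻¹ = x ^ j * v * (x ^ j)⁻¹ → i = j := by
      intro i j hij hj e
      by_contra hne
      have h1 : x ^ (j - i) * v * (x ^ (j - i))⁻¹ = v := by
        have hjd : x ^ j = x ^ i * x ^ (j - i) := by rw [← pow_add, Nat.add_sub_cancel' hij]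
        rw [hjd] at e
        calc x ^ (j - i) * v * (x ^ (j - i))⁻¹
            = (x ^ i)⁻¹ * (x ^ i * x ^ (j - i) * v * (x ^ i * x ^ (j - i))⁻¹) * x ^ i := by group
          _ = v := by rw [← e]; group
      have hvo : orderOf v = 2 := (two_element h (by
        have := orderOf_dvd_natCard (⟨v, hv⟩ : (T : Subgroup G))
        rwa [Subgroup.orderOf_mk, card_two h T] at this) hv1).1
      have hxo : orderOf (x ^ (j - i)) = 7 := by
        rw [Nat.Coprime.orderOf_pow (by
          rw [hx]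
          exact (Nat.Prime.coprime_iff_not_dvd (by norm_num)).mpr fun hd => by
            have := Nat.le_of_dvd (by omega) hd; omega), hx]
      have := orderOf_dvd_of_commute_seven h hxo
        (show Commute v (x ^ (j - i)) from (mul_inv_eq_iff_eq_mul.mp h1).symm)
      rw [hvo] at this; norm_num at this
    have hinj : ∀ i j : ℕ, i < 7 → j < 7 →
        x ^ i * v * (x ^ i)⁻¹ = x ^ j * v * (x ^ j)⁻¹ → i = j := fun i j hi hj e =>
      (le_total i j).elim (fun hle => hkey i j hle hj e) fun hle => (hkey j i hle hi e.symm).symm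
    refine ⟨hmem, hinj, fun t ht ht1 => ?_⟩
    let f : Fin 7 → {t : ↥(T : Subgroup G) // ¬ t = 1} := fun i => ⟨⟨_, hmem i⟩, fun e =>
      hv1 (conj_eq_one_iff.mp (congrArg Subtype.val e))⟩
    have hf : Function.Bijective f := (Nat.bijective_iff_injective_and_card f).mpr
      ⟨fun a b e => Fin.ext (hinj a b a.2 b.2 (congrArg (fun q => (q.1 : G)) e)), by
        have := Fintype.ofFinite (T : Subgroup G)
        rw [Nat.card_fin, Nat.card_eq_fintype_card, Fintype.card_subtype_compl,
          Fintype.card_subtype_eq, ← Nat.card_eq_fintype_card, card_two h T]⟩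
    obtain ⟨i, hi⟩ := hf.2 ⟨⟨t, ht⟩, fun e => ht1 (congrArg Subtype.val e)⟩
    exact ⟨i, i.2, congrArg (fun q => (q.1 : G)) hi⟩
  -- orientation
  obtain ⟨x, hx, hxN, hxQ, hx3⟩ : ∃ x : G, orderOf x = 7 ∧ x ∈ N ∧
      x ∈ normalizer ((Q0 : Subgroup G) : Set G) ∧
      x ^ 3 * v * (x ^ 3)⁻¹ = v * (x * v * x⁻¹) := by
    obtain ⟨hx0N, hx0Q⟩ := Subgroup.mem_inf.mp hx0K
    obtain ⟨hmem, hinj, hsurj⟩ := hall x0 hx0 hx0N
    set w : ℕ → G := fun i => x0 ^ i * v * (x0 ^ i)⁻¹ with hw
    have hw0 : w 0 = v := by simp [hw]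
    have hw1 : w 1 = x0 * v * x0⁻¹ := by simp [hw]
    have hper : ∀ i, w (i + 7) = w i := fun i => by
      simp only [hw]
      rw [pow_add, show x0 ^ 7 = 1 from orderOf_dvd_iff_pow_eq_one.mp (dvd_of_eq hx0), mul_one]
    have hsq' : ∀ i, w i * w i = 1 := fun i => hsq T _ (hmem i)
    have hne1 : v * w 1 ≠ 1 := fun e => by
      have : w 1 = w 0 := by
        rw [hw0]; exact (eq_inv_of_mul_eq_one_right e).trans
          (inv_eq_of_mul_eq_one_left (hsq T v hv))
      exact absurd (hinj 1 0 (by norm_num) (by norm_num) this) (by norm_num)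
    obtain ⟨j, hj, hje⟩ := hsurj (v * w 1) (mul_mem hv (hmem 1)) hne1
    replace hje : w j = w 0 * w 1 := by rw [hw0]; exact hje
    -- translate the relation
    have hshift : ∀ i, w (j + i) = w i * w (i + 1) := by
      intro i
      calc w (j + i) = x0 ^ i * w j * (x0 ^ i)⁻¹ := by
            simp only [hw]; rw [add_comm j i, pow_add]; group
        _ = x0 ^ i * (w 0 * w 1) * (x0 ^ i)⁻¹ := by rw [hje]
        _ = w i * w (i + 1) := by simp only [hw]; rw [pow_add, pow_one, pow_zero]; group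
    have hc : ∀ a b, w a * w b = w b * w a := fun a b => hcomm _ (hmem a) _ (hmem b)
    have hcan : ∀ a b, w a * (w a * w b) = w b := fun a b => by rw [← mul_assoc, hsq', one_mul]
    have hd : ∀ a b, a < 7 → b < 7 → a ≠ b → w a ≠ w b := fun a b ha hb hab e =>
      hab (hinj a b ha hb e)
    interval_cases j
    · exfalso
      have : w 1 = 1 := mul_left_cancel (a := w 0) (by rw [mul_one]; exact hje.symm)
      simp only [hw, pow_one] at this
      exact hv1 (conj_eq_one_iff.mp this)
    · exfalso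
      have : w 0 = 1 := mul_right_cancel (b := w 1) (by rw [one_mul]; exact hje.symm)
      exact hv1 (hw0 ▸ this)
    · exfalso
      refine hd 3 0 (by norm_num) (by norm_num) (by norm_num) ?_
      rw [show 3 = 2 + 1 from rfl, hshift 1, show (1 + 1 : ℕ) = 2 from rfl, hje, hc 0 1, hcan]
    · exact ⟨x0, hx0, hx0N, hx0Q, by simpa [hw] using hje⟩
    · exfalso
      refine hd 3 1 (by norm_num) (by norm_num) (by norm_num) ?_
      have e7 : w 0 = w 3 * w 4 := by rw [← hshift 3]; exact (hper 0).symm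
      rw [hje] at e7
      -- `w 0 = w 3 w 0 w 1`
      have e8 : w 3 * w 1 = 1 := by
        refine mul_left_cancel (a := w 0) ?_
        rw [mul_one, ← mul_assoc, hc 0 3, mul_assoc, ← e7]
      exact (eq_inv_of_mul_eq_one_left e8).trans (inv_eq_of_mul_eq_one_left (hsq' 1))
    · refine ⟨x0 ^ 6, ?_, N.pow_mem hx0N 6, pow_mem hx0Q 6, ?_⟩
      · rw [Nat.Coprime.orderOf_pow (by rw [hx0]; norm_num), hx0]
      · have h6 : w 4 = w 6 * w 0 := by
          have := hshift 6
          rw [show 5 + 6 = 4 + 7 from rfl, hper, show 6 + 1 = 0 + 7 from rfl, hper] at this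
          exact this
        rw [← pow_mul]
        show w (6 * 3) = v * w 6
        rw [show 6 * 3 = 4 + 7 + 7 from rfl, hper, hper, h6, ← hw0, hc 6 0]
    · exfalso
      refine hd 2 6 (by norm_num) (by norm_num) (by norm_num) ?_
      have e7 : w 0 = w 1 * w 2 := by rw [← hshift 1]; exact (hper 0).symm
      rw [hje, e7, hc 1 2, mul_assoc, hsq', mul_one]
  refine ⟨Q0, x, v, hQ0, hx, hxN, hxQ, fun g hgT hgQ => ?_, hreg, hv, hv1, hx3,
    (hall x hx hxN).2.2⟩
  have hgK : g ∈ K := Subgroup.mem_inf.mpr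
    ⟨Sylow.smul_eq_iff_mem_normalizer.mp hgT, Sylow.smul_eq_iff_mem_normalizer.mp hgQ⟩
  rwa [eq_zpowers_of_mem hK (Subgroup.mem_inf.mpr ⟨hxN, hxQ⟩)
    (fun e => by rw [e, orderOf_one] at hx; omega)] at hgK

/-- A simple group of order 504 is `PSL(2, 8)`. -/
theorem nonempty_mulEquiv_psl_eight (h : Nat.card G = 504) {F : Type*} [Field F] [Fintype F]
    (hF : Fintype.card F = 8) :
    Nonempty (G ≃* Matrix.ProjectiveSpecialLinearGroup (Fin 2) F) := by
  classical
  have : Fact (Nat.Prime 2) := ⟨Nat.prime_two⟩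
  have : Fact (Nat.Prime 7) := ⟨by norm_num⟩
  obtain ⟨a, ha3, hcover⟩ := exists_cubic_root hF
  have h2 := two_eq_zero hF
  have ha0 : a ≠ 0 := fun e => by simp [e] at ha3
  have ha1 : a ≠ 1 := fun e => by simp [e] at ha3
  have ha7 : a ^ 7 = 1 := by
    have := FiniteField.pow_card_sub_one_eq_one a ha0; rwa [hF] at this
  have hao : orderOf a = 7 := orderOf_eq_prime ha7 ha1
  obtain ⟨T⟩ := (inferInstance : Nonempty (Sylow 2 G))
  obtain ⟨Q0, x, v, hQ0, hx, hxN, hxQ, hK, hreg, hv, hv1, hx3, hsurj⟩ := exists_singer h T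
  have hsq := (two_data h).1 T
  have hxT : x • T = T := Sylow.smul_eq_iff_mem_normalizer.mpr hxN
  have hxQ0 : x • Q0 = Q0 := Sylow.smul_eq_iff_mem_normalizer.mpr hxQ
  -- conjugates of `v`
  set w : ℕ → G := fun i => x ^ i * v * (x ^ i)⁻¹ with hw
  have hwmem : ∀ i, w i ∈ (T : Subgroup G) := fun i =>
    (mem_normalizer_iff.mp (pow_mem hxN i) v).mp hv
  have hwmod : ∀ i, w (i % 7) = w i := fun i => by
    simp only [hw]; rw [← hx, pow_mod_orderOf]
  have hamod : ∀ i, a ^ (i % 7) = a ^ i := fun i => by rw [← hao, pow_mod_orderOf]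
  have hw0 : w 0 = v := by simp [hw]
  have hshift : ∀ i j, x ^ i * w j * (x ^ i)⁻¹ = w (i + j) := fun i j => by
    simp only [hw]; rw [pow_add]; group
  -- the labelling
  let lam : F → G := fun y => if hy : y = 0 then 1 else w (hcover y hy).choose
  have hlam0 : lam 0 = 1 := by simp [lam]
  have hlam : ∀ i, lam (a ^ i) = w i := fun i => by
    simp only [lam, dif_neg (pow_ne_zero i ha0)]
    have e := (hcover (a ^ i) (pow_ne_zero i ha0)).choose_spec
    have e' := pow_injOn_Iio_orderOf (x := a) (Set.mem_Iio.mpr (hao.symm ▸ e.1))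
      (Set.mem_Iio.mpr (hao.symm ▸ Nat.mod_lt i (by norm_num : 0 < 7)))
      (e.2.trans (hamod i).symm)
    rw [e', hwmod]
  have hlamT : ∀ y, lam y ∈ (T : Subgroup G) := fun y => by
    simp only [lam]; split
    · exact one_mem _
    · exact hwmem _
  have hadd : ∀ y z, lam (y + z) = lam y * lam z := by
    intro y z
    by_cases hy : y = 0
    · rw [hy, hlam0, one_mul, zero_add]
    by_cases hz : z = 0
    · rw [hz, hlam0, mul_one, add_zero]
    obtain ⟨i, hi, rfl⟩ := hcover y hy
    obtain ⟨j, hj, rfl⟩ := hcover z hz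
    obtain ⟨d, hd, hij⟩ : ∃ d < 7, (i + d) % 7 = j := ⟨(j + 7 - i) % 7, by omega, by omega⟩
    rw [hlam, hlam, ← hij, hamod, hwmod, pow_add, ← hshift i d,
      show a ^ i + a ^ i * a ^ d = a ^ i * (1 + a ^ d) by ring]
    let _ : CommGroup (T : Subgroup G) :=
      { (inferInstance : Group (T : Subgroup G)) with
        mul_comm := fun b c => Subtype.ext (by
          have hinv : ∀ t ∈ (T : Subgroup G), t⁻¹ = t :=
            fun t ht => inv_eq_of_mul_eq_one_left (hsq t ht)
          show (b : G) * c = c * b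
          rw [← hinv _ (mul_mem b.2 c.2), mul_inv_rev, hinv b b.2, hinv c c.2]) }
    obtain ⟨s1, s2, s3, s4, s5, s6⟩ := prod_step (A := (T : Subgroup G))
      (fun t => Subtype.ext (hsq t t.2)) (fun i => ⟨w i, hwmem i⟩) (fun i => Subtype.ext (by
        show w (i + 3) = w i * w (i + 1)
        rw [← hshift i 3, ← hshift i 1]
        simp only [hw]
        rw [hx3]; group))
    have key : ∀ e, 1 + a ^ d = a ^ e → w 0 * w d = w e →
        lam (a ^ i * (1 + a ^ d)) = w i * (x ^ i * w d * (x ^ i)⁻¹) := by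
      intro e h1 h2'
      rw [h1, ← pow_add, hlam, ← hshift i e, ← h2', ← add_zero i, ← hshift i 0, hw0, add_zero]
      group
    interval_cases d
    · rw [pow_zero, show (1 : F) + 1 = 0 by linear_combination h2, mul_zero, hlam0, hw0,
        ← hw0, hshift, add_zero, hsq _ (hwmem i)]
    · exact key 3 (by linear_combination -ha3) (congrArg Subtype.val s1)
    · exact key 6 (by linear_combination -(a ^ 3 + a + 1) * ha3 - a * h2)
        (congrArg Subtype.val s2)
    · exact key 1 (by linear_combination ha3 + h2) (congrArg Subtype.val s3)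
    · exact key 5 (by linear_combination -(a ^ 2 - a + 1) * ha3)
        (congrArg Subtype.val s4)
    · exact key 4 (by linear_combination (a ^ 2 - a + 1) * ha3 + h2)
        (congrArg Subtype.val s5)
    · exact key 2 (by linear_combination (a ^ 3 + a + 1) * ha3 + (1 + a) * h2)
        (congrArg Subtype.val s6)
  have hlam1 : ∀ y, lam y = 1 → y = 0 := fun y hy => by
    by_contra hy0
    obtain ⟨i, -, rfl⟩ := hcover y hy0
    rw [hlam] at hy
    exact hv1 (conj_eq_one_iff.mp hy)
  have hlamneg : ∀ y, lam (-y) = (lam y)⁻¹ := fun y =>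
    eq_inv_of_mul_eq_one_left (by rw [← hadd, neg_add_cancel, hlam0])
  -- the points
  have hTfix : ∀ t ∈ (T : Subgroup G), t • T = T := fun t ht =>
    Sylow.smul_eq_iff_mem_normalizer.mpr (le_normalizer ht)
  have hne : ∀ t ∈ (T : Subgroup G), t • Q0 ≠ T := fun t ht e =>
    hQ0 (MulAction.injective t (e.trans (hTfix t ht).symm))
  let pt : Option F → Sylow 2 G := fun o => o.elim T fun y => lam y • Q0
  have hpt : Function.Bijective pt := by
    constructor
    · rintro (_ | y) (_ | z) e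
      · rfl
      · exact absurd e.symm (hne _ (hlamT z))
      · exact absurd e (hne _ (hlamT y))
      · have e' := (hreg _ (hne _ (hlamT z))).unique
          (y₁ := ⟨lam y, hlamT y⟩) (y₂ := ⟨lam z, hlamT z⟩) e rfl
        have e'' : lam y = lam z := congrArg Subtype.val e'
        congr 1
        refine sub_eq_zero.mp (hlam1 _ ?_)
        rw [sub_eq_add_neg, hadd, hlamneg, e'', mul_inv_cancel]
    · intro S
      by_cases hS : S = T
      · exact ⟨none, hS.symm⟩
      obtain ⟨⟨t, ht⟩, htS, -⟩ := hreg S hS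
      by_cases ht1 : t = 1
      · exact ⟨some 0, by simpa [pt, hlam0, ht1] using htS⟩
      obtain ⟨i, -, hi⟩ := hsurj t ht ht1
      exact ⟨some (a ^ i), by show lam (a ^ i) • Q0 = S; rw [hlam, show w i = t from hi]; exact htS⟩
  let e := Equiv.ofBijective pt hpt
  let φ : G →* Equiv.Perm (Option F) :=
    e.symm.permCongrHom.toMonoidHom.comp (MulAction.toPermHom G (Sylow 2 G))
  have hφ : ∀ g o o', g • pt o = pt o' → φ g o = o' := fun g o o' hg => by
    show e.symm (g • e o) = o'
    rw [Equiv.symm_apply_eq]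
    exact hg
  have hφ' : ∀ g o, g • pt o = pt (φ g o) := fun g o => (e.apply_symm_apply (g • e o)).symm
  have hφinj : Function.Injective φ := by
    rw [← MonoidHom.ker_eq_bot_iff]
    refine (IsSimpleGroup.eq_bot_or_eq_top_of_normal φ.ker inferInstance).resolve_right fun hk => ?_
    have hvk : φ v = 1 := MonoidHom.mem_ker.mp (hk ▸ mem_top v)
    have e1 := hφ' v (some 0)
    rw [hvk, Equiv.Perm.one_apply] at e1
    simp only [pt, Option.elim_some, hlam0, one_smul] at e1
    have := (hreg Q0 hQ0).unique (y₁ := ⟨v, hv⟩) (y₂ := 1) e1 (one_smul _ _)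
    exact hv1 (congrArg Subtype.val this)
  -- translations and multiplications
  have htn : ∀ b, φ (lam b) none = none := fun b => hφ _ _ _ (hTfix _ (hlamT b))
  have hts : ∀ b y, φ (lam b) (some y) = some (y + b) := fun b y => hφ _ _ _ (by
    show lam b • lam y • Q0 = lam (y + b) • Q0
    rw [add_comm, hadd, mul_smul])
  have hxl : ∀ y, x * lam y * x⁻¹ = lam (a * y) := fun y => by
    by_cases hy : y = 0
    · rw [hy, mul_zero, hlam0]; group
    obtain ⟨i, -, rfl⟩ := hcover y hy
    rw [← pow_succ', hlam, hlam, add_comm i 1, ← hshift 1 i, pow_one]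
  have hxn : ∀ i : ℕ, φ (x ^ i) none = none := fun i => hφ _ _ _
    (Sylow.smul_eq_iff_mem_normalizer.mpr (pow_mem hxN i))
  have hxs : ∀ (i : ℕ) y, φ (x ^ i) (some y) = some (a ^ i * y) := fun i => by
    induction i with
    | zero => intro y; simp
    | succ i ih =>
      intro y
      rw [pow_succ', map_mul, Equiv.Perm.mul_apply, ih]
      refine hφ _ _ _ ?_
      show x • lam (a ^ i * y) • Q0 = lam (a ^ (i + 1) * y) • Q0
      rw [pow_succ', mul_assoc a, ← hxl, mul_smul, mul_smul, inv_smul_eq_iff.mpr hxQ0.symm]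
  have hfix : ∀ g : G, φ g none = none → φ g ∈ (slPerm F).range := by
    intro g hg
    have hgT : g • T = T := by have := hφ' g none; rwa [hg] at this
    have hgQ : g • Q0 ≠ T := fun e' => hQ0 (MulAction.injective g (e'.trans hgT.symm))
    obtain ⟨o, ho⟩ := hpt.2 (g • Q0)
    cases o with
    | none => exact absurd ho.symm hgQ
    | some b =>
      have ho' : lam b • Q0 = g • Q0 := ho
      have hk := hK ((lam b)⁻¹ * g)
        (by rw [mul_smul, hgT, inv_smul_eq_iff, hTfix _ (hlamT b)])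
        (by rw [mul_smul, ← ho', inv_smul_smul])
      rw [← mem_powers_iff_mem_zpowers, Submonoid.mem_powers_iff] at hk
      obtain ⟨i, hi⟩ := hk
      have hgi : g = lam b * x ^ i := by rw [hi, mul_inv_cancel_left]
      obtain ⟨g1, hg1n, hg1⟩ := exists_slPerm_mul (K := F) (s := a ^ (4 * i))
        (pow_ne_zero _ ha0)
      obtain ⟨g2, hg2n, hg2⟩ := exists_slPerm_translation b
      refine ⟨g2 * g1, Equiv.ext fun z => ?_⟩
      rw [map_mul, Equiv.Perm.mul_apply, hgi, map_mul, Equiv.Perm.mul_apply]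
      cases z with
      | none => rw [hg1n, hg2n, hxn, htn]
      | some y =>
        rw [hg1, hg2, hxs, hts, ← pow_add, ← hamod (4 * i + 4 * i),
          show (4 * i + 4 * i) % 7 = i % 7 by omega, hamod]
  -- an element interchanging the two points
  obtain ⟨t, htT, htQ⟩ : ∃ t : G, t • T = Q0 ∧ t • Q0 = T := by
    obtain ⟨g, hg⟩ := MulAction.exists_smul_eq G T Q0
    have hgT : g⁻¹ • T ≠ T := fun e' => hQ0 (by
      rw [← hg]
      exact (inv_smul_eq_iff.mp e').symm)
    obtain ⟨⟨u, hu⟩, huS, -⟩ := hreg _ hgT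
    refine ⟨g * u, by rw [mul_smul, hTfix u hu, hg], ?_⟩
    rw [mul_smul, show u • Q0 = g⁻¹ • T from huS, smul_inv_smul]
  obtain ⟨hC7, htxi⟩ : Nat.card (centralizer ({x} : Set G)) = 7 ∧ t * x * t⁻¹ = x⁻¹ := by
    obtain ⟨P, hP, -⟩ := exists_unique_sylow_mem hx (card_seven h)
    have hPx := eq_zpowers_of_mem (card_seven h P) hP
      (fun e' => by rw [e', orderOf_one] at hx; omega)
    have hC : Nat.card (centralizer ({x} : Set G)) = 7 := by
      rw [← centralizer_eq_of_zpowers hPx]; exact ((seven_data h).2 P).2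
    have hCx : zpowers x = centralizer ({x} : Set G) :=
      eq_of_le_of_card_ge (zpowers_le.mpr (mem_centralizer_singleton_iff.mpr rfl))
        (by rw [hC, Nat.card_zpowers, hx])
    have hmemK : ∀ g, g ∈ zpowers x ↔ g • T = T ∧ g • Q0 = Q0 := fun g =>
      ⟨fun hg => ⟨zpowers_le.mpr (show x ∈ MulAction.stabilizer G T from hxT) hg,
        zpowers_le.mpr (show x ∈ MulAction.stabilizer G Q0 from hxQ0) hg⟩,
        fun hg => hK g hg.1 hg.2⟩
    have htT' : t⁻¹ • T = Q0 := inv_smul_eq_iff.mpr htQ.symm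
    have htQ' : t⁻¹ • Q0 = T := inv_smul_eq_iff.mpr htT.symm
    refine ⟨hC, conj_eq_inv_of_sq_commute hx ?_ (fun e' => ?_) ?_⟩
    · rw [mem_normalizer_iff]
      intro g
      simp only [hmemK]
      simp only [mul_smul, htT', htQ']
      rw [smul_eq_iff_eq_inv_smul t, smul_eq_iff_eq_inv_smul t, htT', htQ', and_comm]
    · have : t ∈ zpowers x := by
        rw [hCx, mem_centralizer_singleton_iff]; exact mul_inv_eq_iff_eq_mul.mp e'
      exact hQ0 (htT.symm.trans ((hmemK t).mp this).1)
    · have htt : t * t ∈ centralizer ({x} : Set G) := by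
        rw [← hCx, hmemK, mul_smul, mul_smul, htT, htQ, htT]; exact ⟨rfl, rfl⟩
      rw [mul_inv_eq_iff_eq_mul]; exact mem_centralizer_singleton_iff.mp htt
  have hpt0 : pt (some 0) = Q0 := by simp [pt, hlam0]
  have htφn : φ t none = some 0 := hφ _ _ _ (by rw [hpt0]; exact htT)
  have htφ0 : φ t (some 0) = none := hφ _ _ _ (by rw [hpt0]; exact htQ)
  obtain ⟨c, hc⟩ : ∃ c, φ t (some 1) = some c := by
    cases h1 : φ t (some 1) with
    | none => exact absurd ((φ t).injective (h1.trans htφ0.symm)) (by simp)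
    | some c => exact ⟨c, rfl⟩
  have hc0 : c ≠ 0 := fun e' => by
    exact absurd ((φ t).injective (hc.trans (e' ▸ htφn.symm))) (by simp)
  have hxinv : x⁻¹ = x ^ 6 := inv_eq_of_mul_eq_one_right (by
    rw [← pow_succ']; exact orderOf_dvd_iff_pow_eq_one.mp (dvd_of_eq hx))
  have htinv : ∀ i : ℕ, φ t (some (a ^ i)) = some (c * (a ^ i)⁻¹) := by
    intro i
    induction i with
    | zero => simpa using hc
    | succ i ih =>
      have e1 : t * x = x ^ 6 * t := by
        rw [← hxinv, ← htxi, inv_mul_cancel_right]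
      have e2 := congrArg (fun g => φ g (some (a ^ i))) e1
      have hx1 := hxs 1 (a ^ i)
      rw [pow_one, pow_one] at hx1
      simp only [map_mul, Equiv.Perm.mul_apply, hxs, ih, hx1] at e2
      rw [← pow_succ'] at e2
      rw [e2]
      refine congrArg some ?_
      rw [pow_succ a i, mul_inv, ← mul_assoc, eq_inv_of_mul_eq_one_left
        (show a ^ 6 * a = 1 by rw [← pow_succ, ha7])]
      ring
  have hcc : c ^ 4 * c ^ 4 = -c := by
    rw [← pow_add]
    have := FiniteField.pow_card c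
    rw [hF] at this
    rw [this]; linear_combination c * h2
  obtain ⟨g0, hg0n, hg00, hg0s⟩ := exists_slPerm_inversion (pow_ne_zero 4 hc0) hcc
  have htS : φ t ∈ (slPerm F).range := by
    refine ⟨g0, Equiv.ext fun z => ?_⟩
    cases z with
    | none => rw [hg0n, htφn]
    | some y =>
      by_cases hy : y = 0
      · rw [hy, hg00, htφ0]
      · obtain ⟨i, -, rfl⟩ := hcover y hy
        rw [hg0s _ hy, htinv]
  have hle : φ.range ≤ (slPerm F).range := by
    rintro _ ⟨g, rfl⟩
    cases hz : φ g none with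
    | none => exact hfix g hz
    | some y =>
      have h1 : φ (t * lam (-y) * g) none = none := by
        rw [map_mul, map_mul, Equiv.Perm.mul_apply, Equiv.Perm.mul_apply, hz, hts,
          add_neg_cancel, htφ0]
      have hl := hfix _ (htn (-y))
      have h2' : φ g = (φ t * φ (lam (-y)))⁻¹ * φ (t * lam (-y) * g) := by
        rw [map_mul, map_mul]; group
      rw [h2']
      exact mul_mem (inv_mem (mul_mem htS hl)) (hfix _ h1)
  have hcard : Nat.card (slPerm F).range = 504 := by
    have := card_range_slPerm (K := F)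
    rw [hF, show Nat.gcd 2 (8 - 1) = 1 from rfl, one_mul] at this
    rw [this]
    norm_num
  have heq : φ.range = (slPerm F).range :=
    eq_of_le_of_card_ge hle (by
      rw [hcard, ← Nat.card_congr (MonoidHom.ofInjective hφinj).toEquiv, h])
  exact ⟨((MonoidHom.ofInjective hφinj).trans (MulEquiv.subgroupCongr heq)).trans
    pslEquivRange.symm⟩

end CfsgLib.Small.Order504
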