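import Mathlib
import Cfsg.Prelude.Def_SporadicB
import Cfsg.Agent.Lib.Structure.OrderJanko
import Cfsg.Agent.Lib.OrderCount.Basic
import Cfsg.Agent.Lib.InvChar.EightSylowMultiplier
import Cfsg.Agent.Lib.InvChar.SylowThree
import Cfsg.Agent.Lib.Recognition.OrderSixtyFive
import Cfsg.Agent.Lib.Small.OrderSixty
import Cfsg.Agent.S0514
import Cfsg.Agent.S0516
import Cfsg.Agent.S3864

/-!
In a simple group of order `175560` the centraliser of an involution is `2 × A₅`.
-/

set_option autoImplicit false
set_option linter.style.haveILetI false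

open scoped Pointwise

namespace CfsgLib.Small.JankoOrder

open Subgroup CfsgLib.OrderJanko

/-- No admissible number of Sylow subgroups for the centre element. -/
def pairBadTwo (x y : Dat) : Bool :=
  decide (x.c % y.p = 0) && divs.all fun z =>
    decide (z % y.p ≠ 1) || decide (x.p * x.c % z ≠ 0) || decide (x.p * x.c / z % (x.p * y.p) ≠ 0) ||
      decide (y.p * y.e * y.c % (x.p * x.c / z) ≠ 0)

/-- The configuration with `77` Sylow `19`-subgroups centralised by an element of order `5`. -/
def bad77 (x : Dat) : Bool := decide (x.p = 19) && decide (x.d = 77) && decide (x.c % 5 = 0)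

/-- The configuration with `133` Sylow `11`-subgroups. -/
def bad133 (x y z : Dat) : Bool :=
  decide (x.p = 11) && decide (x.d = 133) && decide (y.p = 3) && decide (z.p = 5) &&
    decide (x.c % 3 = 0) && decide (y.c % 5 = 0) &&
    ((List.range 134).all fun f => decide (f % 11 ≠ 1) || decide (f % 3 ≠ 133 % 3) ||
      decide (f = 1) || decide (y.d * f % 133 ≠ 0) || decide (440 % (y.d * f / 133) ≠ 0)) &&
    ((List.range 134).all fun f => decide (f % 3 ≠ 1) || decide (f % 5 ≠ 133 % 5) ||
      decide (z.d * f % 133 ≠ 0) || decide (264 % (z.d * f / 133) ≠ 0))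

/-- Contradictory data. -/
def excl (acc : List Dat) : Bool :=
  bad 175560 acc || acc.any bad77 ||
    (acc.any fun x => acc.any fun y => decide (x.p ≠ y.p) && pairBadTwo x y) ||
    (acc.any fun x => decide (x.p = 11) && decide (x.d = 133) && acc.any fun y =>
      decide (y.p = 3) && acc.any fun z => decide (z.p = 5) && bad133 x y z)

/-- The desired conclusion on complete data. -/
def good (acc : List Dat) : Bool :=
  acc.any (fun x => decide (x.p = 3) && decide (x.d = 2926) && decide (x.c = 10)) &&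
  acc.any (fun x => decide (x.p = 5) && decide (x.d = 2926)) &&
  acc.any (fun x => decide (x.p = 7) && decide (x.d = 4180)) &&
  (divs.all fun k => decide (k % 8 ≠ 7) || decide (21945 % k ≠ 0) ||
    !(acc.all fun x => decide (k % x.p = 0 ↔ x.c % 2 = 0)) ||
    (decide (k = 15) && acc.any fun x => decide (x.p = 5) && decide (x.c = 6) && decide (x.e = 2)))

/-- Every choice of data is excluded or good. -/
def search : List Dat → List ℕ → Bool
  | acc, [] => excl acc || good acc
  | acc, p :: r => excl acc || (opts 175560 p).all fun x => search (x :: acc) r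

theorem search_ok : search [] [19, 11, 7, 5, 3] = true := by decide +kernel

variable {G : Type*} [Group G] [Finite G]

theorem pairBadTwo_false (hn : Nat.card G ∣ 175560) {x y : Dat} (hx : IsDat G x) (hy : IsDat G y)
    (hne : x.p ≠ y.p) : pairBadTwo x y = false := by
  rw [Bool.eq_false_iff]
  intro h
  simp only [pairBadTwo, Bool.and_eq_true, Bool.or_eq_true, decide_eq_true_eq, List.all_eq_true] at h
  obtain ⟨hdvd', h2⟩ := h
  have hdvd : y.p ∣ x.c := Nat.dvd_of_mod_eq_zero hdvd'
  haveI := Fact.mk hx.1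
  haveI := Fact.mk hy.1
  obtain ⟨P⟩ := (inferInstance : Nonempty (Sylow x.p G))
  set C := centralizer ((P : Subgroup G) : Set G) with hC
  have hCc : Nat.card C = x.p * x.c := (hx.2.2.2.2 P).2.1
  obtain ⟨R⟩ := (inferInstance : Nonempty (Sylow y.p C))
  set Rg := (R : Subgroup C).map C.subtype with hRg
  obtain ⟨Q, hQ⟩ := (R.isPGroup'.map C.subtype).exists_le_sylow
  have hcard : Nat.card Rg = Nat.card R :=
    (Nat.card_congr ((R : Subgroup C).equivMapOfInjective _ C.subtype_injective).toEquiv).symm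
  have hRc : Nat.card R = y.p := by
    refine Nat.dvd_antisymm ?_ (R.dvd_card_of_dvd_card (hCc ▸ hdvd.mul_left _))
    rw [← hcard, ← (hy.2.2.2.2 Q).1]
    exact card_dvd_of_le hQ
  have hQe : Rg = Q := eq_of_le_of_card_ge hQ (le_of_eq (by rw [hcard, hRc]; exact (hy.2.2.2.2 Q).1))
  set N := normalizer ((R : Subgroup C) : Set C) with hN
  have hNz : Nat.card N * Nat.card (Sylow y.p C) = x.p * x.c := by
    rw [← hCc]; exact CfsgLib.Small.card_normalizer_mul_card_sylow R
  have hz1 : Nat.card (Sylow y.p C) % y.p = 1 := by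
    have := card_sylow_modEq_one y.p C
    rwa [Nat.ModEq, Nat.mod_eq_of_lt hy.1.one_lt] at this
  have hle : N.map C.subtype ≤ normalizer ((Q : Subgroup G) : Set G) := by
    rw [← hQe]
    exact le_normalizer_map C.subtype
  have hNy : Nat.card N ∣ y.p * y.c * y.e := by
    have h1 := card_dvd_of_le hle
    rwa [← Nat.card_congr (N.equivMapOfInjective _ C.subtype_injective).toEquiv,
      (hy.2.2.2.2 Q).2.2] at h1
  have hxp : x.p ∣ Nat.card N := by
    have hPC : (P : Subgroup G) ≤ C := by
      haveI : IsCyclic (P : Subgroup G) := isCyclic_of_prime_card (hx.2.2.2.2 P).1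
      let _ := IsCyclic.commGroup (α := (P : Subgroup G))
      exact fun a ha => mem_centralizer_iff.mpr fun b hb =>
        congrArg Subtype.val (mul_comm (⟨b, hb⟩ : (P : Subgroup G)) ⟨a, ha⟩)
    have hPN : (P : Subgroup G).subgroupOf C ≤ N := by
      intro a ha
      have hca : ∀ b : C, b * a = a * b := fun b =>
        Subtype.ext ((mem_centralizer_iff.mp b.2 _ ha).symm)
      rw [hN, mem_normalizer_iff]
      intro b
      rw [← hca b, mul_inv_cancel_right]
    have h1 := card_dvd_of_le hPN
    rwa [Nat.card_congr (subgroupOfEquivOfLe hPC).toEquiv, (hx.2.2.2.2 P).1] at h1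
  have hyp : y.p ∣ Nat.card N := by
    have h1 := card_dvd_of_le (le_normalizer : (R : Subgroup C) ≤ N)
    rwa [hRc] at h1
  have hz := h2 _ (mem_divs_of_dvd hn ((Dvd.intro_left _ hNz).trans (hCc ▸ card_subgroup_dvd_card C)))
  have hzpos : 0 < Nat.card (Sylow y.p C) := Nat.card_pos
  rw [← hNz, Nat.mul_div_cancel _ hzpos] at hz
  rcases hz with ((hz | hz) | hz) | hz
  · exact hz hz1
  · exact hz (Nat.mul_mod_left _ _)
  · exact hz (Nat.mod_eq_zero_of_dvd ((Nat.coprime_primes hx.1 hy.1).mpr hne |>.mul_dvd_of_dvd_of_dvd hxp hyp))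
  · exact hz (Nat.mod_eq_zero_of_dvd (by rwa [mul_right_comm]))

/-- The Sylow `q`-subgroups normalised by the element `a`. -/
abbrev fixSet (q : ℕ) (a : G) : Set (Sylow q G) := {Q | a • Q = Q}

omit [Finite G] in
theorem smul_fixSet {q : ℕ} {a b : G} (h : Commute a b) {Q : Sylow q G} :
    b • Q ∈ fixSet q a ↔ Q ∈ fixSet q a := by
  show a • b • Q = b • Q ↔ a • Q = Q
  rw [← mul_smul, h.eq, mul_smul, smul_left_cancel_iff]

/-- An element of prime order permutes a stable set: fixed points are congruent to the size. -/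
theorem ncard_modEq {q r : ℕ} [Fact r.Prime] {b : G} (hb : b ^ r = 1) (s : Set (Sylow q G))
    (hs : ∀ Q ∈ s, b • Q ∈ s) : s.ncard % r = (s ∩ fixSet q b).ncard % r := by
  classical
  haveI : Fintype (Sylow q G) := Fintype.ofFinite _
  let f : s → s := fun Q => ⟨b • Q.1, hs _ Q.2⟩
  have hf : f^[r ^ 1] = id := by
    funext Q
    apply Subtype.ext
    have h : ∀ i : ℕ, ((f^[i]) Q).1 = b ^ i • Q.1 := by
      intro i
      induction i with
      | zero => simp
      | succ i ih => rw [Function.iterate_succ_apply', pow_succ', mul_smul, ← ih]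
    rw [pow_one, h, hb, one_smul]; rfl
  have h := Equiv.Perm.card_fixedPoints_modEq (p := r) (n := 1) (f := f) hf
  have e : Fintype.card (Function.fixedPoints f) = (s ∩ fixSet q b).ncard := by
    rw [← Nat.card_eq_fintype_card, ← Nat.card_coe_set_eq]
    exact Nat.card_congr
      { toFun := fun Q => ⟨Q.1.1, Q.1.2, congrArg Subtype.val Q.2⟩
        invFun := fun Q => ⟨⟨Q.1, Q.2.1⟩, Subtype.ext Q.2.2⟩
        left_inv := fun Q => rfl
        right_inv := fun Q => rfl }
  rw [e, ← Nat.card_eq_fintype_card, Nat.card_coe_set_eq] at h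
  exact h

theorem bad77_false [IsSimpleGroup G] (hG : ¬ IsMulCommutative G) {x : Dat} (hx : IsDat G x) :
    bad77 x = false := by
  rw [Bool.eq_false_iff]
  intro h
  simp only [bad77, Bool.and_eq_true, decide_eq_true_eq] at h
  obtain ⟨⟨h19, h77⟩, h5⟩ := h
  obtain ⟨p, d, e, c⟩ := x
  obtain ⟨hp, hd, hn, hm, hP⟩ := hx
  dsimp only at h19 h77 h5 hd hn hP
  subst h19
  haveI : Fact (Nat.Prime 19) := ⟨hp⟩
  haveI : Fact (Nat.Prime 5) := ⟨by norm_num⟩
  obtain ⟨P⟩ := (inferInstance : Nonempty (Sylow 19 G))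
  obtain ⟨⟨y, hyC⟩, hy5⟩ := exists_prime_orderOf_dvd_card'
    (G := centralizer ((P : Subgroup G) : Set G)) 5
    (by rw [(hP P).2.1]; exact (Nat.dvd_of_mod_eq_zero h5).mul_left _)
  rw [orderOf_mk] at hy5
  obtain ⟨⟨u, huP⟩, hu⟩ := exists_prime_orderOf_dvd_card' (G := (P : Subgroup G)) 19
    (by rw [(hP P).1])
  rw [orderOf_mk] at hu
  have hu19 : u ^ 19 = 1 := hu ▸ pow_orderOf_eq_one u
  have hy : y ^ 5 = 1 := hy5 ▸ pow_orderOf_eq_one y
  have hPu : (P : Subgroup G) = zpowers u :=
    CfsgLib.Small.eq_zpowers_of_mem (hP P).1 huP fun h => by rw [h, orderOf_one] at hu; omega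
  have hcomm : Commute y u := (mem_centralizer_iff.mp hyC u huP).symm
  have hone : ∀ Q : Sylow 19 G, u • Q = Q → Q = P := by
    intro Q hQ
    have h2 : (P : Subgroup G) ≤ normalizer ((Q : Subgroup G) : Set G) := by
      rw [hPu, zpowers_le]
      exact Sylow.smul_eq_iff_mem_normalizer.mp hQ
    have h3 := IsPGroup.to_sup_of_normal_right' P.isPGroup' Q.isPGroup' h2
    exact Sylow.ext ((Q.3 h3 le_sup_right).symm.trans (P.3 h3 le_sup_left))
  set M : Set (Sylow 19 G) := (fixSet 19 y)ᶜ with hM
  have hyP : P ∈ fixSet 19 y :=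
    Sylow.smul_eq_iff_mem_normalizer.mpr (centralizer_le_normalizer _ hyC)
  have h1 : M.ncard % 5 = 0 := by
    have := ncard_modEq (r := 5) hy M fun Q hQ h => hQ (by
      have h' : y • y • Q = y • Q := h
      exact smul_left_cancel _ h')
    rwa [show M ∩ fixSet 19 y = ∅ from Set.compl_inter_self _, Set.ncard_empty, Nat.zero_mod] at this
  have h2 : M.ncard % 19 = 0 := by
    have := ncard_modEq (r := 19) hu19 M fun Q hQ h => hQ ((smul_fixSet hcomm).mp h)
    rwa [show M ∩ fixSet 19 u = ∅ from Set.eq_empty_iff_forall_notMem.mpr fun Q hQ =>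
      hQ.1 (hone Q hQ.2 ▸ hyP), Set.ncard_empty, Nat.zero_mod] at this
  have h3 : M.ncard < 77 := by
    rw [← h77, ← hd]
    exact Set.ncard_lt_card fun e => absurd hyP (by
      have : P ∈ M := e ▸ Set.mem_univ _
      exact this)
  have h4 : M = ∅ := (Set.ncard_eq_zero).mp (by omega)
  have hy1 : y = 1 := by
    have hne : (normalizer ((P : Subgroup G) : Set G)) ≠ ⊤ := CfsgLib.Small.sylow_normalizer_ne_top hG
      ((hP P).1 ▸ card_subgroup_dvd_card _) P
    have hker : (MulAction.toPermHom G (Sylow 19 G)).ker = ⊥ :=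
      (CfsgLib.Small.eq_bot_or_top _).resolve_right fun hk => hne (eq_top_iff.mpr fun g _ => by
        have h1 : g ∈ (MulAction.toPermHom G (Sylow 19 G)).ker := hk ▸ mem_top g
        exact Sylow.smul_eq_iff_mem_normalizer.mp (Equiv.Perm.ext_iff.mp (MonoidHom.mem_ker.mp h1) P))
    have : y ∈ (MulAction.toPermHom G (Sylow 19 G)).ker := by
      rw [MonoidHom.mem_ker]
      refine Equiv.ext fun Q => ?_
      by_contra hQ
      exact (Set.eq_empty_iff_forall_notMem.mp h4 Q) hQ
    rwa [hker, mem_bot] at this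
  rw [hy1, orderOf_one] at hy5
  omega

/-- The double count of pairs (Sylow `r`-subgroup, normalised Sylow `q`-subgroup). -/
theorem double_count {q r : ℕ} [Fact q.Prime] [Fact r.Prime] (hqr : ∀ R : Sylow r G, Nat.card R = r)
    {a : G} (ha : orderOf a = r) (Q₀ : Sylow q G) :
    Nat.card (Sylow r G) * (fixSet q a).ncard =
      Nat.card (Sylow q G) * Nat.card (Sylow r (normalizer ((Q₀ : Subgroup G) : Set G))) ∨
    ¬ r ∣ Nat.card (normalizer ((Q₀ : Subgroup G) : Set G)) := by
  classical
  refine or_iff_not_imp_right.mpr fun hr => ?_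
  rw [not_not] at hr
  haveI : Fintype (Sylow r G) := Fintype.ofFinite _
  haveI : Fintype (Sylow q G) := Fintype.ofFinite _
  let rel : Sylow r G → Sylow q G → Prop := fun R Q =>
    (R : Subgroup G) ≤ normalizer ((Q : Subgroup G) : Set G)
  have hrel : ∀ (g : G) (R : Sylow r G) (Q : Sylow q G), rel R Q → rel (g • R) (g • Q) := by
    intro g R Q h v hv
    obtain ⟨u, hu, rfl⟩ := hv
    refine Sylow.smul_eq_iff_mem_normalizer.mp ?_
    show (g * u * g⁻¹) • g • Q = g • Q
    rw [mul_smul, inv_smul_smul, mul_smul, Sylow.smul_eq_iff_mem_normalizer.mpr (h hu)]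
  have hrel' : ∀ (g : G) (R : Sylow r G) (Q : Sylow q G), rel (g • R) (g • Q) ↔ rel R Q :=
    fun g R Q => ⟨fun h => by simpa using hrel g⁻¹ _ _ h, hrel g R Q⟩
  obtain ⟨R₀, hR₀⟩ := exists_sylow_of_orderOf hqr ha
  have hfix : ∀ Q : Sylow q G, rel R₀ Q ↔ Q ∈ fixSet q a := fun Q => by
    show (R₀ : Subgroup G) ≤ _ ↔ a • Q = Q
    rw [hR₀, zpowers_le, Sylow.smul_eq_iff_mem_normalizer]
    rfl
  have hl : ∀ R : Sylow r G, Nat.card {Q // rel R Q} = (fixSet q a).ncard := by
    intro R
    obtain ⟨g, rfl⟩ := MulAction.exists_smul_eq G R₀ R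
    rw [← Nat.card_coe_set_eq]
    refine Nat.card_congr ((MulAction.toPerm g⁻¹).subtypeEquiv fun Q => ?_)
    show _ ↔ g⁻¹ • Q ∈ fixSet q a
    rw [← hfix, ← hrel' g R₀, smul_inv_smul]
  have hrr : ∀ Q : Sylow q G, Nat.card {R // rel R Q} =
      Nat.card (Sylow r (normalizer ((Q₀ : Subgroup G) : Set G))) := by
    intro Q
    obtain ⟨g, rfl⟩ := MulAction.exists_smul_eq G Q₀ Q
    have e1 : Nat.card {R // rel R (g • Q₀)} = Nat.card {R // rel R Q₀} := by
      refine Nat.card_congr ((MulAction.toPerm g⁻¹).subtypeEquiv fun R => ?_)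
      show _ ↔ rel (g⁻¹ • R) Q₀
      rw [← hrel' g _ Q₀, smul_inv_smul]
    rw [e1]
    set N := normalizer ((Q₀ : Subgroup G) : Set G)
    refine Nat.card_congr
      { toFun := fun R => R.1.subtype R.2
        invFun := fun R => ⟨Classical.choose (R.isPGroup'.map N.subtype).exists_le_sylow, ?_⟩
        left_inv := ?_
        right_inv := ?_ }
    all_goals have key : ∀ R' : Sylow r N, ∀ T : Sylow r G, (R' : Subgroup N).map N.subtype ≤ T →
        (R' : Subgroup N).map N.subtype = T := fun R' T h => eq_of_le_of_card_ge h (by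
          rw [← Nat.card_congr ((R' : Subgroup N).equivMapOfInjective _ N.subtype_injective).toEquiv,
            hqr T]
          exact Nat.le_of_dvd Nat.card_pos (R'.dvd_card_of_dvd_card hr))
    · show (_ : Subgroup G) ≤ N
      rw [← key R _ (Classical.choose_spec (R.isPGroup'.map N.subtype).exists_le_sylow)]
      exact map_subtype_le _
    · intro R
      refine Subtype.ext (Sylow.ext ?_)
      have hs := Classical.choose_spec ((R.1.subtype R.2).isPGroup'.map N.subtype).exists_le_sylow
      show ((Classical.choose _ : Sylow r G) : Subgroup G) = R.1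
      rw [← key _ _ hs, Sylow.coe_subtype, subgroupOf_map_subtype, inf_eq_left.mpr R.2]
    · intro R
      apply Sylow.ext
      show ((Classical.choose _ : Sylow r G) : Subgroup G).subgroupOf N = R
      rw [← key R _ (Classical.choose_spec (R.isPGroup'.map N.subtype).exists_le_sylow),
        subgroupOf, comap_map_eq_self_of_injective N.subtype_injective]
  have h := Finset.sum_comm' (s := (Finset.univ : Finset (Sylow r G)))
    (t := fun R => Finset.univ.filter (rel R)) (t' := Finset.univ)
    (s' := fun Q => Finset.univ.filter fun R => rel R Q) (f := fun _ _ => (1 : ℕ)) (by simp)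
  simp only [Finset.sum_const, smul_eq_mul, mul_one] at h
  have c1 : ∀ R : Sylow r G, (Finset.univ.filter (rel R)).card = (fixSet q a).ncard := fun R => by
    rw [← hl R, Nat.card_eq_fintype_card, Fintype.card_subtype]
  have c2 : ∀ Q : Sylow q G, (Finset.univ.filter fun R => rel R Q).card =
      Nat.card (Sylow r (normalizer ((Q₀ : Subgroup G) : Set G))) := fun Q => by
    rw [← hrr Q, Nat.card_eq_fintype_card, Fintype.card_subtype]
  simp only [c1, c2, Finset.sum_const, smul_eq_mul] at h
  rwa [Finset.card_univ, Finset.card_univ, ← Nat.card_eq_fintype_card,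
    ← Nat.card_eq_fintype_card] at h

theorem bad133_false (hG : Nat.card G = 175560) {x y z : Dat} (hx : IsDat G x) (hy : IsDat G y)
    (hz : IsDat G z) : bad133 x y z = false := by
  rw [Bool.eq_false_iff]
  intro h
  simp only [bad133, Bool.and_eq_true, Bool.or_eq_true, decide_eq_true_eq, List.all_eq_true,
    List.mem_range] at h
  obtain ⟨⟨⟨⟨⟨⟨⟨h11, h133⟩, h3⟩, h5⟩, hc3⟩, hc5⟩, hf3⟩, hf5⟩ := h
  haveI := Fact.mk hx.1
  haveI := Fact.mk hy.1
  haveI := Fact.mk hz.1
  obtain ⟨P⟩ := (inferInstance : Nonempty (Sylow x.p G))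
  set N := normalizer ((P : Subgroup G) : Set G) with hN
  set C := centralizer ((P : Subgroup G) : Set G) with hC
  have hNn : Nat.card N * 133 = 175560 := by
    have := CfsgLib.Small.card_normalizer_mul_card_sylow P
    rwa [hx.2.1, h133, hG] at this
  have hN' : Nat.card N = 1320 := by omega
  obtain ⟨⟨a, haC⟩, ha⟩ := exists_prime_orderOf_dvd_card' (G := C) y.p
    (by rw [(hx.2.2.2.2 P).2.1, h3]; exact (Nat.dvd_of_mod_eq_zero hc3).mul_left _)
  rw [orderOf_mk] at ha
  obtain ⟨⟨u, huP⟩, hu⟩ := exists_prime_orderOf_dvd_card' (G := (P : Subgroup G)) x.p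
    (by rw [(hx.2.2.2.2 P).1])
  rw [orderOf_mk] at hu
  have hua : Commute a u := (mem_centralizer_iff.mp haC u huP).symm
  have huP' : (P : Subgroup G) = zpowers u :=
    CfsgLib.Small.eq_zpowers_of_mem (hx.2.2.2.2 P).1 huP fun h => by rw [h, orderOf_one] at hu; omega
  have hPfix : P ∈ fixSet x.p a :=
    Sylow.smul_eq_iff_mem_normalizer.mpr (centralizer_le_normalizer _ haC)
  have hfu : fixSet x.p a ∩ fixSet x.p u = {P} := by
    refine Set.eq_singleton_iff_unique_mem.mpr ⟨⟨hPfix, ?_⟩, fun Q hQ => ?_⟩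
    · exact Sylow.smul_eq_iff_mem_normalizer.mpr (le_normalizer huP)
    have h2 : (P : Subgroup G) ≤ normalizer ((Q : Subgroup G) : Set G) := by
      rw [huP', zpowers_le]
      exact Sylow.smul_eq_iff_mem_normalizer.mp hQ.2
    have h3 := IsPGroup.to_sup_of_normal_right' P.isPGroup' Q.isPGroup' h2
    exact Sylow.ext ((Q.3 h3 le_sup_right).symm.trans (P.3 h3 le_sup_left))
  have huniv : (Set.univ : Set (Sylow x.p G)).ncard = 133 := by
    rw [Set.ncard_univ, hx.2.1, h133]
  have fbound : ∀ s : Set (Sylow x.p G), s.ncard < 134 := fun s => by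
    have := Set.ncard_le_ncard (Set.subset_univ s)
    omega
  have f1 : (fixSet x.p a).ncard % 11 = 1 := by
    have := ncard_modEq (r := x.p) (hu ▸ pow_orderOf_eq_one u) (fixSet x.p a)
      fun Q hQ => (smul_fixSet hua).mpr hQ
    rw [hfu, Set.ncard_singleton] at this
    simpa only [h11, Nat.one_mod] using this
  have f2 : ∀ {r : ℕ} [Fact r.Prime] {b : G}, orderOf b = r →
      (fixSet x.p b).ncard % r = 133 % r := by
    intro r _ b hb
    have := ncard_modEq (r := r) (q := x.p) (hb ▸ pow_orderOf_eq_one b) Set.univ fun _ _ => trivial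
    rw [Set.univ_inter, huniv] at this
    exact this.symm
  have count : ∀ {r : ℕ} [Fact r.Prime], (∀ R : Sylow r G, Nat.card R = r) → r ∣ 1320 →
      ∀ {b : G}, orderOf b = r → Nat.card (Sylow r G) * (fixSet x.p b).ncard % 133 = 0 ∧
        1320 / r % (Nat.card (Sylow r G) * (fixSet x.p b).ncard / 133) = 0 := by
    intro r _ hR hr b hb
    have h1 := (double_count hR hb P).resolve_right (not_not.mpr (hN' ▸ hr))
    rw [hx.2.1, h133] at h1
    rw [h1, Nat.mul_mod_right, Nat.mul_div_cancel_left _ (by norm_num : 0 < 133)]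
    refine ⟨rfl, Nat.mod_eq_zero_of_dvd ?_⟩
    obtain ⟨R⟩ := (inferInstance : Nonempty (Sylow r N))
    obtain ⟨T, hT⟩ := (R.isPGroup'.map N.subtype).exists_le_sylow
    have hd : Nat.card R ∣ r := by
      have h := card_dvd_of_le hT
      rw [← Nat.card_congr ((R : Subgroup N).equivMapOfInjective _ N.subtype_injective).toEquiv] at h
      exact h.trans (dvd_of_eq (hR T))
    have hRr : Nat.card R = r := Nat.dvd_antisymm hd (R.dvd_card_of_dvd_card (hN' ▸ hr))
    have h6 := card_mul_index (R : Subgroup N)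
    rw [hRr, hN'] at h6
    rw [← h6, Nat.mul_div_cancel_left _ (Fact.out : r.Prime).pos]
    exact R.card_dvd_index
  have hone : fixSet x.p a = {P} := by
    obtain ⟨c1, c2⟩ := count (fun R => (hy.2.2.2.2 R).1) (h3 ▸ (by norm_num)) ha
    rw [hy.2.1] at c1 c2
    have f3 : (fixSet x.p a).ncard % 3 = 133 % 3 := by simpa only [h3] using f2 ha
    rw [h3] at c2
    rcases hf3 _ (fbound (fixSet x.p a)) with (((hh | hh) | hh) | hh) | hh
    · exact absurd f1 hh
    · exact absurd f3 hh
    · obtain ⟨Q, hQ⟩ := Set.ncard_eq_one.mp hh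
      have hPfix' := hPfix
      rw [hQ, Set.mem_singleton_iff] at hPfix'
      rw [hQ, hPfix']
    · exact absurd c1 hh
    · exact absurd c2 hh
  obtain ⟨R, hR⟩ := exists_sylow_of_orderOf (fun R => (hy.2.2.2.2 R).1) ha
  obtain ⟨⟨b, hbC⟩, hb⟩ := exists_prime_orderOf_dvd_card'
    (G := centralizer ((R : Subgroup G) : Set G)) z.p
    (by rw [(hy.2.2.2.2 R).2.1, h5]; exact (Nat.dvd_of_mod_eq_zero hc5).mul_left _)
  rw [orderOf_mk] at hb
  have hab : Commute a b := mem_centralizer_iff.mp hbC a (hR ▸ mem_zpowers a)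
  have hbP : P ∈ fixSet x.p b := by
    have h0 : b • P ∈ fixSet x.p a := (smul_fixSet hab).mpr hPfix
    rw [hone] at h0
    exact h0
  have g1 : (fixSet x.p b).ncard % 3 = 1 := by
    have := ncard_modEq (r := y.p) (ha ▸ pow_orderOf_eq_one a) (fixSet x.p b)
      fun Q hQ => (smul_fixSet hab.symm).mpr hQ
    rw [hone, Set.inter_eq_right.mpr (Set.singleton_subset_iff.mpr hbP)] at this
    rw [Set.ncard_singleton] at this
    simpa only [h3, Nat.one_mod] using this
  have g2 : (fixSet x.p b).ncard % 5 = 133 % 5 := by simpa only [h5] using f2 hb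
  obtain ⟨c1, c2⟩ := count (fun R => (hz.2.2.2.2 R).1) (h5 ▸ (by norm_num)) hb
  rw [hz.2.1] at c1 c2
  rw [h5] at c2
  rcases hf5 _ (fbound (fixSet x.p b)) with ((hh | hh) | hh) | hh
  · exact hh g1
  · exact hh g2
  · exact hh c1
  · exact hh c2

theorem exists_good [IsSimpleGroup G] (hG : ¬ IsMulCommutative G) (hn : Nat.card G = 175560) :
    ∀ (ps : List ℕ) (acc : List Dat), (∀ p ∈ ps, p ∈ [19, 11, 7, 5, 3]) → ps.Nodup →
      (∀ x ∈ acc, IsDat G x ∧ x.p ∉ ps) → acc.Pairwise (fun x y => x.p ≠ y.p) →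
      search acc ps = true → ∃ T : List Dat, (∀ x ∈ T, IsDat G x) ∧ good T = true ∧
        ∀ p, (p ∈ ps ∨ ∃ x ∈ acc, x.p = p) → ∃ x ∈ T, x.p = p := by
  intro ps
  have hexcl : ∀ acc : List Dat, (∀ x ∈ acc, IsDat G x) → acc.Pairwise (fun x y => x.p ≠ y.p) →
      excl acc = false := by
    intro acc hacc hpw
    rw [Bool.eq_false_iff]
    intro h
    simp only [excl, Bool.or_eq_true, List.any_eq_true, Bool.and_eq_true, decide_eq_true_eq] at h
    rcases h with ((h | ⟨x, hx, hb⟩) | ⟨x, hx, y, hy, hne, hb⟩) | ⟨x, hx, -, y, hy, -, z, hz, -, hb⟩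
    · rw [← hn, bad_false (hn ▸ dvd_rfl) acc hacc hpw] at h
      exact Bool.false_ne_true h
    · rw [bad77_false hG (hacc x hx)] at hb
      exact Bool.false_ne_true hb
    · rw [pairBadTwo_false (hn ▸ dvd_rfl) (hacc x hx) (hacc y hy) hne] at hb
      exact Bool.false_ne_true hb
    · rw [bad133_false hn (hacc x hx) (hacc y hy) (hacc z hz)] at hb
      exact Bool.false_ne_true hb
  induction ps with
  | nil =>
    intro acc _ _ hacc hpw hs
    rw [search, hexcl acc (fun x hx => (hacc x hx).1) hpw, Bool.false_or] at hs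
    exact ⟨acc, fun x hx => (hacc x hx).1, hs, fun p hp => hp.resolve_left (by simp)⟩
  | cons p r ih =>
    intro acc hps hnd hacc hpw hs
    obtain ⟨hpr, hndr⟩ := List.nodup_cons.mp hnd
    rw [search, hexcl acc (fun x hx => (hacc x hx).1) hpw, Bool.false_or, List.all_eq_true] at hs
    have hpG : p ∣ Nat.card G := by
      have := hps p List.mem_cons_self
      simp only [List.mem_cons, List.not_mem_nil, or_false] at this
      rcases this with rfl | rfl | rfl | rfl | rfl <;> rw [hn] <;> norm_num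
    obtain ⟨x, hx, hxd, hxp⟩ := exists_dat hG (hn ▸ dvd_rfl) (hps p List.mem_cons_self) hpG
    rw [hn] at hx
    obtain ⟨T, hT, hg, hcov⟩ := ih (x :: acc) (fun q hq => hps q (List.mem_cons_of_mem _ hq)) hndr
      (by
        intro y hy
        rcases List.mem_cons.mp hy with rfl | hy
        · exact ⟨hxd, hxp ▸ hpr⟩
        · exact ⟨(hacc y hy).1, fun h => (hacc y hy).2 (List.mem_cons_of_mem _ h)⟩)
      (List.pairwise_cons.mpr ⟨fun y hy h => (hacc y hy).2 (by rw [← h, hxp]; exact List.mem_cons_self), hpw⟩)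
      (hs x hx)
    refine ⟨T, hT, hg, fun q hq => hcov q ?_⟩
    rcases hq with hq | ⟨y, hy, rfl⟩
    · rcases List.mem_cons.mp hq with rfl | hq
      · exact Or.inr ⟨x, List.mem_cons_self, hxp⟩
      · exact Or.inl hq
    · exact Or.inr ⟨y, List.mem_cons_of_mem _ hy, rfl⟩

/-- The prime divisors other than two. -/
theorem good_ps : ∀ p ∈ ([19, 11, 7, 5, 3] : List ℕ), p.Prime := by
  intro p hp
  simp only [List.mem_cons, List.not_mem_nil, or_false] at hp
  rcases hp with rfl | rfl | rfl | rfl | rfl <;> norm_num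

/-- Complete Sylow data of a simple group of order `175560`. -/
theorem exists_data [IsSimpleGroup G] (hn : Nat.card G = 175560) :
    ∃ T : List Dat, (∀ x ∈ T, IsDat G x) ∧ good T = true ∧
      ∀ p ∈ [19, 11, 7, 5, 3], ∃ x ∈ T, x.p = p := by
  have hG : ¬ IsMulCommutative G := CfsgLib.Small.nc_of_not_prime (by rw [hn]; norm_num)
  obtain ⟨T, hT, hg, hc⟩ := exists_good hG hn [19, 11, 7, 5, 3] [] (fun p h => h) (by decide)
    (by simp) List.Pairwise.nil search_ok
  exact ⟨T, hT, hg, fun p hp => hc p (Or.inl hp)⟩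

/-- The data at three, five and seven. -/
theorem data_three_five_seven [IsSimpleGroup G] (hn : Nat.card G = 175560) :
    (∀ P : Sylow 3 G, Nat.card (centralizer ((P : Subgroup G) : Set G)) = 30 ∧
      Nat.card (normalizer ((P : Subgroup G) : Set G)) = 60) ∧
    (∀ P : Sylow 7 G, Nat.card (normalizer ((P : Subgroup G) : Set G)) = 42) := by
  obtain ⟨T, hT, hg, -⟩ := exists_data hn
  simp only [good, Bool.and_eq_true, List.any_eq_true, decide_eq_true_eq] at hg
  obtain ⟨⟨⟨⟨x, hx, ⟨hx3, hxd⟩, hxc⟩, -⟩, ⟨y, hy, hy7, hyd⟩⟩, -⟩ := hg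
  have aux : ∀ {d : Dat}, IsDat G d → ∀ P : Sylow d.p G,
      Nat.card (normalizer ((P : Subgroup G) : Set G)) * d.d = 175560 := fun {d} hd P => by
    haveI := Fact.mk hd.1
    rw [← hn, ← CfsgLib.Small.card_normalizer_mul_card_sylow P, hd.2.1]
  constructor
  · obtain ⟨p, d, e, c⟩ := x
    dsimp only at hx3 hxd hxc
    subst hx3 hxd hxc
    intro P
    haveI := Fact.mk Nat.prime_three
    refine ⟨((hT _ hx).2.2.2.2 P).2.1, ?_⟩
    have := aux (hT _ hx) P
    dsimp only at this
    omega
  · obtain ⟨p, d, e, c⟩ := y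
    dsimp only at hy7 hyd
    subst hy7 hyd
    intro P
    have := aux (hT _ hy) P
    dsimp only at this
    omega

/-- A non-elementary Sylow two-subgroup of a simple group of this order does not exist. -/
theorem sylow_two_exponent [IsSimpleGroup G] (hn : Nat.card G = 175560) (S : Sylow 2 G) :
    ∀ s ∈ (S : Subgroup G), s * s = 1 := by
  classical
  by_contra hne
  have hG : ¬ IsMulCommutative G := CfsgLib.Small.nc_of_not_prime (by rw [hn]; norm_num)
  haveI : Fact (Nat.Prime 2) := ⟨Nat.prime_two⟩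
  haveI : Fact (Nat.Prime 3) := ⟨Nat.prime_three⟩
  have h8 : ∀ Q : Sylow 2 G, Nat.card Q = 8 := fun Q => by
    simpa using CfsgLib.Small.card_sylow_of_card_eq (k := 3) (m := 21945) (by rw [hn]; norm_num) (by norm_num) Q
  have hrank : Cfsg.PRankLE 2 2 G := by
    intro A _ hA
    have hp : IsPGroup 2 A := fun a => ⟨1, Subtype.ext (by simpa using hA a a.2)⟩
    obtain ⟨Q, hQ⟩ := hp.exists_le_sylow
    have hd : Nat.card A ∣ 2 ^ 3 := by
      have := card_dvd_of_le hQ
      rw [show Nat.card (Q : Subgroup G) = 8 from h8 Q] at this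
      exact this
    obtain ⟨i, hi, hAi⟩ := (Nat.dvd_prime_pow Nat.prime_two).mp hd
    by_contra hlt
    have hi3 : i = 3 := by
      by_contra h
      exact hlt (hAi ▸ Nat.pow_le_pow_right (by norm_num) (by omega))
    have hAQ : A = Q := eq_of_le_of_card_ge hQ (by rw [h8 Q, hAi, hi3]; norm_num)
    obtain ⟨g, hg⟩ := MulAction.exists_smul_eq G Q S
    refine hne fun s hs => ?_
    rw [← hg, Sylow.coe_subgroup_smul] at hs
    obtain ⟨a, ha, rfl⟩ := hs
    have := hA a (hAQ ▸ ha)
    show g * a * g⁻¹ * (g * a * g⁻¹) = 1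
    rw [pow_two] at this
    calc g * a * g⁻¹ * (g * a * g⁻¹) = g * (a * a) * g⁻¹ := by group
      _ = 1 := by rw [this]; group
  let F := GaloisField 2 4
  letI : Fintype F := Fintype.ofFinite F
  have hF : Fintype.card F = 16 := by
    rw [← Nat.card_eq_fintype_card, GaloisField.card 2 4 (by norm_num)]; norm_num
  obtain ⟨P⟩ := (inferInstance : Nonempty (Sylow 2 (Cfsg.PSU 3 F 4)))
  rcases Cfsg.Agent.S0516.result hG hrank S hF P with ⟨n, -, ⟨eD⟩⟩ | ⟨n, hn3, hc, -⟩ | ⟨n, hn2, hc, -⟩ | hP'
  · have hn4 : n = 4 := by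
      have h := Nat.card_congr eD.toEquiv
      rw [DihedralGroup.nat_card, show Nat.card ↥(S : Subgroup G) = 8 from h8 S] at h
      omega
    subst hn4
    rcases Cfsg.Agent.S3864.result S 3 le_rfl ⟨eD⟩ with ⟨h1, -⟩ | ⟨-, ⟨N, hN, hNi⟩, -⟩ | ⟨-, hN⟩
    · -- one class of involutions
      obtain ⟨R⟩ := (inferInstance : Nonempty (Sylow 3 G))
      obtain ⟨hC30, hN60⟩ := (data_three_five_seven hn).1 R
      obtain ⟨⟨u, huC⟩, hu⟩ := exists_prime_orderOf_dvd_card'
        (G := centralizer ((R : Subgroup G) : Set G)) 2 (by rw [hC30]; norm_num)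
      rw [orderOf_mk] at hu
      set C := centralizer ({u} : Set G) with hC
      obtain ⟨N, hN, hNodd, k, hk⟩ := Cfsg.Agent.S0514.result S 4 (by norm_num) ⟨eD⟩ u hu
      -- a central involution of `S`
      haveI : Nontrivial ↥(S : Subgroup G) := Finite.one_lt_card_iff_nontrivial.mp (by rw [h8 S]; norm_num)
      obtain ⟨⟨t, htZ⟩, ht⟩ := exists_prime_orderOf_dvd_card' (G := center ↥(S : Subgroup G)) 2 (by
        have hb : center ↥(S : Subgroup G) ≠ ⊥ := nontrivial_iff_ne_bot _ |>.mp S.isPGroup'.center_nontrivial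
        obtain ⟨j, hj, hZj⟩ := (Nat.dvd_prime_pow Nat.prime_two).mp
          (show Nat.card (center ↥(S : Subgroup G)) ∣ 2 ^ 3 from (card_subgroup_dvd_card _).trans
            (dvd_of_eq (h8 S)))
        rcases Nat.eq_zero_or_pos j with rfl | hj0
        · exact absurd (card_eq_one.mp (by simpa using hZj)) hb
        · rw [hZj]; exact dvd_pow_self _ hj0.ne')
      rw [orderOf_mk, ← orderOf_coe] at ht
      have hconj : IsConj (t : G) u := by
        obtain ⟨hsub, -⟩ := Nat.card_eq_one_iff_unique.mp h1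
        exact ConjClasses.mk_eq_mk_iff_isConj.mp (congrArg Subtype.val
          (hsub.allEq ⟨_, (t : G), rfl, ht⟩ ⟨_, u, rfl, hu⟩))
      obtain ⟨g, hg⟩ := isConj_iff.mp hconj
      have hle : ((g • S : Sylow 2 G) : Subgroup G) ≤ centralizer ({u} : Set G) := by
        rw [Sylow.coe_subgroup_smul]
        rintro _ ⟨s, hs, rfl⟩
        rw [mem_centralizer_singleton_iff, ← hg]
        have h2 := congrArg Subtype.val (mem_center_iff.mp htZ ⟨s, hs⟩)
        show g * s * g⁻¹ * (g * t * g⁻¹) = g * t * g⁻¹ * (g * s * g⁻¹)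
        calc g * s * g⁻¹ * (g * t * g⁻¹) = g * (s * t) * g⁻¹ := by group
          _ = g * (t * s) * g⁻¹ := by rw [show s * (t : G) = t * s from h2]
          _ = g * t * g⁻¹ * (g * s * g⁻¹) := by group
      have h8C : 8 ∣ Nat.card C := by rw [← h8 (g • S)]; exact card_dvd_of_le hle
      have hRC : (R : Subgroup G) ≤ C := fun r hr =>
        mem_centralizer_singleton_iff.mpr (mem_centralizer_iff.mp huC r hr)
      have hR3 : Nat.card R = 3 := by
        simpa using CfsgLib.Small.card_sylow_of_card_eq (k := 1) (m := 58520) (by rw [hn]; norm_num) (by norm_num) R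
      have hRN : (R : Subgroup G).subgroupOf C ≤ N := by
        intro a ha
        haveI : N.Normal := hN
        rw [← QuotientGroup.eq_one_iff]
        refine orderOf_eq_one_iff.mp (Nat.eq_one_of_dvd_coprimes
          (show (2 ^ k).Coprime 3 from Nat.Coprime.pow_left _ (by norm_num)) ?_ ?_)
        · rw [← hk, index_eq_card]; exact orderOf_dvd_natCard _
        · refine (orderOf_map_dvd (QuotientGroup.mk' N) a).trans ?_
          rw [← orderOf_coe, ← hR3]
          exact Subgroup.orderOf_dvd_natCard _ ha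
      let R' : Sylow 3 N := Sylow.ofCard (((R : Subgroup G).subgroupOf C).subgroupOf N) (by
        rw [Nat.card_congr (subgroupOfEquivOfLe hRN).toEquiv, Nat.card_congr (subgroupOfEquivOfLe hRC).toEquiv,
          hR3]
        have h1 : Nat.card N ≠ 0 := Nat.card_pos.ne'
        have h2 : (Nat.card N).factorization 3 = 1 := by
          have h3 := (Nat.Prime.pow_dvd_iff_le_factorization Nat.prime_three h1 (k := 1)).mp (by
            rw [pow_one, ← hR3, ← Nat.card_congr (subgroupOfEquivOfLe hRC).toEquiv]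
            exact card_dvd_of_le hRN)
          have h4 : ¬ 2 ≤ (Nat.card N).factorization 3 := fun h => by
            have h5 := ((Nat.Prime.pow_dvd_iff_le_factorization Nat.prime_three h1).mpr h).trans
              ((card_subgroup_dvd_card N).trans (card_subgroup_dvd_card C))
            rw [hn] at h5; norm_num at h5
          omega
        rw [h2, pow_one])
      haveI : N.Normal := hN
      have hfr := Sylow.normalizer_sup_eq_top R'
      have hR' : (R' : Subgroup N).map N.subtype = (R : Subgroup G).subgroupOf C := by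
        show (((R : Subgroup G).subgroupOf C).subgroupOf N).map N.subtype = _
        rw [subgroupOf_map_subtype, inf_eq_left.mpr hRN]
      rw [hR'] at hfr
      set NC := normalizer ((((R : Subgroup G).subgroupOf C) : Subgroup C) : Set C) with hNC
      have h8N : 8 ∣ Nat.card NC := by
        have h1 : N.relIndex NC = N.index := by
          rw [← relIndex_top_right N, ← hfr, relIndex_sup_right]
        have hco : (8 : ℕ).Coprime (Nat.card N) :=
          show (2 ^ 3 : ℕ).Coprime _ from Nat.Coprime.pow_left _ (Nat.coprime_two_left.mpr hNodd)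
        have h2 : 8 ∣ N.index := hco.dvd_of_dvd_mul_left ((card_mul_index N).symm ▸ h8C)
        rw [← h1] at h2
        exact h2.trans (relIndex_dvd_card _ _)
      have hle2 : NC.map C.subtype ≤ normalizer ((R : Subgroup G) : Set G) := by
        have h := le_normalizer_map (H := (R : Subgroup G).subgroupOf C) C.subtype
        rwa [subgroupOf_map_subtype, inf_eq_left.mpr hRC] at h
      have h60 := card_dvd_of_le hle2
      rw [← Nat.card_congr (NC.equivMapOfInjective _ C.subtype_injective).toEquiv, hN60] at h60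
      have := h8N.trans h60
      norm_num at this
    · rcases hN.eq_bot_or_eq_top with rfl | rfl
      · rw [index_bot, hn] at hNi; norm_num at hNi
      · rw [index_top] at hNi; norm_num at hNi
    · obtain ⟨P, N, hN, hc⟩ := hN
      have hc' := hc.card_mul
      rw [show Nat.card (P : Subgroup G) = 8 from h8 P, hn] at hc'
      rcases hN.eq_bot_or_eq_top with rfl | rfl
      · rw [card_bot] at hc'; norm_num at hc'
      · rw [card_top, hn] at hc'; norm_num at hc'
  · rw [show Nat.card ↥(S : Subgroup G) = 8 from h8 S] at hc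
    have h := Nat.pow_le_pow_right (show 0 < 2 by norm_num) (show 4 ≤ n + 1 by omega)
    omega
  · rw [show Nat.card ↥(S : Subgroup G) = 8 from h8 S] at hc
    have h := Nat.pow_le_pow_right (show 0 < 2 by norm_num) (show 5 ≤ 2 * n + 1 by omega)
    omega
  · obtain ⟨eP⟩ := hP'
    letI := CfsgLib.InvCharThree.hermGroup (F := F) (q := 4) (by rw [hF]; norm_num) (by norm_num)
    obtain ⟨eH⟩ := CfsgLib.InvCharThree.herm_equiv_sylow_psu (F := F) (q := 4) (by rw [hF]; norm_num) (by norm_num) (n := 2) (by norm_num) P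
    have h := Nat.card_congr (eP.trans eH.symm).toEquiv
    rw [show Nat.card ↥(S : Subgroup G) = 8 from h8 S, CfsgLib.InvCharThree.natCard_herm (by rw [hF]; norm_num) (by norm_num)] at h
    norm_num at h

set_option maxHeartbeats 2000000 in
/-- The centraliser of an involution is `2 × A₅`. -/
theorem exists_centralizer [IsSimpleGroup G] (hn : Nat.card G = 175560) :
    ∃ t : G, Cfsg.IsTwoCentralInvolution t ∧ Nonempty (centralizer ({t} : Set G) ≃*
      Multiplicative (ZMod 2) × alternatingGroup (Fin 5)) := by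
  classical
  have hG : ¬ IsMulCommutative G := CfsgLib.Small.nc_of_not_prime (by rw [hn]; norm_num)
  haveI : Fact (Nat.Prime 2) := ⟨Nat.prime_two⟩
  obtain ⟨T, hT, hg, hcov⟩ := exists_data hn
  obtain ⟨S⟩ := (inferInstance : Nonempty (Sylow 2 G))
  have h8 : ∀ Q : Sylow 2 G, Nat.card Q = 8 := fun Q => by
    simpa using CfsgLib.Small.card_sylow_of_card_eq (k := 3) (m := 21945) (by rw [hn]; norm_num) (by norm_num) Q
  have hexp : ∀ Q : Sylow 2 G, ∀ s ∈ (Q : Subgroup G), s * s = 1 := fun Q => sylow_two_exponent hn Q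
  have hcomm : ∀ Q : Sylow 2 G, ∀ a ∈ (Q : Subgroup G), ∀ b ∈ (Q : Subgroup G), a * b = b * a :=
    fun Q a ha b hb => by
      have h := mul_eq_one_iff_eq_inv.mp (hexp Q _ (mul_mem ha hb))
      rw [mul_inv_rev, ← mul_eq_one_iff_eq_inv.mp (hexp Q a ha), ← mul_eq_one_iff_eq_inv.mp (hexp Q b hb)] at h
      exact h
  haveI hab : IsMulCommutative (S : Subgroup G) := ⟨⟨fun a b => Subtype.ext (hcomm S _ a.2 _ b.2)⟩⟩
  obtain ⟨n, hnN, hn7, hnfix⟩ := CfsgLib.InvChar.EightSylow.exists_seven hG S (h8 S) (hexp S)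
  obtain ⟨⟨t, htS⟩, ht⟩ := exists_prime_orderOf_dvd_card' (G := (S : Subgroup G)) 2 (by rw [h8 S]; norm_num)
  rw [orderOf_mk] at ht
  have htc : Cfsg.IsTwoCentralInvolution t := ⟨ht, S, htS, fun x hx => hcomm S x hx t htS⟩
  have hconjS : ∀ s ∈ (S : Subgroup G), s ≠ 1 → IsConj t s := by
    intro s hs hs1
    let X := {s : G // s ∈ (S : Subgroup G) ∧ s ≠ 1}
    have hX : Nat.card X = 7 := by
      have h : Nat.card X = ((S : Subgroup G) : Set G).ncard - ({1} : Set G).ncard := by
        rw [← Set.ncard_sdiff (Set.singleton_subset_iff.mpr (one_mem _)) (Set.toFinite _)]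
        exact Nat.card_coe_set_eq (((S : Subgroup G) : Set G) \ {1})
      rw [h, Set.ncard_singleton, ← Nat.card_coe_set_eq, SetLike.coe_sort_coe, h8 S]
    let f : X → X := fun x => ⟨n * x.1 * n⁻¹, (mem_normalizer_iff.mp hnN x.1).mp x.2.1,
      fun h => x.2.2 (conj_eq_one_iff.mp h)⟩
    have hf : ∀ (i : ℕ) (x : X), ((f^[i]) x).1 = n ^ i * x.1 * (n ^ i)⁻¹ := by
      intro i x
      induction i with
      | zero => simp
      | succ i ih =>
        rw [Function.iterate_succ_apply']
        show n * _ * n⁻¹ = _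
        rw [ih, pow_succ']
        group
    have ht1 : t ≠ 1 := fun h => by rw [h, orderOf_one] at ht; omega
    let xt : X := ⟨t, htS, ht1⟩
    have h7 : ∀ x, f^[7] x = x := fun x => Subtype.ext (by rw [hf]; exact hn7 _ x.2.1)
    have hper : Function.minimalPeriod f xt = 7 := by
      have hp : Function.IsPeriodicPt f 7 xt := h7 xt
      refine ((Nat.dvd_prime (by norm_num)).mp hp.minimalPeriod_dvd).resolve_left fun h => ?_
      rw [Function.minimalPeriod_eq_one_iff_isFixedPt] at h
      exact ht1 (hnfix t htS (congrArg Subtype.val h))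
    have hinj : Function.Injective fun i : Fin 7 => f^[i.val] xt := fun i j h => Fin.ext
      (Function.iterate_injOn_Iio_minimalPeriod (by rw [hper]; exact i.2) (by rw [hper]; exact j.2) h)
    obtain ⟨i, hi⟩ := ((Nat.bijective_iff_injective_and_card _).mpr ⟨hinj, by rw [hX, Nat.card_fin]⟩).2 ⟨s, hs, hs1⟩
    exact isConj_iff.mpr ⟨n ^ i.val, by rw [← hf i.val xt]; exact congrArg Subtype.val hi⟩
  have hall : ∀ u : G, orderOf u = 2 → IsConj t u := by
    intro u hu
    obtain ⟨Q, hQ⟩ := (IsPGroup.of_card (p := 2) (n := 1) (G := zpowers u)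
      (by rw [Nat.card_zpowers, hu]; norm_num)).exists_le_sylow
    obtain ⟨g, hg⟩ := MulAction.exists_smul_eq G Q S
    have hgu : g * u * g⁻¹ ∈ (S : Subgroup G) := by
      rw [← hg, Sylow.coe_subgroup_smul]; exact ⟨u, hQ (mem_zpowers u), rfl⟩
    refine (hconjS _ hgu fun h => ?_).trans (isConj_iff.mpr ⟨g⁻¹, by group⟩)
    rw [conj_eq_one_iff] at h; rw [h, orderOf_one] at hu; omega
  set C := centralizer ({t} : Set G) with hC
  have hSC : (S : Subgroup G) ≤ C := fun x hx => mem_centralizer_singleton_iff.mpr (hcomm S x hx t htS)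
  obtain ⟨k, hk⟩ : ∃ k, Nat.card C = 8 * k := by
    have h := card_dvd_of_le hSC; rw [show Nat.card (S : Subgroup G) = 8 from h8 S] at h; exact h
  have hk21 : k ∣ 21945 := by
    have h := card_subgroup_dvd_card C
    rw [hk, hn] at h
    exact Nat.dvd_of_mul_dvd_mul_left (by norm_num) (show 8 * k ∣ 8 * 21945 from h)
  have hI : Nat.card {u : G // orderOf u = 2} * (8 * k) = 175560 := by
    rw [← hk, ← hn, ← CfsgLib.Characters.card_isConj_mul_card_centralizer t]
    congr 1
    refine Nat.card_congr (Equiv.subtypeEquivRight fun u => ⟨hall u, fun h => ?_⟩)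
    obtain ⟨g, rfl⟩ := isConj_iff.mp h
    rw [← MulAut.conj_apply, MulEquiv.orderOf_eq, ht]
  have hk8 : k % 8 = 7 := by
    have h := CfsgLib.OrderCount.frobenius_dvd (Nat.card G) (G := G) rfl 8 (by rw [hn]; norm_num)
    have e : Nat.card {x : G // x ^ 8 = 1} = Nat.card {u : G // orderOf u = 2} + 1 := by
      have h1 : ∀ x : G, x ^ 8 = 1 ↔ x = 1 ∨ orderOf x = 2 := by
        intro x
        constructor
        · intro hx
          by_cases h0 : x = 1
          · exact Or.inl h0
          refine Or.inr (orderOf_eq_prime ?_ h0)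
          obtain ⟨Q, hQ⟩ := (IsPGroup.exists_le_sylow (p := 2) (P := zpowers x) (by
            obtain ⟨i, -, hi⟩ := (Nat.dvd_prime_pow Nat.prime_two (m := 3)).mp (orderOf_dvd_of_pow_eq_one hx)
            exact IsPGroup.of_card (n := i) (by rw [Nat.card_zpowers, hi])))
          rw [pow_two]; exact hexp Q x (hQ (mem_zpowers x))
        · rintro (rfl | h)
          · simp
          · rw [show 8 = 2 * 4 from rfl, pow_mul, ← h, pow_orderOf_eq_one, one_pow]
      rw [← card_orderOf_eq_one (G := G), add_comm]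
      have e2 : {x : G | x ^ 8 = 1} = {x : G | orderOf x = 1} ∪ {x : G | orderOf x = 2} := by
        ext x; simp [h1]
      have e3 := Set.ncard_union_eq (s := {x : G | orderOf x = 1}) (t := {x : G | orderOf x = 2})
        (by rw [Set.disjoint_left]; intro x h h'; simp only [Set.mem_ofPred_eq] at h h'; omega)
      rw [← e2] at e3
      rw [← Nat.card_coe_set_eq, ← Nat.card_coe_set_eq, ← Nat.card_coe_set_eq] at e3
      exact e3
    rw [e] at h
    have hkd : k ∈ divs := mem_divs (hk21.trans (by norm_num))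
    have key : ∀ j ∈ divs, 21945 % j = 0 → (21945 / j + 1) % 8 = 0 → j % 8 = 7 := by decide +kernel
    refine key k hkd (Nat.mod_eq_zero_of_dvd hk21) ?_
    have hk0 : 0 < k := Nat.pos_of_ne_zero fun h => by simp [h] at hI
    have : 21945 / k = Nat.card {u : G // orderOf u = 2} :=
      Nat.div_eq_of_eq_mul_left hk0 (by rw [mul_comm 8 k, ← mul_assoc] at hI; omega)
    rw [this]; exact Nat.mod_eq_zero_of_dvd h
  have hiff : ∀ x ∈ T, (k % x.p = 0 ↔ x.c % 2 = 0) := by
    intro x hx
    obtain ⟨hp, -, hxn, hxm, hP⟩ := hT x hx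
    haveI := Fact.mk hp
    have hp2 : x.p ≠ 2 := fun h => by
      apply hxm
      rw [hn, h] at hxn
      rw [h]
      omega
    constructor
    · intro h
      obtain ⟨⟨a, haC⟩, ha⟩ := exists_prime_orderOf_dvd_card' (G := C) x.p
        (by rw [hk]; exact (Nat.dvd_of_mod_eq_zero h).mul_left _)
      rw [orderOf_mk] at ha
      obtain ⟨P, hPa⟩ := exists_sylow_of_orderOf (fun P => (hP P).1) ha
      have htP : t ∈ centralizer ((P : Subgroup G) : Set G) := by
        rw [hPa, mem_centralizer_iff]
        rintro _ ⟨i, rfl⟩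
        exact (Commute.zpow_left (show Commute a t from mem_centralizer_singleton_iff.mp haC) i).eq
      have h2 := Subgroup.orderOf_dvd_natCard _ htP
      rw [ht, (hP P).2.1] at h2
      exact Nat.mod_eq_zero_of_dvd ((Nat.prime_two.dvd_mul.mp h2).resolve_left fun h =>
        hp2 ((Nat.prime_dvd_prime_iff_eq Nat.prime_two hp).mp h).symm)
    · intro h
      obtain ⟨P⟩ := (inferInstance : Nonempty (Sylow x.p G))
      obtain ⟨⟨u, huC⟩, hu⟩ := exists_prime_orderOf_dvd_card'
        (G := centralizer ((P : Subgroup G) : Set G)) 2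
        (by rw [(hP P).2.1]; exact (Nat.dvd_of_mod_eq_zero h).mul_left _)
      rw [orderOf_mk] at hu
      obtain ⟨g, hg⟩ := isConj_iff.mp (hall u hu).symm
      obtain ⟨⟨a, haP⟩, ha⟩ := exists_prime_orderOf_dvd_card' (G := (P : Subgroup G)) x.p (by rw [(hP P).1])
      rw [orderOf_mk] at ha
      have hmem : g * a * g⁻¹ ∈ C := by
        rw [hC, mem_centralizer_singleton_iff, ← hg]
        have h1 : a * u = u * a := mem_centralizer_iff.mp huC a haP
        calc g * a * g⁻¹ * (g * u * g⁻¹) = g * (a * u) * g⁻¹ := by group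
          _ = g * (u * a) * g⁻¹ := by rw [h1]
          _ = g * u * g⁻¹ * (g * a * g⁻¹) := by group
      have h2 := Subgroup.orderOf_dvd_natCard _ hmem
      rw [← MulAut.conj_apply, MulEquiv.orderOf_eq, ha, hk] at h2
      exact Nat.mod_eq_zero_of_dvd ((hp.dvd_mul.mp h2).resolve_left fun h =>
        hp2 ((Nat.prime_dvd_prime_iff_eq hp Nat.prime_two).mp (hp.dvd_of_dvd_pow (n := 3) h)))
  simp only [good, Bool.and_eq_true, List.all_eq_true, Bool.or_eq_true, decide_eq_true_eq,
    Bool.not_eq_true', List.any_eq_true] at hg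
  obtain ⟨-, hgood⟩ := hg
  obtain ⟨rfl, z, hz, ⟨hz5, hzc⟩, hze⟩ : k = 15 ∧ ∃ z ∈ T, (z.p = 5 ∧ z.c = 6) ∧ z.e = 2 := by
    rcases hgood k (mem_divs (hk21.trans (by norm_num))) with ((h | h) | h) | h
    · exact absurd hk8 h
    · exact absurd (Nat.mod_eq_zero_of_dvd hk21) h
    · rw [List.all_eq_false] at h
      obtain ⟨x, hx, hxf⟩ := h
      exact absurd (decide_eq_true (hiff x hx)) hxf
    · exact h
  obtain ⟨p, d, e, c⟩ := z
  dsimp only at hz5 hzc hze
  subst hz5 hzc hze
  obtain ⟨-, -, -, -, hP5⟩ := hT _ hz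
  dsimp only at hP5
  haveI : Fact (Nat.Prime 5) := ⟨by norm_num⟩
  refine ⟨t, htc, ?_⟩
  -- the quotient by `⟨t⟩`
  have htC : t ∈ C := mem_centralizer_singleton_iff.mpr rfl
  set tt : C := ⟨t, htC⟩ with htt
  have htt2 : orderOf tt = 2 := by rw [htt, orderOf_mk, ht]
  have httc : ∀ x : C, x * tt = tt * x := fun x => Subtype.ext (mem_centralizer_singleton_iff.mp x.2)
  set Z := zpowers tt with hZ
  haveI : Z.Normal := ⟨fun a ha g => by
    obtain ⟨i, rfl⟩ := ha
    rw [(Commute.zpow_right (httc g) i).eq, mul_inv_cancel_right]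
    exact ⟨i, rfl⟩⟩
  have hQ : Nat.card (C ⧸ Z) = 60 := by
    have h := card_eq_card_quotient_mul_card_subgroup Z
    rw [hk, Nat.card_zpowers, htt2] at h
    omega
  have h6 : Nat.card (Sylow 5 (C ⧸ Z)) = 6 := by
    set Q5 := C ⧸ Z
    have hm := card_sylow_modEq_one 5 Q5
    obtain ⟨R⟩ := (inferInstance : Nonempty (Sylow 5 Q5))
    have hR : Nat.card R = 5 := by
      simpa using CfsgLib.Small.card_sylow_of_card_eq (k := 1) (m := 12) (by rw [hQ]; norm_num) (by norm_num) R
    have hd : Nat.card (Sylow 5 Q5) ∣ 12 := by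
      have h3 := card_mul_index (R : Subgroup Q5)
      rw [hR, hQ] at h3
      have h4 : (R : Subgroup Q5).index = 12 := by omega
      exact h4 ▸ R.card_dvd_index
    have hne : Nat.card (Sylow 5 Q5) ≠ 1 := by
      intro h1
      haveI : Subsingleton (Sylow 5 Q5) := (Nat.card_eq_one_iff_unique.mp h1).1
      haveI : (R : Subgroup Q5).Normal := R.normal_of_subsingleton
      set D := (R : Subgroup Q5).comap (QuotientGroup.mk' Z) with hD
      have hDc : Nat.card D = 10 := by
        have h2 := card_mul_index D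
        have h3 := card_mul_index (R : Subgroup Q5)
        rw [hR, hQ] at h3
        have h4 : D.index = 12 := by
          rw [hD, index_comap_of_surjective _ (QuotientGroup.mk'_surjective Z)]; omega
        rw [h4, hk] at h2
        omega
      obtain ⟨W⟩ := (inferInstance : Nonempty (Sylow 5 D))
      have hW : Nat.card W = 5 := by
        simpa using CfsgLib.Small.card_sylow_of_card_eq (k := 1) (m := 2) (by rw [hDc]; norm_num) (by norm_num) W
      have hW1 : Nat.card (Sylow 5 D) = 1 := by
        have h2 := card_sylow_modEq_one 5 D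
        have h3 : Nat.card (Sylow 5 D) ∣ 2 := by
          have h4 := card_mul_index (W : Subgroup D)
          rw [hW, hDc] at h4
          have h5 : (W : Subgroup D).index = 2 := by omega
          exact h5 ▸ W.card_dvd_index
        have h6 := Nat.le_of_dvd (by norm_num) h3
        rw [Nat.ModEq] at h2
        omega
      haveI : Subsingleton (Sylow 5 D) := (Nat.card_eq_one_iff_unique.mp hW1).1
      haveI hWchar : (W : Subgroup D).Characteristic := W.characteristic_of_subsingleton
      set Wc := (W : Subgroup D).map D.subtype with hWc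
      haveI : Wc.Normal := ConjAct.normal_of_characteristic_of_normal
      obtain ⟨P, hPW⟩ := (W.isPGroup'.map D.subtype |>.map C.subtype).exists_le_sylow
      have e5 : Wc.map C.subtype = P := eq_of_le_of_card_ge hPW (by
        rw [(hP5 P).1, ← Nat.card_congr (Wc.equivMapOfInjective _ C.subtype_injective).toEquiv,
          hWc, ← Nat.card_congr ((W : Subgroup D).equivMapOfInjective _ D.subtype_injective).toEquiv, hW])
      have hle : C ≤ normalizer ((P : Subgroup G) : Set G) := by
        rw [← e5]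
        intro g hg
        exact le_normalizer_map (H := Wc) C.subtype (mem_map_of_mem C.subtype
          (show (⟨g, hg⟩ : C) ∈ normalizer (Wc : Set C) by rw [normalizer_eq_top]; trivial))
      have h7 := card_dvd_of_le hle
      rw [hk, (hP5 P).2.2] at h7
      norm_num at h7
    have hle12 := Nat.le_of_dvd (by norm_num) hd
    rw [Nat.ModEq] at hm
    interval_cases h : Nat.card (Sylow 5 Q5) <;> simp_all
  haveI hsimp : IsSimpleGroup (C ⧸ Z) := CfsgLib.Recognition.OrderSixty.isSimpleGroup_of_card_sylow hQ h6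
  obtain ⟨eA⟩ := CfsgLib.Small.nonempty_mulEquiv_alternating_five hQ
  -- transfer to the Sylow subgroup
  let SC : Subgroup C := (S : Subgroup G).subgroupOf C
  letI : CommGroup SC :=
    { (inferInstance : Group SC) with
      mul_comm := fun a b => Subtype.ext (Subtype.ext (hcomm S _ a.2 _ b.2)) }
  let φ : C →* SC := MonoidHom.transfer (MonoidHom.id SC)
  have hSCi : SC.index = 15 := by
    have h := card_mul_index SC
    rw [Nat.card_congr (subgroupOfEquivOfLe hSC).toEquiv, hk,
      show Nat.card (S : Subgroup G) = 8 from h8 S] at h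
    omega
  have hφ : φ tt = ⟨tt, htS⟩ := by
    have key : ∀ (j : ℕ) (g₀ : C), g₀⁻¹ * tt ^ j * g₀ ∈ SC → g₀⁻¹ * tt ^ j * g₀ = tt ^ j := by
      intro j g₀ _
      rw [mul_assoc, ← (Commute.pow_right (httc g₀) j).eq, inv_mul_cancel_left]
    show MonoidHom.transfer (MonoidHom.id SC) tt = _
    rw [MonoidHom.transfer_eq_pow (MonoidHom.id SC) tt key]
    apply Subtype.ext
    show tt ^ SC.index = tt
    rw [hSCi, ← pow_mod_orderOf, htt2, pow_one]
  let ψ : C →* SC × (C ⧸ Z) := φ.prod (QuotientGroup.mk' Z)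
  have hker : φ.ker.map (QuotientGroup.mk' Z) = ⊤ := by
    haveI := (MonoidHom.normal_ker φ).map (QuotientGroup.mk' Z) (QuotientGroup.mk'_surjective Z)
    refine (Subgroup.Normal.eq_bot_or_eq_top inferInstance).resolve_left fun h => ?_
    rw [Subgroup.map_eq_bot_iff, QuotientGroup.ker_mk'] at h
    have h1 := card_dvd_of_le h
    have h2 := card_mul_index φ.ker
    rw [index_ker] at h2
    have h3 := card_subgroup_dvd_card φ.range
    rw [Nat.card_zpowers, htt2] at h1
    rw [Nat.card_congr (subgroupOfEquivOfLe hSC).toEquiv,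
      show Nat.card (S : Subgroup G) = 8 from h8 S] at h3
    have h1' := Nat.le_of_dvd (by norm_num) h1
    have h3' := Nat.le_of_dvd (by norm_num) h3
    have := Nat.mul_le_mul h1' h3'
    rw [h2, hk] at this
    omega
  set K := φ.ker
  have hdis : K ⊓ Z = ⊥ := by
    rw [eq_bot_iff]
    rintro a ⟨ha, i, rfl⟩
    have ha' : φ (tt ^ i) = 1 := ha
    rw [map_zpow, hφ] at ha'
    exact congrArg Subtype.val ha'
  let π : K →* C ⧸ Z := (QuotientGroup.mk' Z).comp K.subtype
  have hπ : Function.Bijective π := by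
    constructor
    · rw [← MonoidHom.ker_eq_bot_iff, eq_bot_iff]
      rintro ⟨a, ha⟩ h
      have : a ∈ K ⊓ Z := ⟨ha, (QuotientGroup.eq_one_iff a).mp h⟩
      rw [hdis] at this
      exact Subtype.ext this
    · intro q
      have h : q ∈ K.map (QuotientGroup.mk' Z) := hker ▸ mem_top q
      obtain ⟨a, ha, rfl⟩ := h
      exact ⟨⟨a, ha⟩, rfl⟩
  let eK : K ≃* alternatingGroup (Fin 5) := (MulEquiv.ofBijective π hπ).trans eA
  haveI : IsCyclic Z := by rw [hZ]; infer_instance
  let eZ : Z ≃* Multiplicative (ZMod 2) := mulEquivOfCyclicCardEq (by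
    rw [Nat.card_zpowers, htt2, Nat.card_congr Multiplicative.toAdd, Nat.card_zmod])
  let μ : Z × K →* C :=
    { toFun := fun x => (x.1 : C) * (x.2 : C)
      map_one' := by simp
      map_mul' := fun x y => by
        obtain ⟨i, hi⟩ := y.1.2
        have h : (x.2 : C) * (y.1 : C) = (y.1 : C) * (x.2 : C) := by
          rw [← hi]; exact (Commute.zpow_right (httc _) i).eq
        simp only [Prod.fst_mul, Prod.snd_mul, Subgroup.coe_mul, mul_assoc]
        rw [← mul_assoc (x.2 : C), h, mul_assoc] }
  have hμ : Function.Bijective μ := by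
    refine (Nat.bijective_iff_injective_and_card μ).mpr ⟨?_, ?_⟩
    · rw [← MonoidHom.ker_eq_bot_iff, eq_bot_iff]
      rintro ⟨a, b⟩ h
      have h' : (a : C) * (b : C) = 1 := h
      have hb : (b : C) ∈ K ⊓ Z := ⟨b.2, by rw [eq_inv_of_mul_eq_one_right h']; exact Z.inv_mem a.2⟩
      rw [hdis, mem_bot] at hb
      have ha : (a : C) = 1 := by simpa [hb] using h'
      exact Prod.ext (Subtype.ext ha) (Subtype.ext hb)
    · rw [Nat.card_prod, Nat.card_zpowers, htt2, hk, Nat.card_congr (MulEquiv.ofBijective π hπ).toEquiv, hQ]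
  exact ⟨(MulEquiv.ofBijective μ hμ).symm.trans (eZ.prodCongr eK)⟩

end CfsgLib.Small.JankoOrder
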