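import Cfsg.Agent.Lib.Small.Order168
import Cfsg.Agent.S1012

/-!
Klein four-subgroups and their normalisers in a simple group of order 168.
-/

set_option autoImplicit false

namespace CfsgLib.Small.Order168

open Subgroup CfsgLib.Small

theorem dihedral_four_klein_sets : ∀ a b : DihedralGroup 4, a * a = 1 → b * b = 1 → a * b = b * a →
    ((a ∈ ([1, .r 2, .sr 0, .sr 2] : List (DihedralGroup 4)) ∧
      b ∈ ([1, .r 2, .sr 0, .sr 2] : List (DihedralGroup 4))) ∨
    (a ∈ ([1, .r 2, .sr 1, .sr 3] : List (DihedralGroup 4)) ∧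
      b ∈ ([1, .r 2, .sr 1, .sr 3] : List (DihedralGroup 4)))) := by decide +kernel

/-- The first Klein four-subgroup of the dihedral group of order 8. -/
def kleinA : Subgroup (DihedralGroup 4) where
  carrier := {d | d ∈ ([1, .r 2, .sr 0, .sr 2] : List (DihedralGroup 4))}
  one_mem' := by decide
  mul_mem' := fun {a b} ha hb => (show ∀ a b : DihedralGroup 4,
    a ∈ ([1, .r 2, .sr 0, .sr 2] : List (DihedralGroup 4)) →
    b ∈ ([1, .r 2, .sr 0, .sr 2] : List (DihedralGroup 4)) →
    a * b ∈ ([1, .r 2, .sr 0, .sr 2] : List (DihedralGroup 4)) from by decide +kernel) a b ha hb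
  inv_mem' := fun {a} ha => (show ∀ a : DihedralGroup 4,
    a ∈ ([1, .r 2, .sr 0, .sr 2] : List (DihedralGroup 4)) →
    a⁻¹ ∈ ([1, .r 2, .sr 0, .sr 2] : List (DihedralGroup 4)) from by decide +kernel) a ha

/-- The second Klein four-subgroup of the dihedral group of order 8. -/
def kleinB : Subgroup (DihedralGroup 4) where
  carrier := {d | d ∈ ([1, .r 2, .sr 1, .sr 3] : List (DihedralGroup 4))}
  one_mem' := by decide
  mul_mem' := fun {a b} ha hb => (show ∀ a b : DihedralGroup 4,
    a ∈ ([1, .r 2, .sr 1, .sr 3] : List (DihedralGroup 4)) →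
    b ∈ ([1, .r 2, .sr 1, .sr 3] : List (DihedralGroup 4)) →
    a * b ∈ ([1, .r 2, .sr 1, .sr 3] : List (DihedralGroup 4)) from by decide +kernel) a b ha hb
  inv_mem' := fun {a} ha => (show ∀ a : DihedralGroup 4,
    a ∈ ([1, .r 2, .sr 1, .sr 3] : List (DihedralGroup 4)) →
    a⁻¹ ∈ ([1, .r 2, .sr 1, .sr 3] : List (DihedralGroup 4)) from by decide +kernel) a ha

theorem mem_kleinA {d : DihedralGroup 4} :
    d ∈ kleinA ↔ d ∈ ([1, .r 2, .sr 0, .sr 2] : List (DihedralGroup 4)) := Iff.rfl

theorem mem_kleinB {d : DihedralGroup 4} :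
    d ∈ kleinB ↔ d ∈ ([1, .r 2, .sr 1, .sr 3] : List (DihedralGroup 4)) := Iff.rfl

theorem card_kleinA : Nat.card kleinA = 4 := by
  rw [Nat.card_congr (Equiv.subtypeEquivRight fun d => mem_kleinA), Nat.card_eq_fintype_card]
  decide +kernel

theorem card_kleinB : Nat.card kleinB = 4 := by
  rw [Nat.card_congr (Equiv.subtypeEquivRight fun d => mem_kleinB), Nat.card_eq_fintype_card]
  decide +kernel

theorem kleinA_ne_kleinB : kleinA ≠ kleinB := by
  intro h
  have h1 : (DihedralGroup.sr 0 : DihedralGroup 4) ∈ kleinA := mem_kleinA.mpr (by decide)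
  rw [h, mem_kleinB] at h1
  exact absurd h1 (by decide)

theorem isKleinFour_of {H : Subgroup (DihedralGroup 4)} (hc : Nat.card H = 4)
    (h2 : ∀ d ∈ H, d * d = 1) : IsKleinFour H := by
  have : Nontrivial H := Finite.one_lt_card_iff_nontrivial.mp (by omega)
  refine ⟨hc, Monoid.exponent_eq_prime_iff Nat.prime_two |>.mpr fun x hx => ?_⟩
  exact orderOf_eq_prime (by rw [pow_two]; exact Subtype.ext (h2 x x.2)) hx

theorem eq_kleinA_or_kleinB {H : Subgroup (DihedralGroup 4)} (hH : IsKleinFour H) :
    H = kleinA ∨ H = kleinB := by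
  have hsq : ∀ d ∈ H, d * d = 1 := fun d hd => by
    have := congrArg Subtype.val (Monoid.pow_exponent_eq_one (⟨d, hd⟩ : H))
    rw [hH.exponent_two, pow_two] at this
    exact this
  have hcomm : ∀ a ∈ H, ∀ b ∈ H, a * b = b * a := fun a ha b hb =>
    congrArg Subtype.val
      ((IsKleinFour.isMulCommutative (G := H)).is_comm.comm ⟨a, ha⟩ ⟨b, hb⟩)
  by_cases hA : H ≤ kleinA
  · exact Or.inl (eq_of_le_of_card_ge hA (by rw [card_kleinA, hH.card_four]))
  · right
    obtain ⟨a, ha, ha'⟩ := SetLike.not_le_iff_exists.mp hA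
    refine eq_of_le_of_card_ge (fun b hb => ?_) (by rw [card_kleinB, hH.card_four])
    rcases dihedral_four_klein_sets a b (hsq a ha) (hsq b hb) (hcomm a ha b hb) with h | h
    · exact absurd (mem_kleinA.mpr h.1) ha'
    · exact mem_kleinB.mpr h.2

variable {G : Type*} [Group G] [Finite G] [IsSimpleGroup G] [Fact (Nat.Prime 2)]

omit [Finite G] [IsSimpleGroup G] [Fact (Nat.Prime 2)] in
theorem isKleinFour_map {A B : Type*} [Group A] [Group B] (e : A ≃* B) (H : Subgroup A)
    (hH : IsKleinFour H) : IsKleinFour (H.map e.toMonoidHom) := by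
  let e' : H ≃* H.map e.toMonoidHom := H.equivMapOfInjective _ e.injective
  exact ⟨by rw [← Nat.card_congr e'.toEquiv, hH.card_four],
    by rw [← Monoid.exponent_eq_of_mulEquiv e', hH.exponent_two]⟩

/-- The two Klein four-subgroups of a Sylow 2-subgroup. -/
theorem exists_two_klein (h : Nat.card G = 168) (T : Sylow 2 G) :
    ∃ U W : Subgroup G, U ≠ W ∧ U ≤ (T : Subgroup G) ∧ W ≤ (T : Subgroup G) ∧
      IsKleinFour U ∧ IsKleinFour W ∧
      ∀ V : Subgroup G, V ≤ (T : Subgroup G) → IsKleinFour V → V = U ∨ V = W := by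
  obtain ⟨e⟩ := dihedral h T
  let F : Subgroup (DihedralGroup 4) → Subgroup G := fun H =>
    (H.map e.symm.toMonoidHom).map (T : Subgroup G).subtype
  have hinj : Function.Injective F :=
    (Subgroup.map_injective (T : Subgroup G).subtype_injective).comp
      (Subgroup.map_injective e.symm.injective)
  have hkl : ∀ H : Subgroup (DihedralGroup 4), IsKleinFour H → IsKleinFour (F H) := by
    intro H hH
    have h1 := isKleinFour_map e.symm H hH
    let e' := (H.map e.symm.toMonoidHom).equivMapOfInjective _ (T : Subgroup G).subtype_injective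
    exact ⟨by rw [← Nat.card_congr e'.toEquiv, h1.card_four],
      by rw [← Monoid.exponent_eq_of_mulEquiv e', h1.exponent_two]⟩
  have hA : IsKleinFour kleinA := isKleinFour_of card_kleinA fun d hd =>
    (show ∀ d : DihedralGroup 4, d ∈ ([1, .r 2, .sr 0, .sr 2] : List (DihedralGroup 4)) →
      d * d = 1 from by decide +kernel) d (mem_kleinA.mp hd)
  have hB : IsKleinFour kleinB := isKleinFour_of card_kleinB fun d hd =>
    (show ∀ d : DihedralGroup 4, d ∈ ([1, .r 2, .sr 1, .sr 3] : List (DihedralGroup 4)) →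
      d * d = 1 from by decide +kernel) d (mem_kleinB.mp hd)
  refine ⟨F kleinA, F kleinB, fun he => kleinA_ne_kleinB (hinj he), map_subtype_le _,
    map_subtype_le _, hkl _ hA, hkl _ hB, fun V hV hK => ?_⟩
  have hV' : IsKleinFour ((V.subgroupOf (T : Subgroup G)).map e.toMonoidHom) := by
    refine isKleinFour_map e _ ?_
    exact ⟨by rw [Nat.card_congr (subgroupOfEquivOfLe hV).toEquiv, hK.card_four],
      by rw [Monoid.exponent_eq_of_mulEquiv (subgroupOfEquivOfLe hV), hK.exponent_two]⟩
  have hF : F ((V.subgroupOf (T : Subgroup G)).map e.toMonoidHom) = V := by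
    show (((V.subgroupOf (T : Subgroup G)).map e.toMonoidHom).map e.symm.toMonoidHom).map
      (T : Subgroup G).subtype = V
    rw [Subgroup.map_map _ e.symm.toMonoidHom e.toMonoidHom,
      show e.symm.toMonoidHom.comp e.toMonoidHom = MonoidHom.id _ from
      MonoidHom.ext fun x => e.symm_apply_apply x, Subgroup.map_id,
      Subgroup.map_subgroupOf_eq_of_le hV]
  rcases eq_kleinA_or_kleinB hV' with h1 | h1
  · exact Or.inl (by rw [← hF, h1])
  · exact Or.inr (by rw [← hF, h1])

omit [Finite G] [IsSimpleGroup G] in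
theorem exists_sylow_of_klein {U : Subgroup G} (hU : IsKleinFour U) :
    ∃ T : Sylow 2 G, U ≤ (T : Subgroup G) :=
  (IsPGroup.of_card (n := 2) (by rw [hU.card_four]; norm_num)).exists_le_sylow

omit [Finite G] [IsSimpleGroup G] [Fact (Nat.Prime 2)] in
theorem le_normalizer_of_relIndex_two {U T : Subgroup G} (hle : U ≤ T) (h2 : U.relIndex T = 2) :
    T ≤ normalizer (U : Set G) :=
  (normal_subgroupOf_iff_le_normalizer hle).mp (normal_of_index_eq_two h2)

omit [IsSimpleGroup G] in
theorem le_normalizer_klein (h : Nat.card G = 168) {U : Subgroup G} (hU : IsKleinFour U)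
    {T : Sylow 2 G} (hUT : U ≤ (T : Subgroup G)) : (T : Subgroup G) ≤ normalizer (U : Set G) := by
  refine le_normalizer_of_relIndex_two hUT ?_
  have := card_mul_index (U.subgroupOf (T : Subgroup G))
  rw [Nat.card_congr (subgroupOfEquivOfLe hUT).toEquiv, hU.card_four, card_two h T] at this
  show (U.subgroupOf (T : Subgroup G)).index = 2
  omega

/-- The normaliser of a Klein four-subgroup has order 24. -/
theorem card_normalizer_klein (h : Nat.card G = 168) {U : Subgroup G} (hU : IsKleinFour U) :
    Nat.card (normalizer (U : Set G)) = 24 := by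
  obtain ⟨T, hUT⟩ := exists_sylow_of_klein hU
  have hTN := le_normalizer_klein h hU hUT
  have hcomm : ∀ a ∈ U, ∀ b ∈ U, a * b = b * a := fun a ha b hb =>
    congrArg Subtype.val ((IsKleinFour.isMulCommutative (G := U)).is_comm.comm ⟨a, ha⟩ ⟨b, hb⟩)
  have hbot : U ≠ ⊥ := fun e => by
    have := hU.card_four; rw [e, card_bot] at this; omega
  have htop : U ≠ ⊤ := fun e => by
    have := hU.card_four; rw [e, card_top, h] at this; omega
  -- an element of `U` which is not central in `T`
  obtain ⟨a, haU, ha1, hanc⟩ : ∃ a ∈ U, a ≠ 1 ∧ ∃ t ∈ (T : Subgroup G), t * a ≠ a * t := by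
    by_contra hcon
    push Not at hcon
    have hcen : ∀ a ∈ U, ∀ t ∈ (T : Subgroup G), t * a = a * t := fun a ha t ht => by
      by_cases ha1 : a = 1
      · rw [ha1, one_mul, mul_one]
      · exact hcon a ha ha1 t ht
    obtain ⟨e⟩ := dihedral h T
    have key : ∀ u : U, e ⟨u, hUT u.2⟩ = 1 ∨ e ⟨u, hUT u.2⟩ = DihedralGroup.r 2 := by
      intro u
      refine (show ∀ d : DihedralGroup 4, (∀ c, c * d = d * c) → d = 1 ∨ d = .r 2 from by
        decide +kernel) _ fun c => ?_
      obtain ⟨⟨t, ht⟩, rfl⟩ := e.surjective c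
      rw [← map_mul, ← map_mul]
      exact congrArg e (Subtype.ext (hcen u u.2 t ht))
    let f : U → Fin 2 := fun u => if e ⟨u, hUT u.2⟩ = 1 then 0 else 1
    have hf : Function.Injective f := by
      intro u v huv
      have : e ⟨u, hUT u.2⟩ = e ⟨v, hUT v.2⟩ := by
        have h01 : (DihedralGroup.r 2 : DihedralGroup 4) ≠ 1 := by decide
        rcases key u with hu | hu <;> rcases key v with hv | hv <;>
          simp only [f, hu, hv, if_true, if_false, h01] at huv ⊢ <;>
          exact absurd huv (by decide)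
      exact Subtype.ext (congrArg (fun x : (T : Subgroup G) => (x : G)) (e.injective this) :)
    have := Nat.card_le_card_of_injective f hf
    rw [hU.card_four, Nat.card_fin] at this
    omega
  obtain ⟨t, ht, htne⟩ := hanc
  have hao : orderOf a = 2 := by
    refine orderOf_eq_prime ?_ ha1
    have := congrArg Subtype.val (Monoid.pow_exponent_eq_one (⟨a, haU⟩ : U))
    rw [hU.exponent_two] at this
    exact this
  obtain ⟨T', hT', -⟩ := exists_sylow_eq_centralizer h hao
  have hUT' : U ≤ (T' : Subgroup G) := fun u hu => by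
    rw [← hT', mem_centralizer_singleton_iff]; exact hcomm u hu a haU
  have hne : T ≠ T' := by
    rintro rfl
    exact htne (mem_centralizer_singleton_iff.mp (hT' ▸ ht))
  have hT'N := le_normalizer_klein h hU hUT'
  have hN := normalizer_ne_top hbot htop
  have hd : Nat.card (normalizer (U : Set G)) ∈
      (Nat.divisors 168).filter fun d => 8 ∣ d :=
    Finset.mem_filter.mpr ⟨Nat.mem_divisors.mpr ⟨h ▸ card_subgroup_dvd_card _, by norm_num⟩,
      card_two h T ▸ card_dvd_of_le hTN⟩
  rw [show ((Nat.divisors 168).filter fun d => 8 ∣ d) = {8, 24, 56, 168} from by decide +kernel] at hd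
  simp only [Finset.mem_insert, Finset.mem_singleton] at hd
  rcases hd with hd | hd | hd | hd
  · exfalso
    refine hne (Sylow.ext ?_)
    rw [eq_of_le_of_card_ge hTN (by rw [hd, card_two h T]),
      eq_of_le_of_card_ge hT'N (by rw [hd, card_two h T'])]
  · exact hd
  · exfalso
    have h1 := two_mul_card_dvd_factorial_index (nc h) hN
    have h2 := card_mul_index (normalizer (U : Set G))
    rw [hd, h] at h2
    have : (normalizer (U : Set G)).index = 3 := by omega
    rw [this, h] at h1
    norm_num [Nat.factorial] at h1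
  · exact absurd (eq_top_of_card_eq _ (by rw [hd, h])) hN

theorem normalizer_klein_equiv (h : Nat.card G = 168) {U : Subgroup G} (hU : IsKleinFour U) :
    Nonempty (normalizer (U : Set G) ≃* Equiv.Perm (Fin 4)) := by
  refine Cfsg.Agent.S1012.result (card_normalizer_klein h hU) fun g hg => ?_
  have := orderOf_mem h (g : G)
  rw [Subgroup.orderOf_coe, hg] at this
  simp at this

omit [Finite G] [IsSimpleGroup G] [Fact (Nat.Prime 2)] in
theorem map_conj_normalizer (U : Subgroup G) (g : G) :
    (normalizer (U : Set G)).map (MulAut.conj g).toMonoidHom =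
      normalizer ((U.map (MulAut.conj g).toMonoidHom : Subgroup G) : Set G) :=
  map_equiv_normalizer_eq U (MulAut.conj g)

/-- Two Klein four-subgroups normal in the same subgroup of order 24 are equal. -/
theorem klein_eq_of_le_normalizer (h : Nat.card G = 168) {U W : Subgroup G} (hU : IsKleinFour U)
    (hW : IsKleinFour W) (hWN : W ≤ normalizer (U : Set G))
    (hNW : normalizer (U : Set G) ≤ normalizer (W : Set G)) : U = W := by
  obtain ⟨T0, hUT0⟩ := exists_sylow_of_klein hU
  have hTN := le_normalizer_klein h hU hUT0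
  set N := normalizer (U : Set G)
  let T : Sylow 2 N := T0.subtype hTN
  have hmem : ∀ V : Subgroup G, V ≤ N → N ≤ normalizer (V : Set G) → IsKleinFour V →
      V ≤ (T0 : Subgroup G) := by
    intro V hVN hNV hV
    have : (V.subgroupOf N).Normal := (normal_subgroupOf_iff_le_normalizer hVN).mpr hNV
    have hp : IsPGroup 2 (V.subgroupOf N) :=
      IsPGroup.of_card (n := 2) (by
        rw [Nat.card_congr (subgroupOfEquivOfLe hVN).toEquiv, hV.card_four]; norm_num)
    intro v hv
    have h1 : (⟨v, hVN hv⟩ : N) ∈ (T : Subgroup N) :=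
      hp.le_sylow_of_normal T (mem_subgroupOf.mpr hv)
    exact h1
  have hWT := hmem W hWN hNW hW
  by_contra hne
  -- the intersection is central of order 2 and normal in the normaliser
  have hcard : Nat.card ↥(U ⊓ W) ≠ 1 := by
    intro h1
    have hm := relIndex_mul_relIndex ⊥ (U ⊓ W) W bot_le inf_le_right
    rw [relIndex_bot_left, relIndex_bot_left, h1, one_mul, inf_relIndex_right, hW.card_four] at hm
    have h2 : U.relIndex W ∣ U.relIndex (T0 : Subgroup G) := by
      have : (U.subgroupOf (T0 : Subgroup G)).Normal :=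
        (normal_subgroupOf_iff_le_normalizer hUT0).mpr hTN
      have h3 := relIndex_dvd_index_of_normal (U.subgroupOf (T0 : Subgroup G))
        (W.subgroupOf (T0 : Subgroup G))
      rwa [relIndex_subgroupOf hWT] at h3
    have h4 : U.relIndex (T0 : Subgroup G) = 2 := by
      have := relIndex_mul_relIndex ⊥ U (T0 : Subgroup G) bot_le hUT0
      rw [relIndex_bot_left, relIndex_bot_left, hU.card_four, card_two h T0] at this
      omega
    rw [hm, h4] at h2
    norm_num at h2
  obtain ⟨⟨z, hz⟩, hz1⟩ : ∃ z : ↥(U ⊓ W), z ≠ 1 := by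
    have : Nontrivial ↥(U ⊓ W) := Finite.one_lt_card_iff_nontrivial.mp (by
      have := Nat.card_pos (α := ↥(U ⊓ W)); omega)
    exact exists_ne 1
  have hz1' : z ≠ 1 := fun e => hz1 (Subtype.ext e)
  have hord : Nat.card ↥(U ⊓ W) = 2 := by
    have hd : Nat.card ↥(U ⊓ W) ∈ Nat.divisors 4 :=
      Nat.mem_divisors.mpr ⟨hU.card_four ▸ card_dvd_of_le inf_le_left, by norm_num⟩
    rw [show Nat.divisors 4 = {1, 2, 4} from by decide +kernel] at hd
    simp only [Finset.mem_insert, Finset.mem_singleton] at hd
    rcases hd with e | e | e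
    · exact absurd e hcard
    · exact e
    · exfalso
      have h1 : U ⊓ W = U := eq_of_le_of_card_ge inf_le_left (by rw [e, hU.card_four])
      exact hne (eq_of_le_of_card_ge (h1 ▸ inf_le_right) (by rw [hU.card_four, hW.card_four]))
  have hz2 : orderOf z = 2 := by
    have h2 := orderOf_dvd_natCard (⟨z, hz⟩ : ↥(U ⊓ W))
    rw [Subgroup.orderOf_mk, hord] at h2
    exact ((Nat.dvd_prime Nat.prime_two).mp h2).resolve_left (by simpa using hz1')
  have hle : N ≤ centralizer ({z} : Set G) := by
    classical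
    intro g hg
    rw [mem_centralizer_singleton_iff]
    have h1 : g * z * g⁻¹ ∈ U ⊓ W :=
      Subgroup.mem_inf.mpr ⟨(mem_normalizer_iff.mp hg z).mp (Subgroup.mem_inf.mp hz).1,
        (mem_normalizer_iff.mp (hNW hg) z).mp (Subgroup.mem_inf.mp hz).2⟩
    rw [eq_zpowers_of_mem (hp := ⟨Nat.prime_two⟩) hord hz hz1',
      mem_zpowers_iff_mem_range_orderOf, hz2] at h1
    simp only [Finset.mem_image, Finset.mem_range] at h1
    obtain ⟨i, hi, hiz⟩ := h1
    interval_cases i
    · rw [pow_zero] at hiz; exact absurd (conj_eq_one_iff.mp hiz.symm) hz1'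
    · rw [pow_one] at hiz; exact (eq_mul_inv_iff_mul_eq.mp hiz).symm
  obtain ⟨S, hS, -⟩ := exists_sylow_eq_centralizer h hz2
  have := card_le_of_le hle
  rw [card_normalizer_klein h hU, hS, card_two h S] at this
  omega

theorem klein_conj_eq (h : Nat.card G = 168) {T : Sylow 2 G} {U W : Subgroup G}
    (hUT : U ≤ (T : Subgroup G)) (hWT : W ≤ (T : Subgroup G)) (hU : IsKleinFour U)
    (hW : IsKleinFour W) (g : G) (hg : U.map (MulAut.conj g).toMonoidHom = W) : U = W := by
  have hTU := le_normalizer_klein h hU hUT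
  have hTW := le_normalizer_klein h hW hWT
  have hgT : ((g • T : Sylow 2 G) : Subgroup G) ≤ normalizer (W : Set G) := by
    rw [← hg, ← map_conj_normalizer]
    exact map_mono hTU
  set N := normalizer (W : Set G)
  obtain ⟨n, hn⟩ := MulAction.exists_smul_eq N ((g • T).subtype hgT) (T.subtype hTW)
  have hn' : ((n : G) * g) • T = T := by
    apply Sylow.subtype_injective (hP := ?_) (hQ := hTW)
    · rw [← hn, Sylow.smul_subtype hgT n]
      congr 1
      rw [mul_smul]; rfl
    · rw [mul_smul]
      exact Sylow.smul_le hgT n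
  have h1 : ((n : G) * g) ∈ (T : Subgroup G) := by
    have h2 : ((n : G) * g) ∈ normalizer ((T : Subgroup G) : Set G) :=
      Sylow.smul_eq_iff_mem_normalizer.mp hn'
    rwa [normalizer_two h T] at h2
  have key : ∀ {A : Subgroup G} {x : G}, x ∈ normalizer (A : Set G) →
      A.map (MulAut.conj x).toMonoidHom = A := by
    intro A x hx
    ext y
    rw [Subgroup.mem_map]
    constructor
    · rintro ⟨a, ha, rfl⟩; exact (mem_normalizer_iff.mp hx a).mp ha
    · intro hy
      exact ⟨x⁻¹ * y * x, (mem_normalizer_iff''.mp hx y).mp hy, by simp [mul_assoc]⟩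
  have h3 := key (hTU h1)
  rw [map_mul, show (MulAut.conj (n : G) * MulAut.conj g).toMonoidHom =
      (MulAut.conj (n : G)).toMonoidHom.comp (MulAut.conj g).toMonoidHom from rfl,
    ← Subgroup.map_map, hg, key n.2] at h3
  exact h3.symm

end CfsgLib.Small.Order168
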