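import Cfsg.Agent.Lib.BrauerArtin.Main
import Cfsg.Agent.Lib.Small.Basic
import Cfsg.Agent.Lib.Characters.Burnside
import Cfsg.Agent.Lib.Blocks.ClassCount
import Cfsg.Agent.Lib.Blocks.WeakOrth
import Cfsg.Agent.Lib.BrauerReynolds.Half

/-!
The principal `p`-block of a simple group of order `p q^b g₀`, `g₀ < p - 1`, and a projection to
2-blocks of the column of a `p`-element.
-/

set_option autoImplicit false

noncomputable section

namespace CfsgLib.Small.BrauerTuan

open Cfsg CfsgLib.Characters CfsgLib.BrauerArtin CfsgLib.Blocks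
open scoped ComplexConjugate

universe u

variable {G : Type u} [Group G] [Fintype G] {p : ℕ} [hp : Fact p.Prime] {P : Sylow p G}
variable (h : Ctx p P) (B : Blk p P)

omit hp [Fintype G] in
/-- The degree at the identity. -/
theorem apply_one (χ : IrrCharacter G) : (χ : G → ℂ) 1 = (charDegree (χ : G → ℂ) : ℂ) :=
  (CfsgLib.Chars17.cast_irrDegree χ).symm

theorem dvd_part {χ : IrrCharacter G} {N : ℕ} (hG : Nat.card G = p * N)
    (hd : ¬ (p : ℤ) ∣ (charDegree (χ : G → ℂ) : ℤ)) : charDegree (χ : G → ℂ) ∣ N := by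
  have h1 := (CfsgLib.ClassCount.degree_eq χ).2.1
  rw [hG] at h1
  refine Nat.Coprime.dvd_of_dvd_mul_left ?_ h1
  exact (hp.out.coprime_iff_not_dvd.2 fun hd' => hd (Int.natCast_dvd_natCast.2 hd')).symm

include h in
/-- Degrees, given the shape of the order. -/
theorem degrees {q b g₀ : ℕ} (hq : q.Prime) (hG : Nat.card G = p * (q ^ b * g₀))
    (hg : g₀ < p - 1) (hqg : ¬ q ∣ g₀) :
    (∀ x ∈ B.X, q ∣ charDegree (x : G → ℂ)) ∧
      ∀ y ∈ B.Y, charDegree (y : G → ℂ) ∣ g₀ ∧ 1 < charDegree (y : G → ℂ) ∧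
        (q : ℤ) ∣ B.ε * (charDegree (y : G → ℂ) : ℤ) - 1 := by
  have hp2 := hp.out.two_le
  have hg0 : 0 < g₀ := Nat.pos_of_ne_zero fun e => hqg (e ▸ dvd_zero q)
  have hsmall : ∀ D : ℕ, D ∣ q ^ b * g₀ → ¬ q ∣ D → D ∣ g₀ := fun D hD hqD =>
    ((hq.coprime_iff_not_dvd.2 hqD).symm.pow_right b).dvd_of_dvd_mul_left hD
  have hne1 : ∀ χ : IrrCharacter G, χ ≠ principalIrr G → 1 < charDegree (χ : G → ℂ) := fun χ hχ => by
    have h0 := CfsgLib.Chars17.irrDegree_pos χ
    have : charDegree (χ : G → ℂ) ≠ 1 := fun e => hχ (h.eq_principal e)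
    omega
  have hX : ∀ x ∈ B.X, q ∣ charDegree (x : G → ℂ) := by
    intro x hx
    by_contra hqx
    have hmod := B.degX x hx
    have hx1 := hne1 x fun e => B.one_X (e ▸ hx)
    have hndp : ¬ (p : ℤ) ∣ (charDegree (x : G → ℂ) : ℤ) := fun hd => by
      have h1 := Int.dvd_sub hd hmod
      rw [sub_sub_cancel] at h1
      rcases B.hεX x hx with e | e <;> rw [e] at h1
      · have := Int.le_of_dvd one_pos h1; omega
      · have := Int.le_of_dvd one_pos (dvd_neg.1 h1); omega
    have hle := Nat.le_of_dvd hg0 (hsmall _ (dvd_part hG hndp) hqx)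
    rcases B.hεX x hx with e | e <;> rw [e] at hmod
    · have := Int.le_of_dvd (by omega) hmod; omega
    · have := Int.le_of_dvd (by omega) hmod; omega
  refine ⟨hX, fun y hy => ?_⟩
  have hy1 := hne1 y fun e => B.one_Y (e ▸ hy)
  have hq1 : (q : ℤ) ∣ B.ε * (charDegree (y : G → ℂ) : ℤ) - 1 := by
    rw [B.rel_one hy, add_sub_cancel_left]
    exact Finset.dvd_sum fun x hx => Dvd.dvd.mul_left (Int.natCast_dvd_natCast.2 (hX x hx)) _
  refine ⟨hsmall _ (dvd_part hG fun hd => ?_) fun hqy => ?_, hy1, hq1⟩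
  · have h1 := Int.dvd_sub hd (B.degY y hy)
    rw [sub_sub_cancel] at h1
    have h2 : (p : ℤ) ∣ (eN P : ℤ) := by
      rcases B.hε with e | e <;> rw [e] at h1
      · simpa using h1
      · simpa using h1
    obtain ⟨t, ht⟩ := h.eN_mul
    have h3 := Nat.le_of_dvd (by have := h.two_le_eN; omega) (Int.natCast_dvd_natCast.1 h2)
    have h4 : eN P ≤ p - 1 := Nat.le_of_dvd (by omega) ⟨t, ht.symm⟩
    omega
  · have h1 := Int.dvd_sub (Dvd.dvd.mul_left (Int.natCast_dvd_natCast.2 hqy) B.ε) hq1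
    rw [sub_sub_cancel] at h1
    have := Int.le_of_dvd one_pos h1
    have := hq.two_le
    omega

omit hp in
include B in
/-- The exceptional characters agree on `p`-regular elements. -/
theorem exc_eq {y y' : IrrCharacter G} (hy : y ∈ B.Y) (hy' : y' ∈ B.Y) {g : G}
    (hg : ¬ p ∣ orderOf g) : (y : G → ℂ) g = (y' : G → ℂ) g := by
  have h1 := B.rel y hy g hg
  rw [← B.rel y' hy' g hg] at h1
  exact mul_left_cancel₀ (by rcases B.hε with e | e <;> simp [e]) h1

include h B in
/-- If an exceptional character has degree below `p` the Sylow subgroup is self-centralising. -/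
theorem cP_eq [IsSimpleGroup G] (hsq : ¬ p ^ 2 ∣ Nat.card G) {y : IrrCharacter G} (hy : y ∈ B.Y)
    (hfaith : ∀ g : G, (y : G → ℂ) g = (y : G → ℂ) 1 → g = 1)
    (hlt : charDegree (y : G → ℂ) < p) : cP P = (P : Subgroup G) := by
  classical
  symm
  refine Subgroup.eq_of_le_of_card_ge h.P_le_cP ?_
  rw [show Nat.card (P : Subgroup G) = p from h.cardP]
  by_contra hgt
  push Not at hgt
  obtain ⟨m, hm⟩ : p ∣ Nat.card (cP P) := (dvd_of_eq h.cardP.symm).trans (Subgroup.card_dvd_of_le h.P_le_cP)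
  have hm1 : m ≠ 1 := fun e => by rw [hm, e, mul_one] at hgt; omega
  obtain ⟨r, hr, hrm⟩ := Nat.exists_prime_and_dvd hm1
  have hrp : r ≠ p := fun e => hsq (by
    rw [pow_two]
    exact (mul_dvd_mul_left p (e ▸ hrm)).trans (hm ▸ Subgroup.card_subgroup_dvd_card _))
  haveI : Fact r.Prime := ⟨hr⟩
  obtain ⟨z', hz'⟩ := exists_prime_orderOf_dvd_card' r (G := cP P) (hm ▸ hrm.mul_left p)
  set z : G := (z' : G) with hzdef
  have hzo : orderOf z = r := by rw [hzdef, Subgroup.orderOf_coe]; exact hz'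
  obtain ⟨u, hu, hu1⟩ := h.exists_u
  have huo := h.orderOf_of_mem hu hu1
  have hcomm : Commute u z := Subgroup.mem_centralizer_iff.1 z'.2 u hu
  set D := charDegree (y : G → ℂ) with hD
  obtain ⟨t, ht⟩ := h.eN_mul
  have htY : B.Y.card = t := Nat.eq_of_mul_eq_mul_left (by have := h.two_le_eN; omega)
    (B.card_Y.trans ht.symm)
  set χ : G → ℂ := fun g => ∑ y' ∈ B.Y, (y' : G → ℂ) g with hχ
  have hreg : ∀ g, ¬ p ∣ orderOf g → χ g = (t : ℂ) * (y : G → ℂ) g := fun g hg => by
    simp only [hχ]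
    rw [Finset.sum_congr rfl fun y' hy' => exc_eq B hy' hy hg, Finset.sum_const, htY, nsmul_eq_mul]
  have hzp : ∀ j : ℕ, ¬ p ∣ orderOf (z ^ j) := fun j hd => hrp.symm
    ((Nat.prime_dvd_prime_iff_eq hp.out hr).1 (hd.trans (hzo ▸ orderOf_pow_dvd j)))
  have hsing : ∀ i j : ℕ, ¬ p ∣ i → χ (u ^ i * z ^ j) = -(B.ε : ℂ) := fun i j hi =>
    B.sumY _ (Subgroup.pow_mem _ hu i) (fun e => hi (huo ▸ orderOf_dvd_of_pow_eq_one e)) _
      (Subgroup.pow_mem _ z'.2 j) (hzp j)
  have hnat : ∀ v : G, ∃ M : ℕ,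
      ∑ j ∈ Finset.range (orderOf v), χ (v ^ j) = (orderOf v : ℂ) * M := by
    intro v
    choose M hM using fun y' : IrrCharacter G =>
      CfsgLib.BrauerReynolds.sum_pow_nat (irr_isCharacter y') v
    refine ⟨∑ y' ∈ B.Y, M y', ?_⟩
    rw [Nat.cast_sum, Finset.mul_sum, Finset.sum_comm]
    exact Finset.sum_congr rfl fun y' _ => hM y'
  -- the sum over `⟨u⟩`
  have hA : (p : ℤ) ∣ (t : ℤ) * D + B.ε := by
    obtain ⟨M, hM⟩ := hnat u
    rw [huo, ← Finset.add_sum_erase _ _ (Finset.mem_range.2 hp.out.pos), pow_zero,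
      Finset.sum_congr rfl (g := fun _ => -(B.ε : ℂ)) fun i hi => ?_, Finset.sum_const,
      Finset.card_erase_of_mem (Finset.mem_range.2 hp.out.pos), Finset.card_range, nsmul_eq_mul,
      hreg 1 (by rw [orderOf_one]; exact hp.out.not_dvd_one), apply_one, ← hD,
      Nat.cast_sub hp.out.one_le, Nat.cast_one] at hM
    · refine ⟨(M : ℤ) + B.ε, ?_⟩
      have h2 : (((t : ℤ) * D + B.ε : ℤ) : ℂ) = (((p : ℤ) * ((M : ℤ) + B.ε) : ℤ) : ℂ) := by
        push_cast
        linear_combination hM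
      exact_mod_cast h2
    · obtain ⟨hi0, hip⟩ := Finset.mem_erase.1 hi
      have := hsing i 0 fun hd => by
        have := Nat.le_of_dvd (Nat.pos_of_ne_zero hi0) hd
        have := Finset.mem_range.1 hip
        omega
      rwa [pow_zero, mul_one] at this
  -- the sum over `⟨u z⟩`
  set z' := z ^ p with hz'def
  have hz'o : orderOf z' = r := by
    rw [hz'def, Nat.Coprime.orderOf_pow, hzo]
    rw [hzo]; exact (Nat.coprime_primes hr hp.out).2 hrp
  obtain ⟨m₀, hm₀⟩ := CfsgLib.BrauerReynolds.sum_pow_nat (irr_isCharacter y) z'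
  rw [hz'o] at hm₀
  have hB : (p : ℤ) ∣ (t : ℤ) * m₀ + B.ε := by
    obtain ⟨M, hM⟩ := hnat (u * z)
    have ho : orderOf (u * z) = p * r := by
      rw [hcomm.orderOf_mul_eq_mul_orderOf_of_coprime (by
        rw [huo, hzo]; exact (Nat.coprime_primes hp.out hr).2 hrp.symm), huo, hzo]
    have himg : (Finset.range (p * r)).filter (fun j => p ∣ j) =
        (Finset.range r).image (fun i => p * i) := by
      ext j
      simp only [Finset.mem_filter, Finset.mem_range, Finset.mem_image]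
      constructor
      · rintro ⟨hj, i, rfl⟩
        exact ⟨i, Nat.lt_of_mul_lt_mul_left hj, rfl⟩
      · rintro ⟨i, hi, rfl⟩
        exact ⟨Nat.mul_lt_mul_of_pos_left hi hp.out.pos, dvd_mul_right p i⟩
    have hinj : Set.InjOn (fun i => p * i) (Finset.range r : Set ℕ) :=
      fun a _ c _ e => Nat.eq_of_mul_eq_mul_left hp.out.pos e
    have h1 : ∑ j ∈ (Finset.range (p * r)).filter (fun j => p ∣ j), χ ((u * z) ^ j) =
        (t : ℂ) * ((r : ℂ) * m₀) := by
      rw [himg, Finset.sum_image hinj, ← hm₀, Finset.mul_sum]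
      refine Finset.sum_congr rfl fun i _ => ?_
      rw [hcomm.mul_pow, pow_mul u, ← huo, pow_orderOf_eq_one, one_pow, one_mul, hz'def, huo,
        ← pow_mul]
      exact hreg _ (hzp _)
    have hcard : ((Finset.range (p * r)).filter fun j => ¬ p ∣ j).card = p * r - r := by
      have h2 := Finset.card_filter_add_card_filter_not (s := Finset.range (p * r)) fun j => p ∣ j
      rw [himg, Finset.card_image_of_injOn hinj, Finset.card_range, Finset.card_range] at h2
      omega
    rw [ho, ← Finset.sum_filter_add_sum_filter_not _ (fun j => p ∣ j), h1,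
      Finset.sum_congr rfl (s₁ := (Finset.range (p * r)).filter fun j => ¬ p ∣ j)
        (g := fun _ => -(B.ε : ℂ)) fun j hj => by
          rw [hcomm.mul_pow]; exact hsing j j (Finset.mem_filter.1 hj).2,
      Finset.sum_const, hcard, nsmul_eq_mul, Nat.cast_sub (Nat.le_mul_of_pos_left r hp.out.pos),
      Nat.cast_mul] at hM
    refine ⟨(M : ℤ) + B.ε, ?_⟩
    have h2 : ((r : ℂ) * (((t : ℤ) * m₀ + B.ε : ℤ) : ℂ)) =
        (r : ℂ) * (((p : ℤ) * ((M : ℤ) + B.ε) : ℤ) : ℂ) := by
      push_cast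
      linear_combination hM
    exact_mod_cast mul_left_cancel₀ (Nat.cast_ne_zero.2 hr.pos.ne') h2
  -- so `z'` is in the kernel
  have hnorm : ∀ g, ‖(y : G → ℂ) g‖ ≤ (D : ℝ) := fun g => by
    have := norm_le_degree_of_isCharacter (irr_isCharacter y) g
    rwa [apply_one, Complex.norm_natCast] at this
  have hre : ∀ g, ((y : G → ℂ) g).re ≤ (D : ℝ) := fun g =>
    (Complex.re_le_norm _).trans (hnorm g)
  have hsum : (∑ i ∈ Finset.range r, ((y : G → ℂ) (z' ^ i)).re) = (r : ℝ) * m₀ := by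
    rw [← Complex.re_sum, hm₀]
    simp
  have hm₀D : m₀ ≤ D := by
    have h1 : (r : ℝ) * m₀ ≤ (r : ℝ) * D := by
      rw [← hsum]
      refine (Finset.sum_le_card_nsmul _ _ _ fun i _ => hre (z' ^ i)).trans (le_of_eq ?_)
      rw [Finset.card_range, nsmul_eq_mul]
    exact_mod_cast le_of_mul_le_mul_left h1 (Nat.cast_pos.2 hr.pos)
  have hpt : ¬ (p : ℤ) ∣ (t : ℤ) := fun hd => by
    have ht0 : 0 < t := Nat.pos_of_ne_zero fun e => by
      rw [e, mul_zero] at ht; have := hp.out.two_le; omega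
    have h1 := Nat.le_of_dvd ht0 (Int.natCast_dvd_natCast.1 hd)
    have h2 : t ≤ p - 1 := Nat.le_of_dvd (by have := hp.out.two_le; omega) (Dvd.intro_left _ ht)
    omega
  have hdd : (p : ℤ) ∣ (D : ℤ) - m₀ := by
    refine ((Nat.prime_iff_prime_int.1 hp.out).dvd_or_dvd (?_ :
      (p : ℤ) ∣ (t : ℤ) * ((D : ℤ) - m₀))).resolve_left hpt
    have := Int.dvd_sub hA hB
    rwa [show (t : ℤ) * D + B.ε - ((t : ℤ) * m₀ + B.ε) = (t : ℤ) * ((D : ℤ) - m₀) by ring] at this
  have hDm : m₀ = D := by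
    rcases Nat.eq_or_lt_of_le hm₀D with e | e
    · exact e
    · have := Int.le_of_dvd (by omega) hdd
      omega
  have hall : ∀ i ∈ Finset.range r, ((y : G → ℂ) (z' ^ i)).re = (D : ℝ) :=
    (Finset.sum_eq_sum_iff_of_le fun i _ => hre (z' ^ i)).1 (by
      rw [hsum, hDm, Finset.sum_const, Finset.card_range, nsmul_eq_mul])
  have h1 := hall 1 (Finset.mem_range.2 hr.one_lt)
  rw [pow_one] at h1
  have h2 : (y : G → ℂ) z' = (y : G → ℂ) 1 := by
    rw [apply_one, ← hD]
    have him : ((y : G → ℂ) z').im = 0 := by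
      have h3 := Complex.normSq_eq_norm_sq ((y : G → ℂ) z')
      rw [Complex.normSq_apply, h1] at h3
      have h4 := hnorm z'
      have h5 := norm_nonneg ((y : G → ℂ) z')
      have h6 : ((y : G → ℂ) z').im * ((y : G → ℂ) z').im ≤ 0 := by nlinarith
      exact mul_self_eq_zero.1 (le_antisymm h6 (mul_self_nonneg _))
    exact Complex.ext (by simpa using h1) (by simpa using him)
  rw [hfaith _ h2, orderOf_one] at hz'o
  exact hr.one_lt.ne hz'o

include h B in
/-- The elements of `X` in the 2-blocks with vanishing central character at an involution `s`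
central in a Sylow 2-subgroup. -/
theorem projection (hC : cP P = (P : Subgroup G)) (hodd : p ≠ 2) {b g₀ : ℕ}
    (hG : Nat.card G = 2 ^ b * (p * g₀)) (hmg : ¬ 2 ∣ p * g₀)
    (hX : ∀ x ∈ B.X, 2 ∣ charDegree (x : G → ℂ)) {s : G} (hs : orderOf s = 2)
    (hodd' : ¬ 2 ∣ (Subgroup.centralizer ({s} : Set G)).index) :
    ∃ T ⊆ B.X, (∀ x ∈ B.X, (x : G → ℂ) s = 0 → x ∈ T) ∧
      ((2 : ℤ) ^ b) ∣ ∑ x ∈ T, B.εX x * (charDegree (x : G → ℂ) : ℤ) := by
  classical
  haveI : Fact (Nat.Prime 2) := ⟨Nat.prime_two⟩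
  obtain ⟨M, hM⟩ := CfsgLib.KGV.exists_isPModular 2 Nat.prime_two
  set hs' := (Subgroup.centralizer ({s} : Set G)).index with hs'def
  have hsC : (hs' : ℂ) ≠ 0 := Nat.cast_ne_zero.2 Subgroup.index_ne_zero_of_finite
  have hω : ∀ χ : IrrCharacter G, MemLocalRing M (centralChar (χ : G → ℂ) s) := fun χ =>
    memLocalRing_of_isIntegral hM (CfsgLib.ClassCount.centralChar_isIntegral χ s)
  have hinv : MemLocalRing M ((hs' : ℂ)⁻¹) :=
    ⟨1, (hs' : AlgInt), fun h0 => hodd' ((natCast_mem_iff hM _).1 h0), by simp⟩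
  have hval : ∀ χ : IrrCharacter G, (χ : G → ℂ) s =
      (hs' : ℂ)⁻¹ * (centralChar (χ : G → ℂ) s * (charDegree (χ : G → ℂ) : ℂ)) := fun χ => by
    rw [centralChar, apply_one, div_mul_cancel₀ _ (by
      rw [← apply_one]; exact irr_one_ne_zero χ), ← mul_assoc, inv_mul_cancel₀ hsC, one_mul]
  have hxs : ∀ x ∈ B.X, MemLocalIdeal M ((x : G → ℂ) s) := fun x hx => by
    rw [hval]
    exact MemLocalIdeal.mul_left hM hinv (MemLocalIdeal.mul_left hM (hω x)
      ((memLocalIdeal_natCast_iff hM _).2 (hX x hx)))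
  let S : IrrCharacter G → Prop := fun χ => MemLocalIdeal M (centralChar (χ : G → ℂ) s)
  have hS1 : ¬ S (principalIrr G) := by
    intro h1
    have e : centralChar (principalIrr G : G → ℂ) s = (hs' : ℂ) := by
      simp [centralChar, hs'def]
    have h1' : MemLocalIdeal M (centralChar (principalIrr G : G → ℂ) s) := h1
    rw [e] at h1'
    exact hodd' ((memLocalIdeal_natCast_iff hM _).1 h1')
  have hsp : ¬ p ∣ orderOf s := by
    rw [hs]
    exact fun hd => hodd ((Nat.prime_dvd_prime_iff_eq hp.out Nat.prime_two).1 hd)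
  have hSY : ∀ y ∈ B.Y, ¬ S y := by
    intro y hy h1
    have hy' : MemLocalIdeal M ((y : G → ℂ) s) := by
      rw [hval]
      exact MemLocalIdeal.mul_left hM hinv (MemLocalIdeal.mul_right hM h1
        (memLocalRing_of_isIntegral hM (isIntegral_algebraMap (x := (charDegree (y : G → ℂ) : ℤ)) |>
          fun hh => by simpa using hh)))
    refine not_memLocalIdeal_one hM ?_
    have hsum : MemLocalIdeal M (∑ x ∈ B.X, (B.εX x : ℂ) * (x : G → ℂ) s) :=
      MemLocalIdeal.sum hM _ fun x hx => MemLocalIdeal.mul_left hM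
        (memLocalRing_of_isIntegral hM isIntegral_algebraMap) (hxs x hx)
    have := MemLocalIdeal.sub hM (MemLocalIdeal.mul_left hM
      (memLocalRing_of_isIntegral hM (isIntegral_algebraMap (x := B.ε))) hy') hsum
    rwa [show algebraMap ℤ ℂ B.ε = (B.ε : ℂ) from rfl, B.rel y hy s hsp, add_sub_cancel_right]
      at this
  obtain ⟨u, hu, hu1⟩ := h.exists_u
  have huo := h.orderOf_of_mem hu hu1
  refine ⟨B.X.filter S, Finset.filter_subset _ _, fun x hx h0 => Finset.mem_filter.2 ⟨hx, ?_⟩, ?_⟩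
  · show MemLocalIdeal M _
    rw [centralChar, h0, mul_zero, zero_div]
    exact memLocalIdeal_zero hM
  -- vanishing on the 2-singular elements
  have hvan : ∀ v : G, 2 ∣ orderOf v →
      ∑ x ∈ B.X.filter S, (B.εX x : ℂ) * conj ((x : G → ℂ) v) = 0 := by
    intro v hv
    have hS : ∑ χ ∈ Finset.univ.filter S, (χ : G → ℂ) u * conj ((χ : G → ℂ) v) = 0 := by
      rw [← Finset.sum_fiberwise_of_maps_to (t := (Finset.univ.filter S).image
        fun χ : IrrCharacter G => blockOf M (χ : G → ℂ))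
        (fun χ hχ => Finset.mem_image_of_mem _ hχ)]
      refine Finset.sum_eq_zero fun Bl hBl => ?_
      obtain ⟨χ₀, hχ₀, rfl⟩ := Finset.mem_image.1 hBl
      have hfib : (Finset.univ.filter S).filter
          (fun χ : IrrCharacter G => blockOf M (χ : G → ℂ) = blockOf M (χ₀ : G → ℂ)) =
          Finset.univ.filter (· ∈ blockOf M (χ₀ : G → ℂ)) := by
        ext χ
        simp only [Finset.mem_filter, Finset.mem_univ, true_and]
        constructor
        · rintro ⟨-, e⟩
          rw [← e]; exact mem_blockOf_self hM χ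
        · intro hχ
          refine ⟨?_, (blockOf_eq_of_sameBlock hM hχ).symm⟩
          have h1 := MemLocalIdeal.sub hM (Finset.mem_filter.1 hχ₀).2 ((hχ : SameBlock M _ _) s)
          rwa [sub_sub_cancel] at h1
      rw [hfib]
      exact weak_orth hM (isPBlock_blockOf χ₀) (by
        rw [huo]; exact fun hd => hodd ((Nat.prime_dvd_prime_iff_eq Nat.prime_two hp.out).1 hd).symm)
        hv
    rw [← hS]
    symm
    rw [← Finset.sum_subset (s₁ := B.X.filter S) (fun x hx => Finset.mem_filter.2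
      ⟨Finset.mem_univ _, (Finset.mem_filter.1 hx).2⟩)]
    · refine Finset.sum_congr rfl fun x hx => ?_
      have := B.value x (Finset.mem_filter.1 hx).1 u hu hu1 1 (one_mem _)
        (by rw [orderOf_one]; exact hp.out.not_dvd_one)
      rw [mul_one] at this
      rw [this]
    · intro χ hχ hχ'
      have hχS := (Finset.mem_filter.1 hχ).2
      rw [B.vanish χ (fun e => hS1 (e ▸ hχS)) (fun hx => hχ' (Finset.mem_filter.2 ⟨hx, hχS⟩))
        (fun hy => hSY χ hy hχS) hC u hu hu1, zero_mul]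
  -- restriction to a Sylow 2-subgroup
  obtain ⟨Q⟩ := (inferInstance : Nonempty (Sylow 2 G))
  have hQ : Nat.card (Q : Subgroup G) = 2 ^ b :=
    CfsgLib.Small.card_sylow_of_card_eq hG hmg Q
  haveI : Fintype (Q : Subgroup G) := Fintype.ofFinite _
  choose m hm using fun χ : IrrCharacter G => CfsgLib.ClassCount.exists_mult χ (Q : Subgroup G)
  refine ⟨∑ x ∈ B.X.filter S, B.εX x * (m x : ℤ), ?_⟩
  have h1 : ∑ x ∈ B.X.filter S, (B.εX x : ℂ) *
      ∑ t : (Q : Subgroup G), conj ((x : G → ℂ) ((t : G)⁻¹)) =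
      ∑ x ∈ B.X.filter S, (B.εX x : ℂ) * (charDegree (x : G → ℂ) : ℂ) := by
    simp only [Finset.mul_sum]
    rw [Finset.sum_comm, ← Finset.add_sum_erase _ _ (Finset.mem_univ (1 : (Q : Subgroup G)))]
    rw [Finset.sum_eq_zero (s := Finset.univ.erase (1 : (Q : Subgroup G))) fun t ht => ?_, add_zero]
    · simp [apply_one]
    · refine hvan _ ?_
      obtain ⟨i, hi⟩ := IsPGroup.iff_orderOf.1 Q.2 t
      rw [orderOf_inv, Subgroup.orderOf_coe, hi]
      refine dvd_pow_self 2 fun e => Finset.ne_of_mem_erase ht ?_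
      rw [e, pow_zero] at hi
      exact orderOf_eq_one_iff.1 hi
  simp only [← map_sum, hm, map_mul, map_natCast, hQ] at h1
  have h2 : ((∑ x ∈ B.X.filter S, B.εX x * (charDegree (x : G → ℂ) : ℤ) : ℤ) : ℂ) =
      (((2 : ℤ) ^ b * ∑ x ∈ B.X.filter S, B.εX x * (m x : ℤ) : ℤ) : ℂ) := by
    push_cast
    rw [← h1, Finset.mul_sum]
    refine Finset.sum_congr rfl fun x _ => ?_
    push_cast
    ring
  exact_mod_cast h2

end CfsgLib.Small.BrauerTuan
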