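import Cfsg.Agent.Lib.Small.MidLemmas

/-!
A simple group has no maximal subgroup of order 300 and index 16 or 18 with a central element of
order 5 and more than one Sylow 5-subgroup.
-/

set_option autoImplicit false

namespace CfsgLib.Small.CentralFive

open Subgroup MulAction CfsgLib.Small

/-- In such a group of order 300 the class of a non-central element of order 5 has size divisible
by 6. -/
theorem six_dvd_class {K : Type*} [Group K] [Finite K] [Fact (Nat.Prime 5)]
    (hK : Nat.card K = 300) (hn : 1 < Nat.card (Sylow 5 K)) {a y : K}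
    (ha : ∀ k, k * a = a * k) (hao : orderOf a = 5) (hy : orderOf y = 5) (hya : y ∉ zpowers a) :
    6 ∣ Nat.card {g : K // IsConj y g} := by
  classical
  have hT : ∀ T : Sylow 5 K, Nat.card T = 25 := fun T =>
    card_sylow_of_card_eq (k := 2) (m := 12) (by rw [hK]; norm_num) (by norm_num) T
  have haT : ∀ T : Sylow 5 K, a ∈ (T : Subgroup K) := by
    intro T
    have hpg : IsPGroup 5 (zpowers a) :=
      IsPGroup.of_card (n := 1) (by rw [Nat.card_zpowers, hao, pow_one])
    have hle : zpowers a ≤ normalizer ((T : Subgroup K) : Set K) := by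
      rw [zpowers_le, mem_normalizer_iff]
      intro b
      rw [← ha b, mul_inv_cancel_right]
    have h2 : a ∈ zpowers a ⊓ (T : Subgroup K) :=
      hpg.inf_normalizer_sylow T ▸ Subgroup.mem_inf.mpr ⟨mem_zpowers a, hle (mem_zpowers a)⟩
    exact h2.2
  have huniq : ∀ T R : Sylow 5 K, y ∈ (T : Subgroup K) → y ∈ (R : Subgroup K) → T = R := by
    intro T R hyT hyR
    by_contra hne
    have hle : zpowers a ≤ (T : Subgroup K) ⊓ R := zpowers_le.mpr (Subgroup.mem_inf.mpr ⟨haT T, haT R⟩)
    obtain ⟨i, -, hi⟩ := (Nat.dvd_prime_pow (by norm_num : Nat.Prime 5)).mp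
      ((card_dvd_of_le (inf_le_left : (T : Subgroup K) ⊓ R ≤ T)).trans
        (dvd_of_eq ((hT T).trans (by norm_num : (25 : ℕ) = 5 ^ 2))))
    have hi1 : i ≤ 1 := by
      by_contra hlt
      have h1 : (T : Subgroup K) ⊓ R = (T : Subgroup K) := eq_of_le_of_card_ge inf_le_left (by
        rw [hT, hi]
        exact (show (25 : ℕ) = 5 ^ 2 by norm_num).le.trans
          (Nat.pow_le_pow_right (by norm_num) (by omega)))
      exact hne (Sylow.ext (eq_of_le_of_card_ge (inf_eq_left.mp h1) (by rw [hT, hT])))
    have h2 := eq_of_le_of_card_ge hle (by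
      rw [hi, Nat.card_zpowers, hao]
      exact (Nat.pow_le_pow_right (by norm_num) hi1).trans (pow_one 5).le)
    exact hya (h2 ▸ Subgroup.mem_inf.mpr ⟨hyT, hyR⟩)
  obtain ⟨T, hyT⟩ := (IsPGroup.of_card (p := 5) (n := 1) (G := zpowers y)
    (by rw [Nat.card_zpowers, hy, pow_one])).exists_le_sylow
  have hyT' := hyT (mem_zpowers y)
  have hn6 : Nat.card (Sylow 5 K) = 6 := by
    have h1 : Nat.card (Sylow 5 K) ∣ 12 := by
      obtain ⟨T₀⟩ := (inferInstance : Nonempty (Sylow 5 K))
      exact index_sylow_of_card_eq (k := 2) (m := 12) (by rw [hK]; norm_num) (by norm_num) T₀ ▸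
        T₀.card_dvd_index
    have h2 := card_sylow_modEq_one 5 K
    rw [Nat.ModEq] at h2
    exact (show ∀ f ∈ Nat.divisors 12, f % 5 = 1 % 5 → 1 < f → f = 6 by decide +kernel) _
      (Nat.mem_divisors.mpr ⟨h1, by norm_num⟩) h2 hn
  have hN := card_normalizer_mul_card_sylow T
  rw [hn6, hK] at hN
  have hB : centralizer ({y} : Set K) ≤ normalizer ((T : Subgroup K) : Set K) := by
    intro g hg
    refine Sylow.smul_eq_iff_mem_normalizer.mp (huniq _ T ?_ hyT')
    rw [Sylow.coe_subgroup_smul, mem_pointwise_smul_iff_inv_smul_mem]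
    rw [show (MulAut.conj g)⁻¹ • y = g⁻¹ * y * g from by
      rw [← map_inv, MulAut.smul_def, MulAut.conj_apply, inv_inv]]
    rw [mul_assoc, ← mem_centralizer_singleton_iff.mp hg, inv_mul_cancel_left]
    exact hyT'
  have hab : IsMulCommutative (T : Subgroup K) :=
    IsPGroup.isMulCommutative_of_card_eq_prime_sq (p := 5) (by rw [hT]; norm_num)
  have hTC : (T : Subgroup K) ≤ centralizer ({y} : Set K) := fun b hb =>
    mem_centralizer_singleton_iff.mpr
      (congrArg Subtype.val (hab.is_comm.comm (⟨b, hb⟩ : (T : Subgroup K)) ⟨y, hyT'⟩))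
  have h25 := card_dvd_of_le hTC
  rw [hT] at h25
  obtain ⟨r, hr⟩ := h25
  have h50 := card_dvd_of_le hB
  rw [show Nat.card (normalizer ((T : Subgroup K) : Set K)) = 25 * 2 by omega, hr] at h50
  have hr2 := Nat.dvd_of_mul_dvd_mul_left (by norm_num : 0 < 25) h50
  have hcl := Order1440.card_conj_mul y
  rw [hr, hK] at hcl
  rcases (Nat.dvd_prime Nat.prime_two).mp hr2 with rfl | rfl <;> omega

variable {G : Type*} [Group G] [Finite G] [IsSimpleGroup G]

/-- The theorem in the header. -/
theorem false_of_central (hG : ¬ IsMulCommutative G) {a : G} (hao : orderOf a = 5)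
    (hK : Nat.card (centralizer ({a} : Set G)) = 300) [Fact (Nat.Prime 5)]
    (hn : 1 < Nat.card (Sylow 5 (centralizer ({a} : Set G))))
    (hmax : ∀ H : Subgroup G, H ≠ ⊤ → centralizer ({a} : Set G) ≤ H →
      H = centralizer ({a} : Set G))
    (hi : (centralizer ({a} : Set G)).index = 16 ∨ (centralizer ({a} : Set G)).index = 18) :
    False := by
  classical
  set K := centralizer ({a} : Set G) with hKdef
  have ha1 : a ≠ 1 := fun e => by rw [e, orderOf_one] at hao; norm_num at hao
  have hKtop : K ≠ ⊤ := Residual.centralizer_ne_top hG ha1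
  have haK : a ∈ K := mem_centralizer_singleton_iff.mpr rfl
  set a' : K := ⟨a, haK⟩
  have hao' : orderOf a' = 5 := by rw [← orderOf_coe]; exact hao
  have hcen : ∀ k : K, k * a' = a' * k := fun k =>
    Subtype.ext (mem_centralizer_singleton_iff.mp k.2)
  have hGc : Nat.card G = 300 * K.index := by rw [← hK, K.card_mul_index]
  have hne5 : zpowers a ≠ ⊤ := fun e => by
    have h1 : Nat.card (zpowers a) = Nat.card G := by rw [e, card_top]
    rw [Nat.card_zpowers, hao, hGc] at h1
    omega
  have hNK : normalizer ((zpowers a : Subgroup G) : Set G) = K := by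
    refine hmax _ (normalizer_ne_top (fun e => ha1 (zpowers_eq_bot.mp e)) hne5) ?_
    intro g hg
    refine centralizer_le_normalizer' _ (mem_centralizer_iff.mpr fun b hb => ?_)
    obtain ⟨i, rfl⟩ := mem_zpowers_iff.mp hb
    exact (Commute.zpow_left
      (show Commute a g from (mem_centralizer_singleton_iff.mp hg).symm) i).eq
  -- the conjugates of `a` in `K`
  have hYord : ∀ y : K, IsConj a (y : G) → y ≠ a' → orderOf y = 5 ∧ y ∉ zpowers a' := by
    intro y hy hne
    obtain ⟨g, hg⟩ := isConj_iff.mp hy
    have hyo : orderOf (y : G) = 5 := by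
      rw [← hg, show g * a * g⁻¹ = MulAut.conj g a from rfl, MulEquiv.orderOf_eq, hao]
    refine ⟨by rw [← orderOf_coe]; exact hyo, fun hmem => hne (Subtype.ext ?_)⟩
    obtain ⟨i, hi'⟩ := mem_zpowers_iff.mp hmem
    have hi'' : a ^ i = g * a * g⁻¹ := by rw [hg]; exact congrArg Subtype.val hi'
    have hgN : g ∈ normalizer ((zpowers a : Subgroup G) : Set G) := by
      have hzp : zpowers (g * a * g⁻¹) = zpowers a := eq_of_le_of_card_ge
        (zpowers_le.mpr (hi'' ▸ zpow_mem (mem_zpowers a) i))
        (by rw [Nat.card_zpowers, Nat.card_zpowers, hao, hg, hyo])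
      rw [mem_normalizer_iff]
      intro b
      constructor
      · intro hb
        obtain ⟨j, rfl⟩ := mem_zpowers_iff.mp hb
        rw [← conj_zpow, ← hzp]
        exact zpow_mem (mem_zpowers _) j
      · intro hb
        rw [← hzp] at hb
        obtain ⟨j, hj⟩ := mem_zpowers_iff.mp hb
        rw [conj_zpow] at hj
        exact (mul_left_cancel (mul_right_cancel hj) : a ^ j = b) ▸ zpow_mem (mem_zpowers a) j
    rw [← hg]
    rw [hNK] at hgN
    rw [mem_centralizer_singleton_iff.mp hgN, mul_inv_cancel_right]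
  have := Fintype.ofFinite K
  set Y := (Finset.univ : Finset K).filter fun y : K => IsConj a (y : G) ∧ y ≠ a' with hY
  have hY6 : 6 ∣ Y.card := by
    rw [Finset.card_eq_sum_card_image (fun y => ConjClasses.mk y) Y]
    refine Finset.dvd_sum fun c hc => ?_
    obtain ⟨y, hyY, rfl⟩ := Finset.mem_image.mp hc
    obtain ⟨hy1, hy2⟩ := (Finset.mem_filter.mp hyY).2
    obtain ⟨hyo, hynz⟩ := hYord y hy1 hy2
    have hfib : (Y.filter fun z => ConjClasses.mk z = ConjClasses.mk y) =
        (Finset.univ : Finset K).filter fun z => IsConj y z := by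
      ext z
      simp only [hY, Finset.mem_filter, Finset.mem_univ, true_and]
      rw [ConjClasses.mk_eq_mk_iff_isConj]
      constructor
      · exact fun hz => hz.2.symm
      · intro hz
        refine ⟨⟨hy1.trans (K.subtype.map_isConj hz), fun e => ?_⟩, hz.symm⟩
        subst e
        obtain ⟨k, hk⟩ := isConj_iff.mp hz.symm
        rw [hcen k, mul_inv_cancel_right] at hk
        exact hy2 hk.symm
    rw [hfib, ← Fintype.card_subtype, ← Nat.card_eq_fintype_card]
    exact six_dvd_class hK hn hcen hao' hyo hynz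
  have hKcount : Nat.card {g : G // IsConj a g ∧ g ∈ K} = Y.card + 1 := by
    have h1 : Nat.card {g : G // IsConj a g ∧ g ∈ K} = Nat.card {y : K // IsConj a (y : G)} :=
      Nat.card_congr ((Equiv.subtypeEquivRight fun g => and_comm).trans
        (Equiv.subtypeSubtypeEquivSubtypeInter (fun g => g ∈ K) (fun g => IsConj a g)).symm)
    rw [h1, Nat.card_eq_fintype_card, Fintype.card_subtype,
      show ((Finset.univ : Finset K).filter fun y : K => IsConj a (y : G)) = insert a' Y by
        ext y
        simp only [hY, Finset.mem_filter, Finset.mem_univ, true_and, Finset.mem_insert]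
        constructor
        · intro hy
          by_cases e : y = a'
          · exact Or.inl e
          · exact Or.inr ⟨hy, e⟩
        · rintro (rfl | ⟨hy, -⟩)
          · exact IsConj.refl a
          · exact hy,
      Finset.card_insert_of_notMem (by simp [hY])]
  have hform := card_fixedBy_mul_card_class K a
  have hcl := Order1440.card_conj_mul a
  rw [show Nat.card (centralizer ({a} : Set G)) = 300 from hK, hGc] at hcl
  have hcl' : Nat.card {g : G // IsConj a g} = K.index := by omega
  rw [hcl', hKcount, mul_comm] at hform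
  have hf : Nat.card (fixedBy (G ⧸ K) a) = Y.card + 1 :=
    Nat.eq_of_mul_eq_mul_left (Nat.pos_of_ne_zero index_ne_zero_of_finite) hform
  have := Fintype.ofFinite (G ⧸ K)
  set s : Equiv.Perm (G ⧸ K) := MulAction.toPerm a with hs
  have hs5 : s ^ 5 = 1 := by
    rw [hs, Order720.toPerm_pow, ← hao, pow_orderOf_eq_one]
    ext q; simp
  have hs1 : s ≠ 1 := fun e => ha1
    (CfsgLib.Small.toPermHom_injective (G := G) hKtop (by rw [map_one]; exact e))
  obtain ⟨j, hj0, hj⟩ := Mid.perm_prime_fixed (q := 5) hs5 hs1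
  rw [Order720.fixedBy_eq, hf, ← Nat.card_eq_fintype_card, ← index_eq_card] at hj
  obtain ⟨l, hl⟩ := hY6
  rcases hi with hi | hi
  · -- `a` fixes one point; the Sylow subgroups of `K` keep its orbits
    have hl0 : l = 0 := by omega
    subst hl0
    rw [mul_zero] at hl
    rw [hl, zero_add] at hf
    have hone : ∀ x : G ⧸ K, a • x = x → x = (1 : G) := fun x hx =>
      congrArg Subtype.val ((Nat.card_eq_one_iff_unique.mp hf).1.elim
        (⟨x, hx⟩ : fixedBy (G ⧸ K) a) ⟨((1 : G) : G ⧸ K), by
          rw [mem_fixedBy, smul_mk_eq_self_iff]; simpa using haK⟩)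
    have haT : ∀ T : Sylow 5 K, a' ∈ (T : Subgroup K) := by
      intro T
      have hpg : IsPGroup 5 (zpowers a') :=
        IsPGroup.of_card (n := 1) (by rw [Nat.card_zpowers, hao', pow_one])
      have hle : zpowers a' ≤ normalizer ((T : Subgroup K) : Set K) := by
        rw [zpowers_le, mem_normalizer_iff]
        intro b
        rw [← hcen b, mul_inv_cancel_right]
      have h2 : a' ∈ zpowers a' ⊓ (T : Subgroup K) :=
        hpg.inf_normalizer_sylow T ▸ Subgroup.mem_inf.mpr ⟨mem_zpowers a', hle (mem_zpowers a')⟩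
      exact h2.2
    have hkeep : ∀ (T : Sylow 5 K) (t : K), t ∈ (T : Subgroup K) → ∀ x : G ⧸ K,
        ∃ i : ℤ, (t : G) • x = a ^ i • x := by
      intro T t ht x
      by_cases hx : a • x = x
      · refine ⟨0, ?_⟩
        rw [zpow_zero, one_smul, hone x hx, smul_mk_eq_self_iff]
        simp
      set H := (T : Subgroup K).map K.subtype with hH
      have hHc : Nat.card H = 5 ^ 2 := by
        rw [hH, card_map_of_injective K.subtype_injective]
        exact card_sylow_of_card_eq (k := 2) (m := 12) (by rw [hK]; norm_num) (by norm_num) T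
      obtain ⟨n, hn'⟩ := (IsPGroup.of_card hHc).card_orbit x
      have hzle : zpowers a ≤ H := zpowers_le.mpr ⟨a', haT T, rfl⟩
      have hsub : orbit (zpowers a) x ⊆ orbit H x := by
        rintro _ ⟨b, rfl⟩
        exact ⟨⟨b.1, hzle b.2⟩, rfl⟩
      obtain ⟨n', hn''⟩ := (IsPGroup.of_card (p := 5) (n := 1) (G := zpowers a)
        (by rw [Nat.card_zpowers, hao, pow_one])).card_orbit x
      have hn'0 : n' ≠ 0 := fun e => by
        rw [e, pow_zero] at hn''
        refine hx ?_
        exact congrArg Subtype.val ((Nat.card_eq_one_iff_unique.mp hn'').1.elim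
          (⟨a • x, ⟨⟨a, mem_zpowers a⟩, rfl⟩⟩ : orbit (zpowers a) x) ⟨x, mem_orbit_self x⟩)
      have hle16 : Nat.card (orbit H x) ≤ 16 := by
        rw [← hi, index_eq_card]
        exact Nat.card_le_card_of_injective _ Subtype.val_injective
      have hn1 : n ≤ 1 := by
        by_contra hlt
        have := Nat.pow_le_pow_right (show 0 < 5 by norm_num) (show 2 ≤ n by omega)
        omega
      have heq : orbit (zpowers a) x = orbit H x := by
        refine Set.eq_of_subset_of_ncard_le hsub ?_ (Set.toFinite _)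
        rw [← Nat.card_coe_set_eq, ← Nat.card_coe_set_eq, hn', hn'']
        exact Nat.pow_le_pow_right (by norm_num) (by omega)
      have hmem : (t : G) • x ∈ orbit (zpowers a) x := by
        rw [heq]; exact ⟨⟨(t : G), ⟨t, ht, rfl⟩⟩, rfl⟩
      obtain ⟨⟨b, hb⟩, hbx⟩ := hmem
      obtain ⟨i, rfl⟩ := mem_zpowers_iff.mp hb
      exact ⟨i, hbx.symm⟩
    have hcomm : ∀ (T R : Sylow 5 K) (t r : K), t ∈ (T : Subgroup K) → r ∈ (R : Subgroup K) →
        r * t = t * r := by
      intro T R t r ht hr
      refine Subtype.ext (CfsgLib.Small.toPermHom_injective (G := G) hKtop (Equiv.ext fun x => ?_))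
      show ((r : G) * t) • x = ((t : G) * r) • x
      have hca : ∀ (k : K) (i : ℤ), (k : G) * a ^ i = a ^ i * k := fun k i =>
        (Commute.zpow_right (show Commute (k : G) a from mem_centralizer_singleton_iff.mp k.2) i).eq
      obtain ⟨i, hi1⟩ := hkeep T t ht x
      obtain ⟨i', hi2⟩ := hkeep R r hr x
      rw [mul_smul, mul_smul, hi1, ← mul_smul, hca, mul_smul, hi2, ← mul_smul, ← mul_smul, hca,
        mul_smul (a ^ i') _, hi1, ← mul_smul, ← zpow_add, ← zpow_add, add_comm]
    obtain ⟨T, R, hTR⟩ := (Finite.one_lt_card_iff_nontrivial.mp hn).exists_pair_ne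
    refine hTR (Sylow.ext (eq_of_le_of_card_ge (fun t ht => ?_) ?_))
    · have hpg : IsPGroup 5 (zpowers t) := T.2.to_le (zpowers_le.mpr ht)
      have hle : zpowers t ≤ normalizer ((R : Subgroup K) : Set K) := by
        rw [zpowers_le]
        refine centralizer_le_normalizer' _ (mem_centralizer_iff.mpr fun r hr => ?_)
        exact hcomm T R t r ht hr
      have h2 : t ∈ zpowers t ⊓ (R : Subgroup K) :=
        hpg.inf_normalizer_sylow R ▸ Subgroup.mem_inf.mpr ⟨mem_zpowers t, hle (mem_zpowers t)⟩
      exact h2.2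
    · rw [T.card_eq_multiplicity, R.card_eq_multiplicity]
  · -- `a` is a 5-cycle in a primitive group of degree 18
    have hsupp : s.support.card = 5 := by
      have h1 := Order720.support_card_add s
      rw [Order720.fixedBy_eq, hf, ← Nat.card_eq_fintype_card, ← index_eq_card] at h1
      omega
    have hord : orderOf s = 5 := orderOf_eq_prime hs5 hs1
    have hcyc : s.IsCycle := Equiv.Perm.isCycle_of_prime_order (hord.symm ▸ Nat.prime_five)
      (by rw [hord, hsupp]; norm_num)
    have hnt : Nontrivial (G ⧸ K) := Finite.one_lt_card_iff_nontrivial.mp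
      (by rw [← index_eq_card, hi]; norm_num)
    have hprim : MulAction.IsPreprimitive G (G ⧸ K) := by
      refine (MulAction.isCoatom_stabilizer_iff_preprimitive (G := G) ((1 : G) : G ⧸ K)).mp ?_
      rw [MulAction.stabilizer_quotient]
      refine ⟨hKtop, fun H hH => ?_⟩
      by_contra hHt
      exact hH.ne (hmax H hHt hH.le).symm
    set R := (toPermHom G (G ⧸ K)).range with hR
    have hprim' : MulAction.IsPreprimitive R (G ⧸ K) :=
      MulAction.IsPreprimitive.of_surjective (M := G) (N := R)
        (φ := (toPermHom G (G ⧸ K)).rangeRestrict) (f := ⟨id, fun g x => rfl⟩)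
        Function.surjective_id
    have hle := Cfsg.Agent.S0713.result R hprim' (p := 5) Nat.prime_five
      (by rw [← Nat.card_eq_fintype_card, ← index_eq_card, hi]; norm_num)
      (by rw [← Nat.card_eq_fintype_card, ← index_eq_card, hi]; norm_num) hcyc hsupp ⟨a, rfl⟩
    have h2 : Nat.card R ∣ 5400 := by
      refine (card_range_dvd _).trans (dvd_of_eq ?_)
      rw [hGc, hi]
    have h3 := card_le_of_le hle
    rw [nat_card_alternatingGroup, ← index_eq_card, hi] at h3
    have h4 := Nat.le_of_dvd (by norm_num) h2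
    have : 5400 < (18 : ℕ).factorial / 2 := by decide +kernel
    omega

end CfsgLib.Small.CentralFive
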