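import Cfsg.Agent.Lib.Small.PrimeExceptional
import Cfsg.Agent.Lib.Blocks.ClassCount

/-!
The principal block relations for a self-centralising subgroup of order 5 with normaliser of
order 10.
-/

set_option autoImplicit false

noncomputable section

namespace CfsgLib.Small.FiveExceptional

open Cfsg CfsgLib.Characters CfsgLib.ClassCount
open scoped ComplexConjugate

universe u

variable {G : Type u} [Group G] [Fintype G]

open scoped Classical in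
theorem relation (hperf : commutator G = ⊤) {K : Subgroup G} (hK : Nat.card K = 5)
    (hC : ∀ k ∈ K, k ≠ 1 → Subgroup.centralizer ({k} : Set G) ≤ K)
    (hN : Nat.card (Subgroup.normalizer (K : Set G)) = 10) :
    ∃ (χ1 χ2 : IrrCharacter G) (δ1 δ2 : ℤ) (D1 D2 : ℕ),
      (δ1 = 1 ∨ δ1 = -1) ∧ (δ2 = 1 ∨ δ2 = -1) ∧ χ1 ≠ principalIrr G ∧ χ2 ≠ principalIrr G ∧
      (χ1 : G → ℂ) 1 = (D1 : ℂ) ∧ (χ2 : G → ℂ) 1 = (D2 : ℂ) ∧
      D1 ∣ Nat.card G ∧ D2 ∣ Nat.card G ∧ 1 < D1 ∧ 1 < D2 ∧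
      (D1 % 5 = 2 ∨ D1 % 5 = 3) ∧ (D2 % 5 = 1 ∨ D2 % 5 = 4) ∧
      D1 ^ 2 + D2 ^ 2 < Nat.card G ∧
      1 + δ1 * (D1 : ℤ) + δ2 * (D2 : ℤ) = 0 ∧
      (∀ g : G, (∀ x ∈ K, x ≠ 1 → ¬ IsConj g x) →
        1 + (δ1 : ℂ) * (χ1 : G → ℂ) g + (δ2 : ℂ) * (χ2 : G → ℂ) g = 0) ∧
      ∀ (g : G) (k : ℕ), (∀ x ∈ K, x ≠ 1 → (pairs g g {x}).card = k) →
        (k : ℂ) * Nat.card G = ((cls g).card : ℂ) ^ 2 *
          (1 + (δ1 : ℂ) * (χ1 : G → ℂ) g ^ 2 / D1 + (δ2 : ℂ) * (χ2 : G → ℂ) g ^ 2 / D2) := by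
  have : Fact (Nat.Prime 5) := ⟨by norm_num⟩
  obtain ⟨ε, a', d0, S, a, d, hε, hd0, hd01, hd0m, hS, -, hn2, hsq, hd, ha1, hout, hSne, hnorm,
      α0, hα0⟩ :=
    PrimeExceptional.degree_relation_full hperf (p := 5) (e := 2) (t := 2) hK hC
      (hN.trans (by norm_num)) (by norm_num) le_rfl
  set T := Finset.univ.filter fun x => x ∈ K ∧ x ≠ 1
  have hN0 : (Nat.card (Subgroup.normalizer (K : Set G)) : ℂ) ≠ 0 :=
    Nat.cast_ne_zero.2 Nat.card_pos.ne'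
  -- exactly one summand in `S`
  have ha' : (a' = 0 ∨ a' = ε) ∧ ∑ ψ ∈ S, a ψ ^ 2 = 1 := by
    have h0 : 0 ≤ ∑ ψ ∈ S, a ψ ^ 2 := Finset.sum_nonneg fun ψ _ => sq_nonneg _
    push_cast at hn2
    have hb1 : a' ≤ 1 := by nlinarith [sq_nonneg (a' - ε)]
    have hb2 : -1 ≤ a' := by nlinarith [sq_nonneg (a' - ε)]
    rcases hε with rfl | rfl <;> interval_cases a' <;> norm_num at hn2 ⊢ <;> omega
  have hpick : ∀ (A : Finset (IrrCharacter G)), (∀ ψ ∈ A, a ψ ≠ 0) → ∑ ψ ∈ A, a ψ ^ 2 = 1 →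
      ∃ ψ, A = {ψ} ∧ (a ψ = 1 ∨ a ψ = -1) := by
    intro A hA hsum
    have hge : ∀ ψ ∈ A, 1 ≤ a ψ ^ 2 := fun ψ hψ => by
      have := hA ψ hψ
      have : 0 < a ψ ^ 2 := lt_of_le_of_ne (sq_nonneg _) (Ne.symm (pow_ne_zero 2 this))
      omega
    have hcard : (A.card : ℤ) ≤ 1 := by
      rw [← hsum]
      calc (A.card : ℤ) = ∑ ψ ∈ A, (1 : ℤ) := by simp
        _ ≤ _ := Finset.sum_le_sum hge
    obtain ⟨ψ, rfl⟩ : ∃ ψ, A = {ψ} := by
      rcases A.eq_empty_or_nonempty with rfl | hne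
      · simp at hsum
      · have := hne.card_pos
        exact Finset.card_eq_one.1 (by omega)
    rw [Finset.sum_singleton, sq_eq_one_iff] at hsum
    exact ⟨ψ, rfl, hsum⟩
  obtain ⟨χ2, hSeq, hδ2⟩ := hpick S (fun ψ hψ => (hS ψ hψ).2.2.1) ha'.2
  have h2S : χ2 ∈ S := hSeq ▸ Finset.mem_singleton_self χ2
  set P0 := Finset.univ.filter fun ψ : IrrCharacter G => a ψ ≠ 0 ∧ ψ ≠ principalIrr G ∧ ψ ∉ S
  have hsplit : ∀ {M : Type} [AddCommMonoid M] (F : IrrCharacter G → M), (∀ ψ, a ψ = 0 → F ψ = 0) →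
      ∑ ψ, F ψ = F (principalIrr G) + (∑ ψ ∈ P0, F ψ + F χ2) := by
    intro M _ F hF
    rw [← Finset.add_sum_erase _ _ (Finset.mem_univ (principalIrr G))]
    congr 1
    rw [← Finset.sum_filter_add_sum_filter_not (Finset.univ.erase (principalIrr G))
      (fun ψ => ψ ∈ S)]
    rw [add_comm]
    congr 1
    · refine (Finset.sum_subset (fun ψ hψ => ?_) fun ψ hψ hψ0 => ?_).symm
      · obtain ⟨-, -, h1, h2⟩ := Finset.mem_filter.1 hψ
        exact Finset.mem_filter.2 ⟨Finset.mem_erase.2 ⟨h1, Finset.mem_univ _⟩, h2⟩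
      · obtain ⟨h1, h2⟩ := Finset.mem_filter.1 hψ
        exact hF ψ (by_contra fun h => hψ0 (Finset.mem_filter.2
          ⟨Finset.mem_univ _, h, (Finset.mem_erase.1 h1).1, h2⟩))
    · rw [show (Finset.univ.erase (principalIrr G)).filter (fun ψ => ψ ∈ S) = S from ?_, hSeq,
        Finset.sum_singleton]
      ext ψ
      exact ⟨fun h => (Finset.mem_filter.1 h).2, fun h => Finset.mem_filter.2
        ⟨Finset.mem_erase.2 ⟨hSne ψ h, Finset.mem_univ _⟩, h⟩⟩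
  have hP0 : ∑ ψ ∈ P0, a ψ ^ 2 = 1 := by
    have h := hsplit (fun ψ => a ψ ^ 2) (fun ψ h => by rw [h]; norm_num)
    rw [hnorm, ha1] at h
    have : a χ2 ^ 2 = 1 := by rcases hδ2 with h' | h' <;> rw [h'] <;> norm_num
    push_cast at h
    linarith
  obtain ⟨χ1, hP0eq, hδ1⟩ := hpick P0 (fun ψ hψ => (Finset.mem_filter.1 hψ).2.1) hP0
  obtain ⟨-, h1ne0, h1p, h1S⟩ := Finset.mem_filter.1 (hP0eq ▸ Finset.mem_singleton_self χ1 : χ1 ∈ P0)
  have hd1 : d χ1 = d0 := hout χ1 h1ne0 h1p h1S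
  have hsum : ∀ F : IrrCharacter G → ℂ, (∀ ψ, a ψ = 0 → F ψ = 0) →
      ∑ ψ, F ψ = F (principalIrr G) + (F χ1 + F χ2) := fun F hF => by
    rw [hsplit F hF, hP0eq, Finset.sum_singleton]
  -- column relation
  have hcol : ∀ g : G, (∀ x ∈ K, x ≠ 1 → ¬ IsConj g x) →
      1 + (a χ1 : ℂ) * (χ1 : G → ℂ) g + (a χ2 : ℂ) * (χ2 : G → ℂ) g = 0 := by
    intro g hg
    have h0 : (Nat.card (Subgroup.normalizer (K : Set G)) : ℂ) *
        ∑ ψ : IrrCharacter G, (a ψ : ℂ) * (ψ : G → ℂ) g = 0 := by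
      rw [Finset.mul_sum]
      simp only [← mul_assoc, ← hα0, Finset.sum_mul]
      rw [Finset.sum_comm]
      refine Finset.sum_eq_zero fun x hx => ?_
      have h := column_orth g x
      obtain ⟨hxK, hx1⟩ := (Finset.mem_filter.1 hx).2
      rw [if_neg (hg x hxK hx1)] at h
      simp only [mul_assoc, ← Finset.mul_sum, irr_apply_inv]
      simp only [mul_comm (conj _), h, mul_zero]
    have h1 := (mul_eq_zero.1 h0).resolve_left hN0
    rw [hsum _ (fun ψ h => by simp [h]), ha1, principalIrr_apply] at h1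
    rw [← h1]; push_cast; ring
  have hone : ∀ x ∈ K, x ≠ 1 → ¬ IsConj (1 : G) x := fun x _ hx h => hx (isConj_one_right.1 h)
  have hrel : 1 + a χ1 * (d χ1 : ℤ) + a χ2 * (d χ2 : ℤ) = 0 := by
    have h := hcol 1 hone
    rw [hd, hd] at h
    exact_mod_cast h
  refine ⟨χ1, χ2, a χ1, a χ2, d χ1, d χ2, hδ1, hδ2, h1p, hSne _ h2S, hd χ1, hd χ2, hd1 ▸ hd0,
    (hS _ h2S).1, hd1 ▸ hd01, (hS _ h2S).2.1, ?_, ?_, ?_, hrel, hcol, ?_⟩
  · rw [hd1]
    have h := hd0m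
    rw [Int.ModEq] at h
    rcases hε with rfl | rfl <;> rcases ha'.1 with rfl | rfl <;> norm_num at h <;> omega
  · have h := (hS _ h2S).2.2.2
    rw [Int.ModEq] at h
    rcases hδ2 with h' | h' <;> rw [h'] at h <;> norm_num at h <;> omega
  · rw [hSeq, Finset.sum_singleton] at hsq
    rw [hd1]
    have : 0 < d0 ^ 2 := by positivity
    omega
  · intro g k hk
    have h0 : (Nat.card (Subgroup.normalizer (K : Set G)) : ℂ) * ((k : ℂ) * Nat.card G) =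
        (Nat.card (Subgroup.normalizer (K : Set G)) : ℂ) *
          ∑ ψ : IrrCharacter G, (a ψ : ℂ) * ((ψ : G → ℂ) 1 *
            (centralChar (ψ : G → ℂ) g * centralChar (ψ : G → ℂ) g)) := by
      have hα1 := hα0 (principalIrr G)
      simp only [principalIrr_apply, mul_one, ha1, Int.cast_one] at hα1
      rw [Finset.mul_sum]
      simp only [← mul_assoc, ← hα0, Finset.sum_mul]
      rw [← hα1, Finset.sum_mul, Finset.sum_mul, Finset.sum_comm]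
      refine Finset.sum_congr rfl fun x hx => ?_
      obtain ⟨hxK, hx1⟩ := (Finset.mem_filter.1 hx).2
      rw [mul_assoc, ← hk x hxK hx1, card_pairs_mul, Finset.mul_sum]
      refine Finset.sum_congr rfl fun ψ _ => ?_
      rw [Finset.sum_singleton]
      ring
    have h1 := mul_left_cancel₀ hN0 h0
    rw [h1, hsum _ (fun ψ h => by simp [h]), ha1]
    have e1 : (d χ1 : ℂ) ≠ 0 := hd χ1 ▸ irr_one_ne_zero χ1
    have e2 : (d χ2 : ℂ) ≠ 0 := hd χ2 ▸ irr_one_ne_zero χ2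
    simp only [centralChar, card_cls, principalIrr_apply]
    simp only [hd]
    field_simp
    push_cast
    ring

end CfsgLib.Small.FiveExceptional
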