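import Cfsg.Agent.Lib.Small.GraphThree
import Cfsg.Agent.Lib.Small.LowMain
import Cfsg.Prelude.Def_DegreeGraph

/-!
The degree primes of the groups that are not simple and have the order of a simple group of
order less than 6000.
-/

set_option autoImplicit false
set_option maxRecDepth 100000

namespace CfsgLib.Small.GraphTools

open Subgroup CfsgLib.Palfy80 CfsgLib.Small.Low

universe u

variable {G : Type u} [Group G] [Finite G]

/-- The orders of the non-abelian simple groups of order less than 6000. -/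
def orders : List ℕ := [60, 168, 360, 504, 660, 1092, 2448, 2520, 3420, 4080, 5616]

theorem noSimple_of_list {p n : ℕ} (hn : 0 < n) (hlt : n < 6000)
    (h : ∀ d ∈ orders, p ∣ d → ¬ d ∣ n) : NoSimple.{u} p n := fun H _ _ _ hnc hp hd =>
  h _ (card_mem hnc (lt_of_le_of_lt (Nat.le_of_dvd hn hd) hlt)) hp hd

theorem pow_ne_one {p n : ℕ} (hn : 0 < n) (L : List ℕ) (hL : ∀ d ∈ n.divisors, d.Prime → d ∈ L)
    (h : ∀ r ∈ L, r ≠ p → ∀ j < 13, r ^ (j + 1) ∣ n → r ^ (j + 1) % p ≠ 1) (hb : n < 2 ^ 13)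
    (r j : ℕ) (hr : r.Prime) (hne : r ≠ p) (hd : r ^ (j + 1) ∣ n) : r ^ (j + 1) % p ≠ 1 := by
  refine h r (hL r (Nat.mem_divisors.mpr ⟨(dvd_pow_self r j.succ_ne_zero).trans hd, hn.ne'⟩) hr)
    hne j ?_ hd
  by_contra hj
  have h1 : 2 ^ 13 ≤ r ^ (j + 1) :=
    (Nat.pow_le_pow_left hr.two_le 13).trans (Nat.pow_le_pow_right hr.pos (by omega))
  have h2 := Nat.le_of_dvd hn hd
  omega

/-- A prime with a normal abelian Sylow subgroup divides no degree. -/
theorem not_mem_degreePrimes {p : ℕ} [Fact p.Prime] (P : Sylow p G) (hn : (P : Subgroup G).Normal)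
    (hc : ∀ x ∈ (P : Subgroup G), ∀ y ∈ (P : Subgroup G), x * y = y * x) :
    p ∉ Cfsg.degreePrimes G := by
  rintro ⟨-, d, ⟨χ, rfl⟩, hd⟩
  exact not_degDvd_of_abelian (P : Subgroup G) hc P.not_dvd_index ⟨χ, hd⟩

theorem not_mem_of_prime_order {p : ℕ} [Fact p.Prime] (P : Sylow p G) (hP : Nat.card P = p)
    (hn : (P : Subgroup G).Normal) : p ∉ Cfsg.degreePrimes G := by
  have : IsCyclic (P : Subgroup G) := isCyclic_of_prime_card hP
  exact not_mem_degreePrimes P hn fun x hx y hy => congrArg Subtype.val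
    ((IsCyclic.isMulCommutative (α := (P : Subgroup G))).is_comm.comm ⟨x, hx⟩ ⟨y, hy⟩)

omit [Finite G] in
/-- A proper non-trivial normal subgroup. -/
theorem exists_proper_normal [Nontrivial G] (h : ¬ IsSimpleGroup G) :
    ∃ N : Subgroup G, N.Normal ∧ N ≠ ⊥ ∧ N ≠ ⊤ := by
  by_contra hno
  push Not at hno
  exact h ⟨fun H hH => (em (H = ⊥)).imp id (fun e => hno H hH e)⟩

theorem proper_dvd {n : ℕ} (hn : Nat.card G = n) (N : Subgroup G) (h1 : N ≠ ⊥) (h2 : N ≠ ⊤) :
    (Nat.card N ∈ n.divisors ∧ Nat.card N ≠ n) ∧ N.index ∈ n.divisors ∧ N.index ≠ n ∧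
      Nat.card N * N.index = n := by
  have hmul := N.card_mul_index
  rw [hn] at hmul
  have hn0 : n ≠ 0 := hn ▸ Nat.card_pos.ne'
  have h1N : 1 < Nat.card N := N.one_lt_card_iff_ne_bot.mpr h1
  have hi : N.index ≠ 1 := fun e => h2 (index_eq_one.mp e)
  refine ⟨⟨Nat.mem_divisors.mpr ⟨Dvd.intro _ hmul, hn0⟩, fun e => hi ?_⟩,
    Nat.mem_divisors.mpr ⟨Dvd.intro_left _ hmul, hn0⟩, fun e => ?_, hmul⟩
  · rw [e] at hmul
    exact Nat.eq_of_mul_eq_mul_left (Nat.pos_of_ne_zero hn0) (by rw [hmul, mul_one])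
  · rw [e] at hmul
    have : Nat.card N = 1 :=
      Nat.eq_of_mul_eq_mul_right (Nat.pos_of_ne_zero hn0) (by rw [hmul, one_mul])
    omega

/-- The Sylow subgroup of a group that is not simple, for a prime without exceptions. -/
theorem not_mem_of_not_simple {n p : ℕ} [hp : Fact p.Prime] (hG : Nat.card G = n)
    (hns : ¬ IsSimpleGroup G) (hlt : n < 6000) (hpn : p ∣ n) (hsq : ¬ p ^ 2 ∣ n)
    (hno : ∀ d ∈ n.divisors, d ≠ n → ∀ o ∈ orders, p ∣ o → ¬ o ∣ d)
    (L : List ℕ) (hL : ∀ d ∈ n.divisors, d.Prime → d ∈ L)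
    (hpow : ∀ r ∈ L, r ≠ p → ∀ j < 13, r ^ (j + 1) ∣ n → r ^ (j + 1) % p ≠ 1) :
    p ∉ Cfsg.degreePrimes G := by
  have hn0 : 0 < n := hG ▸ Nat.card_pos
  have hnt : Nontrivial G := Finite.one_lt_card_iff_nontrivial.mp
    (hG ▸ Nat.lt_of_lt_of_le hp.out.one_lt (Nat.le_of_dvd hn0 hpn))
  obtain ⟨N, hN, hN1, hN2⟩ := exists_proper_normal hns
  obtain ⟨⟨hdN, hneN⟩, hdQ, hneQ, hmul⟩ := proper_dvd hG N hN1 hN2
  have hdN' := Nat.dvd_of_mem_divisors hdN
  have hdQ' : Nat.card (G ⧸ N) ∣ n := by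
    rw [← index_eq_card]; exact Nat.dvd_of_mem_divisors hdQ
  have hpw := pow_ne_one hn0 L hL hpow (by omega)
  obtain ⟨P⟩ := (inferInstance : Nonempty (Sylow p G))
  refine not_mem_of_prime_order P (sylow_card hG hpn hsq P) (normal_step P (sylow_card hG hpn hsq P)
    N (hG ▸ hsq) (fun hpN => ?_) fun hpN => ⟨fun r j hr hd => hpw r j hr
      (fun e => hpN (e ▸ (dvd_pow_self r j.succ_ne_zero).trans hd)) (hd.trans hdN'), ?_⟩)
  · exact normal_of_good (Nat.card N) N rfl hpN (fun h => hsq (h.trans hdN'))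
      (fun r j hr hne hd => hpw r j hr hne (hd.trans hdN'))
      (noSimple_of_list Nat.card_pos (lt_of_le_of_lt (Nat.le_of_dvd hn0 hdN') hlt) (hno _ hdN hneN))
  · refine normal_of_good (Nat.card (G ⧸ N)) (G ⧸ N) rfl ?_ (fun h => hsq (h.trans hdQ'))
      (fun r j hr hne hd => hpw r j hr hne (hd.trans hdQ'))
      (noSimple_of_list Nat.card_pos (lt_of_le_of_lt (Nat.le_of_dvd hn0 hdQ') hlt)
        (by rw [← index_eq_card]; exact hno _ hdQ hneQ))
    rw [← index_eq_card]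
    rw [← hmul] at hpn
    exact (hp.out.dvd_mul.mp hpn).resolve_left hpN

theorem not_mem_60 (h : Nat.card G = 60) (hns : ¬ IsSimpleGroup G) :
    5 ∉ Cfsg.degreePrimes G := by
  have : Fact (Nat.Prime 5) := ⟨by norm_num⟩
  exact not_mem_of_not_simple h hns (by norm_num) (by norm_num) (by norm_num) (by decide +kernel)
    [2, 3, 5] (by decide +kernel) (by decide +kernel)

theorem not_mem_660 (h : Nat.card G = 660) (hns : ¬ IsSimpleGroup G) :
    11 ∉ Cfsg.degreePrimes G := by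
  have : Fact (Nat.Prime 11) := ⟨by norm_num⟩
  exact not_mem_of_not_simple h hns (by norm_num) (by norm_num) (by norm_num) (by decide +kernel)
    [2, 3, 5, 11] (by decide +kernel) (by decide +kernel)

theorem not_mem_1092 (h : Nat.card G = 1092) (hns : ¬ IsSimpleGroup G) :
    13 ∉ Cfsg.degreePrimes G := by
  have : Fact (Nat.Prime 13) := ⟨by norm_num⟩
  exact not_mem_of_not_simple h hns (by norm_num) (by norm_num) (by norm_num) (by decide +kernel)
    [2, 3, 7, 13] (by decide +kernel) (by decide +kernel)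

theorem not_mem_2448 (h : Nat.card G = 2448) (hns : ¬ IsSimpleGroup G) :
    17 ∉ Cfsg.degreePrimes G := by
  have : Fact (Nat.Prime 17) := ⟨by norm_num⟩
  exact not_mem_of_not_simple h hns (by norm_num) (by norm_num) (by norm_num) (by decide +kernel)
    [2, 3, 17] (by decide +kernel) (by decide +kernel)

theorem not_mem_3420 (h : Nat.card G = 3420) (hns : ¬ IsSimpleGroup G) :
    19 ∉ Cfsg.degreePrimes G := by
  have : Fact (Nat.Prime 19) := ⟨by norm_num⟩
  exact not_mem_of_not_simple h hns (by norm_num) (by norm_num) (by norm_num) (by decide +kernel)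
    [2, 3, 5, 19] (by decide +kernel) (by decide +kernel)

theorem not_mem_4080 (h : Nat.card G = 4080) (hns : ¬ IsSimpleGroup G) :
    17 ∉ Cfsg.degreePrimes G := by
  have : Fact (Nat.Prime 17) := ⟨by norm_num⟩
  exact not_mem_of_not_simple h hns (by norm_num) (by norm_num) (by norm_num) (by decide +kernel)
    [2, 3, 5, 17] (by decide +kernel) (by decide +kernel)

/-- The three-prime orders where a prime power is `1` modulo the largest prime. -/
theorem three_prime_cases {p r s a b n m : ℕ} [hp : Fact p.Prime] [hr : Fact r.Prime]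
    (D : Data p r s a b n) (hG : Nat.card G = n) (hns : ¬ IsSimpleGroup G) (hlt : n < 6000)
    (hf : ∀ d ∈ n.divisors, d ≠ n → ∀ o ∈ orders, p ∣ o → o ∣ d → r ^ a ∣ o ∧
      ∀ (H : Type u) [Group H] [Finite H] [IsSimpleGroup H], Nat.card H = o → DegDvd m H) :
    p ∉ Cfsg.degreePrimes G ∨ r ∉ Cfsg.degreePrimes G ∨ DegDvd m G := by
  have hn0 : 0 < n := hG ▸ Nat.card_pos
  have hfac : ∀ d, d ∣ n → d ≠ n → Factors.{u} p r a m d := by
    intro d hd hne H _ _ _ hnc hpH hdH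
    have hd0 : 0 < d := Nat.pos_of_dvd_of_pos hd hn0
    obtain ⟨h1, h2⟩ := hf d (Nat.mem_divisors.mpr ⟨hd, hn0.ne'⟩) hne _ (card_mem hnc
      (lt_of_le_of_lt (Nat.le_of_dvd hd0 hdH) (lt_of_le_of_lt (Nat.le_of_dvd hn0 hd) hlt))) hpH hdH
    exact ⟨h1, h2 H rfl⟩
  rcases D.main_not_simple G hG hns hfac with h | ⟨R, hR, hRc⟩ | h
  · obtain ⟨P⟩ := (inferInstance : Nonempty (Sylow p G))
    exact Or.inl (not_mem_of_prime_order P
      (sylow_card hG (D.card_eq ▸ dvd_mul_right p _) D.not_sq P) (h P))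
  · exact Or.inr (Or.inl (not_mem_degreePrimes R hR hRc))
  · exact Or.inr (Or.inr h)

theorem data_168 : Data 7 2 3 3 1 168 := by
  constructor <;> decide +kernel

theorem data_504 : Data 7 2 3 3 2 504 := by
  constructor <;> decide +kernel

theorem data_5616 : Data 13 3 2 3 4 5616 := by
  constructor <;> decide +kernel

theorem not_mem_168 (h : Nat.card G = 168) (hns : ¬ IsSimpleGroup G) :
    7 ∉ Cfsg.degreePrimes G ∨ 2 ∉ Cfsg.degreePrimes G := by
  have : Fact (Nat.Prime 7) := ⟨by norm_num⟩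
  have : Fact (Nat.Prime 2) := ⟨Nat.prime_two⟩
  have hno : ∀ d ∈ Nat.divisors 168, d ≠ 168 → ∀ o ∈ orders, 7 ∣ o → ¬ o ∣ d := by decide +kernel
  rcases three_prime_cases (m := 0) data_168 h hns (by norm_num)
    (fun d hd hne o ho h7 hod => absurd hod (hno d hd hne o ho h7)) with h1 | h1 | ⟨χ, hχ⟩
  · exact Or.inl h1
  · exact Or.inr h1
  · exact absurd (Nat.eq_zero_of_zero_dvd hχ) (CfsgLib.Chars17.irrDegree_pos χ).ne'

theorem not_mem_5616 (h : Nat.card G = 5616) (hns : ¬ IsSimpleGroup G) :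
    13 ∉ Cfsg.degreePrimes G ∨ 3 ∉ Cfsg.degreePrimes G := by
  have : Fact (Nat.Prime 13) := ⟨by norm_num⟩
  have : Fact (Nat.Prime 3) := ⟨Nat.prime_three⟩
  have hno : ∀ d ∈ Nat.divisors 5616, d ≠ 5616 → ∀ o ∈ orders, 13 ∣ o → ¬ o ∣ d := by decide +kernel
  rcases three_prime_cases (m := 0) data_5616 h hns (by norm_num)
    (fun d hd hne o ho h7 hod => absurd hod (hno d hd hne o ho h7)) with h1 | h1 | ⟨χ, hχ⟩
  · exact Or.inl h1
  · exact Or.inr h1
  · exact absurd (Nat.eq_zero_of_zero_dvd hχ) (CfsgLib.Chars17.irrDegree_pos χ).ne'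

theorem not_mem_504 (h : Nat.card G = 504) (hns : ¬ IsSimpleGroup G)
    (h6 : ∀ (H : Type u) [Group H] [Finite H] [IsSimpleGroup H], Nat.card H = 168 → DegDvd 6 H) :
    7 ∉ Cfsg.degreePrimes G ∨ 2 ∉ Cfsg.degreePrimes G ∨ DegDvd 6 G := by
  have : Fact (Nat.Prime 7) := ⟨by norm_num⟩
  have : Fact (Nat.Prime 2) := ⟨Nat.prime_two⟩
  have hno : ∀ d ∈ Nat.divisors 504, d ≠ 504 → ∀ o ∈ orders, 7 ∣ o → o ∣ d → o = 168 := by
    decide +kernel
  refine three_prime_cases data_504 h hns (by norm_num) fun d hd hne o ho h7 hod => ?_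
  obtain rfl := hno d hd hne o ho h7 hod
  exact ⟨by norm_num, fun H _ _ _ => h6 H⟩

end CfsgLib.Small.GraphTools
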