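import Cfsg.Agent.Lib.Small.OrderSixty
import Cfsg.Agent.Lib.Small.AbelianFocal
import Cfsg.Agent.Lib.Small.TwentyOneFinal
import Cfsg.Agent.Lib.Small.Intersection

/-!
Simple groups of order 2520: Sylow numbers, and conjugation of subgroups.
-/

set_option autoImplicit false
set_option linter.unusedSectionVars false

namespace CfsgLib.Small.Order2520

open Subgroup MulAction CfsgLib.Small CfsgLib.SylowNumber

section Basic

variable {G : Type*} [Group G]

/-- Conjugate of a subgroup. -/
def cj (g : G) (X : Subgroup G) : Subgroup G := X.map (MulAut.conj g).toMonoidHom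

theorem mem_cj {g x : G} {X : Subgroup G} : x ∈ cj g X ↔ g⁻¹ * x * g ∈ X := by
  rw [cj, Subgroup.mem_map_equiv]
  simp

theorem cj_one (X : Subgroup G) : cj 1 X = X := by
  ext x; simp [mem_cj]

theorem cj_cj (g h : G) (X : Subgroup G) : cj g (cj h X) = cj (g * h) X := by
  ext x; simp [mem_cj, mul_assoc]

theorem card_cj (g : G) (X : Subgroup G) : Nat.card (cj g X) = Nat.card X :=
  (Nat.card_congr (X.equivMapOfInjective _ (MulAut.conj g).injective).toEquiv).symm

theorem cj_mono {g : G} {X Y : Subgroup G} (h : X ≤ Y) : cj g X ≤ cj g Y := Subgroup.map_mono h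

theorem cj_inj {g : G} {X Y : Subgroup G} (h : cj g X = cj g Y) : X = Y :=
  Subgroup.map_injective (MulAut.conj g).injective h

theorem cj_le_iff {g : G} {X Y : Subgroup G} : cj g X ≤ cj g Y ↔ X ≤ Y :=
  Subgroup.map_le_map_iff_of_injective (MulAut.conj g).injective

theorem cj_sup (g : G) (X Y : Subgroup G) : cj g (X ⊔ Y) = cj g X ⊔ cj g Y := Subgroup.map_sup _ _ _

theorem cj_eq_self_iff {g : G} {X : Subgroup G} : cj g X = X ↔ g ∈ normalizer (X : Set G) := by
  rw [mem_normalizer_iff]
  constructor
  · intro h k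
    have := (mem_cj (g := g) (x := g * k * g⁻¹) (X := X)).symm
    rw [h] at this
    simpa [mul_assoc] using this
  · intro h
    ext x
    rw [mem_cj, h]
    simp [mul_assoc]

theorem cj_self_of_mem {g : G} {X : Subgroup G} (h : g ∈ X) : cj g X = X :=
  cj_eq_self_iff.mpr (le_normalizer h)

theorem cj_self_of_centralizes {g : G} {X : Subgroup G} (h : g ∈ centralizer (X : Set G)) :
    cj g X = X :=
  cj_eq_self_iff.mpr (centralizer_le_normalizer' _ h)

theorem cj_zpowers (g x : G) : cj g (zpowers x) = zpowers (g * x * g⁻¹) :=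
  (MonoidHom.map_zpowers _ x).trans (by simp)

theorem cj_centralizer (g : G) (X : Subgroup G) :
    cj g (centralizer (X : Set G)) = centralizer (cj g X : Set G) := by
  ext x
  simp only [mem_cj, mem_centralizer_iff, SetLike.mem_coe]
  constructor
  · intro h y hy
    have := h _ hy
    calc y * x = g * (g⁻¹ * y * g * (g⁻¹ * x * g)) * g⁻¹ := by group
      _ = g * (g⁻¹ * x * g * (g⁻¹ * y * g)) * g⁻¹ := by rw [this]
      _ = x * y := by group
  · intro h y hy
    have := h (g * y * g⁻¹) (by simpa [mul_assoc] using hy)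
    calc y * (g⁻¹ * x * g) = g⁻¹ * (g * y * g⁻¹ * x) * g := by group
      _ = g⁻¹ * (x * (g * y * g⁻¹)) * g := by rw [this]
      _ = g⁻¹ * x * g * y := by group

theorem cj_sylow {p : ℕ} [Fact p.Prime] [Finite G] (g : G) (T : Sylow p G) :
    ((g • T : Sylow p G) : Subgroup G) = cj g (T : Subgroup G) := by
  ext x
  rw [mem_cj, Sylow.coe_subgroup_smul, Subgroup.mem_pointwise_smul_iff_inv_smul_mem]
  simp [MulAut.smul_def]

theorem commute_of_le_centralizer {A B : Subgroup G} (h : A ≤ centralizer (B : Set G)) {a b : G}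
    (ha : a ∈ A) (hb : b ∈ B) : Commute a b :=
  (mem_centralizer_iff.mp (h ha) b hb).symm

theorem le_centralizer_self_of_card_sq {p : ℕ} [Fact p.Prime] {A : Subgroup G}
    (hA : Nat.card A = p ^ 2) : A ≤ centralizer (A : Set G) := by
  intro x hx
  rw [mem_centralizer_iff]
  intro y hy
  have := IsPGroup.commutative_of_card_eq_prime_sq hA (⟨y, hy⟩ : A) ⟨x, hx⟩
  exact congrArg Subtype.val this

/-- An element of prime order normalising `H` centralises a non-trivial element of `H` unless
`|H| ≡ 1`. -/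
theorem exists_ne_one_commute [Finite G] {H : Subgroup G} {x : G} {r : ℕ} [Fact r.Prime]
    (hx : x ^ r = 1) (hn : x ∈ normalizer (H : Set G)) (hnd : Nat.card H % r ≠ 1) :
    ∃ h ∈ H, h ≠ 1 ∧ Commute x h := by
  classical
  have := Fintype.ofFinite G
  let : Fintype (ConjAct G) := Fintype.ofFinite _
  by_contra hcon
  push Not at hcon
  let A : Finset G := (H : Set G).toFinite.toFinset
  have hA : ∀ a, a ∈ A ↔ a ∈ H := fun a => by simp [A]
  have hy : (ConjAct.toConjAct x) ^ r = 1 := by rw [← map_pow, hx, map_one]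
  have h1 := card_modEq_card_filter_fixed (α := G) hy A fun a ha => by
    rw [hA] at ha ⊢
    rw [ConjAct.smul_def, ConjAct.ofConjAct_toConjAct]
    exact (mem_normalizer_iff.mp hn a).mp ha
  have h2 : (A.filter fun a => ConjAct.toConjAct x • a = a) = {1} := by
    ext a
    rw [Finset.mem_filter, Finset.mem_singleton, hA, ConjAct.smul_def, ConjAct.ofConjAct_toConjAct,
      mul_inv_eq_iff_eq_mul]
    refine ⟨fun h => by_contra fun h' => hcon a h.1 h' h.2, fun h => ?_⟩
    subst h
    simp
  have h3 : A.card = Nat.card H :=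
    ((Nat.card_coe_set_eq (H : Set G)).trans (Set.ncard_eq_toFinset_card _ _)).symm
  rw [h2, Finset.card_singleton, h3, Nat.ModEq, Nat.mod_eq_of_lt (Fact.out : r.Prime).one_lt] at h1
  exact hnd h1

/-- Central elements of the normaliser of an abelian Sylow subgroup of a simple group are
trivial. -/
theorem eq_one_of_normalizer_centralizes [Finite G] [IsSimpleGroup G] {p : ℕ} [Fact p.Prime]
    (hG : ¬ IsMulCommutative G) (T : Sylow p G) (hab : IsMulCommutative (T : Subgroup G)) {x : G}
    (hx : x ∈ (T : Subgroup G))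
    (hc : ∀ g ∈ normalizer ((T : Subgroup G) : Set G), Commute g x) : x = 1 := by
  let : CommGroup (T : Subgroup G) :=
    { (inferInstance : Group (T : Subgroup G)) with mul_comm := hab.is_comm.comm }
  have key : ∀ (k : ℕ) (g₀ : G), g₀⁻¹ * x ^ k * g₀ ∈ (T : Subgroup G) →
      g₀⁻¹ * x ^ k * g₀ = x ^ k := by
    intro k g₀ hk
    obtain ⟨n, hn, e⟩ := T.conj_eq_normalizer_conj_of_mem (x ^ k) g₀ (pow_mem hx k) hk
    rw [e, mul_assoc, ← ((hc n hn).pow_right k).eq, inv_mul_cancel_left]
  have h1 := MonoidHom.transfer_eq_pow (MonoidHom.id (T : Subgroup G)) x key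
  rw [hom_comm_eq_one hG, MonoidHom.id_apply] at h1
  have h2 : x ^ (T : Subgroup G).index = 1 := (congrArg Subtype.val h1).symm
  have h3 : orderOf x ∣ (T : Subgroup G).index := orderOf_dvd_of_pow_eq_one h2
  obtain ⟨j, hj⟩ := T.2 ⟨x, hx⟩
  have h4 : orderOf x ∣ p ^ j := orderOf_dvd_of_pow_eq_one (congrArg Subtype.val hj)
  have h5 := ((Fact.out : p.Prime).coprime_iff_not_dvd.mpr T.not_dvd_index).pow_left j
  exact orderOf_eq_one_iff.mp (Nat.dvd_one.mp (h5.gcd_eq_one ▸ Nat.dvd_gcd h4 h3))

end Basic

variable {G : Type*} [Group G] [Finite G]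

/-- The numerical data of a simple group of order 2520 without a subgroup of index 7. -/
structure Data (G : Type*) [Group G] : Prop where
  card : Nat.card G = 2520
  card_sylow : ∀ T : Sylow 3 G, Nat.card (T : Subgroup G) = 9
  card_normalizer : ∀ T : Sylow 3 G, Nat.card (normalizer ((T : Subgroup G) : Set G)) = 36
  num : Nat.card (Sylow 3 G) = 70
  five : ∀ x : G, orderOf x = 5 → Nat.card (centralizer (zpowers x : Set G)) ∣ 10
  seven : ∀ x : G, orderOf x = 7 → Nat.card (centralizer (zpowers x : Set G)) = 7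

theorem eq_pow_of_centralizer {x : G} {r : ℕ} [Fact r.Prime] (hx : orderOf x = r)
    (hr : ∀ P : Sylow r G, Nat.card P = r) {c : ℕ}
    (hc : ∀ P : Sylow r G, Nat.card (centralizer ((P : Subgroup G) : Set G)) = c) :
    Nat.card (centralizer (zpowers x : Set G)) = c := by
  obtain ⟨P, hP, -⟩ := exists_unique_sylow_mem hx hr
  rw [← eq_zpowers_of_mem (hr P) hP fun h => (Fact.out : r.Prime).ne_one (by
    rw [← hx, h, orderOf_one])]
  exact hc P

theorem exists_orderOf_of_dvd {H : Subgroup G} {r : ℕ} [Fact r.Prime] (h : r ∣ Nat.card H) :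
    ∃ x ∈ H, orderOf x = r := by
  obtain ⟨⟨x, hx⟩, hx'⟩ := exists_prime_orderOf_dvd_card' (G := H) r h
  exact ⟨x, hx, by rwa [Subgroup.orderOf_mk] at hx'⟩

theorem dvd_centralizer_of_commute {x y : G} (h : Commute x y) :
    orderOf y ∣ Nat.card (centralizer (zpowers x : Set G)) := by
  rw [← Nat.card_zpowers]
  refine card_dvd_of_le (zpowers_le.mpr (mem_centralizer_iff.mpr fun z hz => ?_))
  obtain ⟨n, rfl⟩ := mem_zpowers_iff.mp hz
  exact (h.zpow_left n).eq

section Simple

variable [IsSimpleGroup G]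

theorem nc (h : Nat.card G = 2520) : ¬ IsMulCommutative G :=
  nc_of_not_prime (by rw [h]; norm_num)

theorem card_seven (h : Nat.card G = 2520) [Fact (Nat.Prime 7)] (P : Sylow 7 G) : Nat.card P = 7 :=
  by simpa using card_sylow_of_card_eq (k := 1) (m := 360) (by rw [h]; norm_num) (by norm_num) P

theorem card_five (h : Nat.card G = 2520) [Fact (Nat.Prime 5)] (P : Sylow 5 G) : Nat.card P = 5 :=
  by simpa using card_sylow_of_card_eq (k := 1) (m := 504) (by rw [h]; norm_num) (by norm_num) P

theorem five_cases (h : Nat.card G = 2520) [Fact (Nat.Prime 5)] (P : Sylow 5 G) :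
    Nat.card (centralizer ((P : Subgroup G) : Set G)) = 35 ∨
      Nat.card (centralizer ((P : Subgroup G) : Set G)) ∣ 10 := by
  obtain ⟨e, he1, he2, ⟨c, hc⟩, -, hall⟩ := sylow_prime_order_data (nc h) P (card_five h P)
  rw [hc, h] at hall
  rw [hc]
  have hmem := card_sylow_mem (p := 5) (nc h) (k := 1) (m := 504) one_ne_zero
    (by rw [h]; norm_num) (by norm_num)
  have hn : ∀ d ∈ (Nat.divisors 504).filter fun n => n % 5 = 1 ∧ 1 < n,
      d = 6 ∨ d = 21 ∨ d = 36 ∨ d = 56 ∨ d = 126 := by decide +kernel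
  have he : ∀ d ∈ Nat.divisors (5 - 1), 1 < d → d = 2 ∨ d = 4 := by decide
  have he := he e (Nat.mem_divisors.mpr ⟨he2, by norm_num⟩) he1
  have h5 : 5 ∣ Nat.card G := by rw [h]; norm_num
  rcases hn _ hmem with h' | h' | h' | h' | h'
  · exfalso
    have := two_mul_card_dvd_factorial_card_sylow (p := 5) (nc h) h5
    rw [h', h] at this
    norm_num [Nat.factorial] at this
  · exact (TwentyOne.no_simple_twentyone h').elim
  all_goals rw [h'] at hall
  · left; rcases he with rfl | rfl <;> omega
  · exfalso; rcases he with rfl | rfl <;> omega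
  · right
    rcases he with rfl | rfl
    · rw [show c = 2 by omega]
    · rw [show c = 1 by omega]
      norm_num

theorem seven_cases (h : Nat.card G = 2520) [Fact (Nat.Prime 7)] (P : Sylow 7 G) :
    Nat.card (centralizer ((P : Subgroup G) : Set G)) = 7 := by
  classical
  have : Fact (Nat.Prime 5) := ⟨by norm_num⟩
  have : Fact (Nat.Prime 2) := ⟨Nat.prime_two⟩
  have := Fintype.ofFinite (Sylow 7 G)
  obtain ⟨e, he1, he2, ⟨c, hc⟩, heN, hall⟩ := sylow_prime_order_data (nc h) P (card_seven h P)
  rw [hc, h] at hall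
  have hmem := card_sylow_mem (p := 7) (nc h) (k := 1) (m := 360) one_ne_zero
    (by rw [h]; norm_num) (by norm_num)
  have hn : ∀ d ∈ (Nat.divisors 360).filter fun n => n % 7 = 1 ∧ 1 < n,
      d = 8 ∨ d = 15 ∨ d = 36 ∨ d = 120 := by decide +kernel
  have he : ∀ d ∈ Nat.divisors (7 - 1), 1 < d → d = 2 ∨ d = 3 ∨ d = 6 := by decide
  have he := he e (Nat.mem_divisors.mpr ⟨he2, by norm_num⟩) he1
  have h7 : 7 ∣ Nat.card G := by rw [h]; norm_num
  have hinj := sylow_toPermHom_injective (p := 7) (nc h) h7
  set C := centralizer ((P : Subgroup G) : Set G) with hC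
  have hcases : Nat.card (Sylow 7 G) = 8 ∨ Nat.card (Sylow 7 G) = 15 ∨
      Nat.card (Sylow 7 G) = 36 ∨ Nat.card (Sylow 7 G) = 120 := hn _ hmem
  have hmod : ∀ x ∈ C, (fixFinset (Sylow 7 G) x).card % 7 = 1 := fun x hx =>
    TwentyOne.card_fix_mod_prime (card_seven h) (P := P) hx
  have hne : ∀ {r : ℕ}, r.Prime → ∀ x : G, orderOf x = r →
      (fixFinset (Sylow 7 G) x).card ≠ Fintype.card (Sylow 7 G) := by
    intro r hr x hx e'
    rw [eq_one_of_fix_eq_univ (α := Sylow 7 G) hinj e', orderOf_one] at hx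
    exact hr.ne_one hx.symm
  have hle : ∀ x : G, (fixFinset (Sylow 7 G) x).card ≤ Fintype.card (Sylow 7 G) := fun x =>
    Finset.card_le_univ _
  rw [Nat.card_eq_fintype_card] at hcases hall
  rcases hcases with h' | h' | h' | h' <;> rw [h'] at hall
  · exfalso
    obtain ⟨x, hxC, hx⟩ := exists_orderOf_of_dvd (H := C) (r := 5)
      (by rw [hc]; rcases he with rfl | rfl | rfl <;> omega)
    have h1 := hmod x hxC
    have h2 := card_fix_modEq (α := Sylow 7 G) (r := 5)
      (orderOf_dvd_iff_pow_eq_one.mp (dvd_of_eq hx))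
    have h3 := hne (by norm_num : Nat.Prime 5) x hx
    have h4 := hle x
    rw [h'] at h2 h3 h4
    rw [Nat.ModEq] at h2
    omega
  · exfalso
    obtain ⟨x, hxC, hx⟩ := exists_orderOf_of_dvd (H := C) (r := 2)
      (by rw [hc]; rcases he with rfl | rfl | rfl <;> omega)
    have h1 := hmod x hxC
    have h2 := four_dvd_card_support (α := Sylow 7 G)
      (orderOf_dvd_iff_pow_eq_one.mp (dvd_of_eq hx)) (sign_toPerm (nc h) x)
    have h3 := hne Nat.prime_two x hx
    have h4 := hle x
    rw [h'] at h2 h3 h4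
    omega
  · exfalso
    have hc5 : c = 5 ∧ e = 2 := by rcases he with rfl | rfl | rfl <;> omega
    obtain ⟨rfl, rfl⟩ := hc5
    have h35 : Nat.card C = 35 := by rw [hc]
    obtain ⟨x5, hx5C, hx5⟩ := exists_orderOf_of_dvd (H := C) (r := 5) (by rw [h35]; norm_num)
    have hN : Nat.card (normalizer ((P : Subgroup G) : Set G)) = 70 := by rw [← heN, h35]
    obtain ⟨i, hiN, hi⟩ := exists_orderOf_of_dvd (H := normalizer ((P : Subgroup G) : Set G))
      (r := 2) (by rw [hN]; norm_num)
    have hi2 : i ^ 2 = 1 := orderOf_dvd_iff_pow_eq_one.mp (dvd_of_eq hi)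
    have hPm : ∀ u ∈ (P : Subgroup G), u • P = P := fun u hu => (smul_eq_self_iff_mem hu).mpr hu
    have hC5 : ∀ u : G, orderOf u = 5 → Nat.card (centralizer (zpowers u : Set G)) = 35 ∨
        Nat.card (centralizer (zpowers u : Set G)) ∣ 10 := fun u hu => by
      obtain ⟨R, hR, -⟩ := exists_unique_sylow_mem hu (card_five h)
      rw [← eq_zpowers_of_mem (card_five h R) hR fun h' => by simp [h'] at hu]
      exact five_cases h R
    have hno5 : ∀ u ∈ C, orderOf u = 5 → ¬ Commute u i := by
      intro u huC hu hui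
      have h7u : 7 ∣ Nat.card (centralizer (zpowers u : Set G)) := by
        obtain ⟨y, hy, hy7⟩ := exists_orderOf_of_dvd (H := (P : Subgroup G)) (r := 7)
          (by rw [card_seven h P])
        exact hy7 ▸ dvd_centralizer_of_commute (mem_centralizer_iff.mp huC y hy).symm
      have h2u : 2 ∣ Nat.card (centralizer (zpowers u : Set G)) :=
        hi ▸ dvd_centralizer_of_commute hui
      rcases hC5 u hu with h0 | h0
      · rw [h0] at h2u; omega
      · have := h7u.trans h0
        norm_num at this
    have hno7 : ∀ u ∈ C, orderOf u = 7 → ¬ Commute u i := by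
      intro u huC hu hui
      have huP : u ∈ (P : Subgroup G) := by
        obtain ⟨Q, hQ, -⟩ := exists_unique_sylow_mem hu (card_seven h)
        have hQP : Q = P := by
          have hpg : IsPGroup 7 (zpowers u) :=
            IsPGroup.of_card (n := 1) (by rw [Nat.card_zpowers, hu, pow_one])
          have h2 : u ∈ zpowers u ⊓ (P : Subgroup G) :=
            hpg.inf_normalizer_sylow P ▸
              Subgroup.mem_inf.mpr ⟨mem_zpowers u, centralizer_le_normalizer' _ huC⟩
          exact (exists_unique_sylow_mem hu (card_seven h)).unique hQ h2.2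
        exact hQP ▸ hQ
      have hiC : i ∈ C := by
        rw [hC, eq_zpowers_of_mem (card_seven h P) huP fun h' => by simp [h'] at hu,
          mem_centralizer_iff]
        intro z hz
        obtain ⟨n, rfl⟩ := mem_zpowers_iff.mp hz
        exact (hui.zpow_left n).eq
      have := orderOf_dvd_natCard (⟨i, hiC⟩ : C)
      rw [Subgroup.orderOf_mk, h35, hi] at this
      norm_num at this
    have hno : ∀ u ∈ C, Commute u i → u = 1 := by
      intro u hu hui
      by_contra hu1
      have hd : orderOf u ∣ 35 := by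
        have := orderOf_dvd_natCard (⟨u, hu⟩ : C)
        rwa [Subgroup.orderOf_mk, h35] at this
      obtain ⟨r, hr, hrd⟩ := Nat.exists_prime_and_dvd (n := orderOf u)
        (fun h0 => hu1 (orderOf_eq_one_iff.mp h0))
      have hy := orderOf_pow_orderOf_div (orderOf_pos u).ne' hrd
      have hr' : ∀ d ∈ Nat.divisors 35, d.Prime → d = 5 ∨ d = 7 := by decide
      rcases hr' r (Nat.mem_divisors.mpr ⟨hrd.trans hd, by norm_num⟩) hr with rfl | rfl
      · exact hno5 _ (pow_mem hu _) hy (hui.pow_left _)
      · exact hno7 _ (pow_mem hu _) hy (hui.pow_left _)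
    -- the cyclic group `C` is regular on the other thirty-five points
    have hfree : ∀ u ∈ C, u ≠ 1 → ∀ Q : Sylow 7 G, u • Q = Q → Q = P := by
      intro u hu hu1 Q hQ
      obtain ⟨r, hr, hrd⟩ := Nat.exists_prime_and_dvd (n := orderOf u)
        (fun h0 => hu1 (orderOf_eq_one_iff.mp h0))
      have : Fact r.Prime := ⟨hr⟩
      set y := u ^ (orderOf u / r) with hy'
      have hy : orderOf y = r := orderOf_pow_orderOf_div (orderOf_pos u).ne' hrd
      have hd : orderOf u ∣ 35 := by
        have := orderOf_dvd_natCard (⟨u, hu⟩ : C)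
        rwa [Subgroup.orderOf_mk, h35] at this
      have h1 := hmod y (pow_mem hu _)
      have h2 := card_fix_modEq (α := Sylow 7 G) (r := r)
        (orderOf_dvd_iff_pow_eq_one.mp (dvd_of_eq hy))
      have h3 := hne hr y hy
      have h4 := hle y
      rw [h'] at h2 h3 h4
      rw [Nat.ModEq] at h2
      have hr' : ∀ d ∈ Nat.divisors 35, d.Prime → d = 5 ∨ d = 7 := by decide
      have h5 : (fixFinset (Sylow 7 G) y).card ≤ 1 := by
        rcases hr' r (Nat.mem_divisors.mpr ⟨hrd.trans hd, by norm_num⟩) hr with rfl | rfl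
        · omega
        · obtain ⟨R, hR⟩ := (inferInstance : Nonempty (Sylow 7 G))
          have hy1 := card_fixedBy_sylow_of_orderOf_eq (card_seven h) hy
          rw [Nat.card_eq_fintype_card, Fintype.card_subtype] at hy1
          exact le_of_eq hy1
      exact (Finset.card_le_one.mp h5) Q
        (mem_fixFinset.mpr ((stabilizer G Q).pow_mem (show u ∈ stabilizer G Q from hQ) _)) P
        (mem_fixFinset.mpr (Sylow.smul_eq_iff_mem_normalizer.mpr
          (centralizer_le_normalizer' _ (pow_mem hu _))))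
    have horb : ∀ A B : Sylow 7 G, A ≠ P → B ≠ P → ∃ u ∈ C, u • A = B := by
      intro A B hA hB
      have hmaps : ∀ u ∈ C, u • A ≠ P := fun u hu hA' => hA (by
        have hPu : u • P = P :=
          Sylow.smul_eq_iff_mem_normalizer.mpr (centralizer_le_normalizer' _ hu)
        exact MulAction.injective u (hA'.trans hPu.symm))
      let f : C → {R : Sylow 7 G // R ≠ P} := fun u => ⟨(u : G) • A, hmaps u u.2⟩
      have hfi : Function.Injective f := by
        intro u v huv
        have h0 : (u : G) • A = (v : G) • A := congrArg Subtype.val huv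
        by_contra hne'
        refine hA (hfree ((v : G)⁻¹ * u) (C.mul_mem (C.inv_mem v.2) u.2) (fun h1 => hne' ?_) A ?_)
        · exact Subtype.ext (inv_mul_eq_one.mp h1).symm
        · rw [mul_smul, h0, inv_smul_smul]
      have hbij : Function.Bijective f := by
        refine (Nat.bijective_iff_injective_and_card f).mpr ⟨hfi, ?_⟩
        rw [h35, Nat.card_eq_fintype_card, Fintype.card_subtype_compl, Fintype.card_subtype_eq, h']
      obtain ⟨⟨u, hu⟩, hu'⟩ := hbij.2 ⟨B, hB⟩
      exact ⟨u, hu, congrArg Subtype.val hu'⟩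
    have hiP : i • P = P := Sylow.smul_eq_iff_mem_normalizer.mpr hiN
    have hle2 : (fixFinset (Sylow 7 G) i).card ≤ 2 := by
      by_contra h3
      push Not at h3
      obtain ⟨A, B, R, hA, hB, hR, hAB, hAR, hBR⟩ := Finset.two_lt_card_iff.mp h3
      have key : ∀ A B : Sylow 7 G, A ∈ fixFinset (Sylow 7 G) i → B ∈ fixFinset (Sylow 7 G) i →
          A ≠ P → B ≠ P → A = B := by
        intro A B hA hB hA' hB'
        rw [mem_fixFinset] at hA hB
        obtain ⟨u, hu, rfl⟩ := horb A B hA' hB'
        have hiu : i * u * i⁻¹ ∈ C := by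
          rw [hC, mem_centralizer_iff]
          intro z hz
          have hz' : i⁻¹ * z * i ∈ (P : Subgroup G) := by
            have := (mem_normalizer_iff.mp (inv_mem hiN) z).mp hz
            simpa using this
          have := mem_centralizer_iff.mp hu _ hz'
          calc z * (i * u * i⁻¹) = i * (i⁻¹ * z * i * u) * i⁻¹ := by group
            _ = i * (u * (i⁻¹ * z * i)) * i⁻¹ := by rw [this]
            _ = i * u * i⁻¹ * z := by group
        have hfix : (u⁻¹ * (i * u * i⁻¹)) • A = A := by
          have hA2 : i⁻¹ • A = A := by conv_lhs => rw [← hA, inv_smul_smul]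
          rw [mul_smul, mul_smul, mul_smul, hA2, hB, inv_smul_smul]
        have h1 : u⁻¹ * (i * u * i⁻¹) = 1 := by_contra fun h1 =>
          hA' (hfree _ (C.mul_mem (C.inv_mem hu) hiu) h1 A hfix)
        have h2 : u = i * u * i⁻¹ := inv_mul_eq_one.mp h1
        have hu1 := hno u hu (eq_mul_inv_iff_mul_eq.mp h2)
        rw [hu1, one_smul]
      rcases eq_or_ne A P with rfl | hA'
      · exact hBR (key B R hB hR (Ne.symm hAB) (Ne.symm hAR))
      · rcases eq_or_ne B P with rfl | hB'
        · exact hAR (key A R hA hR hA' (Ne.symm hBR))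
        · exact hAB (key A B hA hB hA' hB')
    have h4 := four_dvd_card_support (α := Sylow 7 G) hi2 (sign_toPerm (nc h) i)
    have h5 : 0 < (fixFinset (Sylow 7 G) i).card :=
      Finset.card_pos.mpr ⟨P, mem_fixFinset.mpr hiP⟩
    rw [h'] at h4
    omega
  · rcases he with rfl | rfl | rfl <;> rw [hc] <;> omega

theorem five_dvd_ten (h : Nat.card G = 2520) [Fact (Nat.Prime 5)] (P : Sylow 5 G) :
    Nat.card (centralizer ((P : Subgroup G) : Set G)) ∣ 10 := by
  have : Fact (Nat.Prime 7) := ⟨by norm_num⟩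
  refine (five_cases h P).resolve_left fun h35 => ?_
  obtain ⟨y, hy, hy7⟩ := exists_orderOf_of_dvd
    (H := centralizer ((P : Subgroup G) : Set G)) (r := 7) (by rw [h35]; norm_num)
  obtain ⟨x, hx, hx5⟩ := exists_orderOf_of_dvd (H := (P : Subgroup G)) (r := 5)
    (by rw [card_five h P])
  have h5y : 5 ∣ Nat.card (centralizer (zpowers y : Set G)) :=
    hx5 ▸ dvd_centralizer_of_commute (mem_centralizer_iff.mp hy x hx).symm
  rw [eq_pow_of_centralizer hy7 (card_seven h) (seven_cases h)] at h5y
  norm_num at h5y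

theorem five_bound (h : Nat.card G = 2520) (x : G) (hx : orderOf x = 5) :
    Nat.card (centralizer (zpowers x : Set G)) ∣ 10 := by
  have : Fact (Nat.Prime 5) := ⟨by norm_num⟩
  obtain ⟨R, hR, -⟩ := exists_unique_sylow_mem hx (card_five h)
  rw [← eq_zpowers_of_mem (card_five h R) hR fun h' => by simp [h'] at hx]
  exact five_dvd_ten h R

theorem seven_bound (h : Nat.card G = 2520) (x : G) (hx : orderOf x = 7) :
    Nat.card (centralizer (zpowers x : Set G)) = 7 := by
  have : Fact (Nat.Prime 7) := ⟨by norm_num⟩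
  exact eq_pow_of_centralizer hx (card_seven h) (seven_cases h)

/-- Either there is a subgroup of index 7, or the numerical data hold. -/
theorem index_seven_or_data (h : Nat.card G = 2520) :
    (∃ H : Subgroup G, H.index = 7) ∨ Data G := by
  have : Fact (Nat.Prime 3) := ⟨Nat.prime_three⟩
  have : Fact (Nat.Prime 5) := ⟨by norm_num⟩
  have : Fact (Nat.Prime 7) := ⟨by norm_num⟩
  have hT : ∀ T : Sylow 3 G, Nat.card (T : Subgroup G) = 9 := fun T => by
    simpa using card_sylow_of_card_eq (k := 2) (m := 280) (by rw [h]; norm_num) (by norm_num) T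
  have hmem := card_sylow_mem (p := 3) (nc h) (k := 2) (m := 280) (by norm_num)
    (by rw [h]; norm_num) (by norm_num)
  have hn : ∀ d ∈ (Nat.divisors 280).filter fun n => n % 3 = 1 ∧ 1 < n,
      d = 4 ∨ d = 7 ∨ d = 10 ∨ d = 28 ∨ d = 40 ∨ d = 70 ∨ d = 280 := by decide +kernel
  obtain ⟨T⟩ := (inferInstance : Nonempty (Sylow 3 G))
  have hmul := card_normalizer_mul_card_sylow T
  rw [h] at hmul
  have h3 : 3 ∣ Nat.card G := by rw [h]; norm_num
  have hab : (T : Subgroup G) ≤ centralizer ((T : Subgroup G) : Set G) :=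
    le_centralizer_self_of_card_sq (p := 3) (by rw [hT T]; norm_num)
  -- an element of order 5 or 7 cannot normalise `T`
  have hbig : ∀ r : ℕ, r = 5 ∨ r = 7 →
      ¬ r ∣ Nat.card (normalizer ((T : Subgroup G) : Set G)) := by
    intro r hr hdvd
    have : Fact r.Prime := ⟨by rcases hr with rfl | rfl <;> norm_num⟩
    obtain ⟨x, hxN, hx⟩ := exists_orderOf_of_dvd hdvd
    obtain ⟨t, ht, ht1, hc⟩ := exists_ne_one_commute (r := r)
      (orderOf_dvd_iff_pow_eq_one.mp (dvd_of_eq hx)) hxN
      (by rcases hr with rfl | rfl <;> rw [hT T] <;> norm_num)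
    have hd := dvd_centralizer_of_commute hc
    have h9 := orderOf_dvd_natCard (⟨t, ht⟩ : (T : Subgroup G))
    rw [Subgroup.orderOf_mk, hT T] at h9
    have hd2 : ∀ d ∈ Nat.divisors 9, d = 1 ∨ 3 ∣ d := by decide
    have h3t : 3 ∣ orderOf t := (hd2 _ (Nat.mem_divisors.mpr ⟨h9, by norm_num⟩)).resolve_left
      (fun e => ht1 (orderOf_eq_one_iff.mp e))
    rcases hr with rfl | rfl
    · have := (h3t.trans hd).trans (five_bound h x hx)
      norm_num at this
    · have := h3t.trans hd
      rw [seven_bound h x hx] at this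
      norm_num at this
  rcases hn _ hmem with h' | h' | h' | h' | h' | h' | h'
  · exfalso
    have := two_mul_card_dvd_factorial_card_sylow (p := 3) (nc h) h3
    rw [h', h] at this
    norm_num [Nat.factorial] at this
  · exact Or.inl ⟨_, (T.card_eq_index_normalizer).symm.trans h'⟩
  · rw [h'] at hmul; exact absurd (by omega) (hbig 7 (Or.inr rfl))
  · rw [h'] at hmul; exact absurd (by omega) (hbig 5 (Or.inl rfl))
  · rw [h'] at hmul; exact absurd (by omega) (hbig 7 (Or.inr rfl))
  · refine Or.inr ⟨h, hT, fun S => ?_, h', five_bound h, seven_bound h⟩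
    have := card_normalizer_mul_card_sylow S
    rw [h, h'] at this
    omega
  · exfalso
    rw [h'] at hmul
    refine not_normalizer_le_centralizer (nc h) h3 T ?_
    refine (eq_of_le_of_card_ge le_normalizer ?_).symm.le.trans hab
    rw [hT T]; omega

end Simple

end CfsgLib.Small.Order2520
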