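import Cfsg.Agent.Lib.Small.Order2520Graph
import Cfsg.Agent.Lib.Recognition.CosetCert

/-!
Simple groups of order 2520: generators for a subgroup of index 7.
-/

set_option autoImplicit false
set_option linter.unusedSectionVars false

namespace CfsgLib.Small.Order2520

open Subgroup MulAction CfsgLib.Small

section Cert

variable {G : Type*} [Group G] [Finite G]

open CfsgLib.CosetCert in
theorem card_closure_le {n : ℕ} (g : ℕ → G) {hgens : List ℕ} {rels words : List (List ℕ)}
    {init : List Entry} {steps : List (ℕ × ℕ × ℕ)} (H : Subgroup G)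
    (hH : ∀ a ∈ hgens, a < n ∧ g a ∈ H)
    (hrel : ∀ r ∈ rels, (∀ a ∈ r, a < n) ∧ (r.map g).prod = 1)
    (hcheck : check n hgens rels words init steps = true) :
    Nat.card (Subgroup.closure (g '' {a | a < n})) ≤ words.length * Nat.card H := by
  classical
  set K := Subgroup.closure (g '' {a | a < n}) with hK
  let g' : ℕ → K := fun a =>
    if h : a < n then ⟨g a, Subgroup.subset_closure ⟨a, h, rfl⟩⟩ else 1
  have hg' : ∀ a, a < n → (g' a : G) = g a := fun a ha => by simp [g', ha]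
  have h1 := (finite_card_le (g := g') (H := H.subgroupOf K) (n := n)
    (fun a ha => by rw [mem_subgroupOf, hg' a (hH a ha).1]; exact (hH a ha).2)
    (fun r hr => by
      refine Subtype.ext ?_
      rw [eval, ← Subgroup.coe_subtype, map_list_prod, List.map_map,
        List.map_congr_left (f := ⇑K.subtype ∘ g') (g := g)
          fun a ha => hg' a ((hrel r hr).1 a ha)]
      simpa using (hrel r hr).2)
    hcheck
    (by
      have e : g' '' {a | a < n} = (Subtype.val : K → G) ⁻¹' (g '' {a | a < n}) := by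
        ext x
        simp only [Set.mem_image, Set.mem_preimage, Set.mem_setOf_eq]
        exact ⟨fun ⟨a, ha, e⟩ => ⟨a, ha, by rw [← e, hg' a ha]⟩,
          fun ⟨a, ha, e⟩ => ⟨a, ha, Subtype.ext (by rw [hg' a ha, e])⟩⟩
      rw [e]
      exact Subgroup.closure_closure_coe_preimage)
    (fun a _ => isOfFinOrder_of_finite _)).2
  refine h1.trans (Nat.mul_le_mul_left _ ?_)
  rw [← inf_subgroupOf_right, Nat.card_congr (subgroupOfEquivOfLe inf_le_right).toEquiv]
  exact card_le_of_le inf_le_left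

/-- A subgroup generated by elements of order 3 has index at least 4 in a group having an element
`z` of order 3 outside it with `(y z)² = 1`. -/
theorem four_mul_card_le {K K' : Subgroup G} (hle : K ≤ K') {S : Set G}
    (hS : K = Subgroup.closure S) (h3 : ∀ k ∈ S, k ^ 3 = 1) {y z : G} (hy : y ∈ K) (hz : z ∈ K')
    (hz3 : z ^ 3 = 1) (hyz : (y * z) ^ 2 = 1) (hzK : z ∉ K) : 4 * Nat.card K ≤ Nat.card K' := by
  classical
  have hmul : Nat.card K * K.relIndex K' = Nat.card K' := by
    rw [← relIndex_bot_left, ← relIndex_bot_left, relIndex_mul_relIndex ⊥ _ _ bot_le hle]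
  rw [← hmul, mul_comm 4]
  refine Nat.mul_le_mul_left _ ?_
  by_contra hlt
  push Not at hlt
  set M := K.subgroupOf K'
  have := Fintype.ofFinite (K' ⧸ M)
  have hidx : Fintype.card (K' ⧸ M) = K.relIndex K' := by
    rw [← Nat.card_eq_fintype_card, ← index_eq_card]; rfl
  have : Fact (Nat.Prime 3) := ⟨Nat.prime_three⟩
  have hfix : ∀ k : K', (k : G) ∈ S → ∀ g : K', g⁻¹ * k * g ∈ M := by
    intro k hk g
    have h1 := CfsgLib.SylowNumber.card_fix_modEq (α := K' ⧸ M) (r := 3) (y := k)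
      (Subtype.ext (by simpa using h3 _ hk))
    rw [hidx, Nat.ModEq] at h1
    have h2 : 0 < (CfsgLib.SylowNumber.fixFinset (K' ⧸ M) k).card := Finset.card_pos.mpr
      ⟨QuotientGroup.mk 1, CfsgLib.SylowNumber.mem_fixFinset.mpr ((smul_mk_eq_self_iff M k 1).mpr
        (by
          rw [inv_one, one_mul, mul_one, mem_subgroupOf, hS]
          exact Subgroup.subset_closure hk))⟩
    have h4 : (CfsgLib.SylowNumber.fixFinset (K' ⧸ M) k).card ≤ K.relIndex K' :=
      hidx ▸ Finset.card_le_univ _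
    have h5 : CfsgLib.SylowNumber.fixFinset (K' ⧸ M) k = Finset.univ :=
      Finset.eq_univ_of_card _ (by rw [hidx]; omega)
    exact (smul_mk_eq_self_iff M k g).mp
      (CfsgLib.SylowNumber.mem_fixFinset.mp (h5 ▸ Finset.mem_univ _))
  have hnorm : M.Normal := by
    refine ⟨fun m hm g => ?_⟩
    have hle' : K ≤ Subgroup.comap (MulAut.conj (g : G)).toMonoidHom K := by
      rw [hS, Subgroup.closure_le]
      intro k hk
      have hkK' : k ∈ K' := hle (hS ▸ Subgroup.subset_closure hk)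
      have h := hfix ⟨k, hkK'⟩ hk g⁻¹
      rw [inv_inv, mem_subgroupOf] at h
      rw [← hS]
      simpa [Subgroup.mem_comap] using h
    rw [mem_subgroupOf] at hm ⊢
    simpa [Subgroup.mem_comap] using hle' hm
  have hq : ((⟨z, hz⟩ : K') : K' ⧸ M) = 1 := by
    have e3 : ((⟨z, hz⟩ : K') : K' ⧸ M) ^ 3 = 1 := by
      rw [← QuotientGroup.mk_pow, show (⟨z, hz⟩ : K') ^ 3 = 1 from Subtype.ext (by simpa using hz3)]
      rfl
    have ey : ((⟨y, hle hy⟩ : K') : K' ⧸ M) = 1 :=
      (QuotientGroup.eq_one_iff _).mpr (mem_subgroupOf.mpr hy)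
    have e2 : ((⟨z, hz⟩ : K') : K' ⧸ M) ^ 2 = 1 := by
      conv_lhs => rw [← one_mul ((⟨z, hz⟩ : K') : K' ⧸ M), ← ey, ← QuotientGroup.mk_mul,
        ← QuotientGroup.mk_pow]
      rw [show (⟨y, hle hy⟩ * ⟨z, hz⟩ : K') ^ 2 = 1 from Subtype.ext (by simpa using hyz)]
      rfl
    rw [pow_succ, e2, one_mul] at e3
    exact e3
  exact hzK (mem_subgroupOf.mp ((QuotientGroup.eq_one_iff _).mp hq))

end Cert

variable {G : Type*} [Group G] [Finite G] [IsSimpleGroup G] [Fact (Nat.Prime 3)]
variable (D : Data G) {Y L V W : Subgroup G} (h : Cfg Y L V W)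
include D h

theorem Data.mul_self_W {w : G} (hw : w ∈ W) : w * w = 1 := D.mul_self_V (cfg_symm h) hw

theorem Data.centralizer_le_normalizer {u : G} (hu : u ∈ W) (hu1 : u ≠ 1) :
    centralizer ({u} : Set G) ≤ normalizer (L : Set G) := by
  classical
  set C := centralizer ({u} : Set G) with hC
  have hLC : L ≤ C := fun l hl => mem_centralizer_singleton_iff.mpr
    (commute_of_le_centralizer h.fourW.le hu hl).eq.symm
  have hWC : W ≤ C := fun a ha => mem_centralizer_singleton_iff.mpr
    (commute_of_le_centralizer h.fourW.comm ha hu).eq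
  have hu2 : orderOf u = 2 := orderOf_eq_prime ((h.fourW.mem_iff u).mp hu).2 hu1
  have h9 : ¬ 9 ∣ Nat.card C := by
    intro h9
    obtain ⟨P, hP⟩ := Sylow.exists_subgroup_card_pow_prime 3
      (show 3 ^ 2 ∣ Nat.card C by norm_num; exact h9)
    set P' := P.map C.subtype
    have hP' : Nat.card P' = 9 := by
      rw [← Nat.card_congr (P.equivMapOfInjective _ Subtype.val_injective).toEquiv, hP]; norm_num
    obtain ⟨T, hT⟩ := (IsPGroup.of_card (p := 3) (n := 2) (by rw [hP']; norm_num) :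
      IsPGroup 3 P').exists_le_sylow
    have hTC : (T : Subgroup G) ≤ C :=
      (eq_of_le_of_card_ge hT (by rw [hP', D.card_sylow T])).symm.le.trans (map_subtype_le P)
    have huT := D.mem_of_centralizes (T := T) (g := u) fun t ht =>
      (mem_centralizer_singleton_iff.mp (hTC ht)).symm
    have h3 := orderOf_dvd_of_pow_eq_one (D.pow_three huT)
    rw [hu2] at h3
    omega
  have h7 : ¬ 7 ∣ Nat.card C := by
    intro h7
    have : Fact (Nat.Prime 7) := ⟨by norm_num⟩
    obtain ⟨x, hx, hx7⟩ := exists_orderOf_of_dvd h7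
    have := dvd_centralizer_of_commute (show Commute x u from mem_centralizer_singleton_iff.mp hx)
    rw [hu2, D.seven x hx7] at this
    omega
  set L' := L.subgroupOf C
  have hL'c : Nat.card L' = 3 := by
    rw [Nat.card_congr (subgroupOfEquivOfLe hLC).toEquiv, h.adj.right.card]
  have hS : ∀ R : Sylow 3 C, Nat.card (R : Subgroup C) = 3 := by
    intro R
    obtain ⟨m, hm⟩ : 3 ∣ Nat.card C := h.adj.right.card ▸ card_dvd_of_le hLC
    simpa using card_sylow_of_card_eq (k := 1) (m := m) (by rw [hm, pow_one])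
      (fun h' => h9 (by rw [hm]; exact mul_dvd_mul_left 3 h')) R
  obtain ⟨R, hR⟩ := (IsPGroup.of_card (p := 3) (n := 1) (by rw [hL'c, pow_one]) :
    IsPGroup 3 L').exists_le_sylow
  have hRL := eq_of_le_of_card_ge hR (by rw [hL'c, hS R])
  have h12 : 12 ∣ Nat.card (centralizer ((R : Subgroup C) : Set C)) := by
    refine Nat.Coprime.mul_dvd_of_dvd_of_dvd (by norm_num : Nat.Coprime 4 3) ?_ ?_
    · rw [← h.fourW.card, ← Nat.card_congr (subgroupOfEquivOfLe hWC).toEquiv, ← hRL]
      refine card_dvd_of_le fun a ha => mem_centralizer_iff.mpr fun b hb => Subtype.ext ?_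
      exact mem_centralizer_iff.mp (h.fourW.le (mem_subgroupOf.mp ha)) b (mem_subgroupOf.mp hb)
    · refine (dvd_of_eq (hS R).symm).trans (card_dvd_of_le ?_)
      rw [← hRL]
      intro a ha
      rw [mem_centralizer_iff]
      intro b hb
      obtain ⟨l, hl, -, hLz⟩ := exists_gen h.adj.right.card
      refine Subtype.ext ?_
      have h1 := mem_subgroupOf.mp ha
      have h2 : (b : G) ∈ L := hb
      rw [hLz] at h1 h2
      obtain ⟨i, hi⟩ := mem_zpowers_iff.mp h1
      obtain ⟨j, hj⟩ := mem_zpowers_iff.mp h2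
      push_cast
      rw [← hi, ← hj]
      exact (Commute.zpow_zpow_self l j i).eq
  have hle := centralizer_le_normalizer' (R : Subgroup C)
  obtain ⟨k, hk⟩ := h12.trans (card_dvd_of_le hle)
  have hmul := card_normalizer_mul_card_sylow R
  have hcd : Nat.card C ∣ 120 := by
    have hd : Nat.card C ∣ 360 * 7 := by
      have := card_subgroup_dvd_card C
      rwa [D.card] at this
    have h360 : Nat.card C ∣ 360 :=
      ((Nat.Prime.coprime_iff_not_dvd (by norm_num)).mpr h7).symm.dvd_of_dvd_mul_right hd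
    have hl : ∀ d ∈ Nat.divisors 360, ¬ 9 ∣ d → d ∣ 120 := by decide +kernel
    exact hl _ (Nat.mem_divisors.mpr ⟨h360, by norm_num⟩) h9
  have hn3 := card_sylow_modEq_one 3 C
  have hn : Nat.card (Sylow 3 C) = 1 ∨ Nat.card (Sylow 3 C) = 10 ∧ k = 1 := by
    rw [hk] at hmul
    have hd10 : 12 * (k * Nat.card (Sylow 3 C)) ∣ 12 * 10 := by
      rw [← mul_assoc, hmul]; exact hcd
    have hd := Nat.dvd_of_mul_dvd_mul_left (by norm_num) hd10
    have hl : ∀ d ∈ Nat.divisors 10, d % 3 = 1 → d = 1 ∨ d = 10 := by decide +kernel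
    rcases hl _ (Nat.mem_divisors.mpr ⟨(Dvd.intro_left _ rfl).trans hd, by norm_num⟩) hn3
      with e | e
    · exact Or.inl e
    · refine Or.inr ⟨e, ?_⟩
      rw [e] at hd
      have := Nat.le_of_dvd (by norm_num) hd
      have hk0 : 0 < k := Nat.pos_of_ne_zero fun e => by
        rw [e, mul_zero] at hk; exact Nat.card_pos.ne' hk
      omega
  rcases hn with e | ⟨e, hk1⟩
  · intro c hc
    refine cj_eq_self_iff.mp (eq_of_le_three (by rw [card_cj, h.adj.right.card]) h.adj.right.card
      fun a ha => ?_)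
    rw [mem_cj] at ha
    have hnorm : (R : Subgroup C).Normal := by
      have := (Nat.card_eq_one_iff_unique.mp e).1
      exact Sylow.normal_of_subsingleton R
    have h1 := hnorm.conj_mem ⟨c⁻¹ * a * c, hLC ha⟩
      (by rw [← hRL]; exact mem_subgroupOf.mpr ha) ⟨c, hc⟩
    rw [← hRL, mem_subgroupOf] at h1
    simpa [mul_assoc] using h1
  exfalso
  subst hk1
  rw [hk, e] at hmul
  have hN12 : normalizer ((R : Subgroup C) : Set C) ≤ centralizer ((R : Subgroup C) : Set C) := by
    refine (eq_of_le_of_card_ge hle ?_).ge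
    rw [hk]
    exact Nat.le_of_dvd Nat.card_pos h12
  have hcompl := MonoidHom.ker_transferSylow_isComplement' R hN12
  set K := (MonoidHom.transferSylow R hN12).ker
  have hK : Nat.card K = 40 := by
    have h1 := hcompl.card_mul_card
    rw [hS R] at h1
    omega
  have : Fact (Nat.Prime 5) := ⟨by norm_num⟩
  obtain ⟨x, hx⟩ := exists_prime_orderOf_dvd_card' (G := K) 5 (by rw [hK]; norm_num)
  have hn5 : Nat.card (Sylow 5 K) = 1 := by
    obtain ⟨P⟩ := (inferInstance : Nonempty (Sylow 5 K))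
    have hm := card_normalizer_mul_card_sylow P
    rw [hK] at hm
    have h5 : 5 ∣ Nat.card (normalizer ((P : Subgroup K) : Set K)) := by
      refine (dvd_of_eq ?_).trans (card_dvd_of_le le_normalizer)
      symm
      simpa using card_sylow_of_card_eq (k := 1) (m := 8) (by rw [hK]; norm_num) (by norm_num) P
    obtain ⟨j, hj⟩ := h5
    rw [hj, mul_assoc] at hm
    have hl : ∀ d ∈ Nat.divisors 8, d % 5 = 1 → d = 1 := by decide +kernel
    refine hl _ (Nat.mem_divisors.mpr ⟨Dvd.intro_left _ (show j * Nat.card (Sylow 5 K) = 8 by omega),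
      by norm_num⟩) ?_
    exact card_sylow_modEq_one 5 K
  obtain ⟨P⟩ := (inferInstance : Nonempty (Sylow 5 K))
  have hP : ∀ P : Sylow 5 K, Nat.card P = 5 := fun P => by
    simpa using card_sylow_of_card_eq (k := 1) (m := 8) (by rw [hK]; norm_num) (by norm_num) P
  have huniq : ∀ a : K, orderOf a = 5 → a ∈ (P : Subgroup K) := by
    intro a ha
    obtain ⟨Q, hQ, -⟩ := exists_unique_sylow_mem ha hP
    rwa [(Nat.card_eq_one_iff_unique.mp hn5).1.elim Q P] at hQ
  have hPx : (P : Subgroup K) = zpowers x :=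
    eq_zpowers_of_mem (hP P) (huniq x hx) fun e => by simp [e] at hx
  obtain ⟨l, hl, hl1, -⟩ := exists_gen h.adj.right.card
  set xg : G := ((x : C) : G) with hxg
  have hxo : orderOf xg = 5 := by rw [hxg, Subgroup.orderOf_coe, Subgroup.orderOf_coe, hx]
  have hlx : l ∈ normalizer (zpowers xg : Set G) := by
    refine cj_eq_self_iff.mp ?_
    have hlK : (⟨l, hLC hl⟩ : C) * (x : C) * (⟨l, hLC hl⟩ : C)⁻¹ ∈ K :=
      (MonoidHom.normal_ker _).conj_mem _ x.2 _
    have hord : orderOf (⟨_, hlK⟩ : K) = 5 := by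
      rw [← hx, Subgroup.orderOf_mk, ← Subgroup.orderOf_coe x]
      exact orderOf_injective (MulAut.conj (⟨l, hLC hl⟩ : C)).toMonoidHom
        (MulAut.conj (⟨l, hLC hl⟩ : C)).injective _
    have hm := huniq _ hord
    rw [hPx, mem_zpowers_iff] at hm
    obtain ⟨i, hi⟩ := hm
    have hi' : xg ^ i = l * xg * l⁻¹ := by
      have := congrArg (fun a : K => ((a : C) : G)) hi
      simpa [hxg] using this
    refine eq_of_le_of_card_ge ?_ (by rw [card_cj])
    rw [cj_zpowers, zpowers_le, ← hi']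
    exact zpow_mem (mem_zpowers xg) i
  obtain ⟨a, ha, ha1, hc⟩ := exists_ne_one_commute (r := 3)
    (orderOf_dvd_iff_pow_eq_one.mp (dvd_of_eq (orderOf_eq_three h.adj.right.card hl hl1))) hlx
    (by rw [Nat.card_zpowers, hxo]; norm_num)
  exact D.not_commute (Or.inl (orderOf_eq_prime (by
    obtain ⟨i, rfl⟩ := mem_zpowers_iff.mp ha
    rw [← zpow_natCast, ← zpow_mul, mul_comm, zpow_mul, zpow_natCast,
      show xg ^ 5 = 1 from hxo ▸ pow_orderOf_eq_one xg, one_zpow]) ha1))
    (orderOf_eq_three h.adj.right.card hl hl1) hc.symm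

omit D h in
/-- The generator attached to the leaf `(v, w)`. -/
def zgen (y w v : G) : G := v * w * y⁻¹ * w * v

theorem Data.zgen_conj {y w v : G} (hv : v ∈ V) (hw : w ∈ W) :
    zgen y w v = v * w * y⁻¹ * (v * w)⁻¹ := by
  rw [zgen, mul_inv_rev, inv_eq_of_mul_eq_one_right (D.mul_self_W h hw),
    inv_eq_of_mul_eq_one_right (D.mul_self_V h hv)]
  group

theorem Data.zgen_data {y w v : G} (hy : y ∈ Y) (hy1 : y ≠ 1) (hv : v ∈ V) (hw : w ∈ W) :
    leaf Y v w = zpowers (zgen y w v) ∧ zgen y w v ^ 3 = 1 ∧ (y * zgen y w v) ^ 2 = 1 := by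
  have e := D.zgen_conj h (y := y) hv hw
  refine ⟨?_, ?_, ?_⟩
  · rw [leaf, e, eq_zpowers_of_mem h.adj.left.card hy hy1, ← zpowers_inv (g := y), cj_zpowers]
  · rw [e, conj_pow, inv_pow,
      orderOf_dvd_iff_pow_eq_one.mp (dvd_of_eq (orderOf_eq_three h.adj.left.card hy hy1)), inv_one]
    group
  · have hc : y * v = v * y := (D.line_commute h hy hv).eq.symm
    have e1 : y * zgen y w v = v * ((y * w * y⁻¹) * w) * v := by
      rw [zgen, show y * (v * w * y⁻¹ * w * v) = (y * v) * (w * y⁻¹ * w) * v by group, hc]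
      group
    have hm : (y * w * y⁻¹) * w ∈ W := mul_mem (D.conj_W h hy hw) hw
    rw [e1, pow_two, show ∀ a : G, v * a * v * (v * a * v) = v * (a * (v * v) * a) * v from
      fun a => by group, D.mul_self_V h hv, mul_one, D.mul_self_W h hm, mul_one, D.mul_self_V h hv]

theorem Data.zgen_one {y w : G} : zgen y w (1 : G) = w * y⁻¹ * w := by
  rw [zgen, one_mul, mul_one]

/-- The key relation. -/
theorem Data.rel_one {y w d : G} (hy : y ∈ Y) (hy1 : y ≠ 1) (hw : w ∈ W) (hw1 : w ≠ 1)
    (hd : d ∈ V) (hd1 : d ≠ 1) (hs : Share Y 1 d w w) :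
    (zgen y w 1 * zgen y w d) ^ 2 = 1 := by
  obtain ⟨hl1, hz13, hyz1⟩ := D.zgen_data h hy hy1 (one_mem V) hw
  obtain ⟨hld, hzd3, hyzd⟩ := D.zgen_data h hy hy1 hd hw
  obtain ⟨Q, hQ1, hQd⟩ := hs
  set z1 := zgen y w 1 with hz1
  set zd := zgen y w d with hzd
  obtain ⟨U, hU⟩ := D.exists_four hQ1.right
  obtain ⟨V1, hV1⟩ := D.exists_four hQ1.left
  have hc1 : Cfg (leaf Y 1 w) Q V1 U := ⟨hQ1, hV1, hU⟩
  obtain ⟨u', hu', he⟩ := D.neighbour hU hQ1.symm hQd.symm
  have huu : u'⁻¹ = u' := inv_eq_of_mul_eq_one_right (D.mul_self_W hc1 hu')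
  have hz1mem : z1 ∈ leaf Y 1 w := hl1 ▸ mem_zpowers z1
  have hz1ne : z1 ≠ 1 := fun e => by
    have := hQ1.left.card
    rw [hl1, e, Nat.card_zpowers, orderOf_one] at this
    omega
  have hmem : u'⁻¹ * zd * u' ∈ leaf Y 1 w := by
    rw [← mem_cj, he, hld]; exact mem_zpowers zd
  have hUc : z1 * u' * z1⁻¹ ∈ U := D.conj_W hc1 hz1mem hu'
  rcases mem_three hQ1.left.card hz1mem hz1ne hmem with e | e | e
  · exfalso
    have hzd1 : zd = 1 := by
      calc zd = u' * (u'⁻¹ * zd * u') * u'⁻¹ := by group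
        _ = 1 := by rw [e]; group
    have := hQd.left.card
    rw [hld, hzd1, Nat.card_zpowers, orderOf_one] at this
    omega
  · exfalso
    have hzd' : zd = u' * z1 * u'⁻¹ := by rw [← e]; group
    set s := z1 * zd⁻¹ with hs
    have hsU : s ∈ U := by
      rw [hs, hzd', show z1 * (u' * z1 * u'⁻¹)⁻¹ = (z1 * u' * z1⁻¹) * u'⁻¹ by group]
      exact mul_mem hUc (inv_mem hu')
    have hu'1 : u' ≠ 1 := fun e' => by
      rw [e', cj_one] at he
      exact hd1 (D.leaf_inj h (one_mem V) hd hw hw hw1 he).1.symm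
    have hs1 : s ≠ 1 := fun e' => hu'1 (by
      refine D.free_W hc1 hz1mem hz1ne hu' ?_
      have h1 : z1 = zd := mul_inv_eq_one.mp e'
      rw [hzd'] at h1
      exact (eq_mul_inv_iff_mul_eq.mp h1))
    set u := y⁻¹ * z1⁻¹ with hu
    have hu_eq : u = y⁻¹ * w * y * w := by
      rw [hu, hz1, D.zgen_one h, mul_inv_rev, mul_inv_rev,
        inv_eq_of_mul_eq_one_right (D.mul_self_W h hw), inv_inv]
      group
    have huW : u ∈ W := by
      rw [hu_eq]
      refine mul_mem ?_ hw
      have := D.conj_W h (inv_mem hy) hw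
      rwa [inv_inv] at this
    have hu1 : u ≠ 1 := fun e' => hw1 (by
      refine D.free_W h hy hy1 hw ?_
      rw [hu_eq, ← eq_inv_iff_mul_eq_one, inv_eq_of_mul_eq_one_right (D.mul_self_W h hw)] at e'
      calc y * w = y * (y⁻¹ * w * y) := by rw [e']
        _ = w * y := by group)
    have hus : (u * s) * (u * s) = 1 := by
      have h1 : u * s = y⁻¹ * zd⁻¹ := by rw [hu, hs]; group
      rw [h1, show y⁻¹ * zd⁻¹ * (y⁻¹ * zd⁻¹) = y⁻¹ * ((y * zd) * (y * zd))⁻¹ * y by group,
        ← pow_two, hyzd]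
      group
    have hcomm : Commute s u := by
      have h2 : u * s * u * s = 1 := by rw [← hus]; group
      have hui : u⁻¹ = u := inv_eq_of_mul_eq_one_right (D.mul_self_W h huW)
      have hsi : s⁻¹ = s := inv_eq_of_mul_eq_one_right (D.mul_self_W hc1 hsU)
      have h3 : u * s = (u * s)⁻¹ := eq_inv_of_mul_eq_one_left (by rw [← h2]; group)
      rw [mul_inv_rev, hsi, hui] at h3
      exact h3.symm
    have hsN : s ∈ normalizer (L : Set G) :=
      D.centralizer_le_normalizer h huW hu1 (mem_centralizer_singleton_iff.mpr hcomm.eq)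
    have hL1 : Adj L (leaf Y 1 w) := by
      have := D.adj_leaf h (v := 1) hw
      rwa [cj_one] at this
    have hQL : Q ≠ L := by
      have := D.share_ne_nb h (one_mem V) hd hw hw hw1 hw1 hd1.symm hQ1 hQd (one_mem V)
      rwa [cj_one] at this
    have hsQ : cj s Q = Q := D.cj_V (cfg_symm hc1) hsU
    have h1 := Adj.cj D hQ1.symm s
    have h2 := Adj.cj D hL1 s
    rw [hsQ] at h1
    rw [cj_eq_self_iff.mpr hsN] at h2
    have h3 := D.common_unique hQL h1 hQ1.symm h2 hL1
    exact hs1 (D.neighbour_injective hU hQ1.symm hsU (one_mem U) (by rw [cj_one]; exact h3))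
  · have hzd' : zd = u' * z1⁻¹ * u'⁻¹ := by rw [← e]; group
    have hm : z1 * zd ∈ U := by
      rw [hzd', show z1 * (u' * z1⁻¹ * u'⁻¹) = (z1 * u' * z1⁻¹) * u'⁻¹ by group]
      exact mul_mem hUc (inv_mem hu')
    exact ((hU.mem_iff _).mp hm).2

theorem Data.zgen_translate {y w x v : G} (hx : x ∈ V) (hv : v ∈ V) :
    x * zgen y w v * x⁻¹ = zgen y w (x * v) := by
  have hc : v * x = x * v := (commute_of_le_centralizer h.fourV.comm hv hx).eq
  rw [inv_eq_of_mul_eq_one_right (D.mul_self_V h hx), zgen, zgen,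
    show x * (v * w * y⁻¹ * w * v) * x = (x * v) * w * y⁻¹ * w * (v * x) by group, hc]

theorem Data.rel {y w v v' : G} (hy : y ∈ Y) (hy1 : y ≠ 1) (hw : w ∈ W) (hw1 : w ≠ 1)
    (hgood : ∀ d ∈ V, d ≠ 1 → Share Y 1 d w w) (hv : v ∈ V) (hv' : v' ∈ V) (hne : v ≠ v') :
    (zgen y w v * zgen y w v') ^ 2 = 1 := by
  have hd : v * v' ∈ V := mul_mem hv hv'
  have hd1 : v * v' ≠ 1 := fun e => hne (by
    rw [← mul_one v, ← D.mul_self_V h hv', ← mul_assoc, e, one_mul])
  have h1 := D.rel_one h hy hy1 hw hw1 hd hd1 (hgood _ hd hd1)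
  have e1 : v * zgen y w 1 * v⁻¹ = zgen y w v := by
    rw [D.zgen_translate h hv (one_mem V), mul_one]
  have e2 : v * zgen y w (v * v') * v⁻¹ = zgen y w v' := by
    rw [D.zgen_translate h hv hd, ← mul_assoc, D.mul_self_V h hv, one_mul]
  rw [← e1, ← e2, conj_mul, conj_pow, h1]
  group

theorem Data.zgen_conj_L {y w v l : G} (hy : y ∈ Y) (hw : w ∈ W) (hl : l ∈ L) :
    l * zgen y w v * l⁻¹ = zgen y w (l * v * l⁻¹) := by
  have h1 : l * w = w * l := (D.line_commute (cfg_symm h) hl hw).eq.symm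
  have h2 : Commute y l := commute_of_le_centralizer h.adj.symm.le hy hl
  have e1 : l * w * l⁻¹ = w := by rw [h1]; group
  have e2 : l * y⁻¹ * l⁻¹ = y⁻¹ := by rw [← h2.inv_left.eq]; group
  rw [zgen, zgen]
  calc l * (v * w * y⁻¹ * w * v) * l⁻¹
      = (l * v * l⁻¹) * (l * w * l⁻¹) * (l * y⁻¹ * l⁻¹) * (l * w * l⁻¹) * (l * v * l⁻¹) := by group
    _ = _ := by rw [e1, e2]

/-- A subgroup of index 7. -/
theorem Data.exists_index_seven : ∃ H : Subgroup G, H.index = 7 := by
  classical
  obtain ⟨w, hw, hw1, hgood⟩ := D.exists_good h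
  obtain ⟨y, hy, hy1, hYz⟩ := exists_gen h.adj.left.card
  obtain ⟨l, hl, hl1, -⟩ := exists_gen h.adj.right.card
  obtain ⟨d, hd, hd1⟩ : ∃ d ∈ V, d ≠ 1 := by
    by_contra hcon
    push Not at hcon
    have := h.fourV.card
    rw [Subgroup.eq_bot_iff_forall _ |>.mpr hcon, Subgroup.card_bot] at this
    omega
  set d' := l * d * l⁻¹ with hd'def
  have hd' : d' ∈ V := D.conj_W (cfg_symm h) hl hd
  have hd'1 : d' ≠ 1 := fun e => hd1 (conj_eq_one_iff.mp e)
  have hdd : d ≠ d' := fun e =>
    hd1 (D.free_W (cfg_symm h) hl hl1 hd (mul_inv_eq_iff_eq_mul.mp e.symm))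
  set z1 := zgen y w 1 with hz1
  set za := zgen y w d with hza
  set zb := zgen y w d' with hzb
  obtain ⟨hleaf1, hz13, hyz1⟩ := D.zgen_data h hy hy1 (one_mem V) hw
  obtain ⟨hleafa, hza3, hyza⟩ := D.zgen_data h hy hy1 hd hw
  obtain ⟨-, hzb3, hyzb⟩ := D.zgen_data h hy hy1 hd' hw
  have r12 := D.rel h hy hy1 hw hw1 hgood (one_mem V) hd hd1.symm
  have r13 := D.rel h hy hy1 hw hw1 hgood (one_mem V) hd' hd'1.symm
  have r23 := D.rel h hy hy1 hw hw1 hgood hd hd' hdd
  have hy3 : y ^ 3 = 1 :=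
    orderOf_dvd_iff_pow_eq_one.mp (dvd_of_eq (orderOf_eq_three h.adj.left.card hy hy1))
  let g : ℕ → G := fun i => [y, z1, za, zb].getD i 1
  have hp3 : ∀ {a : G}, a ^ 3 = 1 → a * (a * (a * 1)) = 1 := fun {a} ha => by
    rw [mul_one, ← pow_two, ← pow_succ', ha]
  have hp2 : ∀ {a b : G}, (a * b) ^ 2 = 1 → a * (b * (a * (b * 1))) = 1 := fun {a b} hab => by
    rw [pow_two] at hab
    rw [mul_one, ← mul_assoc, hab]
  set K2 := Subgroup.closure (g '' {a | a < 2}) with hK2
  set K3 := Subgroup.closure (g '' {a | a < 3}) with hK3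
  set K4 := Subgroup.closure (g '' {a | a < 4}) with hK4
  have h23 : K2 ≤ K3 := closure_mono (Set.image_mono fun a (ha : a < 2) => show a < 3 by omega)
  have h34 : K3 ≤ K4 := closure_mono (Set.image_mono fun a (ha : a < 3) => show a < 4 by omega)
  have hg3 : ∀ k ∈ g '' {a | a < 4}, k ^ 3 = 1 := by
    rintro _ ⟨i, hi, rfl⟩
    simp only [Set.mem_setOf_eq] at hi
    interval_cases i <;> assumption
  have hc2 : Nat.card K2 ≤ 4 * Nat.card (zpowers y) := by
    refine card_closure_le g (hgens := [0]) (rels := [[0,0,0],[1,1,1],[0,1,0,1]])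
      (words := [[],[1],[1,0],[1,0,0]]) (init := [(0,0,0),(0,1,1),(1,0,2),(2,0,3)])
      (steps := [(0,0,1),(2,0,0),(1,0,2),(2,0,3)]) (zpowers y) ?_ ?_ (by decide +kernel)
    · intro a ha; simp only [List.mem_singleton] at ha; subst ha
      exact ⟨by norm_num, mem_zpowers y⟩
    · intro r hr
      simp only [List.mem_cons, List.mem_nil_iff, or_false] at hr
      rcases hr with rfl | rfl | rfl <;> refine ⟨by decide, ?_⟩ <;>
        simp only [List.map_cons, List.map_nil, List.prod_cons, List.prod_nil]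
      exacts [hp3 hy3, hp3 hz13, hp2 hyz1]
  rw [Nat.card_zpowers, orderOf_eq_three h.adj.left.card hy hy1] at hc2
  have hyK : y ∈ K2 := Subgroup.subset_closure ⟨0, by norm_num, rfl⟩
  have hz1K : z1 ∈ K2 := Subgroup.subset_closure ⟨1, by norm_num, rfl⟩
  have hzaK : za ∈ K3 := Subgroup.subset_closure ⟨2, by norm_num, rfl⟩
  have hzbK : zb ∈ K4 := Subgroup.subset_closure ⟨3, by norm_num, rfl⟩
  have hW2 : W ≤ K2 := by
    set u := y⁻¹ * z1⁻¹ with hu
    have huK : u ∈ K2 := mul_mem (inv_mem hyK) (inv_mem hz1K)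
    have hu_eq : u = y⁻¹ * w * y * w := by
      rw [hu, hz1, D.zgen_one h, mul_inv_rev, mul_inv_rev,
        inv_eq_of_mul_eq_one_right (D.mul_self_W h hw), inv_inv]
      group
    have huW : u ∈ W := by
      rw [hu_eq]
      refine mul_mem ?_ hw
      have := D.conj_W h (inv_mem hy) hw
      rwa [inv_inv] at this
    have hu1 : u ≠ 1 := fun e' => hw1 (by
      refine D.free_W h hy hy1 hw ?_
      rw [hu_eq, ← eq_inv_iff_mul_eq_one, inv_eq_of_mul_eq_one_right (D.mul_self_W h hw)] at e'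
      calc y * w = y * (y⁻¹ * w * y) := by rw [e']
        _ = w * y := by group)
    intro a ha
    rcases eq_or_ne a 1 with rfl | ha1
    · exact one_mem _
    rcases D.cycle h hy hy1 huW hu1 ha ha1 with rfl | rfl | rfl
    · exact huK
    · exact mul_mem (mul_mem hyK huK) (inv_mem hyK)
    · exact mul_mem (mul_mem hyK (mul_mem (mul_mem hyK huK) (inv_mem hyK))) (inv_mem hyK)
  have hK2card : Nat.card K2 = 12 := by
    refine le_antisymm hc2 (Nat.le_of_dvd Nat.card_pos
      (Nat.Coprime.mul_dvd_of_dvd_of_dvd (by norm_num : Nat.Coprime 4 3) ?_ ?_))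
    · exact h.fourW.card ▸ card_dvd_of_le hW2
    · exact h.adj.left.card ▸ card_dvd_of_le (by rw [hYz]; exact zpowers_le.mpr hyK)
  have hK2L : K2 ≤ centralizer (L : Set G) := by
    rw [hK2, Subgroup.closure_le]
    rintro _ ⟨i, hi, rfl⟩
    simp only [Set.mem_setOf_eq] at hi
    interval_cases i
    · exact h.adj.symm.le hy
    · show z1 ∈ centralizer (L : Set G)
      rw [hz1, D.zgen_one h]
      exact mul_mem (mul_mem (h.fourW.le hw) (inv_mem (h.adj.symm.le hy))) (h.fourW.le hw)
  have hza2 : za ∉ K2 := by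
    intro hm
    have hle : leaf Y d w ≤ centralizer (L : Set G) := by
      rw [hleafa]; exact zpowers_le.mpr (hK2L hm)
    have hne : L ≠ leaf Y d w := fun e => D.leaf_not_adj h hd hw (e ▸ h.adj)
    have hA : Adj L (leaf Y d w) := ⟨h.adj.right, D.line_cj h.adj.left _, hne, hle⟩
    refine hd1 (D.neighbour_injective h.fourV h.adj hd (one_mem V) ?_)
    rw [cj_one]
    exact D.common_unique (D.leaf_ne h hd hw hw1).symm (D.adj_nb h hd) h.adj
      (D.adj_leaf h hw).symm hA.symm
  have hc3 : Nat.card K3 ≤ 5 * Nat.card K2 := by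
    refine card_closure_le g (hgens := [0,1])
      (rels := [[0,0,0],[1,1,1],[2,2,2],[0,1,0,1],[0,2,0,2],[1,2,1,2]])
      (words := [[],[2],[2,0],[2,0,0],[2,0,1]])
      (init := [(0,0,0),(0,1,0),(0,2,1),(1,0,2),(2,0,3),(2,1,4)])
      (steps := [(4,0,0),(5,1,2),(2,0,2),(0,0,1),(3,0,3),(4,0,3),(1,0,1),(3,1,4),(5,0,4)])
      K2 ?_ ?_ (by decide +kernel)
    · intro a ha
      simp only [List.mem_cons, List.mem_nil_iff, or_false] at ha
      rcases ha with rfl | rfl
      · exact ⟨by norm_num, hyK⟩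
      · exact ⟨by norm_num, hz1K⟩
    · intro r hr
      simp only [List.mem_cons, List.mem_nil_iff, or_false] at hr
      rcases hr with rfl | rfl | rfl | rfl | rfl | rfl <;> refine ⟨by decide, ?_⟩ <;>
        simp only [List.map_cons, List.map_nil, List.prod_cons, List.prod_nil]
      exacts [hp3 hy3, hp3 hz13, hp3 hza3, hp2 hyz1, hp2 hyza, hp2 r12]
  have hfour3 : 4 * Nat.card K2 ≤ Nat.card K3 :=
    four_mul_card_le h23 hK2
      (fun k hk => hg3 k (Set.image_mono (fun a (ha : a < 2) => show a < 4 by omega) hk))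
      hyK hzaK hza3 hyza hza2
  have hd3 : Nat.card K3 ∣ 2520 := D.card ▸ card_subgroup_dvd_card K3
  have hK3card : Nat.card K3 = 60 := by
    obtain ⟨j, hj⟩ := card_dvd_of_le h23
    rw [hK2card] at hc3 hfour3 hj
    rw [hj] at hc3 hfour3 hd3 ⊢
    have hj4 : 4 ≤ j := by omega
    have hj5 : j ≤ 5 := by omega
    interval_cases j
    · norm_num at hd3
    · norm_num
  have hzb3' : zb ∉ K3 := by
    intro hm
    have hgen3 : ∀ {a : G}, (a * y * a⁻¹ ∈ K3) → (a * z1 * a⁻¹ ∈ K3) → (a * za * a⁻¹ ∈ K3) →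
        a ∈ normalizer (K3 : Set G) := by
      intro a h0 h1 h2
      refine cj_eq_self_iff.mp (eq_of_le_of_card_ge ?_ (by rw [card_cj]))
      rw [cj, hK3, MonoidHom.map_closure, Subgroup.closure_le]
      rintro _ ⟨_, ⟨i, hi, rfl⟩, rfl⟩
      simp only [Set.mem_setOf_eq] at hi
      rw [← hK3]
      interval_cases i <;> assumption
    have hly : l * y * l⁻¹ = y :=
      mul_inv_eq_iff_eq_mul.mpr (commute_of_le_centralizer h.adj.symm.le hy hl).symm.eq
    have hlN : l ∈ normalizer (K3 : Set G) := by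
      refine hgen3 (by rw [hly]; exact h23 hyK) ?_ ?_
      · rw [hz1, D.zgen_conj_L h hy hw hl, show l * 1 * l⁻¹ = 1 by group, ← hz1]; exact h23 hz1K
      · rw [hza, D.zgen_conj_L h hy hw hl, ← hd'def, ← hzb]; exact hm
    have hall : ∀ v ∈ V, zgen y w v ∈ K3 := by
      intro v hv
      rcases eq_or_ne v 1 with rfl | hv1
      · exact h23 hz1K
      rcases D.cycle (cfg_symm h) hl hl1 hd hd1 hv hv1 with rfl | rfl | rfl
      · exact hzaK
      · exact hm
      · rw [← D.zgen_conj_L h hy hw hl]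
        exact (mem_normalizer_iff.mp hlN _).mp hm
    have hVN : V ≤ normalizer (K3 : Set G) := by
      intro v hv
      refine hgen3 (by
        rw [show v * y * v⁻¹ = y from mul_inv_eq_iff_eq_mul.mpr (D.line_commute h hy hv).eq]
        exact h23 hyK) ?_ ?_
      · rw [hz1, D.zgen_translate h hv (one_mem V)]; exact hall _ (mul_mem hv (one_mem V))
      · rw [hza, D.zgen_translate h hv hd]; exact hall _ (mul_mem hv hd)
    by_cases hVK : ∃ v ∈ V, v ∈ K3 ∧ v ≠ 1
    · obtain ⟨v, hv, hvK, hv1⟩ := hVK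
      have hVle : V ≤ K3 := by
        intro a ha
        rcases eq_or_ne a 1 with rfl | ha1
        · exact one_mem _
        rcases D.cycle (cfg_symm h) hl hl1 hv hv1 ha ha1 with rfl | rfl | rfl
        · exact hvK
        · exact (mem_normalizer_iff.mp hlN _).mp hvK
        · exact (mem_normalizer_iff.mp hlN _).mp ((mem_normalizer_iff.mp hlN _).mp hvK)
      have hYK : Y ≤ K3 := by rw [hYz]; exact zpowers_le.mpr (h23 hyK)
      set Y' := Y.subgroupOf K3
      have hY'c : Nat.card Y' = 3 := by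
        rw [Nat.card_congr (subgroupOfEquivOfLe hYK).toEquiv, h.adj.left.card]
      have hS : ∀ R : Sylow 3 K3, Nat.card (R : Subgroup K3) = 3 := fun R => by
        simpa using card_sylow_of_card_eq (k := 1) (m := 20) (by rw [hK3card]; norm_num)
          (by norm_num) R
      obtain ⟨R, hR⟩ := (IsPGroup.of_card (p := 3) (n := 1) (by rw [hY'c, pow_one]) :
        IsPGroup 3 Y').exists_le_sylow
      have hRY := eq_of_le_of_card_ge hR (by rw [hY'c, hS R])
      have h12 : 12 ∣ Nat.card (normalizer ((R : Subgroup K3) : Set K3)) := by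
        refine Nat.Coprime.mul_dvd_of_dvd_of_dvd (by norm_num : Nat.Coprime 4 3) ?_
          ((dvd_of_eq (hS R).symm).trans (card_dvd_of_le le_normalizer))
        rw [← h.fourV.card, ← Nat.card_congr (subgroupOfEquivOfLe hVle).toEquiv, ← hRY]
        refine card_dvd_of_le (le_trans (fun a ha => ?_) (centralizer_le_normalizer' _))
        exact mem_centralizer_iff.mpr fun b hb => Subtype.ext
          (mem_centralizer_iff.mp (h.fourV.le (mem_subgroupOf.mp ha)) b (mem_subgroupOf.mp hb))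
      obtain ⟨j, hj⟩ := h12
      have hmul := card_normalizer_mul_card_sylow R
      rw [hj, hK3card, mul_assoc] at hmul
      have hn3 := card_sylow_modEq_one 3 K3
      have hone : Nat.card (Sylow 3 K3) = 1 := by
        rcases (Nat.dvd_prime (by norm_num : Nat.Prime 5)).mp
          (Dvd.intro_left _ (show j * Nat.card (Sylow 3 K3) = 5 by omega)) with e | e
        · exact e
        · rw [e] at hn3; simp [Nat.ModEq] at hn3
      have hnorm : (R : Subgroup K3).Normal := by
        have := (Nat.card_eq_one_iff_unique.mp hone).1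
        exact Sylow.normal_of_subsingleton R
      have hzN : z1 ∈ normalizer (Y : Set G) := by
        refine cj_eq_self_iff.mp (eq_of_le_three (by rw [card_cj, h.adj.left.card]) h.adj.left.card
          fun a ha => ?_)
        rw [mem_cj] at ha
        have h1 := hnorm.conj_mem ⟨z1⁻¹ * a * z1, hYK ha⟩
          (by rw [← hRY]; exact mem_subgroupOf.mpr ha) ⟨z1, h23 hz1K⟩
        rw [← hRY, mem_subgroupOf] at h1
        simpa [mul_assoc] using h1
      refine D.leaf_not_adj h (one_mem V) hw ?_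
      refine ⟨h.adj.left, D.line_cj h.adj.left _, (D.leaf_ne h (one_mem V) hw hw1).symm, ?_⟩
      rw [hleaf1]
      exact zpowers_le.mpr (mem_centralizer_of_normalizes h.adj.left.card hzN hz13)
    · push Not at hVK
      have hinj : Function.Injective fun p : V × K3 => (p.1 : G) * p.2 :=
        mul_injective_of_disjoint (Subgroup.disjoint_def.mpr fun {a} h1 h2 => hVK a h1 h2)
      have hcard : Nat.card ↥(V ⊔ K3) = 240 := by
        let φ : V × K3 → ↥(V ⊔ K3) := fun p =>
          ⟨(p.1 : G) * p.2, mul_mem_sup p.1.2 p.2.2⟩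
        have hφ : Function.Bijective φ := by
          refine ⟨fun p q e => hinj (congrArg Subtype.val e), ?_⟩
          rintro ⟨a, ha⟩
          rw [← SetLike.mem_coe, coe_mul_of_left_le_normalizer_right V K3 hVN] at ha
          obtain ⟨v, hv, k, hk, e⟩ := Set.mem_mul.mp ha
          exact ⟨(⟨v, hv⟩, ⟨k, hk⟩), Subtype.ext e⟩
        rw [← Nat.card_congr (Equiv.ofBijective φ hφ), Nat.card_prod, h.fourV.card, hK3card]
      have := card_subgroup_dvd_card (V ⊔ K3)
      rw [hcard, D.card] at this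
      norm_num at this
  have hc4 : Nat.card K4 ≤ 6 * Nat.card K3 := by
    refine card_closure_le g (hgens := [0,1,2])
      (rels := [[0,0,0],[1,1,1],[2,2,2],[3,3,3],[0,1,0,1],[0,2,0,2],[0,3,0,3],[1,2,1,2],
        [1,3,1,3],[2,3,2,3]])
      (words := [[],[3],[3,0],[3,0,0],[3,0,1],[3,0,2]])
      (init := [(0,0,0),(0,1,0),(0,2,0),(0,3,1),(1,0,2),(2,0,3),(2,1,4),(2,2,5)])
      (steps := [(6,0,0),(8,1,2),(9,1,2),(3,0,2),(0,0,1),(4,0,3),(5,0,3),(6,0,3),(1,0,1),(4,1,4),
        (7,0,4),(8,0,4),(2,0,1),(5,1,5),(7,1,5),(9,0,5)])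
      K3 ?_ ?_ (by decide +kernel)
    · intro a ha
      simp only [List.mem_cons, List.mem_nil_iff, or_false] at ha
      rcases ha with rfl | rfl | rfl
      · exact ⟨by norm_num, h23 hyK⟩
      · exact ⟨by norm_num, h23 hz1K⟩
      · exact ⟨by norm_num, hzaK⟩
    · intro r hr
      simp only [List.mem_cons, List.mem_nil_iff, or_false] at hr
      rcases hr with rfl | rfl | rfl | rfl | rfl | rfl | rfl | rfl | rfl | rfl <;>
        refine ⟨by decide, ?_⟩ <;>
        simp only [List.map_cons, List.map_nil, List.prod_cons, List.prod_nil]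
      exacts [hp3 hy3, hp3 hz13, hp3 hza3, hp3 hzb3, hp2 hyz1, hp2 hyza, hp2 hyzb, hp2 r12,
        hp2 r13, hp2 r23]
  have hfour4 : 4 * Nat.card K3 ≤ Nat.card K4 :=
    four_mul_card_le h34 hK3
      (fun k hk => hg3 k (Set.image_mono (fun a (ha : a < 3) => show a < 4 by omega) hk))
      (h23 hyK) hzbK hzb3 hyzb hzb3'
  have hd4 : Nat.card K4 ∣ 2520 := D.card ▸ card_subgroup_dvd_card K4
  have hK4card : Nat.card K4 = 360 := by
    obtain ⟨j, hj⟩ := card_dvd_of_le h34
    rw [hK3card] at hc4 hfour4 hj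
    rw [hj] at hc4 hfour4 hd4 ⊢
    have hj4 : 4 ≤ j := by omega
    have hj6 : j ≤ 6 := by omega
    interval_cases j
    · norm_num at hd4
    · norm_num at hd4
    · norm_num
  refine ⟨K4, ?_⟩
  have := card_mul_index K4
  rw [hK4card, D.card] at this
  omega

omit h in
/-- There is a subgroup of index 7. -/
theorem Data.exists_index_seven' : ∃ H : Subgroup G, H.index = 7 := by
  obtain ⟨X, -, hX, -⟩ := D.exists_line
  obtain ⟨L, hL⟩ := D.exists_adj hX
  obtain ⟨V, hV⟩ := D.exists_four hX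
  obtain ⟨W, hW⟩ := D.exists_four hL.right
  exact D.exists_index_seven (⟨hL, hV, hW⟩ : Cfg X L V W)

end CfsgLib.Small.Order2520
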