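import Cfsg.Agent.Lib.Small.LowC
import Cfsg.Agent.Lib.Small.Order2520
import Cfsg.Agent.Lib.OrderElim.A6Line
import Cfsg.Agent.Lib.ClassicalGroups.SmallIso
import Cfsg.Agent.Lib.SL2Char.Projective
import Cfsg.Agent.Lib.Chars17.TwoClassSylow
import Cfsg.Agent.Lib.Structure80.ThreePrimes
import Cfsg.Agent.S4782
import Cfsg.Agent.S4812
import Cfsg.Agent.S0981
import Cfsg.Agent.S0984
import Cfsg.Agent.S1011
import Cfsg.Agent.S1021
import Cfsg.Agent.S0498
import Cfsg.Prelude.Def_DegreeGraph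

/-!
Degree primes of the simple groups of order less than 6000.
-/

set_option autoImplicit false
set_option maxRecDepth 100000

namespace CfsgLib.Small.SimpleDegrees

open Cfsg Subgroup CfsgLib.Small CfsgLib.BrauerArtin CfsgLib.Small.Low CfsgLib.Palfy80

universe u

variable {S : Type u} [Group S] [Finite S] [IsSimpleGroup S]

/-- With three primes in the order, all three divide degrees. -/
theorem mem_of_three {n p q r : ℕ} (hS : Nat.card S = n) (hnp : ¬ n.Prime) (hp : p.Prime)
    (hq : q.Prime) (hr : r.Prime) (hall : ∀ d ∈ n.divisors, d.Prime → d = p ∨ d = q ∨ d = r) :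
    r ∈ Cfsg.degreePrimes S := by
  by_contra hno
  have hnc := nc_of_not_prime (G := S) (hS ▸ hnp)
  refine Cfsg.Agent.S4782.false_of_simple (nc_iff.mp hnc) hp hq fun χ t ht htd => ?_
  have hd : t ∈ n.divisors := Nat.mem_divisors.mpr
    ⟨hS ▸ htd.trans (CfsgLib.CharCorr.charDegree_irr_dvd_card χ), hS ▸ Nat.card_pos.ne'⟩
  rcases hall t hd ht with rfl | rfl | rfl
  · exact Or.inl rfl
  · exact Or.inr rfl
  · exact absurd ⟨ht, _, ⟨χ, rfl⟩, htd⟩ hno

/-- Primes in the principal block data. -/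
theorem block_pair [Fintype S] {n p m : ℕ} [Fact p.Prime] (h : Nat.card S = n) (hn : ¬ n.Prime)
    (hp2 : p ≠ 2) (hc : n = p * m) (hm : ¬ p ∣ m) (e₀ n₀ : ℕ) (hce : e₀ * n₀ = m) (he₀ : 1 < e₀ ∧ e₀ < p)
    (hS : ∀ k ∈ m.divisors, ∀ e ∈ (p - 1).divisors, k % p = 1 → 1 < k → 1 < e → k * e ∣ m →
      m / (k * e) ∣ ((k - 1) / p).factorial → ((k - 1) / p = 2 → m / (k * e) = 1) →
      (k, e) ∈ [(n₀, e₀)]) :
    ∃ (P : Sylow p S) (B : Blk p P), eN P = e₀ ∧
      (∀ x ∈ B.X, charDegree (x : S → ℂ) ∣ m ∧ 1 < charDegree (x : S → ℂ)) ∧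
      (∀ y ∈ B.Y, charDegree (y : S → ℂ) ∣ m ∧ 1 < charDegree (y : S → ℂ)) ∧
      ∀ y ∈ B.Y, (B.ε : ℤ) * (charDegree (y : S → ℂ) : ℤ) =
        1 + ∑ x ∈ B.X, B.εX x * (charDegree (x : S → ℂ) : ℤ) := by
  classical
  have hG := nc_of_not_prime (G := S) (h ▸ hn)
  obtain ⟨P⟩ := (inferInstance : Nonempty (Sylow p S))
  obtain ⟨hP, c, e, hmem, hrel, hcc, -, hall⟩ :=
    Mid.once_data hG hp2 (h.trans hc) hm [(n₀, e₀)] hS P
  simp only [List.mem_cons, List.not_mem_nil, or_false, Prod.mk.injEq] at hmem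
  obtain ⟨hk, rfl⟩ := hmem
  rw [hk] at hall
  have hc1 : c = 1 := by
    have hpos : 0 < e * n₀ := Nat.pos_of_ne_zero fun e0 => hm (by
      rw [← hce, e0]; exact dvd_zero p)
    refine Nat.eq_of_mul_eq_mul_right hpos ?_
    rw [one_mul, ← mul_assoc, hall, hce]
  obtain ⟨hctx, ⟨B⟩, -⟩ := exists_setting hG P hP (m := m) (h.trans hc) (by rw [hcc, hc1, mul_one])
  obtain ⟨hX, hY, -⟩ := block_degrees hctx B (h.trans hc) (show 1 < eN P ∧ eN P < p by rw [show eN P = e from hrel]; exact he₀)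
  refine ⟨P, B, hrel, hX, hY, fun y hy => ?_⟩
  have := B.rel y hy 1 (by rw [orderOf_one]; exact (Fact.out : p.Prime).not_dvd_one)
  simp only [CfsgLib.Small.BrauerTuan.apply_one] at this
  exact_mod_cast this

/-- A simple group of order 60 has degrees 3 and 4. -/
theorem degrees_60 (h : Nat.card S = 60) : DegDvd 3 S ∧ DegDvd 4 S := by
  classical
  have := Fintype.ofFinite S
  have : Fact (Nat.Prime 5) := ⟨by norm_num⟩
  obtain ⟨P, B, he, hX, hY, hrel⟩ := block_pair (S := S) (p := 5) (m := 12) h (by norm_num)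
    (by norm_num) (by norm_num) (by norm_num) 2 6 (by norm_num) (by norm_num) (by decide +kernel)
  obtain ⟨x, hx⟩ := Finset.card_eq_one.1 (show B.X.card = 1 by have := B.card_X; omega)
  have hxX : x ∈ B.X := hx ▸ Finset.mem_singleton_self x
  have hYc : B.Y.card = 2 := by have := B.card_Y; rw [he] at this; omega
  obtain ⟨y, hyY⟩ : B.Y.Nonempty := Finset.card_pos.mp (by omega)
  have hr := hrel y hyY
  rw [hx, Finset.sum_singleton] at hr
  have hXd := B.degX x hxX
  have hYd := B.degY y hyY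
  rw [he] at hYd
  obtain ⟨hxd, hx1⟩ := hX x hxX
  obtain ⟨hyd, hy1⟩ := hY y hyY
  generalize hdx : charDegree (x : S → ℂ) = dx at *
  generalize hdy : charDegree (y : S → ℂ) = dy at *
  have key : dx = 4 ∧ dy = 3 := by
    have hl : ∀ d ∈ Nat.divisors 12, 1 < d → d = 2 ∨ d = 3 ∨ d = 4 ∨ d = 6 ∨ d = 12 := by
      decide +kernel
    rcases hl dx (Nat.mem_divisors.mpr ⟨hxd, by norm_num⟩) hx1 with rfl | rfl | rfl | rfl | rfl <;>
      rcases hl dy (Nat.mem_divisors.mpr ⟨hyd, by norm_num⟩) hy1 with rfl | rfl | rfl | rfl | rfl <;>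
      rcases B.hεX x hxX with e1 | e1 <;> rcases B.hε with e2 | e2 <;>
      rw [e1] at hr hXd <;> rw [e2] at hr hYd <;> omega
  exact ⟨⟨y, hdy.symm ▸ key.2 ▸ dvd_rfl⟩, ⟨x, hdx.symm ▸ key.1 ▸ dvd_rfl⟩⟩

/-- A simple group of order 168 has a degree divisible by 6. -/
theorem degrees_168 (h : Nat.card S = 168) : DegDvd 6 S := by
  classical
  have := Fintype.ofFinite S
  have : Fact (Nat.Prime 7) := ⟨by norm_num⟩
  obtain ⟨P, B, he, hX, hY, hrel⟩ := block_pair (S := S) (p := 7) (m := 24) h (by norm_num)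
    (by norm_num) (by norm_num) (by norm_num) 3 8 (by norm_num) (by norm_num) (by decide +kernel)
  by_contra hno
  have h6 : ∀ χ : IrrCharacter S, ¬ 6 ∣ charDegree (χ : S → ℂ) := fun χ hd => hno ⟨χ, hd⟩
  have hl : ∀ d ∈ Nat.divisors 24, 1 < d → ¬ 6 ∣ d → d = 2 ∨ d = 3 ∨ d = 4 ∨ d = 8 := by
    decide +kernel
  have hterm : ∀ x ∈ B.X, B.εX x * (charDegree (x : S → ℂ) : ℤ) = 8 := by
    intro x hx
    have hd := B.degX x hx
    obtain ⟨h1, h2⟩ := hX x hx
    rcases hl _ (Nat.mem_divisors.mpr ⟨h1, by norm_num⟩) h2 (h6 x) with e | e | e | e <;>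
      rw [e] at hd ⊢ <;> rcases B.hεX x hx with e1 | e1 <;> rw [e1] at hd ⊢ <;>
      omega
  have hYc : B.Y.card = 2 := by have := B.card_Y; rw [he] at this; omega
  obtain ⟨y, hyY⟩ : B.Y.Nonempty := Finset.card_pos.mp (by omega)
  have hr := hrel y hyY
  rw [Finset.sum_congr rfl hterm, Finset.sum_const, show B.X.card = 2 by have := B.card_X; omega]
    at hr
  norm_num at hr
  obtain ⟨h1, h2⟩ := hY y hyY
  rcases hl _ (Nat.mem_divisors.mpr ⟨h1, by norm_num⟩) h2 (h6 y) with e | e | e | e <;>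
    rw [e] at hr <;> rcases B.hε with e1 | e1 <;> rw [e1] at hr <;> norm_num at hr

/-- Some degree is a multiple of `p` when there are more classes than characters in the block. -/
theorem mem_of_block [Fintype S] {p : ℕ} [Fact p.Prime] {P : Sylow p S} (h : Ctx p P)
    (hC : cP P = (P : Subgroup S))
    (hcard : eN P + (p - 1) / eN P < Nat.card (ConjClasses S)) :
    p ∈ Cfsg.degreePrimes S := by
  classical
  obtain ⟨B⟩ := h.exists_blk
  have he0 : 0 < eN P := by have := B.card_X; omega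
  have hYc : B.Y.card = (p - 1) / eN P := by
    rw [← B.card_Y, Nat.mul_div_cancel_left _ he0]
  have hlt : (({CfsgLib.Characters.principalIrr S} ∪ B.X ∪ B.Y : Finset (IrrCharacter S))).card <
      (Finset.univ : Finset (IrrCharacter S)).card := by
    rw [Finset.card_univ, ← Nat.card_eq_fintype_card,
      CfsgLib.Characters.card_irr_eq_card_conjClasses]
    have h1 := Finset.card_union_le ({CfsgLib.Characters.principalIrr S} ∪ B.X) B.Y
    have h2 := Finset.card_union_le ({CfsgLib.Characters.principalIrr S} : Finset _) B.X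
    rw [Finset.card_singleton] at h2
    have := B.card_X
    omega
  obtain ⟨χ, -, hχ⟩ := Finset.exists_mem_notMem_of_card_lt_card hlt
  simp only [Finset.mem_union, Finset.mem_singleton, not_or] at hχ
  refine ⟨Fact.out, _, ⟨χ, rfl⟩, ?_⟩
  have h1 := CfsgLib.Chars17.card_dvd_degree_of_vanishing
    (CfsgLib.Characters.irr_isCharacter χ) (P : Subgroup S)
    (fun x hx hx1 => B.vanish χ hχ.1.1 hχ.1.2 hχ.2 hC x hx hx1)
  rwa [show Nat.card (P : Subgroup S) = p from h.cardP] at h1

theorem graph_360 (h : Nat.card S = 360) : DegDvd 10 S ∧ ¬ DegDvd 6 S := by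
  classical
  obtain ⟨e₁⟩ := CfsgLib.OrderElim.A6.nonempty_mulEquiv_alternating_six (G := S) h
  have : Fact (Nat.Prime 3) := ⟨Nat.prime_three⟩
  let F := GaloisField 3 2
  have : Fintype F := Fintype.ofFinite _
  have hF : Fintype.card F = 9 := by
    rw [← Nat.card_eq_fintype_card, GaloisField.card 3 2 (by norm_num)]
    norm_num
  obtain ⟨e₂⟩ := CfsgLib.ClassicalGroups.psl_two_nine_alternating (K := F) hF
  have hdeg : charDegrees S = charDegrees (Matrix.ProjectiveSpecialLinearGroup (Fin 2) F) :=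
    CfsgLib.Chars17.SLTwoEven.charDegrees_congr (e₁.trans e₂.symm)
  have hodd : Odd (Fintype.card F) := by rw [hF]; decide
  constructor
  · have h1 := CfsgLib.SL2Char.Projective.mem_charDegrees_succ (F := F) hodd (by rw [hF]; norm_num)
    rw [← hdeg, hF] at h1
    obtain ⟨χ, hχ⟩ := h1
    exact ⟨χ, hχ ▸ dvd_rfl⟩
  · rintro ⟨χ, hχ⟩
    have h1 : charDegree (χ : S → ℂ) ∈ charDegrees S := ⟨χ, rfl⟩
    rw [hdeg] at h1
    have h2 := CfsgLib.SL2Char.Projective.degree_shape hodd
      (CfsgLib.SL2Char.Projective.charDegrees_projective_subset h1)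
    rw [hF] at h2
    rcases h2 with e | e | e | e
    · rw [e] at hχ; norm_num at hχ
    · rw [e] at hχ; norm_num at hχ
    · exact absurd (hχ.trans e) (by norm_num)
    · exact absurd (hχ.trans e) (by norm_num)

theorem not_six_504 (h : Nat.card S = 504) : ¬ DegDvd 6 S := by
  classical
  let F := GaloisField 2 3
  have : Fintype F := Fintype.ofFinite _
  have hF : Fintype.card F = 8 := by
    rw [← Nat.card_eq_fintype_card, GaloisField.card 2 3 (by norm_num)]
    norm_num
  obtain ⟨e⟩ := Cfsg.Agent.S1011.result h hF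
  obtain ⟨-, hadj⟩ := Cfsg.Agent.S4812.result F 8 hF (by norm_num) (Or.inl ⟨e⟩)
  rintro ⟨χ, hχ⟩
  have h1 : (degreeGraph S).Adj 2 3 :=
    ⟨by norm_num, Nat.prime_two, Nat.prime_three, _, ⟨χ, rfl⟩, hχ⟩
  obtain ⟨-, -, -, h2 | h2⟩ := (hadj 2 3).mp h1 <;> norm_num at h2

theorem mem_of_psl {F : Type} [Field F] [Fintype F] {q : ℕ}
    (e : S ≃* Matrix.ProjectiveSpecialLinearGroup (Fin 2) F) (hF : Fintype.card F = q)
    (hq : q.Prime) : q ∈ Cfsg.degreePrimes S := by
  classical
  obtain ⟨η, -, hη⟩ := CfsgLib.SL2Char.Projective.exists_steinberg (F := F)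
  have hdeg := CfsgLib.Chars17.SLTwoEven.charDegrees_congr e
  have h1 : charDegree (η : Matrix.ProjectiveSpecialLinearGroup (Fin 2) F → ℂ) ∈ charDegrees S := by rw [hdeg]; exact ⟨η, rfl⟩
  exact ⟨hq, _, h1, by rw [hη, hF]⟩

theorem mem_660 (h : Nat.card S = 660) : 11 ∈ Cfsg.degreePrimes S := by
  have : Fact (Nat.Prime 11) := ⟨by norm_num⟩
  obtain ⟨e⟩ := Cfsg.Agent.S0498.result 11 (Or.inl rfl) (by rw [h]; norm_num) (ZMod.card 11)
  exact mem_of_psl e (ZMod.card 11) Fact.out

theorem mem_1092 (h : Nat.card S = 1092) : 13 ∈ Cfsg.degreePrimes S := by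
  have : Fact (Nat.Prime 13) := ⟨by norm_num⟩
  obtain ⟨e⟩ := Cfsg.Agent.S0498.result 13 (Or.inr rfl) (by rw [h]; norm_num) (ZMod.card 13)
  exact mem_of_psl e (ZMod.card 13) Fact.out

theorem mem_3420 (h : Nat.card S = 3420) : 19 ∈ Cfsg.degreePrimes S := by
  have : Fact (Nat.Prime 19) := ⟨by norm_num⟩
  obtain ⟨e⟩ := Cfsg.Agent.S1021.result h (ZMod.card 19)
  exact mem_of_psl e (ZMod.card 19) Fact.out

theorem mem_4080 (h : Nat.card S = 4080) : 17 ∈ Cfsg.degreePrimes S := by
  classical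
  let F := GaloisField 2 4
  have : Fintype F := Fintype.ofFinite _
  have hF : Fintype.card F = 16 := by
    rw [← Nat.card_eq_fintype_card, GaloisField.card 2 4 (by norm_num)]
    norm_num
  obtain ⟨e⟩ := Cfsg.Agent.S0981.result h hF
  rw [(Cfsg.Agent.S4812.result F 16 hF (by norm_num) (Or.inl ⟨e⟩)).1]
  exact ⟨by norm_num, by norm_num⟩

/-- A simple group of order 2520 has at least six classes. -/
theorem six_le_classes (h : Nat.card S = 2520) : 6 ≤ Nat.card (ConjClasses S) := by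
  classical
  obtain ⟨e⟩ := Cfsg.Agent.S0984.result h
  have : ∀ k ∈ [1, 2, 3, 4, 5, 6], ∃ g : S, orderOf g = k := by
    have key : ∀ σ : Equiv.Perm (Fin 7), ∀ hs : Equiv.Perm.sign σ = 1, ∀ k : ℕ, 0 < k →
        σ ^ k = 1 → (∀ j < k, 0 < j → σ ^ j ≠ 1) → ∃ g : S, orderOf g = k := by
      intro σ hs k hk hk1 hmin
      refine ⟨e.symm ⟨σ, Equiv.Perm.mem_alternatingGroup.mpr hs⟩, ?_⟩
      rw [MulEquiv.orderOf_eq, ← Subgroup.orderOf_coe, orderOf_eq_iff hk]
      exact ⟨hk1, fun j hj hj0 => hmin j hj hj0⟩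
    intro k hk
    simp only [List.mem_cons, List.not_mem_nil, or_false] at hk
    rcases hk with rfl | rfl | rfl | rfl | rfl | rfl
    · exact ⟨1, orderOf_one⟩
    · exact key (Equiv.swap 0 1 * Equiv.swap 2 3) (by decide) 2 (by norm_num) (by decide) (by decide)
    · exact key (Equiv.swap 0 1 * Equiv.swap 1 2) (by decide) 3 (by norm_num) (by decide) (by decide)
    · exact key (Equiv.swap 0 1 * Equiv.swap 1 2 * Equiv.swap 2 3 * Equiv.swap 4 5) (by decide) 4
        (by norm_num) (by decide) (by decide)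
    · exact key (Equiv.swap 0 1 * Equiv.swap 1 2 * Equiv.swap 2 3 * Equiv.swap 3 4) (by decide) 5
        (by norm_num) (by decide) (by decide)
    · exact key (Equiv.swap 0 1 * Equiv.swap 1 2 * (Equiv.swap 3 4 * Equiv.swap 5 6)) (by decide) 6
        (by norm_num) (by decide) (by decide)
  choose g hg using fun i : Fin 6 => this (i.val + 1) (by fin_cases i <;> simp)
  have hinj : Function.Injective fun i : Fin 6 => ConjClasses.mk (g i) := by
    intro i j hij
    obtain ⟨c, hc⟩ := isConj_iff.mp (ConjClasses.mk_eq_mk_iff_isConj.mp hij)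
    have : orderOf (g j) = orderOf (g i) := by
      rw [← hc, show c * g i * c⁻¹ = MulAut.conj c (g i) from rfl, MulEquiv.orderOf_eq]
    rw [hg, hg] at this
    exact Fin.ext (by omega)
  simpa using Nat.card_le_card_of_injective _ hinj

theorem no_ten (h : Nat.card S = 2520) (g : S) : orderOf g ≠ 10 := by
  classical
  obtain ⟨e⟩ := Cfsg.Agent.S0984.result h
  intro hg
  set σ := ((e g : alternatingGroup (Fin 7)) : Equiv.Perm (Fin 7))
  have hσ : orderOf σ = 10 := by rw [Subgroup.orderOf_coe, MulEquiv.orderOf_eq, hg]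
  have hs : Equiv.Perm.sign σ = 1 := Equiv.Perm.mem_alternatingGroup.mp (e g).2
  have hsum : σ.cycleType.sum ≤ 7 := by
    rw [Equiv.Perm.sum_cycleType]
    exact (Finset.card_le_univ _).trans (by simp)
  have hl := Equiv.Perm.lcm_cycleType σ
  rw [hσ] at hl
  have hmem : ∀ x ∈ σ.cycleType, 2 ≤ x ∧ x ∣ 10 := fun x hx =>
    ⟨Equiv.Perm.two_le_of_mem_cycleType hx, hl ▸ Multiset.dvd_lcm hx⟩
  have h2 : 2 ∈ σ.cycleType ∧ 5 ∈ σ.cycleType := by
    have hcase : ∀ x ∈ σ.cycleType, x = 2 ∨ x = 5 := by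
      intro x hx
      obtain ⟨h1, h2⟩ := hmem x hx
      rcases (show ∀ d ∈ Nat.divisors 10, d = 1 ∨ d = 2 ∨ d = 5 ∨ d = 10 by decide) x
        (Nat.mem_divisors.mpr ⟨h2, by norm_num⟩) with e | e | e | e
      · omega
      · exact Or.inl e
      · exact Or.inr e
      · have := Multiset.single_le_sum (fun _ _ => Nat.zero_le _) x hx
        omega
    constructor
    · by_contra h2
      have : σ.cycleType.lcm ∣ 5 := Multiset.lcm_dvd.mpr fun x hx => by
        rcases hcase x hx with rfl | rfl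
        · exact absurd hx h2
        · exact dvd_rfl
      rw [hl] at this
      norm_num at this
    · by_contra h2
      have : σ.cycleType.lcm ∣ 2 := Multiset.lcm_dvd.mpr fun x hx => by
        rcases hcase x hx with rfl | rfl
        · exact dvd_rfl
        · exact absurd hx h2
      rw [hl] at this
      norm_num at this
  obtain ⟨t, ht⟩ := Multiset.exists_cons_of_mem h2.1
  have h5 : 5 ∈ t := by
    have := h2.2
    rw [ht, Multiset.mem_cons] at this
    exact this.resolve_left (by norm_num)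
  obtain ⟨t', rfl⟩ := Multiset.exists_cons_of_mem h5
  have ht' : t' = 0 := by
    rw [ht, Multiset.sum_cons, Multiset.sum_cons] at hsum
    refine Multiset.eq_zero_of_forall_notMem fun x hx => ?_
    have h1 := (hmem x (ht ▸ Multiset.mem_cons_of_mem (Multiset.mem_cons_of_mem hx))).1
    have h2 := Multiset.single_le_sum (fun _ _ => Nat.zero_le _) x hx
    omega
  subst ht'
  rw [Equiv.Perm.sign_of_cycleType, ht] at hs
  norm_num at hs

theorem mem_2520 (h : Nat.card S = 2520) :
    5 ∈ Cfsg.degreePrimes S ∧ 7 ∈ Cfsg.degreePrimes S := by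
  classical
  have := Fintype.ofFinite S
  have : Fact (Nat.Prime 5) := ⟨by norm_num⟩
  have : Fact (Nat.Prime 7) := ⟨by norm_num⟩
  have hG := Order2520.nc h
  have hk := six_le_classes h
  constructor
  · obtain ⟨P⟩ := (inferInstance : Nonempty (Sylow 5 S))
    have hP := Order2520.card_five h P
    have hd := Order2520.five_dvd_ten h P
    have h5 : Nat.card (centralizer ((P : Subgroup S) : Set S)) = 5 := by
      have hle : (P : Subgroup S) ≤ centralizer ((P : Subgroup S) : Set S) := fun a ha => by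
        have : IsCyclic (P : Subgroup S) := isCyclic_of_prime_card hP
        exact mem_centralizer_iff.mpr fun b hb => congrArg Subtype.val
          ((IsCyclic.isMulCommutative (α := (P : Subgroup S))).is_comm.comm ⟨b, hb⟩ ⟨a, ha⟩)
      rcases (show ∀ d ∈ Nat.divisors 10, 5 ∣ d → d = 5 ∨ d = 10 by decide) _
        (Nat.mem_divisors.mpr ⟨hd, by norm_num⟩) ((dvd_of_eq hP.symm).trans (card_dvd_of_le hle)) with e | e
      · exact e
      · exfalso
        have : Fact (Nat.Prime 2) := ⟨Nat.prime_two⟩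
        obtain ⟨y, hy, hy2⟩ := Order2520.exists_orderOf_of_dvd
          (H := centralizer ((P : Subgroup S) : Set S)) (r := 2) (by rw [e]; norm_num)
        obtain ⟨x, hx, hx5⟩ := Order2520.exists_orderOf_of_dvd (H := (P : Subgroup S)) (r := 5)
          (by rw [hP])
        refine no_ten h (x * y) ?_
        rw [Commute.orderOf_mul_eq_mul_orderOf_of_coprime (show Commute x y from mem_centralizer_iff.mp hy x hx)
          (by rw [hx5, hy2]; norm_num), hx5, hy2]
    obtain ⟨hctx, -, hC⟩ := exists_setting hG P hP (m := 504) (by rw [h]) h5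
    obtain ⟨B⟩ := hctx.exists_blk
    refine mem_of_block hctx hC ?_
    have h4 : eN P * B.Y.card = 4 := B.card_Y
    have he : eN P ∣ 4 := Dvd.intro _ h4
    have := (show ∀ d ∈ Nat.divisors 4, d + 4 / d < 6 by decide) _
      (Nat.mem_divisors.mpr ⟨he, by norm_num⟩)
    rw [show (5 - 1 : ℕ) = 4 from rfl]
    omega
  · obtain ⟨P⟩ := (inferInstance : Nonempty (Sylow 7 S))
    obtain ⟨hP, c, e, hmem, hrel, hcc, hN, hall⟩ := Mid.once_data (p := 7) (m := 360) hG
      (by norm_num) (by rw [h]) (by norm_num)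
      [(8, 3), (15, 2), (15, 3), (15, 6), (36, 2), (120, 3)] (by decide +kernel) P
    have hc := Order2520.seven_cases h P
    rw [hcc] at hc
    have he : e = 3 := by
      simp only [List.mem_cons, List.not_mem_nil, or_false, Prod.mk.injEq] at hmem
      rcases hmem with ⟨hn, rfl⟩ | ⟨hn, rfl⟩ | ⟨hn, rfl⟩ | ⟨hn, rfl⟩ | ⟨hn, rfl⟩ | ⟨hn, rfl⟩ <;>
        first | rfl | (rw [hn, show c = 1 by omega] at hall; omega)
    obtain ⟨hctx, -, hC⟩ := exists_setting hG P hP (m := 360) (by rw [h]) (by rw [hcc, hc])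
    refine mem_of_block hctx hC ?_
    rw [show eN P = 3 from hrel.trans he]
    show 3 + (7 - 1) / 3 < _
    omega

end CfsgLib.Small.SimpleDegrees
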