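import Cfsg.Agent.Lib.Small.GraphTwentyFive
import Cfsg.Agent.Lib.Small.SimpleDegrees
import Cfsg.Agent.Lib.PCore.Basic
import Cfsg.Agent.Lib.Chars17.PGroupGalois
import Cfsg.Agent.Lib.Characters.LinearTwist

/-!
A group of order 360 that is not simple cannot have degrees divisible by 5 and by 10 and none
divisible by 6.
-/

set_option autoImplicit false
set_option maxRecDepth 100000

namespace CfsgLib.Small.GraphTools

open Cfsg Subgroup CfsgLib.Palfy80 CfsgLib.Small.Low

universe u

variable {X : Type u} [Group X] [Finite X] [Fact (Nat.Prime 5)]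

/-- The only simple group order that is a proper divisor of 360. -/
theorem card_simple_eq_sixty (h : Nat.card X ∣ 360) (hne : Nat.card X ≠ 360) [IsSimpleGroup X]
    (hnc : ¬ IsMulCommutative X) : Nat.card X = 60 :=
  (show ∀ o ∈ orders, o ∣ 360 → o ≠ 360 → o = 60 by decide +kernel) _
    (card_mem hnc (lt_of_le_of_lt (Nat.le_of_dvd (by norm_num) h) (by norm_num))) h hne

theorem five_normal_of_comm (hc : IsMulCommutative X) (P : Sylow 5 X) : (P : Subgroup X).Normal :=
  ⟨fun x hx g => by rwa [hc.is_comm.comm g x, mul_inv_cancel_right]⟩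

theorem sixty_dvd (h : Nat.card X ∣ 360) (h5 : 5 ∣ Nat.card X)
    (hn : ¬ ∀ P : Sylow 5 X, (P : Subgroup X).Normal) : 60 ∣ Nat.card X :=
  by_contra fun h60 => hn (five_normal X (h.trans (by norm_num)) h5 h60)

/-- Where the Sylow 5-subgroup may fail to be normal. -/
theorem five_step (h : Nat.card X ∣ 360) (h5 : 5 ∣ Nat.card X)
    (hn : ¬ ∀ P : Sylow 5 X, (P : Subgroup X).Normal) (N : Subgroup X) [N.Normal] :
    (5 ∣ Nat.card N ∧ ¬ ∀ P : Sylow 5 N, (P : Subgroup N).Normal) ∨
      (¬ 5 ∣ Nat.card N ∧ 5 ∣ Nat.card (X ⧸ N) ∧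
        ¬ ∀ P : Sylow 5 (X ⧸ N), (P : Subgroup (X ⧸ N)).Normal) := by
  have h25 : ¬ 5 ^ 2 ∣ Nat.card X := fun h2 => absurd (h2.trans h) (by norm_num)
  have hP : ∀ P : Sylow 5 X, Nat.card P = 5 := sylow_card rfl h5 h25
  by_cases hN : 5 ∣ Nat.card N
  · exact Or.inl ⟨hN, fun hall => hn fun P =>
      normal_step P (hP P) N h25 (fun _ => hall) (fun h0 => absurd hN h0)⟩
  · refine Or.inr ⟨hN, ?_, fun hall => hn fun P =>
      normal_step P (hP P) N h25 (fun h0 => absurd h0 hN) fun _ => ⟨fun r j hr hd =>
        five_pow _ (h.trans (by norm_num)) r j hr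
          (fun e => hN (e ▸ (dvd_pow_self r j.succ_ne_zero).trans hd))
          (hd.trans (card_subgroup_dvd_card N)), hall⟩⟩
    rw [← index_eq_card]
    rw [← N.card_mul_index] at h5
    exact ((Fact.out : Nat.Prime 5).dvd_mul.mp h5).resolve_left hN

/-- Degrees 3 and 4 come with a composition factor of order 60. -/
theorem sixty_section :
    ∀ (k : ℕ) (X : Type u) [Group X] [Finite X], Nat.card X = k → k ∣ 360 → k ≠ 360 → 5 ∣ k →
      (¬ ∀ P : Sylow 5 X, (P : Subgroup X).Normal) → DegDvd 3 X ∧ DegDvd 4 X := by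
  intro k
  induction k using Nat.strong_induction_on with
  | _ k ih =>
    intro X _ _ hk hd hne h5 hn
    subst hk
    have hnt : Nontrivial X := Finite.one_lt_card_iff_nontrivial.mp
      (Nat.lt_of_lt_of_le (show 1 < 5 by norm_num) (Nat.le_of_dvd Nat.card_pos h5))
    by_cases hs : IsSimpleGroup X
    · have hnc : ¬ IsMulCommutative X := fun hc => hn (five_normal_of_comm hc)
      exact SimpleDegrees.degrees_60 (card_simple_eq_sixty hd hne hnc)
    obtain ⟨N, hN, hN1, hN2⟩ := exists_proper_normal hs
    obtain ⟨⟨hdN, hneN⟩, hdQ, hneQ, -⟩ := proper_dvd rfl N hN1 hN2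
    have hQc : Nat.card (X ⧸ N) = N.index := (index_eq_card N).symm
    rcases five_step hd h5 hn N with ⟨h5N, hnN⟩ | ⟨-, h5Q, hnQ⟩
    · have hlt := lt_of_le_of_ne (Nat.le_of_dvd Nat.card_pos (Nat.dvd_of_mem_divisors hdN)) hneN
      obtain ⟨h3, h4⟩ := ih (Nat.card N) hlt N rfl ((Nat.dvd_of_mem_divisors hdN).trans hd)
        (fun e => by have := Nat.le_of_dvd (by norm_num) hd; omega) h5N hnN
      exact ⟨degDvd_of_normal N h3, degDvd_of_normal N h4⟩
    · have hlt := lt_of_le_of_ne (Nat.le_of_dvd Nat.card_pos (Nat.dvd_of_mem_divisors hdQ)) hneQ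
      obtain ⟨h3, h4⟩ := ih (Nat.card (X ⧸ N)) (hQc ▸ hlt) (X ⧸ N) rfl
        (hQc ▸ (Nat.dvd_of_mem_divisors hdQ).trans hd)
        (fun e => by have := Nat.le_of_dvd (by norm_num) hd; omega) h5Q hnQ
      exact ⟨degDvd_of_surjective (QuotientGroup.mk' N) (QuotientGroup.mk'_surjective N) h3,
        degDvd_of_surjective (QuotientGroup.mk' N) (QuotientGroup.mk'_surjective N) h4⟩

omit [Fact (Nat.Prime 5)] in
/-- A normal subgroup of order 3 or 6 gives one of order 3. -/
theorem three_of_six (L : Subgroup X) [L.Normal] (h : Nat.card L = 3 ∨ Nat.card L = 6) :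
    ∃ K : Subgroup X, K.Normal ∧ Nat.card K = 3 := by
  have : Fact (Nat.Prime 3) := ⟨Nat.prime_three⟩
  obtain ⟨R⟩ := (inferInstance : Nonempty (Sylow 3 L))
  have hR : Nat.card R = 3 := by
    refine sylow_card (n := Nat.card L) rfl ?_ ?_ R <;> rcases h with e | e <;> rw [e] <;> norm_num
  have hd : Nat.card (Sylow 3 L) ∣ (R : Subgroup L).index := R.card_dvd_index
  have hi := (R : Subgroup L).card_mul_index
  rw [show Nat.card (R : Subgroup L) = 3 from hR] at hi
  have hm := card_sylow_modEq_one 3 L
  rw [Nat.ModEq] at hm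
  have hle : Nat.card (Sylow 3 L) ≤ 2 := (Nat.le_of_dvd (by omega) hd).trans (by omega)
  have h1 : Nat.card (Sylow 3 L) = 1 := by omega
  have : Subsingleton (Sylow 3 L) := (Nat.card_eq_one_iff_unique.mp h1).1
  have := R.characteristic_of_normal (Sylow.normal_of_subsingleton R)
  exact ⟨(R : Subgroup L).map L.subtype, inferInstance,
    by rw [card_map_of_injective L.subtype_injective]; exact hR⟩

/-- No group of order 180 or 360 that is not simple acts faithfully on six points. -/
theorem false_of_six {k : ℕ} (hk : Nat.card X = k) (hk2 : k = 180 ∨ k = 360)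
    (hns : ¬ IsSimpleGroup X) (f : X →* Equiv.Perm (Fin 6)) (hf : Function.Injective f) : False := by
  classical
  set A := alternatingGroup (Fin 6)
  have : IsSimpleGroup A := alternatingGroup.isSimpleGroup (by simp)
  have hA : Nat.card A = 360 := by rw [nat_card_alternatingGroup, Nat.card_fin]; rfl
  have hAnc : ¬ IsMulCommutative A := nc_of_not_prime (by rw [hA]; norm_num)
  set R := f.range
  have hR : Nat.card R = k := by
    rw [← hk]; exact (Nat.card_congr (MonoidHom.ofInjective hf).toEquiv).symm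
  set R' := R.subgroupOf A
  have hR' : k ∣ 2 * Nat.card R' := by
    have h1 : Nat.card R' = Nat.card (R ⊓ A : Subgroup (Equiv.Perm (Fin 6))) := by
      rw [← subgroupOf_map_subtype R A, card_map_of_injective A.subtype_injective]
    have h2 := (R ⊓ A).card_mul_index
    have h3 : A.relIndex R ∣ 2 := by
      have := alternatingGroup.index_eq_two (α := Fin 6)
      exact this ▸ relIndex_dvd_index_of_normal A R
    have h4 : Nat.card (R ⊓ A : Subgroup (Equiv.Perm (Fin 6))) * A.relIndex R = Nat.card R := by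
      have h5 := (A.subgroupOf R).card_mul_index
      rw [← h5]
      congr 1
      rw [← card_map_of_injective R.subtype_injective (K := A.subgroupOf R),
        subgroupOf_map_subtype, inf_comm]
    rw [h1, ← hR, ← h4, mul_comm 2]
    exact Nat.mul_dvd_mul_left _ h3
  have htop : R' = ⊤ := by
    by_contra hne
    have h1 := two_mul_card_dvd_factorial_index hAnc hne
    have h2 := R'.card_mul_index
    rw [hA] at h1 h2
    have h3 : 90 ∣ Nat.card R' := by
      rcases hk2 with rfl | rfl
      · exact Nat.dvd_of_mul_dvd_mul_left two_pos hR'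
      · exact (show 90 ∣ 180 by norm_num).trans (Nat.dvd_of_mul_dvd_mul_left two_pos hR')
    have h4 : R'.index ∣ 4 := by
      obtain ⟨c, hc⟩ := h3
      rw [hc] at h2
      exact Dvd.intro_left c (Nat.eq_of_mul_eq_mul_left (show 0 < 90 by norm_num) (by linarith))
    have h5 := (Nat.le_of_dvd (Nat.factorial_pos _) h1).trans
      (Nat.factorial_le (Nat.le_of_dvd (by norm_num) h4))
    norm_num [Nat.factorial] at h5
  have hAR : A ≤ R := subgroupOf_eq_top.mp htop
  have hle : Nat.card R ≤ Nat.card A := by rw [hR, hA]; omega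
  have hReq : A = R := eq_of_le_of_card_ge hAR hle
  have : IsSimpleGroup R := hReq ▸ (inferInstance : IsSimpleGroup A)
  have : Nontrivial X := Finite.one_lt_card_iff_nontrivial.mp (by omega)
  exact hns (IsSimpleGroup.isSimpleGroup_of_surjective (MonoidHom.ofInjective hf).symm.toMonoidHom
    (MonoidHom.ofInjective hf).symm.surjective)

/-- A normal subgroup of order three. -/
theorem exists_normal_three :
    ∀ (k : ℕ) (X : Type u) [Group X] [Finite X], Nat.card X = k → (k = 180 ∨ k = 360) →
      ¬ IsSimpleGroup X → (¬ ∀ P : Sylow 5 X, (P : Subgroup X).Normal) →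
      ∃ K : Subgroup X, K.Normal ∧ Nat.card K = 3 := by
  intro k
  induction k using Nat.strong_induction_on with
  | _ k ih =>
    intro X _ _ hk hk2 hns hn
    subst hk
    classical
    have hd : Nat.card X ∣ 360 := by rcases hk2 with e | e <;> rw [e] <;> norm_num
    have h5 : 5 ∣ Nat.card X := by rcases hk2 with e | e <;> rw [e] <;> norm_num
    have h25 : ¬ 5 ^ 2 ∣ Nat.card X := fun h2 => absurd (h2.trans hd) (by norm_num)
    -- a normal subgroup of order two
    have htwo : ∀ W : Subgroup X, W.Normal → Nat.card W = 2 →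
        ∃ K : Subgroup X, K.Normal ∧ Nat.card K = 3 := by
      intro W hW hW2
      rcases five_step hd h5 hn W with ⟨h5W, -⟩ | ⟨-, h5Q, hnQ⟩
      · rw [hW2] at h5W; norm_num at h5W
      have hmul := W.card_mul_index
      rw [hW2] at hmul
      have hQc : Nat.card (X ⧸ W) = W.index := (index_eq_card W).symm
      have h60 := sixty_dvd ((card_quotient_dvd_card W).trans hd) h5Q hnQ
      rw [hQc] at h60
      have hQ180 : Nat.card (X ⧸ W) = 180 := by
        rw [hQc]
        rcases hk2 with e | e <;> rw [e] at hmul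
        · have := Nat.le_of_dvd (index_pos W) h60
          omega
        · omega
      obtain ⟨K', hK', hK3⟩ := ih 180 (by rcases hk2 with e | e <;> omega) (X ⧸ W) hQ180
        (Or.inl rfl) (fun hs => by
          have hnc : ¬ IsMulCommutative (X ⧸ W) := fun hc => hnQ (five_normal_of_comm hc)
          have := card_simple_eq_sixty ((card_quotient_dvd_card W).trans hd) (by omega) hnc
          omega) hnQ
      have hL : (K'.comap (QuotientGroup.mk' W)).Normal := hK'.comap _
      refine three_of_six (K'.comap (QuotientGroup.mk' W)) (Or.inr ?_)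
      have h1 : (K'.comap (QuotientGroup.mk' W)).index = K'.index :=
        index_comap_of_surjective K' (QuotientGroup.mk'_surjective W)
      have h2 := (K'.comap (QuotientGroup.mk' W)).card_mul_index
      have h3 := K'.card_mul_index
      rw [hK3, hQ180] at h3
      rw [h1, show K'.index = 60 by omega] at h2
      omega
    have hnt : Nontrivial X := Finite.one_lt_card_iff_nontrivial.mp
      (Nat.lt_of_lt_of_le (show 1 < 5 by norm_num) (Nat.le_of_dvd Nat.card_pos h5))
    obtain ⟨H, hH, hH1, hH2⟩ := exists_proper_normal hns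
    obtain ⟨N, hNmin, hNH⟩ := CfsgLib.Structure.exists_isMinNormal_le hH hH1
    have hN : N.Normal := hNmin.2.1
    have hN1 : N ≠ ⊥ := hNmin.1
    have hN2 : N ≠ ⊤ := fun e => hH2 (top_le_iff.mp (e ▸ hNH))
    obtain ⟨⟨hdN, hneN⟩, hdQ, hneQ, hmul⟩ := proper_dvd rfl N hN1 hN2
    have hdN360 : Nat.card N ∣ 360 := (Nat.dvd_of_mem_divisors hdN).trans hd
    rcases five_step hd h5 hn N with ⟨h5N, hnN⟩ | ⟨h5N, h5Q, hnQ⟩
    swap
    · have h60 := sixty_dvd ((card_quotient_dvd_card N).trans hd) h5Q hnQ
      rw [← index_eq_card] at h60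
      have h6 : Nat.card N ∣ 6 := by
        obtain ⟨c, hc⟩ := h60
        refine Nat.dvd_of_mul_dvd_mul_right (show 0 < 60 by norm_num) ?_
        refine dvd_trans ?_ (show Nat.card X ∣ 6 * 60 from hd)
        rw [← hmul, hc, ← mul_assoc]
        exact dvd_mul_right _ _
      have h1 : 1 < Nat.card N := N.one_lt_card_iff_ne_bot.mpr hN1
      rcases (show ∀ d ∈ Nat.divisors 6, 1 < d → d = 2 ∨ d = 3 ∨ d = 6 by decide) _
        (Nat.mem_divisors.mpr ⟨h6, by norm_num⟩) h1 with e | e | e
      · exact htwo N hN e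
      · exact three_of_six N (Or.inl e)
      · exact three_of_six N (Or.inr e)
    -- a simple normal subgroup of order 60
    have h60N := sixty_dvd hdN360 h5N hnN
    have hneN360 : Nat.card N ≠ 360 := fun e => by
      have := Nat.le_of_dvd (by norm_num) hd
      have := Nat.le_of_dvd Nat.card_pos (Nat.dvd_of_mem_divisors hdN)
      omega
    have : Nontrivial N := (nontrivial_iff_ne_bot N).mpr hN1
    obtain ⟨M, hM⟩ := CfsgLib.Structure.exists_isMinNormal (G := N)
    have hMs : IsSimpleGroup M := hNmin.isSimpleGroup_minNormal hM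
    have hMn : M.Normal := hM.2.1
    have hMnc : ¬ IsMulCommutative M := fun hc => by
      have hp := CfsgLib.Burnside.prime_card_of_comm (G := M) fun a b => hc.is_comm.comm a b
      have : Fact (Nat.Prime (Nat.card M)) := ⟨hp⟩
      have hle : M ≤ Cfsg.pCore (Nat.card M) N :=
        CfsgLib.PCore.le_pCore hMn (IsPGroup.of_card (n := 1) (pow_one _).symm)
      have hchar : ((Cfsg.pCore (Nat.card M) N).map N.subtype).Normal := inferInstance
      rcases hNmin.2.2 _ hchar (map_subtype_le _) with e | e
      · rw [map_eq_bot_iff_of_injective _ N.subtype_injective] at e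
        exact hM.1 (le_bot_iff.mp (e ▸ hle))
      · obtain ⟨i, hi⟩ : ∃ i, Nat.card N = Nat.card M ^ i := by
          obtain ⟨i, hi⟩ := IsPGroup.iff_card.mp
            (CfsgLib.PCore.pCore_isPGroup (p := Nat.card M) (G := N))
          refine ⟨i, ?_⟩
          rw [← hi, ← card_map_of_injective N.subtype_injective
            (K := Cfsg.pCore (Nat.card M) N), e]
        have h2d : 2 ∣ Nat.card M ^ i := hi ▸ (show 2 ∣ 60 by norm_num).trans h60N
        have h3d : 3 ∣ Nat.card M ^ i := hi ▸ (show 3 ∣ 60 by norm_num).trans h60N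
        have := (Nat.prime_dvd_prime_iff_eq Nat.prime_two hp).mp (Nat.prime_two.dvd_of_dvd_pow h2d)
        have := (Nat.prime_dvd_prime_iff_eq Nat.prime_three hp).mp
          (Nat.prime_three.dvd_of_dvd_pow h3d)
        omega
    have hM60 : Nat.card M = 60 := card_simple_eq_sixty ((card_subgroup_dvd_card M).trans hdN360)
      (fun e => hneN360 (Nat.dvd_antisymm hdN360 (e ▸ card_subgroup_dvd_card M))) hMnc
    set M' := M.map N.subtype with hM'
    have hcM' : Nat.card M' = 60 := by rw [hM', card_map_of_injective N.subtype_injective, hM60]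
    have hM's : IsSimpleGroup M' := by
      have e := M.equivMapOfInjective N.subtype N.subtype_injective
      have : Nontrivial M' := Finite.one_lt_card_iff_nontrivial.mp (by rw [hcM']; norm_num)
      exact IsSimpleGroup.isSimpleGroup_of_surjective e.toMonoidHom e.surjective
    have hM'n : M'.Normal := by
      refine ⟨fun a ha g => ?_⟩
      by_contra hout
      set Mg := M'.map (MulAut.conj g).toMonoidHom with hMg
      have hcMg : Nat.card Mg = 60 := by
        rw [hMg, card_map_of_injective (MulAut.conj g).injective, hcM']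
      have hMgN : Mg ≤ N := by
        rintro _ ⟨x, hx, rfl⟩
        exact hN.conj_mem x (map_subtype_le M hx) g
      -- `M'` is normalised by `N`, so is its conjugate
      have hnormM : ∀ y ∈ N, ∀ x ∈ M', y * x * y⁻¹ ∈ M' := by
        rintro y hy _ ⟨x, hx, rfl⟩
        exact ⟨_, hMn.conj_mem x hx ⟨y, hy⟩, rfl⟩
      have hI : ((M' ⊓ Mg).subgroupOf M').Normal := by
        refine ⟨fun x hx y => ⟨(y * x * y⁻¹).2, ?_⟩⟩
        obtain ⟨w, hw, hwx⟩ := hx.2
        refine ⟨g⁻¹ * (y : X) * g * w * (g⁻¹ * (y : X) * g)⁻¹, hnormM _ ?_ w hw, ?_⟩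
        · have := hN.conj_mem (y : X) (map_subtype_le M y.2) g⁻¹
          rwa [inv_inv] at this
        · show g * (g⁻¹ * (y : X) * g * w * (g⁻¹ * (y : X) * g)⁻¹) * g⁻¹ = (y : X) * x * (y : X)⁻¹
          rw [show (x : X) = g * w * g⁻¹ from hwx.symm]
          group
      rcases hI.eq_bot_or_eq_top with e | e
      · have hdisj : Disjoint M' Mg := disjoint_iff.mpr (by
          rw [← le_bot_iff]
          intro x hx
          have : (⟨x, hx.1⟩ : M') ∈ (M' ⊓ Mg).subgroupOf M' := hx
          rw [e, mem_bot] at this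
          exact congrArg Subtype.val this)
        have hcard : Nat.card (↥M' × ↥Mg) ≤ Nat.card X :=
          Nat.card_le_card_of_injective _ (mul_injective_of_disjoint hdisj)
        rw [Nat.card_prod, hcM', hcMg] at hcard
        have := Nat.le_of_dvd (by norm_num) hd
        omega
      · refine hout ?_
        have hle : M' ≤ Mg := fun x hx => by
          have : (⟨x, hx⟩ : M') ∈ (M' ⊓ Mg).subgroupOf M' := e ▸ mem_top _
          exact this.2
        have heq := eq_of_le_of_card_ge hle (by rw [hcM', hcMg])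
        rw [heq]
        exact ⟨a, ha, rfl⟩
    -- the action on six Sylow subgroups
    have : Fact (Nat.Prime 5) := inferInstance
    have hM'5 : ¬ ∀ P : Sylow 5 M', (P : Subgroup M').Normal := fun hall => by
      obtain ⟨P⟩ := (inferInstance : Nonempty (Sylow 5 M'))
      have hP5 : Nat.card P = 5 := sylow_card hcM' (by norm_num) (by norm_num) P
      rcases (hall P).eq_bot_or_eq_top with e | e
      · have := (P : Subgroup M').one_lt_card_iff_ne_bot.mp (by rw [hP5]; norm_num)
        exact this e
      · have h1 := hP5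
        rw [show ((P : Subgroup M')) = ⊤ from e, card_top, hcM'] at h1
        norm_num at h1
    have hidx : M'.index ∣ 6 := by
      have h1 := M'.card_mul_index
      rw [hcM'] at h1
      rcases hk2 with e | e <;> rw [e] at h1
      · rw [show M'.index = 3 by omega]; norm_num
      · rw [show M'.index = 6 by omega]
    have hP5le : ∀ P : Sylow 5 X, (P : Subgroup X) ≤ M' := fun P => le_of_coprime_index _ _ (by
      rw [sylow_card rfl h5 h25 P]
      exact (Fact.out : Nat.Prime 5).coprime_iff_not_dvd.mpr fun h =>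
        absurd (h.trans hidx) (by norm_num))
    have hsyl : Nat.card (Sylow 5 X) = 6 := by
      obtain ⟨P⟩ := (inferInstance : Nonempty (Sylow 5 X))
      have h1 : Nat.card (Sylow 5 M') = Nat.card (Sylow 5 X) := by
        refine Nat.card_congr (Equiv.ofBijective (fun Q => Sylow.ofCard
          ((Q : Subgroup M').map M'.subtype) ?_) ⟨fun a b hab => ?_, fun Q => ?_⟩)
        · rw [card_map_of_injective M'.subtype_injective,
            sylow_card hcM' (by norm_num) (by norm_num) Q, ← P.card_eq_multiplicity,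
            sylow_card rfl h5 h25 P]
        · exact Sylow.ext (map_injective M'.subtype_injective (congrArg Sylow.toSubgroup hab))
        · refine ⟨Q.subtype (hP5le Q), Sylow.ext ?_⟩
          show ((Q : Subgroup X).subgroupOf M').map M'.subtype = _
          rw [subgroupOf_map_subtype, inf_eq_left.mpr (hP5le Q)]
      have hm := card_sylow_modEq_one 5 M'
      rw [Nat.ModEq] at hm
      obtain ⟨Q⟩ := (inferInstance : Nonempty (Sylow 5 M'))
      have hQi : (Q : Subgroup M').index = 12 := by
        have := (Q : Subgroup M').card_mul_index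
        rw [show Nat.card (Q : Subgroup M') = 5 from sylow_card hcM' (by norm_num) (by norm_num) Q,
          hcM'] at this
        omega
      have hd12 : Nat.card (Sylow 5 M') ∣ 12 := hQi ▸ Q.card_dvd_index
      have hne1 : Nat.card (Sylow 5 M') ≠ 1 := fun e1 => hM'5 fun Q' => by
        have : Subsingleton (Sylow 5 M') := (Nat.card_eq_one_iff_unique.mp e1).1
        exact Sylow.normal_of_subsingleton Q'
      rw [← h1]
      exact (show ∀ d ∈ Nat.divisors 12, d % 5 = 1 → d ≠ 1 → d = 6 by decide) _
        (Nat.mem_divisors.mpr ⟨hd12, by norm_num⟩) hm hne1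
    let f := MulAction.toPermHom X (Sylow 5 X)
    have hW : (f.ker).Normal := inferInstance
    have hWM : f.ker ⊓ M' = ⊥ := by
      rcases (Normal.subgroupOf hW M').eq_bot_or_eq_top with e | e
      · rw [← le_bot_iff]
        intro x hx
        have : (⟨x, hx.2⟩ : M') ∈ f.ker.subgroupOf M' := hx.1
        rw [e, mem_bot] at this
        exact congrArg Subtype.val this
      · exfalso
        refine hM'5 fun Q => ⟨fun x hx y => ?_⟩
        obtain ⟨P, hP⟩ := ((Q.2.map M'.subtype).exists_le_sylow : ∃ P : Sylow 5 X, _)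
        have hQP : (Q : Subgroup M').map M'.subtype = P := eq_of_le_of_card_ge hP (by
          rw [sylow_card rfl h5 h25 P, card_map_of_injective M'.subtype_injective,
            sylow_card hcM' (by norm_num) (by norm_num) Q])
        have hy : (y : X) ∈ f.ker := subgroupOf_eq_top.mp e y.2
        have hyP : (y : X) • P = P := Equiv.Perm.congr_fun (MonoidHom.mem_ker.mp hy) P
        have hmem : (y : X) * (x : X) * (y : X)⁻¹ ∈ ((y : X) • P : Sylow 5 X).1 :=
          ⟨x, hQP ▸ mem_map_of_mem _ hx, rfl⟩
        rw [hyP] at hmem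
        have h2 : (y : X) * (x : X) * (y : X)⁻¹ ∈ (Q : Subgroup M').map M'.subtype := hQP ▸ hmem
        obtain ⟨z, hz, hze⟩ := h2
        have : z = y * x * y⁻¹ := Subtype.ext hze
        exact this ▸ hz
    by_cases hW1 : f.ker = ⊥
    · have : Fintype (Sylow 5 X) := Fintype.ofFinite _
      let e := Fintype.equivFinOfCardEq
        (show Fintype.card (Sylow 5 X) = 6 by rw [← Nat.card_eq_fintype_card, hsyl])
      exact (false_of_six rfl hk2 hns (e.permCongrHom.toMonoidHom.comp f)
        (e.permCongrHom.injective.comp ((MonoidHom.ker_eq_bot_iff f).mp hW1))).elim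
    · have hW6 : Nat.card f.ker ∣ 6 := by
        have h1 : Nat.card f.ker ∣ M'.index := by
          have h2 : (f.ker.subgroupOf ⊤).index = f.ker.index := by
            rw [← relIndex, relIndex_top_right]
          have h3 : Nat.card f.ker = M'.relIndex f.ker := by
            rw [relIndex, ← (M'.subgroupOf f.ker).card_mul_index]
            have : M'.subgroupOf f.ker = ⊥ := subgroupOf_eq_bot.mpr (disjoint_iff.mpr (by
              rwa [inf_comm]))
            rw [this, card_bot, one_mul]
          rw [h3]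
          exact relIndex_dvd_index_of_normal _ _
        exact h1.trans hidx
      have h1 : 1 < Nat.card f.ker := (f.ker).one_lt_card_iff_ne_bot.mpr hW1
      rcases (show ∀ d ∈ Nat.divisors 6, 1 < d → d = 2 ∨ d = 3 ∨ d = 6 by decide) _
        (Nat.mem_divisors.mpr ⟨hW6, by norm_num⟩) h1 with e | e | e
      · exact htwo _ hW e
      · exact three_of_six _ (Or.inl e)
      · exact three_of_six _ (Or.inr e)

omit [Fact (Nat.Prime 5)] in
/-- A central subgroup of order three is a direct factor. -/
theorem exists_retraction_three [Fact (Nat.Prime 5)] {m : ℕ} (hc : Nat.card X = 9 * m)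
    (hm : m = 20 ∨ m = 40) (K : Subgroup X) (hKc : K ≤ center X) (hK : Nat.card K = 3)
    (hn : ¬ ∀ P : Sylow 5 X, (P : Subgroup X).Normal) :
    ∃ ψ : X →* K, ∀ k : K, ψ k = k := by
  classical
  have : Fact (Nat.Prime 3) := ⟨Nat.prime_three⟩
  have hKn : K.Normal := ⟨fun x hx g => by
    rw [show g * x * g⁻¹ = x from mul_inv_eq_iff_eq_mul.mpr (mem_center_iff.mp (hKc hx) g)]
    exact hx⟩
  obtain ⟨P, hKP⟩ := ((IsPGroup.of_card (n := 1) (hK.trans (pow_one 3).symm)).exists_le_sylow :
    ∃ P : Sylow 3 X, K ≤ P)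
  have hm3 : ¬ 3 ∣ m := by rcases hm with rfl | rfl <;> norm_num
  have hP : Nat.card P = 3 ^ 2 := card_sylow_of_card_eq (k := 2) (m := m) (by rw [hc]; rfl) hm3 P
  have hPi : (P : Subgroup X).index = m := index_sylow_of_card_eq (k := 2) (by rw [hc]; rfl) hm3 P
  let _ : CommGroup (P : Subgroup X) := IsPGroup.commGroupOfCardEqPrimeSq hP
  let f : X →* (P : Subgroup X) := MonoidHom.transfer (MonoidHom.id (P : Subgroup X))
  have hf : ∀ k : K, ((f (k : X)) : X) = (k : X) ^ m := fun k => by
    show ((MonoidHom.transfer (MonoidHom.id (P : Subgroup X)) (k : X)) : X) = _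
    rw [MonoidHom.transfer_eq_pow _ (k : X) fun j g hj => ?_]
    · show (k : X) ^ (P : Subgroup X).index = _
      rw [hPi]
    · have : (k : X) ^ j ∈ center X := pow_mem (hKc k.2) j
      rw [mem_center_iff.mp this g⁻¹, mul_assoc, inv_mul_cancel, mul_one]
  have hk3 : ∀ k : K, k ^ 3 = 1 := fun k => hK ▸ pow_card_eq_one'
  have hkm : ∀ k : K, ((k : X) ^ m) ^ m = (k : X) := fun k => by
    have h1 : k ^ (m * m) = k := by
      rw [← pow_mod_natCard k (m * m), hK]
      rcases hm with rfl | rfl <;> norm_num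
    rw [← pow_mul]
    exact congrArg Subtype.val h1
  have hker : ∀ k : K, f (k : X) = 1 → k = 1 := fun k hk => by
    have h1 := hkm k
    rw [← hf k, hk, OneMemClass.coe_one, one_pow] at h1
    exact Subtype.ext h1.symm
  -- the image is `K`
  have hKr : ∀ k : K, ((f (k : X)) : X) ∈ K := fun k => by rw [hf]; exact pow_mem k.2 m
  have hrange : ∀ g : X, (f g : X) ∈ K := by
    set R := f.range.map (P : Subgroup X).subtype with hR
    have hKR : K ≤ R := fun x hx =>
      ⟨f ((⟨x, hx⟩ : K) ^ m : K), ⟨_, rfl⟩, by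
        show ((f (((⟨x, hx⟩ : K) ^ m : K) : X)) : X) = x
        rw [hf, SubmonoidClass.coe_pow]
        exact hkm ⟨x, hx⟩⟩
    have hRd : Nat.card R ∣ 9 := by
      rw [hR, card_map_of_injective (subtype_injective _)]
      exact (card_subgroup_dvd_card _).trans (dvd_of_eq hP)
    have h3R : 3 ∣ Nat.card R := hK ▸ card_dvd_of_le hKR
    rcases (show ∀ d ∈ Nat.divisors 9, 3 ∣ d → d = 3 ∨ d = 9 by decide) _
      (Nat.mem_divisors.mpr ⟨hRd, by norm_num⟩) h3R with e | e
    · intro g
      rw [eq_of_le_of_card_ge hKR (by rw [e, hK])]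
      exact ⟨f g, ⟨g, rfl⟩, rfl⟩
    · exfalso
      have h40 : Nat.card f.ker = m := by
        have h1 := f.ker.card_mul_index
        rw [index_ker, hc] at h1
        have h2 : Nat.card f.range = 9 := by
          rw [← card_map_of_injective (subtype_injective (P : Subgroup X)), ← hR, e]
        rw [h2] at h1
        omega
      have h60 : ¬ 60 ∣ Nat.card f.ker := by rw [h40]; rcases hm with rfl | rfl <;> norm_num
      have hd : Nat.card X ∣ 360 := by rw [hc]; rcases hm with rfl | rfl <;> norm_num
      have h5X : 5 ∣ Nat.card X := by rw [hc]; rcases hm with rfl | rfl <;> norm_num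
      rcases five_step hd h5X hn f.ker with ⟨h5, hnk⟩ | ⟨h5, -⟩
      · exact hnk (five_normal f.ker
          (((card_subgroup_dvd_card _).trans hd).trans (by norm_num)) h5 h60)
      · exact h5 (by rw [h40]; rcases hm with rfl | rfl <;> norm_num)
  refine ⟨{ toFun := fun g => (⟨_, hrange g⟩ : K) ^ m
            map_one' := by
              apply Subtype.ext
              rw [SubmonoidClass.coe_pow]
              show ((f 1 : X)) ^ m = 1
              rw [map_one, OneMemClass.coe_one, one_pow]
            map_mul' := fun a b => by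
              apply Subtype.ext
              show ((f (a * b) : X)) ^ m = (f a : X) ^ m * (f b : X) ^ m
              rw [map_mul, Subgroup.coe_mul, Commute.mul_pow]
              exact (mem_center_iff.mp (hKc (hrange b)) _) }, fun k => Subtype.ext ?_⟩
  show ((⟨_, hrange k⟩ : K) ^ m : K).1 = (k : X)
  rw [SubmonoidClass.coe_pow]
  show ((f (k : X)) : X) ^ m = _
  rw [hf, hkm]

/-- The contradiction in order 360. -/
theorem false_of_360 (h : Nat.card X = 360) (hns : ¬ IsSimpleGroup X)
    (h5 : 5 ∈ Cfsg.degreePrimes X) (h10 : DegDvd 10 X) (h6 : ¬ DegDvd 6 X) : False := by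
  classical
  have := Fintype.ofFinite X
  have : Fact (Nat.Prime 3) := ⟨Nat.prime_three⟩
  have hn : ¬ ∀ P : Sylow 5 X, (P : Subgroup X).Normal := fun hall => by
    obtain ⟨P⟩ := (inferInstance : Nonempty (Sylow 5 X))
    exact not_mem_of_prime_order P (sylow_card h (by norm_num) (by norm_num) P) (hall P) h5
  obtain ⟨K, hK, hK3⟩ := exists_normal_three 360 X h (Or.inr rfl) hns hn
  have hd : Nat.card X ∣ 360 := dvd_of_eq h
  -- the quotient by `K` has no degree divisible by 10
  have hT : Nat.card (X ⧸ K) = 120 := by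
    rw [← index_eq_card]
    have := K.card_mul_index
    rw [hK3, h] at this
    omega
  obtain ⟨hT5, hTn⟩ : 5 ∣ Nat.card (X ⧸ K) ∧ ¬ ∀ P : Sylow 5 (X ⧸ K), (P : Subgroup (X ⧸ K)).Normal := by
    rcases five_step hd (by rw [h]; norm_num) hn K with ⟨h5K, -⟩ | ⟨-, h1, h2⟩
    · rw [hK3] at h5K; norm_num at h5K
    · exact ⟨h1, h2⟩
  obtain ⟨hT3, hT4⟩ := sixty_section 120 (X ⧸ K) hT (by norm_num) (by norm_num) (by norm_num) hTn
  have hT10 : ¬ DegDvd 10 (X ⧸ K) := by
    rintro ⟨a, ha⟩
    obtain ⟨b, hb⟩ := hT3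
    obtain ⟨c, hc⟩ := hT4
    have := Fintype.ofFinite (X ⧸ K)
    set d := fun χ : IrrCharacter (X ⧸ K) => charDegree (χ : (X ⧸ K) → ℂ) with hd'
    have hsum : ∑ χ, (d χ : ℤ) ^ 2 = 120 := by
      rw [CfsgLib.BrauerReynolds.sum_deg_sq, hT]; rfl
    have hsingle : ∀ χ, (d χ : ℤ) ^ 2 ≤ 120 := fun χ =>
      hsum ▸ Finset.single_le_sum (f := fun χ => (d χ : ℤ) ^ 2) (fun _ _ => sq_nonneg _)
        (Finset.mem_univ χ)
    have hpos : ∀ χ, 0 < d χ := fun χ => CfsgLib.Chars17.irrDegree_pos χ
    have hlt : ∀ χ, d χ < 11 := fun χ => by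
      have := hsingle χ
      by_contra hh
      have : (11 : ℤ) ≤ d χ := by exact_mod_cast not_lt.mp hh
      nlinarith
    have hab : a ≠ b := fun e => by
      have h30 : 30 ∣ d a :=
        Nat.Coprime.mul_dvd_of_dvd_of_dvd (m := 10) (n := 3) (by norm_num) ha (e ▸ hb)
      have := Nat.le_of_dvd (hpos a) h30
      have := hlt a
      omega
    have hac : a ≠ c := fun e => by
      have h20 : 20 ∣ d a := (show 20 ∣ Nat.lcm 10 4 by norm_num).trans (Nat.lcm_dvd ha (e ▸ hc))
      have := Nat.le_of_dvd (hpos a) h20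
      have := hlt a
      omega
    have hbc : b ≠ c := fun e => by
      have h12 : 12 ∣ d b :=
        Nat.Coprime.mul_dvd_of_dvd_of_dvd (m := 3) (n := 4) (by norm_num) hb (e ▸ hc)
      have := Nat.le_of_dvd (hpos b) h12
      have := hlt b
      omega
    set pr := CfsgLib.Characters.principalIrr (X ⧸ K)
    have hpr : d pr = 1 := by
      have := CfsgLib.Small.BrauerTuan.apply_one pr
      simp only [pr, CfsgLib.Characters.principalIrr_apply] at this
      exact_mod_cast this.symm
    have hne : ∀ χ : IrrCharacter (X ⧸ K), 2 ≤ d χ → pr ≠ χ := fun χ hχ e => by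
      rw [← e, hpr] at hχ; omega
    have ha' := Nat.le_of_dvd (hpos a) ha
    have hb' := Nat.le_of_dvd (hpos b) hb
    have hc' := Nat.le_of_dvd (hpos c) hc
    have h4 := Finset.sum_le_sum_of_subset_of_nonneg (f := fun χ => (d χ : ℤ) ^ 2)
      (Finset.subset_univ ({pr, a, b, c} : Finset (IrrCharacter (X ⧸ K))))
      (fun χ _ _ => sq_nonneg _)
    rw [hsum, Finset.sum_insert, Finset.sum_insert, Finset.sum_insert, Finset.sum_singleton,
      hpr] at h4
    · have : (10 : ℤ) ≤ d a := by exact_mod_cast ha'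
      have : (3 : ℤ) ≤ d b := by exact_mod_cast hb'
      have : (4 : ℤ) ≤ d c := by exact_mod_cast hc'
      nlinarith
    · simp [hbc]
    · simp [hab, hac]
    · simp [hne a (by omega), hne b (by omega), hne c (by omega)]
  obtain ⟨χ, hχ⟩ := h10
  by_cases hcen : K ≤ center X
  · obtain ⟨ψ, hψ⟩ := exists_retraction_three (m := 40) (h.trans (by norm_num)) (Or.inr rfl) K
      hcen hK3 hn
    obtain ⟨l, hl⟩ := CfsgLib.Chars17.PGalois.exists_central_hom χ
    let μ : X →* ℂˣ := ((l.comp (Subgroup.inclusion hcen)).comp ψ)⁻¹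
    let χ' : IrrCharacter X := ⟨_, CfsgLib.LinearTwist.isIrr_mul_hom χ.2 μ⟩
    have hker : K ≤ CfsgLib.Chars17.irrKer χ' := by
      intro k hk
      rw [CfsgLib.Chars17.mem_irrKer]
      show (χ : X → ℂ) k * (μ k : ℂ) = (χ : X → ℂ) 1 * (μ 1 : ℂ)
      have h1 := hl ⟨k, hcen hk⟩ 1
      rw [mul_one] at h1
      rw [h1, map_one, Units.val_one, mul_one,
        show μ k = (l ⟨k, hcen hk⟩)⁻¹ by
          show (l (Subgroup.inclusion hcen (ψ k)))⁻¹ = _
          rw [show ψ k = ⟨k, hk⟩ from hψ ⟨k, hk⟩]
          rfl,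
        mul_comm ((l ⟨k, hcen hk⟩ : ℂˣ) : ℂ), mul_assoc, ← Units.val_mul, mul_inv_cancel,
        Units.val_one, mul_one]
    obtain ⟨η, hη⟩ := CfsgLib.Chars17.exists_infl_eq K hker
    refine hT10 ⟨η, ?_⟩
    have h1 : charDegree (η : (X ⧸ K) → ℂ) = charDegree (χ : X → ℂ) := by
      have h2 : (χ' : X → ℂ) 1 = (χ : X → ℂ) 1 := by
        show (χ : X → ℂ) 1 * (μ 1 : ℂ) = _
        simp
      unfold charDegree
      rw [← h2, ← hη]
      rfl
    rwa [h1]
  · refine h6 ?_
    set I := centralizer (K : Set X) with hI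
    have hIn : I.Normal := inferInstance
    have hKI : K ≤ I := fun x hx => mem_centralizer_iff.mpr fun y hy => by
      have : IsCyclic K := isCyclic_of_prime_card hK3
      exact congrArg Subtype.val
        ((IsCyclic.isMulCommutative (α := K)).is_comm.comm ⟨y, hy⟩ ⟨x, hx⟩)
    have hIidx : I.index = 2 := by
      have h1 := CfsgLib.Small.relIndex_centralizer_normalizer_dvd_of_prime (G := X) (H := K)
        (p := 3) hK3
      rw [normalizer_eq_top K, relIndex_top_right] at h1
      rcases (Nat.dvd_prime Nat.prime_two).mp h1 with e | e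
      · exfalso
        refine hcen fun x hx => mem_center_iff.mpr fun g => ?_
        have hg : g ∈ centralizer (K : Set X) := by rw [index_eq_one.mp e]; exact mem_top g
        exact (mem_centralizer_iff.mp hg x hx).symm
      · exact e
    have hI180 : Nat.card I = 180 := by
      have := I.card_mul_index
      rw [hIidx, h] at this
      omega
    have hIn5 : ¬ ∀ P : Sylow 5 I, (P : Subgroup I).Normal := by
      rcases five_step hd (by rw [h]; norm_num) hn I with ⟨-, h1⟩ | ⟨h1, -⟩
      · exact h1
      · exact absurd (by rw [hI180]; norm_num) h1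
    set K' := K.subgroupOf I with hK'
    have hK'c : K' ≤ center I := fun x hx => mem_center_iff.mpr fun y => Subtype.ext
      (mem_centralizer_iff.mp y.2 _ hx).symm
    have hK'3 : Nat.card K' = 3 := by
      rw [hK', Nat.card_congr (subgroupOfEquivOfLe hKI).toEquiv, hK3]
    obtain ⟨ψ, hψ⟩ := exists_retraction_three (m := 20) (hI180.trans (by norm_num)) (Or.inl rfl) K'
      hK'c hK'3 hIn5
    set M := ψ.ker
    have hM60 : Nat.card M = 60 := by
      have h1 := M.card_mul_index
      rw [index_ker, hI180, show ψ.range = ⊤ from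
        MonoidHom.range_eq_top.mpr fun k => ⟨k, hψ k⟩, card_top, hK'3] at h1
      omega
    have hM5 : ¬ ∀ P : Sylow 5 M, (P : Subgroup M).Normal := by
      rcases five_step (by rw [hI180]; norm_num) (by rw [hI180]; norm_num) hIn5 M with
        ⟨-, h1⟩ | ⟨h1, -⟩
      · exact h1
      · exact absurd (by rw [hM60]; norm_num) h1
    obtain ⟨θ, hθ⟩ := (sixty_section 60 M hM60 (by norm_num) (by norm_num) (by norm_num) hM5).1
    -- the projection on `M`
    have hπm : ∀ g : I, g * ((ψ g : K') : I)⁻¹ ∈ M := fun g => by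
      show ψ (g * ((ψ g : K') : I)⁻¹) = 1
      rw [map_mul, map_inv, hψ, mul_inv_cancel]
    let π : I →* M :=
      { toFun := fun g => ⟨_, hπm g⟩
        map_one' := Subtype.ext (by show (1 : I) * ((ψ 1 : K') : I)⁻¹ = 1; simp)
        map_mul' := fun a b => Subtype.ext (by
          show a * b * ((ψ (a * b) : K') : I)⁻¹ =
            a * ((ψ a : K') : I)⁻¹ * (b * ((ψ b : K') : I)⁻¹)
          have hca := mem_center_iff.mp (inv_mem (hK'c (ψ a).2)) b
          rw [map_mul, Subgroup.coe_mul, mul_inv_rev]
          calc a * b * (((ψ b : K') : I)⁻¹ * ((ψ a : K') : I)⁻¹)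
              = a * (b * ((ψ b : K') : I)⁻¹) * ((ψ a : K') : I)⁻¹ := by group
            _ = a * (((ψ a : K') : I)⁻¹ * (b * ((ψ b : K') : I)⁻¹)) := by
                rw [mul_assoc a, mem_center_iff.mp (inv_mem (hK'c (ψ a).2))]
            _ = a * ((ψ a : K') : I)⁻¹ * (b * ((ψ b : K') : I)⁻¹) := by group) }
    have hπ : Function.Surjective π := fun x => ⟨x, Subtype.ext (by
      show (x : I) * ((ψ (x : I) : K') : I)⁻¹ = x
      rw [show ψ (x : I) = 1 from x.2, OneMemClass.coe_one, inv_one, mul_one])⟩
    obtain ⟨k₀, hk₀⟩ : ∃ k₀ : K', k₀ ≠ 1 := by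
      have : Nontrivial K' := Finite.one_lt_card_iff_nontrivial.mp (by rw [hK'3]; norm_num)
      exact exists_ne 1
    obtain ⟨lam, hlam⟩ := exists_hom_ne (X := K') (g := k₀) (by
      have : IsCyclic K' := isCyclic_of_prime_card hK'3
      intro hmem
      have hb : commutator K' = ⊥ := commutator_eq_bot (H := K') fun x hx y hy => congrArg Subtype.val
        ((IsCyclic.isMulCommutative (α := K')).is_comm.comm ⟨x, hx⟩ ⟨y, hy⟩)
      rw [hb, mem_bot] at hmem
      exact hk₀ hmem)
    let φ : I → ℂ := fun g => (θ : M → ℂ) (π g) * ((lam.comp ψ) g : ℂ)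
    have hφ : IsIrrCharacter I φ := CfsgLib.LinearTwist.isIrr_mul_hom
      (CfsgLib.Clifford.isIrrCharacter_pullback θ.2 π hπ) (lam.comp ψ)
    have hφ1 : φ 1 = (charDegree (θ : M → ℂ) : ℂ) := by
      show (θ : M → ℂ) (π 1) * ((lam.comp ψ) 1 : ℂ) = _
      rw [map_one, map_one, Units.val_one, mul_one, CfsgLib.CharCorr.irr_one_eq_charDegree]
    have := Fintype.ofFinite I
    have hinert : CfsgLib.Clifford.inertia hIn φ = I := by
      refine le_antisymm (fun g hg => ?_) (fun g hg => ?_)
      · by_contra hgI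
        -- `g` inverts `K`
        have hk₀K : ((k₀ : I) : X) ∈ K := k₀.2
        set k1 : X := g * ((k₀ : I) : X) * g⁻¹ with hk1
        have hk1K : k1 ∈ K := hK.conj_mem _ hk₀K g
        let k1' : K' := ⟨⟨k1, hKI hk1K⟩, hk1K⟩
        have h1 := congrFun (show CfsgLib.Clifford.conjChar hIn φ g = φ from hg) (k₀ : I)
        have hval : ∀ k : K', φ (k : I) = (charDegree (θ : M → ℂ) : ℂ) * (lam k : ℂ) := fun k => by
          show (θ : M → ℂ) (π k) * (lam (ψ k) : ℂ) = _
          rw [hψ, show π (k : I) = 1 from Subtype.ext (by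
            show (k : I) * ((ψ (k : I) : K') : I)⁻¹ = 1
            rw [hψ, mul_inv_cancel]), CfsgLib.CharCorr.irr_one_eq_charDegree]
        rw [hval] at h1
        change φ (k1' : I) = _ at h1
        rw [hval] at h1
        have hθ0 : (charDegree (θ : M → ℂ) : ℂ) ≠ 0 :=
          Nat.cast_ne_zero.mpr (CfsgLib.Chars17.irrDegree_pos θ).ne'
        have h2 : lam k1' = lam k₀ := Units.ext (mul_left_cancel₀ hθ0 h1)
        have hk3 : k₀ ^ 3 = 1 := by
          have := pow_card_eq_one' (x := k₀)
          rwa [hK'3] at this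
        -- the conjugate is a different power
        have hcase : k1' = k₀ ^ 2 := by
          have hcyc : zpowers k₀ = ⊤ := zpowers_eq_top_of_prime_card hK'3 hk₀
          obtain ⟨j, hj⟩ := mem_zpowers_iff.mp (hcyc.symm ▸ mem_top k1')
          rw [← zpow_mod_orderOf, orderOf_eq_prime hk3 hk₀]
            at hj
          rcases (show j % ((3 : ℕ) : ℤ) = 0 ∨ j % ((3 : ℕ) : ℤ) = 1 ∨ j % ((3 : ℕ) : ℤ) = 2 by omega)
            with e | e | e <;> rw [e] at hj
          · exfalso
            rw [zpow_zero] at hj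
            have h3 : k1 = 1 := (congrArg (fun z : K' => ((z : I) : X)) hj).symm
            rw [hk1, conj_eq_one_iff] at h3
            exact hk₀ (Subtype.ext (Subtype.ext h3))
          · exfalso
            rw [zpow_one] at hj
            have h3 : k1 = ((k₀ : I) : X) := (congrArg (fun z : K' => ((z : I) : X)) hj).symm
            refine hgI (mem_centralizer_iff.mpr fun y hy => ?_)
            obtain ⟨i, hi⟩ := mem_zpowers_iff.mp
              (hcyc.symm ▸ mem_top (⟨⟨y, hKI hy⟩, hy⟩ : K'))
            have h5 : (((k₀ ^ i : K') : I) : X) = y := congrArg (fun z : K' => ((z : I) : X)) hi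
            have h4 : y = ((k₀ : I) : X) ^ i := by simpa using h5.symm
            rw [h4]
            exact (Commute.zpow_left (mul_inv_eq_iff_eq_mul.mp h3).symm i).eq
          · exact (zpow_natCast k₀ 2 ▸ hj.symm)
        rw [hcase, map_pow, pow_two] at h2
        exact hlam (mul_eq_left.mp h2)
      · funext y
        show φ ⟨g * y * g⁻¹, _⟩ = φ y
        have : (⟨g * y * g⁻¹, hIn.conj_mem y y.2 g⟩ : I) = (⟨g, hg⟩ : I) * y * (⟨g, hg⟩ : I)⁻¹ :=
          Subtype.ext rfl
        rw [this]
        obtain ⟨n, ρ, -, hρ⟩ := hφ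
        show φ _ = φ y
        rw [← hρ, Representation.char_conj]
    obtain ⟨hind, hdeg, -, -⟩ := CfsgLib.LinearTwist.indFun_irr_of_inertia hIn hφ I hinert.symm
      le_rfl hφ (fun n => rfl)
    refine ⟨⟨_, hind⟩, ?_⟩
    have h2 : charDegree (indFun I φ) = 2 * charDegree (θ : M → ℂ) := by
      refine CfsgLib.LinearTwist.charDegree_eq_of_apply_one ?_
      rw [hdeg, hIidx, hφ1]
      push_cast
      rfl
    show 6 ∣ charDegree (indFun I φ)
    rw [h2]
    exact Nat.mul_dvd_mul_left 2 hθ

end CfsgLib.Small.GraphTools
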