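import Cfsg.Agent.Lib.Small.GraphTools

/-!
Groups of order `p r^a s^b` in which only the full power `r^a` is `1` modulo `p`: either the
Sylow `p`-subgroup is normal, or the Sylow `r`-subgroup is normal and abelian, or a composition
factor lends a degree.
-/

set_option autoImplicit false

namespace CfsgLib.Small.GraphTools

open Subgroup CfsgLib.Palfy80
open scoped Pointwise commutatorElement

universe u

/-- The numbers `n = p r^a s^b`. -/
structure Data (p r s a b n : ℕ) : Prop where
  hp : p.Prime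
  hr : r.Prime
  hs : s.Prime
  hrs : r ≠ s
  hrp : r ≠ p
  hsp : s ≠ p
  card_eq : n = p * (r ^ a * s ^ b)
  hr_pow : ∀ j < a, 0 < j → r ^ j % p ≠ 1
  hs_pow : ∀ j, j ≤ b → 0 < j → s ^ j % p ≠ 1

variable {p r s a b n : ℕ} (D : Data p r s a b n)
include D

theorem Data.not_sq : ¬ p ^ 2 ∣ n := by
  rw [pow_two, D.card_eq]
  intro h
  rcases D.hp.dvd_mul.mp (Nat.dvd_of_mul_dvd_mul_left D.hp.pos h) with h | h
  · exact D.hrp ((Nat.prime_dvd_prime_iff_eq D.hp D.hr).mp (D.hp.dvd_of_dvd_pow h)).symm
  · exact D.hsp ((Nat.prime_dvd_prime_iff_eq D.hp D.hs).mp (D.hp.dvd_of_dvd_pow h)).symm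

theorem Data.coprime_rest : Nat.Coprime p (r ^ a * s ^ b) :=
  Nat.Coprime.mul_right (((Nat.coprime_primes D.hp D.hr).mpr D.hrp.symm).pow_right a)
    (((Nat.coprime_primes D.hp D.hs).mpr D.hsp.symm).pow_right b)

theorem Data.not_dvd_r : ¬ r ^ (a + 1) ∣ n := by
  intro h
  rw [D.card_eq, show p * (r ^ a * s ^ b) = r ^ a * (p * s ^ b) by ring, pow_succ] at h
  rcases D.hr.dvd_mul.mp (Nat.dvd_of_mul_dvd_mul_left (pow_pos D.hr.pos a) h) with h | h
  · exact D.hrp ((Nat.prime_dvd_prime_iff_eq D.hr D.hp).mp h)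
  · exact D.hrs ((Nat.prime_dvd_prime_iff_eq D.hr D.hs).mp (D.hr.dvd_of_dvd_pow h))

/-- The only prime power `1` modulo `p` dividing `n` is `r^a`. -/
theorem Data.pow_cases {q j : ℕ} (hq : q.Prime) (hqp : q ≠ p) (hd : q ^ (j + 1) ∣ n)
    (h1 : q ^ (j + 1) % p = 1) : q ^ (j + 1) = r ^ a := by
  rw [D.card_eq] at hd
  have hd2 : q ^ (j + 1) ∣ r ^ a * s ^ b :=
    (((Nat.coprime_primes hq D.hp).mpr hqp).pow_left _).dvd_of_dvd_mul_left hd
  by_cases e : q = r
  · subst e
    have hd3 : q ^ (j + 1) ∣ q ^ a :=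
      (((Nat.coprime_primes hq D.hs).mpr D.hrs).pow (j + 1) b).dvd_of_dvd_mul_right hd2
    rcases Nat.lt_or_eq_of_le ((Nat.pow_dvd_pow_iff_le_right hq.one_lt).mp hd3) with h | h
    · exact absurd h1 (D.hr_pow (j + 1) h j.succ_pos)
    · rw [h]
  · have hd3 : q ^ (j + 1) ∣ s ^ b :=
      (((Nat.coprime_primes hq D.hr).mpr e).pow (j + 1) a).dvd_of_dvd_mul_left hd2
    have hqs : q = s :=
      (Nat.prime_dvd_prime_iff_eq hq D.hs).mp
        (hq.dvd_of_dvd_pow ((dvd_pow_self q j.succ_ne_zero).trans hd3))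
    subst hqs
    exact absurd h1 (D.hs_pow (j + 1) ((Nat.pow_dvd_pow_iff_le_right hq.one_lt).mp hd3) j.succ_pos)

omit D in
/-- Hypothesis on the composition factors. -/
def Factors (p r a m k : ℕ) : Prop :=
  ∀ (H : Type u) [Group H] [Finite H] [IsSimpleGroup H], ¬ IsMulCommutative H →
    p ∣ Nat.card H → Nat.card H ∣ k → r ^ a ∣ Nat.card H ∧ DegDvd m H

omit D in
/-- The conclusion. -/
def Concl (p r m : ℕ) (G : Type u) [Group G] : Prop :=
  (∀ P : Sylow p G, (P : Subgroup G).Normal) ∨
    (∃ R : Sylow r G, (R : Subgroup G).Normal ∧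
      ∀ x ∈ (R : Subgroup G), ∀ y ∈ (R : Subgroup G), x * y = y * x) ∨ DegDvd m G

/-- Without the full power of `r` the Sylow `p`-subgroup is normal. -/
theorem Data.normal_of_not_dvd [Fact p.Prime] {m k : ℕ} (X : Type u) [Group X] [Finite X]
    (hk : Nat.card X = k) (hkn : k ∣ n) (hpk : p ∣ k) (hr : ¬ r ^ a ∣ k)
    (hf : Factors.{u} p r a m k) (P : Sylow p X) : (P : Subgroup X).Normal :=
  normal_of_good k X hk hpk (fun h => D.not_sq (h.trans hkn))
    (fun q j hq hqp hd h1 => hr (D.pow_cases hq hqp (hd.trans hkn) h1 ▸ hd))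
    (fun H _ _ _ hnc hpH hd => hr ((hf H hnc hpH hd).1.trans hd)) P

/-- The step through a minimal normal subgroup. -/
theorem Data.step [Fact p.Prime] [Fact r.Prime] {m k : ℕ} (G : Type u) [Group G] [Finite G]
    (hk : Nat.card G = k) (hkn : k ∣ n) (hpk : p ∣ k) (hns : ¬ IsSimpleGroup G)
    (hf : ∀ d, d ∣ k → d ≠ k → Factors.{u} p r a m d)
    (ih : ∀ (X : Type u) [Group X] [Finite X], Nat.card X ∣ k → Nat.card X ≠ k →
      p ∣ Nat.card X → Concl p r m X) : Concl p r m G := by
  classical
  have hnt : Nontrivial G := Finite.one_lt_card_iff_nontrivial.mp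
    (hk ▸ Nat.lt_of_lt_of_le D.hp.one_lt (Nat.le_of_dvd (hk ▸ Nat.card_pos) hpk))
  obtain ⟨H, hH, hH1, hH2⟩ : ∃ H : Subgroup G, H.Normal ∧ H ≠ ⊥ ∧ H ≠ ⊤ := by
    by_contra h
    push Not at h
    exact hns ⟨fun H hH => (em (H = ⊥)).imp id (fun e => h H hH e)⟩
  obtain ⟨N, hNmin, hNH⟩ := CfsgLib.Structure.exists_isMinNormal_le hH hH1
  have hN : N.Normal := hNmin.2.1
  have hN2 : N ≠ ⊤ := fun e => hH2 (top_le_iff.mp (e ▸ hNH))
  have hmul := N.card_mul_index
  have h1N : 1 < Nat.card N := N.one_lt_card_iff_ne_bot.mpr hNmin.1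
  have hdN : Nat.card N ∣ k := hk ▸ card_subgroup_dvd_card N
  have hneN : Nat.card N ≠ k := fun e => hN2 (eq_top_of_card_eq N (e.trans hk.symm))
  have hdQ : Nat.card (G ⧸ N) ∣ k := hk ▸ card_quotient_dvd_card N
  have hneQ : Nat.card (G ⧸ N) ≠ k := by
    rw [← index_eq_card, ← hk, ← hmul]
    exact (lt_mul_of_one_lt_left (index_pos N) h1N).ne
  have hsq : ¬ p ^ 2 ∣ k := fun h => D.not_sq (h.trans hkn)
  by_cases hpN : p ∣ Nat.card N
  · have hidx : ¬ p ∣ N.index := fun hd => hsq (by
      rw [pow_two, ← hk, ← hmul]; exact mul_dvd_mul hpN hd)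
    rcases ih N hdN hneN hpN with h | ⟨R, hR, hRc⟩ | h
    · exact Or.inl fun P => normal_step P (sylow_card hk hpk hsq P) N (hk ▸ hsq) (fun _ => h)
        (fun h0 => absurd hpN h0)
    · by_cases hra : r ^ a ∣ Nat.card N
      · refine Or.inr (Or.inl ?_)
        have hc : Nat.card ((R : Subgroup N).map N.subtype) =
            r ^ (Nat.card G).factorization r := by
          rw [card_map_of_injective N.subtype_injective, R.card_eq_multiplicity]
          congr 1
          refine le_antisymm ?_ ?_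
          · exact (Nat.factorization_le_iff_dvd Nat.card_pos.ne' Nat.card_pos.ne').mpr
              (card_subgroup_dvd_card N) r
          · have h1 := (D.hr.pow_dvd_iff_le_factorization Nat.card_pos.ne').mp hra
            have h2 : ¬ a + 1 ≤ (Nat.card G).factorization r := fun h3 => D.not_dvd_r
              (((pow_dvd_pow r h3).trans (Nat.ordProj_dvd _ r)).trans (hk ▸ hkn))
            omega
        have hnorm : ((R : Subgroup N).map N.subtype).Normal := by
          have := R.characteristic_of_normal hR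
          infer_instance
        refine ⟨Sylow.ofCard _ hc, hnorm, ?_⟩
        rintro _ ⟨x, hx, rfl⟩ _ ⟨y, hy, rfl⟩
        exact congrArg Subtype.val (hRc x hx y hy)
      · refine Or.inl fun P => normal_step P (sylow_card hk hpk hsq P) N (hk ▸ hsq) (fun _ Q => ?_)
          (fun h0 => absurd hpN h0)
        exact D.normal_of_not_dvd N rfl (hdN.trans hkn) hpN hra (hf _ hdN hneN) Q
    · exact Or.inr (Or.inr (degDvd_of_normal N h))
  · have hpQ : p ∣ Nat.card (G ⧸ N) := by
      rw [← index_eq_card]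
      rw [← hk, ← hmul] at hpk
      exact (D.hp.dvd_mul.mp hpk).resolve_left hpN
    have hqp : ∀ q j, q.Prime → q ^ (j + 1) ∣ Nat.card N → q ≠ p :=
      fun q j _ hd e => hpN (e ▸ (dvd_pow_self q j.succ_ne_zero).trans hd)
    by_cases hQ : ∀ Q : Sylow p (G ⧸ N), (Q : Subgroup (G ⧸ N)).Normal
    · by_cases hbad : ∀ q j, q.Prime → q ^ (j + 1) ∣ Nat.card N → q ^ (j + 1) % p ≠ 1
      · exact Or.inl fun P => normal_step P (sylow_card hk hpk hsq P) N (hk ▸ hsq)
          (fun h0 => absurd h0 hpN) (fun _ => ⟨hbad, hQ⟩)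
      push Not at hbad
      obtain ⟨q, j, hq, hd, h1⟩ := hbad
      have hra : r ^ a ∣ Nat.card N :=
        D.pow_cases hq (hqp q j hq hd) (hd.trans (hdN.trans hkn)) h1 ▸ hd
      have hd2 : Nat.card N ∣ r ^ a * s ^ b := by
        have h3 : Nat.card N ∣ p * (r ^ a * s ^ b) := D.card_eq ▸ hdN.trans hkn
        exact (D.hp.coprime_iff_not_dvd.mpr hpN).symm.dvd_of_dvd_mul_left h3
      have hsolv : Group.IsSolvable N := by
        obtain ⟨x, y, hx, hy, hxy⟩ := exists_dvd_and_dvd_of_dvd_mul hd2
        obtain ⟨i, _, rfl⟩ := (Nat.dvd_prime_pow D.hr).mp hx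
        obtain ⟨l, _, rfl⟩ := (Nat.dvd_prime_pow D.hs).mp hy
        exact CfsgLib.Burnside.isSolvable_of_card_eq D.hr D.hs i l hxy
      have hcomm := comm_of_minimal hNmin hsolv
      obtain ⟨R⟩ := (inferInstance : Nonempty (Sylow r N))
      have hRn : (R : Subgroup N).Normal := ⟨fun x hx g => by
        have : g * x * g⁻¹ = x := mul_inv_eq_iff_eq_mul.mpr
          (Subtype.ext (hcomm _ g.2 _ x.2))
        rwa [this]⟩
      have hc : Nat.card ((R : Subgroup N).map N.subtype) =
          r ^ (Nat.card G).factorization r := by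
        rw [card_map_of_injective N.subtype_injective, R.card_eq_multiplicity]
        congr 1
        refine le_antisymm ?_ ?_
        · exact (Nat.factorization_le_iff_dvd Nat.card_pos.ne' Nat.card_pos.ne').mpr
            (card_subgroup_dvd_card N) r
        · have h1 := (D.hr.pow_dvd_iff_le_factorization Nat.card_pos.ne').mp hra
          have h2 : ¬ a + 1 ≤ (Nat.card G).factorization r := fun h3 => D.not_dvd_r
            (((pow_dvd_pow r h3).trans (Nat.ordProj_dvd _ r)).trans (hk ▸ hkn))
          omega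
      have hnorm : ((R : Subgroup N).map N.subtype).Normal := by
        have := R.characteristic_of_normal hRn
        infer_instance
      refine Or.inr (Or.inl ⟨Sylow.ofCard _ hc, hnorm, ?_⟩)
      rintro _ ⟨x, hx, rfl⟩ _ ⟨y, hy, rfl⟩
      exact hcomm _ x.2 _ y.2
    · rcases ih (G ⧸ N) hdQ hneQ hpQ with h | ⟨R', hR', hRc⟩ | h
      · exact absurd h hQ
      · have hraQ : r ^ a ∣ Nat.card (G ⧸ N) := by_contra fun hno => hQ fun Q =>
          D.normal_of_not_dvd (G ⧸ N) rfl (hdQ.trans hkn) hpQ hno (hf _ hdQ hneQ) Q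
        have hrN : ¬ r ∣ Nat.card N := fun hd => D.not_dvd_r (by
          refine dvd_trans ?_ (hk ▸ hkn : Nat.card G ∣ n)
          rw [← hmul, index_eq_card, pow_succ, mul_comm (r ^ a)]
          exact mul_dvd_mul hd hraQ)
        have hgood : ∀ q j, q.Prime → q ^ (j + 1) ∣ Nat.card N → q ^ (j + 1) % p ≠ 1 :=
          fun q j hq hd h1 => hrN (by
            have := D.pow_cases hq (hqp q j hq hd) (hd.trans (hdN.trans hkn)) h1
            rcases Nat.eq_zero_or_pos a with ha | ha
            · exfalso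
              rw [ha, pow_zero] at this
              exact absurd this (Nat.one_lt_pow j.succ_ne_zero hq.one_lt).ne'
            · exact (dvd_pow_self r ha.ne').trans (this ▸ hd))
        set C := centralizer (N : Set G) with hC
        have hPC : ∀ P : Sylow p G, (P : Subgroup G) ≤ C := fun P =>
          le_centralizer_iff.mp (le_centralizer_of_powers _ N (sylow_card hk hpk hsq P)
            (by rw [normalizer_eq_top N]; exact le_top) hpN hgood)
        obtain ⟨P₀⟩ := (inferInstance : Nonempty (Sylow p G))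
        have hpC : p ∣ Nat.card C := (sylow_card hk hpk hsq P₀) ▸ card_dvd_of_le (hPC P₀)
        have hCn : C.Normal := inferInstance
        have hraC : r ^ a ∣ Nat.card C := by
          by_contra hno
          have hneC : Nat.card C ≠ k := fun e => hno (by
            rw [e, ← hk, ← hmul, index_eq_card]; exact hraQ.mul_left _)
          refine hQ fun Q => ?_
          obtain ⟨P, rfl⟩ := Sylow.mapSurjective_surjective (QuotientGroup.mk'_surjective N) p Q
          have hn1 : (P : Subgroup G).Normal := normal_step P (sylow_card hk hpk hsq P) C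
            (hk ▸ hsq) (fun _ S => D.normal_of_not_dvd C rfl
              ((hk ▸ card_subgroup_dvd_card C).trans hkn) hpC hno
              (hf _ (hk ▸ card_subgroup_dvd_card C) hneC) S) (fun h0 => absurd hpC h0)
          rw [Sylow.coe_mapSurjective]
          exact hn1.map _ (QuotientGroup.mk'_surjective N)
        obtain ⟨R, hRR⟩ :=
          Sylow.mapSurjective_surjective (QuotientGroup.mk'_surjective N) r R'
        obtain ⟨i, hi⟩ := IsPGroup.iff_card.mp R.isPGroup'
        have hcopN : (Nat.card R).Coprime (Nat.card N) := by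
          rw [hi]; exact (D.hr.coprime_iff_not_dvd.mpr hrN).pow_left i
        have hRC : (R : Subgroup G) ≤ C := le_of_coprime_index _ _ (by
          rw [hi]
          refine (D.hr.coprime_iff_not_dvd.mpr fun hd => D.not_dvd_r ?_).pow_left i
          rw [pow_succ]
          exact ((mul_dvd_mul hraC hd).trans (dvd_of_eq C.card_mul_index)).trans (hk ▸ hkn))
        have hnorm : ((R : Subgroup G) ⊔ N).Normal := by
          have h1 := hR'.comap (QuotientGroup.mk' N)
          rwa [← hRR, Sylow.coe_mapSurjective, comap_map_eq, QuotientGroup.ker_mk'] at h1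
        refine Or.inr (Or.inl ⟨R, normal_of_sup _ N (le_centralizer_iff.mp hRC) hcopN hnorm, ?_⟩)
        intro x hx y hy
        have hmem : ∀ z ∈ (R : Subgroup G), QuotientGroup.mk' N z ∈ (R' : Subgroup (G ⧸ N)) :=
          fun z hz => by rw [← hRR, Sylow.coe_mapSurjective]; exact mem_map_of_mem _ hz
        have h1 := hRc _ (hmem x hx) _ (hmem y hy)
        have h2 : ⁅x, y⁆ ∈ N := by
          rw [← QuotientGroup.ker_mk' N, MonoidHom.mem_ker, map_commutatorElement,
            commutatorElement_eq_one_iff_mul_comm]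
          exact h1
        have h3 : ⁅x, y⁆ ∈ (R : Subgroup G) := by
          rw [commutatorElement_def]
          exact mul_mem (mul_mem (mul_mem hx hy) (inv_mem hx)) (inv_mem hy)
        exact commutatorElement_eq_one_iff_mul_comm.mp (orderOf_eq_one_iff.mp
          (Nat.eq_one_of_dvd_coprimes hcopN (Subgroup.orderOf_dvd_natCard _ h3)
            (Subgroup.orderOf_dvd_natCard _ h2)))
      · exact Or.inr (Or.inr (degDvd_of_surjective (QuotientGroup.mk' N)
          (QuotientGroup.mk'_surjective N) h))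

/-- All groups of order dividing `n`. -/
theorem Data.main [Fact p.Prime] [Fact r.Prime] {m : ℕ} :
    ∀ (k : ℕ) (G : Type u) [Group G] [Finite G], Nat.card G = k → k ∣ n → p ∣ k →
      Factors.{u} p r a m k → Concl p r m G := by
  intro k
  induction k using Nat.strong_induction_on with
  | _ k ih =>
    intro G _ _ hk hkn hpk hf
    by_cases hS : IsSimpleGroup G
    · by_cases hnc : IsMulCommutative G
      · exact Or.inl fun P => ⟨fun x hx g => by rwa [hnc.is_comm.comm g x, mul_inv_cancel_right]⟩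
      · exact Or.inr (Or.inr (hf G hnc (hk ▸ hpk) (hk ▸ dvd_rfl)).2)
    · refine D.step G hk hkn hpk hS (fun d hd _ H _ _ _ hnc hpH hdH =>
        hf H hnc hpH (hdH.trans hd)) fun X _ _ hdX hneX hpX => ?_
      exact ih (Nat.card X) (lt_of_le_of_ne (Nat.le_of_dvd (hk ▸ Nat.card_pos) hdX) hneX) X rfl
        (hdX.trans hkn) hpX (fun H _ _ _ hnc hpH hdH => hf H hnc hpH (hdH.trans hdX))

/-- A group of order `n` that is not simple. -/
theorem Data.main_not_simple [Fact p.Prime] [Fact r.Prime] {m : ℕ} (G : Type u) [Group G]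
    [Finite G] (hG : Nat.card G = n) (hns : ¬ IsSimpleGroup G)
    (hf : ∀ d, d ∣ n → d ≠ n → Factors.{u} p r a m d) : Concl p r m G :=
  D.step G hG dvd_rfl (D.card_eq ▸ dvd_mul_right p _) hns hf fun X _ _ hdX hneX hpX =>
    D.main (Nat.card X) X rfl hdX hpX (hf _ hdX hneX)

end CfsgLib.Small.GraphTools
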