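import Cfsg.Agent.Lib.Structure80.ThreePrimes
import Cfsg.Agent.Lib.Coprime.Action
import Cfsg.Agent.Lib.Characters.Burnside
import Cfsg.Agent.Lib.Structure.MinimalNormal

/-!
Normal Sylow subgroups of groups that are not simple: a prime `p` that divides the order once,
with few prime powers congruent to one modulo `p`.
-/

set_option autoImplicit false

namespace CfsgLib.Small.GraphTools

open Subgroup CfsgLib.Palfy80
open scoped Pointwise commutatorElement

universe u

variable {G : Type u} [Group G] [Finite G]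

omit [Finite G] in
/-- A subgroup of order prime to the index of a normal subgroup lies in it. -/
theorem le_of_coprime_index (H N : Subgroup G) [N.Normal]
    (h : (Nat.card H).Coprime N.index) : H ≤ N := by
  intro x hx
  have h1 : orderOf (QuotientGroup.mk' N x) ∣ Nat.card H :=
    (orderOf_map_dvd _ x).trans (Subgroup.orderOf_dvd_natCard H hx)
  have h2 : orderOf (QuotientGroup.mk' N x) ∣ N.index := by
    rw [N.index_eq_card]
    exact orderOf_dvd_natCard _
  exact (QuotientGroup.eq_one_iff x).mp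
    (orderOf_eq_one_iff.mp (Nat.eq_one_of_dvd_coprimes h h1 h2))

/-- A coprime normal subgroup of a normal subgroup is normal. -/
theorem normal_of_normal_in (H N : Subgroup G) (hle : H ≤ N) [hN : N.Normal]
    [hH : (H.subgroupOf N).Normal] (hc : (Nat.card H).Coprime (H.relIndex N)) : H.Normal := by
  refine ⟨fun a ha g => ?_⟩
  have hmem : g * a * g⁻¹ ∈ N := hN.conj_mem a (hle ha) g
  have hord : Nat.card (zpowers (⟨_, hmem⟩ : N)) ∣ Nat.card H := by
    rw [Nat.card_zpowers, ← Subgroup.orderOf_coe]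
    show orderOf (g * a * g⁻¹) ∣ _
    rw [show g * a * g⁻¹ = MulAut.conj g a from rfl, MulEquiv.orderOf_eq]
    exact Subgroup.orderOf_dvd_natCard H ha
  have h1 : (⟨_, hmem⟩ : N) ∈ H.subgroupOf N :=
    le_of_coprime_index _ _ (hc.coprime_dvd_left hord) (mem_zpowers _)
  exact h1

omit [Finite G] in
/-- An element of `HN` of order prime to `|N|` lies in `H` when `N` centralises `H`. -/
theorem mem_of_sup_centralized (H N : Subgroup G) [N.Normal]
    (hC : N ≤ centralizer (H : Set G)) (hcop : (Nat.card H).Coprime (Nat.card N)) {x : G}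
    (hx : x ∈ H ⊔ N) (hord : orderOf x ∣ Nat.card H) : x ∈ H := by
  obtain ⟨a, ha, n, hn, rfl⟩ := Subgroup.mem_sup_of_normal_right.mp hx
  have hcomm : Commute a n := mem_centralizer_iff.mp (hC hn) a ha
  have h1 : a ^ Nat.card H = 1 := by
    obtain ⟨k, hk⟩ := Subgroup.orderOf_dvd_natCard H ha
    rw [hk, pow_mul, pow_orderOf_eq_one, one_pow]
  have h2 : (a * n) ^ Nat.card H = 1 := orderOf_dvd_iff_pow_eq_one.mp hord
  rw [hcomm.mul_pow, h1, one_mul] at h2
  have h3 := Nat.eq_one_of_dvd_coprimes hcop (orderOf_dvd_of_pow_eq_one h2)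
    (Subgroup.orderOf_dvd_natCard N hn)
  rw [orderOf_eq_one_iff] at h3
  rwa [h3, mul_one]

/-- If `HN` is normal and `N` centralises the coprime subgroup `H`, then `H` is normal. -/
theorem normal_of_sup (H N : Subgroup G) [N.Normal] (hC : N ≤ centralizer (H : Set G))
    (hcop : (Nat.card H).Coprime (Nat.card N)) (hn : (H ⊔ N).Normal) : H.Normal :=
  ⟨fun a ha g => mem_of_sup_centralized H N hC hcop (hn.conj_mem a (mem_sup_left ha) g) (by
    rw [show g * a * g⁻¹ = MulAut.conj g a from rfl, MulEquiv.orderOf_eq]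
    exact Subgroup.orderOf_dvd_natCard H ha)⟩

/-- A group of order `p` fixes a full Sylow `r`-subgroup of a normalised group of order prime to
`p`, when no power of `r` dividing the order is `1` modulo `p`. -/
theorem pow_dvd_inf_centralizer {p : ℕ} [hp : Fact p.Prime] (P N : Subgroup G)
    (hP : Nat.card P = p) (hPN : P ≤ normalizer (N : Set G)) (hpN : ¬ p ∣ Nat.card N)
    {r : ℕ} (hr : r.Prime) (hrN : r ∣ Nat.card N)
    (hpow : ∀ j, r ^ (j + 1) ∣ Nat.card N → r ^ (j + 1) % p ≠ 1) :
    r ^ (Nat.card N).factorization r ∣ Nat.card (N ⊓ centralizer (P : Set G) : Subgroup G) := by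
  have : Fact r.Prime := ⟨hr⟩
  have : IsCyclic P := isCyclic_of_prime_card hP
  obtain ⟨Q, hQ⟩ := CfsgLib.Coprime.exists_invariant_sylow P N hPN
    (hP ▸ (hp.out.coprime_iff_not_dvd.mpr hpN))
    (Or.inl (Group.isSolvable_of_comm fun a b =>
      (IsCyclic.isMulCommutative (α := P)).is_comm.comm a b)) r
  set Q' := (Q : Subgroup N).map N.subtype with hQ'
  have hcQ : Nat.card Q' = r ^ (Nat.card N).factorization r := by
    rw [hQ', card_map_of_injective N.subtype_injective, Q.card_eq_multiplicity]
  let _ : MulAction P Q' :=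
    { smul := fun a q => ⟨(a : G) * q * (a : G)⁻¹, (mem_normalizer_iff.mp (hQ a.2) q).mp q.2⟩
      one_smul := fun q => Subtype.ext (show (1 : G) * q * (1 : G)⁻¹ = q by simp)
      mul_smul := fun a b q => Subtype.ext (show ((a : G) * b) * q * ((a : G) * b)⁻¹ =
        (a : G) * ((b : G) * q * (b : G)⁻¹) * (a : G)⁻¹ by group) }
  have hfix : Nat.card (MulAction.fixedPoints P Q') =
      Nat.card (Q' ⊓ centralizer (P : Set G) : Subgroup G) :=
    Nat.card_congr
      { toFun := fun q => ⟨(q.1 : G), q.1.2, mem_centralizer_iff.mpr fun a ha => by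
          have h1 : a * (q.1 : G) * a⁻¹ = (q.1 : G) := congrArg Subtype.val (q.2 ⟨a, ha⟩)
          exact mul_inv_eq_iff_eq_mul.mp h1⟩
        invFun := fun q => ⟨⟨(q : G), q.2.1⟩, fun a => Subtype.ext (show (a : G) * q * (a : G)⁻¹ = q
          from mul_inv_eq_iff_eq_mul.mpr (mem_centralizer_iff.mp q.2.2 a a.2))⟩
        left_inv := fun _ => rfl
        right_inv := fun _ => rfl }
  have hmod := (IsPGroup.of_card (n := 1) (hP.trans (pow_one p).symm)).card_modEq_card_fixedPoints Q'
  rw [hfix, hcQ] at hmod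
  obtain ⟨i, hi, hci⟩ := (Nat.dvd_prime_pow hr).mp (hcQ ▸ card_dvd_of_le
    (inf_le_left : Q' ⊓ centralizer (P : Set G) ≤ Q'))
  rw [hci] at hmod
  set v := (Nat.card N).factorization r
  have hiv : i = v := by
    by_contra hne
    refine hpow (v - i - 1) ((pow_dvd_pow r (by omega)).trans (Nat.ordProj_dvd (Nat.card N) r)) ?_
    rw [show v = i + (v - i) by omega, pow_add] at hmod
    have hcop : Nat.gcd p (r ^ i) = 1 := by
      refine Nat.Coprime.pow_right i (hp.out.coprime_iff_not_dvd.mpr fun hd => hpN ?_)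
      rw [(Nat.prime_dvd_prime_iff_eq hp.out hr).mp hd]
      exact hrN
    have h1 : r ^ (v - i) ≡ 1 [MOD p] :=
      Nat.ModEq.cancel_left_of_coprime hcop (by rw [mul_one]; exact hmod)
    rw [Nat.ModEq, Nat.one_mod_eq_one.mpr hp.out.ne_one] at h1
    rwa [show v - i - 1 + 1 = v - i by omega]
  rw [← hiv, ← hci]
  exact card_dvd_of_le (inf_le_inf_right _ (map_subtype_le _))

/-- A group of order `p` centralises a normalised group of order prime to `p` all of whose prime
power divisors differ from `1` modulo `p`. -/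
theorem le_centralizer_of_powers {p : ℕ} [hp : Fact p.Prime] (P N : Subgroup G)
    (hP : Nat.card P = p) (hPN : P ≤ normalizer (N : Set G)) (hpN : ¬ p ∣ Nat.card N)
    (hpow : ∀ r j, r.Prime → r ^ (j + 1) ∣ Nat.card N → r ^ (j + 1) % p ≠ 1) :
    N ≤ centralizer (P : Set G) := by
  have hdvd : Nat.card N ∣ Nat.card (N ⊓ centralizer (P : Set G) : Subgroup G) := by
    refine (Nat.dvd_iff_prime_pow_dvd_dvd _ _).mpr fun r k hr hk => ?_
    rcases Nat.eq_zero_or_pos k with rfl | hk0
    · rw [pow_zero]; exact one_dvd _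
    exact (pow_dvd_pow r ((hr.pow_dvd_iff_le_factorization Nat.card_pos.ne').mp hk)).trans
      (pow_dvd_inf_centralizer P N hP hPN hpN hr ((dvd_pow_self r hk0.ne').trans hk)
        (fun j => hpow r j hr))
  have h := eq_of_le_of_card_ge (inf_le_left : N ⊓ centralizer (P : Set G) ≤ N)
    (Nat.le_of_dvd Nat.card_pos hdvd)
  exact h ▸ inf_le_right

/-- A Sylow subgroup of order `p`. -/
theorem sylow_card {p n : ℕ} [Fact p.Prime] (h : Nat.card G = n) (h1 : p ∣ n) (h2 : ¬ p ^ 2 ∣ n)
    (P : Sylow p G) : Nat.card P = p := by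
  have hd := P.pow_dvd_card_of_pow_dvd_card (n := 1) (by rw [pow_one, h]; exact h1)
  obtain ⟨k, hk⟩ := IsPGroup.iff_card.mp P.isPGroup'
  have hk2 : k < 2 := by
    by_contra hk2
    exact h2 (h ▸ ((pow_dvd_pow p (not_lt.mp hk2)).trans (hk ▸ card_subgroup_dvd_card _)))
  rw [hk] at hd
  have := (Nat.pow_dvd_pow_iff_le_right (Fact.out : p.Prime).one_lt).mp hd
  rw [hk, show k = 1 by omega, pow_one]

/-- The preimage of a normal Sylow subgroup of a quotient. -/
theorem sup_normal_of_quotient {p : ℕ} [Fact p.Prime] (P : Sylow p G) (N : Subgroup G) [N.Normal]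
    (h : ∀ Q : Sylow p (G ⧸ N), (Q : Subgroup (G ⧸ N)).Normal) :
    ((P : Subgroup G) ⊔ N).Normal := by
  have h1 := (h (P.mapSurjective (QuotientGroup.mk'_surjective N))).comap (QuotientGroup.mk' N)
  rwa [Sylow.coe_mapSurjective, comap_map_eq, QuotientGroup.ker_mk'] at h1

theorem index_pos (N : Subgroup G) : 0 < N.index := Nat.pos_of_ne_zero index_ne_zero_of_finite

/-- One step: a Sylow subgroup of order `p` is normal when this holds in a normal subgroup
containing it, or in the quotient by one whose prime powers differ from one modulo `p`. -/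
theorem normal_step {p : ℕ} [hp : Fact p.Prime] (P : Sylow p G) (hP : Nat.card P = p)
    (N : Subgroup G) [N.Normal] (hsq : ¬ p ^ 2 ∣ Nat.card G)
    (hin : p ∣ Nat.card N → ∀ Q : Sylow p N, (Q : Subgroup N).Normal)
    (hout : ¬ p ∣ Nat.card N → (∀ r j, r.Prime → r ^ (j + 1) ∣ Nat.card N →
      r ^ (j + 1) % p ≠ 1) ∧ ∀ Q : Sylow p (G ⧸ N), (Q : Subgroup (G ⧸ N)).Normal) :
    (P : Subgroup G).Normal := by
  by_cases hN : p ∣ Nat.card N
  · have hidx : ¬ p ∣ N.index := fun hd => hsq (by
      rw [pow_two, ← N.card_mul_index]; exact mul_dvd_mul hN hd)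
    have hle : (P : Subgroup G) ≤ N := le_of_coprime_index _ _ (by
      rw [hP]; exact hp.out.coprime_iff_not_dvd.mpr hidx)
    have : ((P : Subgroup G).subgroupOf N).Normal := hin hN (P.subtype hle)
    refine normal_of_normal_in _ N hle ?_
    rw [hP]
    exact hp.out.coprime_iff_not_dvd.mpr fun hd => P.not_dvd_index
      (hd.trans (Dvd.intro _ (relIndex_mul_index hle)))
  · obtain ⟨hpow, hQ⟩ := hout hN
    refine normal_of_sup _ N (le_centralizer_of_powers _ N hP ?_ hN hpow)
      (by rw [hP]; exact hp.out.coprime_iff_not_dvd.mpr hN) (sup_normal_of_quotient P N hQ)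
    rw [normalizer_eq_top N]
    exact le_top

/-- No non-abelian simple group of order dividing `n`, of order a multiple of `p`. -/
def NoSimple (p n : ℕ) : Prop :=
  ∀ (H : Type u) [Group H] [Finite H] [IsSimpleGroup H], ¬ IsMulCommutative H →
    p ∣ Nat.card H → ¬ Nat.card H ∣ n

/-- A Sylow subgroup of order `p` is normal when no composition factor and no prime power
allows otherwise. -/
theorem normal_of_good {p : ℕ} [hp : Fact p.Prime] :
    ∀ (n : ℕ) (G : Type u) [Group G] [Finite G], Nat.card G = n → p ∣ n → ¬ p ^ 2 ∣ n →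
      (∀ r j, r.Prime → r ≠ p → r ^ (j + 1) ∣ n → r ^ (j + 1) % p ≠ 1) → NoSimple.{u} p n →
      ∀ P : Sylow p G, (P : Subgroup G).Normal := by
  intro n
  induction n using Nat.strong_induction_on with
  | _ n ih =>
    intro G _ _ hn hpn hsq hpow hno P
    have hnt : Nontrivial G := Finite.one_lt_card_iff_nontrivial.mp
      (hn ▸ Nat.lt_of_lt_of_le hp.out.one_lt (Nat.le_of_dvd (hn ▸ Nat.card_pos) hpn))
    by_cases hS : ∃ N : Subgroup G, N.Normal ∧ N ≠ ⊥ ∧ N ≠ ⊤
    · obtain ⟨N, hN, hN1, hN2⟩ := hS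
      have hmul := N.card_mul_index
      have h1 : 1 < Nat.card N := N.one_lt_card_iff_ne_bot.mpr hN1
      have h2 : 1 < N.index := by
        have := index_pos N
        have : N.index ≠ 1 := fun e => hN2 (index_eq_one.mp e)
        omega
      have hdN : Nat.card N ∣ n := hn ▸ card_subgroup_dvd_card N
      have hdQ : Nat.card (G ⧸ N) ∣ n := hn ▸ card_quotient_dvd_card N
      refine normal_step P (sylow_card hn hpn hsq P) N (hn ▸ hsq) (fun hpN => ?_) fun hpN =>
        ⟨fun r j hr hd => hpow r j hr (fun e => hpN (e ▸ (dvd_pow_self r j.succ_ne_zero).trans hd))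
          (hd.trans hdN), ?_⟩
      · exact ih (Nat.card N) (by rw [← hn, ← hmul]; exact lt_mul_of_one_lt_right Nat.card_pos h2)
          N rfl hpN (fun h => hsq (h.trans hdN)) (fun r j hr hne hd => hpow r j hr hne (hd.trans hdN))
          (fun H _ _ _ hnc hpH hd => hno H hnc hpH (hd.trans hdN))
      · refine ih (Nat.card (G ⧸ N)) ?_ (G ⧸ N) rfl ?_ (fun h => hsq (h.trans hdQ))
          (fun r j hr hne hd => hpow r j hr hne (hd.trans hdQ))
          (fun H _ _ _ hnc hpH hd => hno H hnc hpH (hd.trans hdQ))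
        · rw [← index_eq_card, ← hn, ← hmul]
          exact lt_mul_of_one_lt_left (index_pos N) h1
        · rw [← index_eq_card]
          rw [← hn, ← hmul] at hpn
          exact (hp.out.dvd_mul.mp hpn).resolve_left hpN
    · push Not at hS
      have : IsSimpleGroup G := ⟨fun H hH => (em (H = ⊥)).imp id (fun h => hS H hH h)⟩
      by_cases hnc : IsMulCommutative G
      · exact ⟨fun a ha g => by rwa [hnc.is_comm.comm g a, mul_inv_cancel_right]⟩
      · exact absurd dvd_rfl (hn ▸ hno G hnc (hn ▸ hpn))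

omit [Finite G] in
/-- A minimal normal subgroup that is solvable is abelian. -/
theorem comm_of_minimal {N : Subgroup G} (hN : CfsgLib.Structure.IsMinNormal N)
    (hs : Group.IsSolvable N) : ∀ x ∈ N, ∀ y ∈ N, x * y = y * x := by
  obtain ⟨hne, hnorm, hmin⟩ := hN
  have : Nontrivial N := (nontrivial_iff_ne_bot N).mpr hne
  have hlt : commutator N < ⊤ := Group.IsSolvable.commutator_lt_top_of_nontrivial N
  have hchar : ((commutator N).map N.subtype).Normal := inferInstance
  rcases hmin _ hchar (map_subtype_le _) with h | h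
  · intro x hx y hy
    have hb : commutator N = ⊥ := (map_eq_bot_iff_of_injective _ N.subtype_injective).mp h
    have hm : ⁅(⟨x, hx⟩ : N), ⟨y, hy⟩⁆ ∈ commutator N :=
      commutator_mem_commutator (mem_top _) (mem_top _)
    rw [hb, mem_bot, commutatorElement_eq_one_iff_mul_comm] at hm
    exact congrArg Subtype.val hm
  · refine absurd ?_ hlt.ne
    refine map_injective N.subtype_injective ?_
    rw [h, ← MonoidHom.range_eq_map, range_subtype]

end CfsgLib.Small.GraphTools
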