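import Cfsg.Agent.Lib.Small.GraphOrders
import Cfsg.Agent.Lib.Small.Residual

/-!
Groups of order 2520 that are not simple: a normal Sylow 5- or 7-subgroup.
-/

set_option autoImplicit false
set_option maxRecDepth 100000

namespace CfsgLib.Small.GraphTools

open Subgroup CfsgLib.Palfy80 CfsgLib.Small.Low
open scoped Pointwise

universe u

theorem five_pow (k : ℕ) (hk : k ∣ 2520) (r j : ℕ) (hr : r.Prime) (hne : r ≠ 5)
    (hd : r ^ (j + 1) ∣ k) : r ^ (j + 1) % 5 ≠ 1 :=
  pow_ne_one (p := 5) (n := 2520) (by norm_num) [2, 3, 5, 7] (by decide +kernel)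
    (by decide +kernel) (by norm_num) r j hr hne (hd.trans hk)

theorem seven_pow (k : ℕ) (hk : k ∣ 2520) (h8 : ¬ 8 ∣ k) (r j : ℕ) (hr : r.Prime) (hne : r ≠ 7)
    (hd : r ^ (j + 1) ∣ k) : r ^ (j + 1) % 7 ≠ 1 := by
  have hk0 : 0 < k := Nat.pos_of_dvd_of_pos hk (by norm_num)
  have key : ∀ d ∈ Nat.divisors 2520, ¬ 8 ∣ d → ∀ q ∈ [2, 3, 5, 7], q ≠ 7 → ∀ j < 13,
      q ^ (j + 1) ∣ d → q ^ (j + 1) % 7 ≠ 1 := by decide +kernel
  refine pow_ne_one (p := 7) (n := k) hk0 [2, 3, 5, 7] ?_
    (key k (Nat.mem_divisors.mpr ⟨hk, by norm_num⟩) h8)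
    (lt_of_le_of_lt (Nat.le_of_dvd (by norm_num) hk) (by norm_num)) r j hr hne hd
  intro d hd hdp
  exact (show ∀ e ∈ Nat.divisors 2520, e.Prime → e ∈ [2, 3, 5, 7] by decide +kernel) d
    (Nat.mem_divisors.mpr ⟨(Nat.dvd_of_mem_divisors hd).trans hk, by norm_num⟩) hdp

theorem five_normal (X : Type u) [Group X] [Finite X] [Fact (Nat.Prime 5)]
    (hk : Nat.card X ∣ 2520) (h5 : 5 ∣ Nat.card X) (h60 : ¬ 60 ∣ Nat.card X) (P : Sylow 5 X) :
    (P : Subgroup X).Normal :=
  normal_of_good (Nat.card X) X rfl h5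
    (fun h => absurd (h.trans hk) (by norm_num)) (five_pow _ hk)
    (noSimple_of_list Nat.card_pos (lt_of_le_of_lt (Nat.le_of_dvd (by norm_num) hk) (by norm_num))
      (fun d hd h5d hdk => h60
        (((show ∀ o ∈ orders, 5 ∣ o → o ∣ 2520 → 60 ∣ o by decide +kernel) d hd h5d
          (hdk.trans hk)).trans hdk))) P

theorem seven_normal (X : Type u) [Group X] [Finite X] [Fact (Nat.Prime 7)]
    (hk : Nat.card X ∣ 2520) (h7 : 7 ∣ Nat.card X) (h8 : ¬ 8 ∣ Nat.card X) (P : Sylow 7 X) :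
    (P : Subgroup X).Normal :=
  normal_of_good (Nat.card X) X rfl h7
    (fun h => absurd (h.trans hk) (by norm_num)) (seven_pow _ hk h8)
    (noSimple_of_list Nat.card_pos (lt_of_le_of_lt (Nat.le_of_dvd (by norm_num) hk) (by norm_num))
      (fun d hd h7d hdk => h8
        (((show ∀ o ∈ orders, 7 ∣ o → o ∣ 2520 → 8 ∣ o by decide +kernel) d hd h7d
          (hdk.trans hk)).trans hdk))) P

/-- A normalised group `N` of order 120 or 360 whose Sylow 5-subgroup is not normal is centralised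
by a group of order seven. -/
theorem centralizes_seven {G : Type u} [Group G] [Finite G] [Fact (Nat.Prime 5)]
    [Fact (Nat.Prime 7)] (P : Sylow 7 G) (hP : Nat.card P = 7) (N : Subgroup G) [N.Normal]
    (hk : Nat.card N = 120 ∨ Nat.card N = 360)
    (h5 : ¬ ∀ Q : Sylow 5 N, (Q : Subgroup N).Normal) :
    N ≤ centralizer ((P : Subgroup G) : Set G) := by
  classical
  set X := (P : Subgroup G) ⊔ N with hX
  have hPX : (P : Subgroup G) ≤ X := le_sup_left
  set C := N ⊓ centralizer ((P : Subgroup G) : Set G) with hC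
  have hN7 : ¬ 7 ∣ Nat.card N := by rcases hk with e | e <;> rw [e] <;> norm_num
  have hdisj : Disjoint (P : Subgroup G) N := disjoint_iff.mpr (inf_eq_bot_of_coprime
    (by rw [hP]; exact (Nat.Prime.coprime_iff_not_dvd Fact.out).mpr hN7))
  have hcX : Nat.card X = 7 * Nat.card N := by
    rw [hX, ← SetLike.coe_sort_coe, Subgroup.mul_normal]
    refine (Eq.trans ?_ (congrArg (· * Nat.card N) hP))
    exact Nat.card_congr ((Equiv.ofBijective
      (fun z : ↥(P : Subgroup G) × ↥N => (⟨(z.1 : G) * z.2, Set.mul_mem_mul z.1.2 z.2.2⟩ :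
        (((P : Subgroup G) : Set G) * (N : Set G) : Set G)))
      ⟨fun a b h => mul_injective_of_disjoint hdisj (congrArg Subtype.val h),
        fun ⟨x, hx⟩ => by
          obtain ⟨a, ha, b, hb, rfl⟩ := Set.mem_mul.mp hx
          exact ⟨(⟨a, ha⟩, ⟨b, hb⟩), rfl⟩⟩).symm) |>.trans (Nat.card_prod _ _)
  have heq := CfsgLib.Small.Residual.card_eq_sylow_mul P hPX
  set c := Nat.card (normalizer ((P : Subgroup G) : Set G) ⊓ X : Subgroup G)
  rw [hcX] at heq
  have hmod := card_sylow_modEq_one 7 X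
  rw [Nat.ModEq] at hmod
  -- the odd primes
  have hrC : ∀ r, r.Prime → r = 3 ∨ r = 5 → r ∣ Nat.card N →
      r ^ (Nat.card N).factorization r ∣ Nat.card C := by
    intro r hr hr35 hd
    refine pow_dvd_inf_centralizer (P : Subgroup G) N hP (by rw [normalizer_eq_top N]; exact le_top)
      hN7 hr hd fun j hj => ?_
    have key : ∀ q ∈ [3, 5], ∀ j < 13, q ^ (j + 1) ∣ 360 → q ^ (j + 1) % 7 ≠ 1 := by
      decide +kernel
    have h360 : Nat.card N ∣ 360 := by rcases hk with e | e <;> rw [e] <;> norm_num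
    refine key r (by rcases hr35 with rfl | rfl <;> simp) j ?_ (hj.trans h360)
    by_contra hj'
    have h1 := Nat.le_of_dvd (by norm_num) (hj.trans h360)
    have h2 : 2 ^ 13 ≤ r ^ (j + 1) :=
      (Nat.pow_le_pow_left hr.two_le 13).trans (Nat.pow_le_pow_right hr.pos (by omega))
    omega
  have hc15 : Nat.card N / 8 ∣ Nat.card C := by
    have h3 : 3 ^ (Nat.card N).factorization 3 ∣ Nat.card C :=
      hrC 3 Nat.prime_three (Or.inl rfl) (by rcases hk with e | e <;> rw [e] <;> norm_num)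
    have h5' : 5 ^ (Nat.card N).factorization 5 ∣ Nat.card C :=
      hrC 5 Fact.out (Or.inr rfl) (by rcases hk with e | e <;> rw [e] <;> norm_num)
    have hp3 : ∀ a : ℕ, 3 ^ a ∣ Nat.card N → 3 ^ a ∣ Nat.card C := fun a ha =>
      (pow_dvd_pow 3 ((Nat.prime_three.pow_dvd_iff_le_factorization Nat.card_pos.ne').mp ha)).trans h3
    have hp5 : 5 ∣ Nat.card C := (pow_one 5) ▸ (pow_dvd_pow 5
      (((Fact.out : Nat.Prime 5).pow_dvd_iff_le_factorization Nat.card_pos.ne').mp
        (show 5 ^ 1 ∣ Nat.card N by rcases hk with e | e <;> rw [e] <;> norm_num))).trans h5'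
    rcases hk with e | e <;> rw [e]
    · exact Nat.Coprime.mul_dvd_of_dvd_of_dvd (m := 3) (n := 5) (by norm_num)
        (by simpa using hp3 1 (by rw [e]; norm_num)) hp5
    · exact Nat.Coprime.mul_dvd_of_dvd_of_dvd (m := 9) (n := 5) (by norm_num)
        (by simpa using hp3 2 (by rw [e]; norm_num)) hp5
  have hcC : 7 * Nat.card C ∣ c := by
    refine Nat.Coprime.mul_dvd_of_dvd_of_dvd ?_ (hP ▸ card_dvd_of_le (le_inf le_normalizer hPX))
      (card_dvd_of_le (le_inf (inf_le_right.trans (centralizer_le_normalizer' _))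
        (inf_le_left.trans le_sup_right)))
    exact (Nat.Prime.coprime_iff_not_dvd Fact.out).mpr fun h =>
      hN7 (h.trans (card_dvd_of_le inf_le_left))
  have hn18 : Nat.card (Sylow 7 X) = 1 ∨
      Nat.card (Sylow 7 X) = 8 ∧ Nat.card C = Nat.card N / 8 := by
    obtain ⟨w, hw⟩ := hcC
    obtain ⟨v, hv⟩ := hc15
    rw [hv] at hw
    rw [hw, show ∀ n : ℕ, n * (7 * (Nat.card N / 8 * v) * w) = 7 * (Nat.card N / 8 * (n * (v * w)))
      from fun n => by ring, eq_comm] at heq
    have h8 : 8 * (Nat.card N / 8) = Nat.card N := by rcases hk with e | e <;> rw [e]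
    have h1 : Nat.card (Sylow 7 X) * (v * w) = 8 := by
      have h0 : 0 < Nat.card N / 8 := by rcases hk with e | e <;> rw [e] <;> norm_num
      refine Nat.eq_of_mul_eq_mul_left h0 ?_
      have := Nat.eq_of_mul_eq_mul_left (show 0 < 7 by norm_num) heq
      omega
    have h2 : Nat.card (Sylow 7 X) ∣ 8 := Dvd.intro _ h1
    rcases (show ∀ d ∈ Nat.divisors 8, d % 7 = 1 → d = 1 ∨ d = 8 by decide) _
      (Nat.mem_divisors.mpr ⟨h2, by norm_num⟩) hmod with e | e
    · exact Or.inl e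
    · refine Or.inr ⟨e, ?_⟩
      rw [e] at h1
      have hv1 : v = 1 := Nat.eq_one_of_mul_eq_one_right (show v * w = 1 by omega)
      rw [hv, hv1, mul_one]
  rcases hn18 with h1 | ⟨-, hC15⟩
  · -- `P` is normal in `PN`
    have : Subsingleton (Sylow 7 X) := (Nat.card_eq_one_iff_unique.mp h1).1
    have hn : ((P : Subgroup G).subgroupOf X).Normal := Sylow.normal_of_subsingleton (P.subtype hPX)
    intro y hy
    rw [mem_centralizer_iff]
    intro a ha
    have h2 : y * a * y⁻¹ * a⁻¹ ∈ (P : Subgroup G) := mul_mem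
      (hn.conj_mem ⟨a, hPX ha⟩ ha ⟨y, le_sup_right (α := Subgroup G) hy⟩) (inv_mem ha)
    have h3 : y * a * y⁻¹ * a⁻¹ ∈ N := by
      rw [show y * a * y⁻¹ * a⁻¹ = y * (a * y⁻¹ * a⁻¹) by group]
      exact mul_mem hy (Normal.conj_mem inferInstance _ (inv_mem hy) a)
    have h4 := disjoint_def.mp hdisj h2 h3
    rw [mul_inv_eq_one, mul_inv_eq_iff_eq_mul] at h4
    exact h4.symm
  · -- `C` has order 15 or 45
    refine absurd ?_ h5
    intro Q
    set C' := C.subgroupOf N with hC'
    have hcard' : Nat.card C' = Nat.card N / 8 := by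
      rw [← hC15]; exact Nat.card_congr (subgroupOfEquivOfLe inf_le_left).toEquiv
    obtain ⟨S⟩ := (inferInstance : Nonempty (Sylow 5 C'))
    have hSn : (S : Subgroup C').Normal := by
      refine five_normal C' ?_ ?_ ?_ S <;> rw [hcard'] <;>
        rcases hk with e | e <;> rw [e] <;> norm_num
    have hS5 : Nat.card S = 5 := by
      refine sylow_card (n := Nat.card N / 8) hcard' ?_ ?_ S <;>
        rcases hk with e | e <;> rw [e] <;> norm_num
    have hQ5 : Nat.card Q = 5 := by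
      refine sylow_card (n := Nat.card N) rfl ?_ ?_ Q <;>
        rcases hk with e | e <;> rw [e] <;> norm_num
    obtain ⟨g, hg⟩ := MulAction.exists_smul_eq N
      (Sylow.ofCard ((S : Subgroup C').map C'.subtype) (by
        rw [card_map_of_injective C'.subtype_injective, ← Q.card_eq_multiplicity]
        exact hS5.trans hQ5.symm)) Q
    have hidx : Nat.card (Sylow 5 N) ∣ 8 := by
      rw [Q.card_eq_index_normalizer]
      set T := (Sylow.ofCard ((S : Subgroup C').map C'.subtype) (by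
        rw [card_map_of_injective C'.subtype_injective, ← Q.card_eq_multiplicity]
        exact hS5.trans hQ5.symm) : Sylow 5 N)
      have hCle : C' ≤ normalizer ((T : Subgroup N) : Set N) := by
        intro x hx
        rw [mem_normalizer_iff]
        intro y
        show y ∈ (S : Subgroup C').map C'.subtype ↔ x * y * x⁻¹ ∈ (S : Subgroup C').map C'.subtype
        constructor
        · rintro ⟨z, hz, rfl⟩
          exact ⟨⟨x, hx⟩ * z * ⟨x, hx⟩⁻¹, hSn.conj_mem z hz ⟨x, hx⟩, rfl⟩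
        · rintro ⟨z, hz, hzy⟩
          refine ⟨⟨x, hx⟩⁻¹ * z * ⟨x, hx⟩, ?_, ?_⟩
          · have := hSn.conj_mem z hz ⟨x, hx⟩⁻¹
            rwa [inv_inv] at this
          · show x⁻¹ * (z : N) * x = y
            rw [show (z : N) = x * y * x⁻¹ from hzy]
            group
      have h2 : C'.index = 8 := by
        have h3 := C'.card_mul_index
        rw [hcard'] at h3
        rcases hk with e | e <;> rw [e] at h3 <;> omega
      have h4 : C'.index ∣ 8 := h2 ▸ dvd_rfl
      rw [← Q.card_eq_index_normalizer, T.card_eq_index_normalizer]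
      exact (index_dvd_of_le hCle).trans h4
    have hm5 := card_sylow_modEq_one 5 N
    rw [Nat.ModEq] at hm5
    have h1 := (show ∀ d ∈ Nat.divisors 8, d % 5 = 1 → d = 1 by decide) _
      (Nat.mem_divisors.mpr ⟨hidx, by norm_num⟩) hm5
    have : Subsingleton (Sylow 5 N) := (Nat.card_eq_one_iff_unique.mp h1).1
    exact Sylow.normal_of_subsingleton Q

/-- A group of order dividing 2520, divisible by 35, that is not simple. -/
theorem five_or_seven [Fact (Nat.Prime 5)] [Fact (Nat.Prime 7)] :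
    ∀ (k : ℕ) (G : Type u) [Group G] [Finite G], Nat.card G = k → k ∣ 2520 → 35 ∣ k →
      ¬ IsSimpleGroup G → (∀ P : Sylow 5 G, (P : Subgroup G).Normal) ∨
        (∀ P : Sylow 7 G, (P : Subgroup G).Normal) := by
  intro k
  induction k using Nat.strong_induction_on with
  | _ k ih =>
    intro G _ _ hk hkn h35 hns
    have h5k : 5 ∣ k := (show 5 ∣ 35 by norm_num).trans h35
    have h7k : 7 ∣ k := (show 7 ∣ 35 by norm_num).trans h35
    have hk0 : 0 < k := hk ▸ Nat.card_pos
    have hnt : Nontrivial G := Finite.one_lt_card_iff_nontrivial.mp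
      (hk ▸ Nat.lt_of_lt_of_le (show 1 < 5 by norm_num) (Nat.le_of_dvd hk0 h5k))
    have h25 : ¬ 5 ^ 2 ∣ k := fun h => absurd (h.trans hkn) (by norm_num)
    have h49 : ¬ 7 ^ 2 ∣ k := fun h => absurd (h.trans hkn) (by norm_num)
    obtain ⟨N, hN, hN1, hN2⟩ := exists_proper_normal hns
    obtain ⟨⟨hdN, hneN⟩, hdQ, hneQ, hmul⟩ := proper_dvd hk N hN1 hN2
    have hdN' := Nat.dvd_of_mem_divisors hdN
    have hdQ' := Nat.dvd_of_mem_divisors hdQ
    have hQc : Nat.card (G ⧸ N) = N.index := (index_eq_card N).symm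
    have hnsX : ∀ (X : Type u) [Group X] [Finite X], Nat.card X ∣ k → Nat.card X ≠ k →
        35 ∣ Nat.card X → ¬ IsSimpleGroup X := by
      intro X _ _ hX hXk hX35 hs
      by_cases hc : IsMulCommutative X
      · have hp := CfsgLib.Burnside.prime_card_of_comm (G := X) fun a b => hc.is_comm.comm a b
        rcases hp.eq_one_or_self_of_dvd 5 ((show 5 ∣ 35 by norm_num).trans hX35) with e | e
        · norm_num at e
        · have := Nat.le_of_dvd (by omega) (e ▸ hX35 : 35 ∣ 5)
          omega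
      · have h6 : Nat.card X < 2520 := lt_of_lt_of_le
          (lt_of_le_of_ne (Nat.le_of_dvd hk0 hX) hXk) (Nat.le_of_dvd (by norm_num) hkn)
        have := (show ∀ o ∈ orders, 35 ∣ o → o ∣ 2520 → o = 2520 by decide +kernel) _
          (card_mem hc (by omega)) hX35 (hX.trans hkn)
        omega
    have hout5 : (∀ Q : Sylow 5 (G ⧸ N), (Q : Subgroup (G ⧸ N)).Normal) → ¬ 5 ∣ Nat.card N →
        ∀ P : Sylow 5 G, (P : Subgroup G).Normal := fun hQ hN5 P =>
      normal_step P (sylow_card hk h5k h25 P) N (hk ▸ h25) (fun h => absurd h hN5) fun _ =>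
        ⟨fun r j hr hd => five_pow k hkn r j hr
          (fun e => hN5 (e ▸ (dvd_pow_self r j.succ_ne_zero).trans hd)) (hd.trans hdN'), hQ⟩
    have hout7 : (∀ Q : Sylow 7 (G ⧸ N), (Q : Subgroup (G ⧸ N)).Normal) → ¬ 7 ∣ Nat.card N →
        ¬ 8 ∣ Nat.card N → ∀ P : Sylow 7 G, (P : Subgroup G).Normal := fun hQ hN7 hN8 P =>
      normal_step P (sylow_card hk h7k h49 P) N (hk ▸ h49) (fun h => absurd h hN7) fun _ =>
        ⟨fun r j hr hd => seven_pow _ (hdN'.trans hkn) hN8 r j hr
          (fun e => hN7 (e ▸ (dvd_pow_self r j.succ_ne_zero).trans hd)) hd, hQ⟩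
    have hin5 : 5 ∣ Nat.card N → (∀ Q : Sylow 5 N, (Q : Subgroup N).Normal) →
        ∀ P : Sylow 5 G, (P : Subgroup G).Normal := fun hN5 hQ P =>
      normal_step P (sylow_card hk h5k h25 P) N (hk ▸ h25) (fun _ => hQ) (fun h => absurd hN5 h)
    have hin7 : 7 ∣ Nat.card N → (∀ Q : Sylow 7 N, (Q : Subgroup N).Normal) →
        ∀ P : Sylow 7 G, (P : Subgroup G).Normal := fun hN7 hQ P =>
      normal_step P (sylow_card hk h7k h49 P) N (hk ▸ h49) (fun _ => hQ) (fun h => absurd hN7 h)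
    have hQ5 : ¬ 5 ∣ Nat.card N → 5 ∣ N.index := fun h =>
      ((Fact.out : Nat.Prime 5).dvd_mul.mp (hmul.symm ▸ h5k)).resolve_left h
    have hQ7 : ¬ 7 ∣ Nat.card N → 7 ∣ N.index := fun h =>
      ((Fact.out : Nat.Prime 7).dvd_mul.mp (hmul.symm ▸ h7k)).resolve_left h
    by_cases hN5 : 5 ∣ Nat.card N <;> by_cases hN7 : 7 ∣ Nat.card N
    · have h35N : 35 ∣ Nat.card N :=
        Nat.Coprime.mul_dvd_of_dvd_of_dvd (m := 5) (n := 7) (by norm_num) hN5 hN7
      rcases ih (Nat.card N) (lt_of_le_of_ne (Nat.le_of_dvd hk0 hdN') hneN) N rfl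
        (hdN'.trans hkn) h35N (hnsX N hdN' hneN h35N) with h | h
      · exact Or.inl (hin5 hN5 h)
      · exact Or.inr (hin7 hN7 h)
    · by_cases hall : ∀ Q : Sylow 5 N, (Q : Subgroup N).Normal
      · exact Or.inl (hin5 hN5 hall)
      refine Or.inr fun P => ?_
      have h60 : 60 ∣ Nat.card N := by_contra fun h =>
        hall (five_normal N (hdN'.trans hkn) hN5 h)
      have hQ : ∀ Q : Sylow 7 (G ⧸ N), (Q : Subgroup (G ⧸ N)).Normal := by
        refine seven_normal (G ⧸ N) ?_ (hQc.symm ▸ hQ7 hN7) ?_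
        · rw [hQc]; exact hdQ'.trans hkn
        · rw [hQc]
          intro h8
          have : 60 * 8 ∣ 2520 := ((mul_dvd_mul h60 h8).trans (dvd_of_eq hmul)).trans hkn
          norm_num at this
      by_cases h8 : 8 ∣ Nat.card N
      · have hcases : Nat.card N = 120 ∨ Nat.card N = 360 :=
          (show ∀ d ∈ Nat.divisors 2520, 60 ∣ d → 8 ∣ d → ¬ 7 ∣ d → d = 120 ∨ d = 360 by
            decide +kernel) _ (Nat.mem_divisors.mpr ⟨hdN'.trans hkn, by norm_num⟩) h60 h8 hN7
        refine normal_of_sup _ N (centralizes_seven P (sylow_card hk h7k h49 P) N hcases hall) ?_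
          (sup_normal_of_quotient P N hQ)
        rw [sylow_card hk h7k h49 P]
        exact (Nat.Prime.coprime_iff_not_dvd Fact.out).mpr hN7
      · exact hout7 hQ hN7 h8 P
    · by_cases h56 : 8 ∣ Nat.card N
      · refine Or.inl (hout5 (five_normal (G ⧸ N) ?_ (hQc.symm ▸ hQ5 hN5) ?_) hN5)
        · rw [hQc]; exact hdQ'.trans hkn
        · rw [hQc]
          intro h60
          have : 8 * 60 ∣ 2520 := ((mul_dvd_mul h56 h60).trans (dvd_of_eq hmul)).trans hkn
          norm_num at this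
      · exact Or.inr (hin7 hN7 (seven_normal N (hdN'.trans hkn) hN7 h56))
    · have h35Q : 35 ∣ N.index :=
        Nat.Coprime.mul_dvd_of_dvd_of_dvd (m := 5) (n := 7) (by norm_num) (hQ5 hN5) (hQ7 hN7)
      by_cases h8 : 8 ∣ Nat.card N
      · refine Or.inl (hout5 (five_normal (G ⧸ N) ?_ (hQc.symm ▸ hQ5 hN5) ?_) hN5)
        · rw [hQc]; exact hdQ'.trans hkn
        · rw [hQc]
          intro h60
          have : 8 * 60 ∣ 2520 := ((mul_dvd_mul h8 h60).trans (dvd_of_eq hmul)).trans hkn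
          norm_num at this
      · rcases ih N.index (lt_of_le_of_ne (Nat.le_of_dvd hk0 hdQ') hneQ) (G ⧸ N) hQc
          (hdQ'.trans hkn) h35Q
          (hnsX (G ⧸ N) (hQc.symm ▸ hdQ') (hQc.symm ▸ hneQ) (hQc.symm ▸ h35Q)) with h | h
        · exact Or.inl (hout5 h hN5)
        · exact Or.inr (hout7 h hN7 h8)

theorem not_mem_2520 {G : Type u} [Group G] [Finite G] (h : Nat.card G = 2520)
    (hns : ¬ IsSimpleGroup G) : 5 ∉ Cfsg.degreePrimes G ∨ 7 ∉ Cfsg.degreePrimes G := by
  have : Fact (Nat.Prime 5) := ⟨by norm_num⟩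
  have : Fact (Nat.Prime 7) := ⟨by norm_num⟩
  rcases five_or_seven 2520 G h dvd_rfl (by norm_num) hns with hn | hn
  · obtain ⟨P⟩ := (inferInstance : Nonempty (Sylow 5 G))
    exact Or.inl (not_mem_of_prime_order P
      (sylow_card h (by norm_num) (by norm_num) P) (hn P))
  · obtain ⟨P⟩ := (inferInstance : Nonempty (Sylow 7 G))
    exact Or.inr (not_mem_of_prime_order P
      (sylow_card h (by norm_num) (by norm_num) P) (hn P))

end CfsgLib.Small.GraphTools
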