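import Cfsg.Agent.Lib.Small.SieveCriteria

/-!
The centraliser of a Sylow subgroup `P` of odd prime order permutes the `t` regular `P`-orbits on
the other Sylow subgroups by even permutations.
-/

set_option autoImplicit false

namespace CfsgLib.Small.OrbitHom

open Subgroup MulAction CfsgLib.Small

variable {G : Type*} [Group G] [Finite G] [IsSimpleGroup G] {p : ℕ} [hp : Fact p.Prime]

theorem exists_orbit_hom (hG : ¬ IsMulCommutative G) (P : Sylow p G) (hP : Nat.card P = p)
    (hp2 : p ≠ 2) {t : ℕ} (hn : Nat.card (Sylow p G) = t * p + 1) :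
    ∃ φ : centralizer ((P : Subgroup G) : Set G) →* Equiv.Perm (Fin t),
      (∀ x, Equiv.Perm.sign (φ x) = 1) ∧ (∀ x, φ x = 1 → (x : G) ∈ (P : Subgroup G)) ∧
        ∀ x : centralizer ((P : Subgroup G) : Set G), Nat.Coprime (orderOf (x : G)) p →
          Nat.card (fixedBy (Sylow p G) (x : G)) = 1 + p * Nat.card {i // φ x i = i} := by
  classical
  have := Fintype.ofFinite (Sylow p G)
  have hdvd : p ∣ Nat.card G := hP ▸ card_subgroup_dvd_card (P : Subgroup G)
  have hPc : ∀ Q : Sylow p G, Nat.card Q = p := fun Q => by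
    rw [Q.card_eq_multiplicity, ← P.card_eq_multiplicity, hP]
  set C := centralizer ((P : Subgroup G) : Set G) with hC
  have hxP : ∀ x : C, (x : G) • P = P := fun x =>
    Sylow.smul_eq_iff_mem_normalizer.mpr (centralizer_le_normalizer' _ x.2)
  have huP : ∀ u : (P : Subgroup G), (u : G) • P = P := fun u =>
    Sylow.smul_eq_iff_mem_normalizer.mpr (le_normalizer u.2)
  have hfree : ∀ {Q : Sylow p G} {u : G}, u ∈ (P : Subgroup G) → Q ≠ P → u • Q = Q → u = 1 := by
    intro Q u hu hQ hfix
    by_contra hu1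
    have hQu : u ∈ (Q : Subgroup G) := by
      have h2 : u ∈ (P : Subgroup G) ⊓ (Q : Subgroup G) :=
        P.2.inf_normalizer_sylow Q ▸ Subgroup.mem_inf.mpr
          ⟨hu, Sylow.smul_eq_iff_mem_normalizer.mp hfix⟩
      exact h2.2
    exact hQ (Sylow.ext ((eq_zpowers_of_mem (hPc Q) hQu hu1).trans
      (eq_zpowers_of_mem hP hu hu1).symm))
  -- the orbits
  let Ω := orbitRel.Quotient (P : Subgroup G) (Sylow p G)
  let mk : Sylow p G → Ω := fun Q => Quotient.mk'' Q
  let W := {ω : Ω // ω ≠ mk P}
  have : Fintype W := Fintype.ofFinite _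
  have := Fintype.ofFinite (P : Subgroup G)
  let s : W → Sylow p G := fun ω => ω.1.out
  have hmks : ∀ ω, mk (s ω) = ω.1 := fun ω => Quotient.out_eq' _
  have hsP : ∀ ω, s ω ≠ P := fun ω h => ω.2 (by rw [← hmks ω, h])
  have hmku : ∀ (u : (P : Subgroup G)) (Q : Sylow p G), mk ((u : G) • Q) = mk Q := fun u Q =>
    Quotient.sound' ⟨u, rfl⟩
  have hne : ∀ {Q : Sylow p G} {g : G}, g • P = P → Q ≠ P → g • Q ≠ P := fun hg hQ h =>
    hQ (smul_left_cancel _ (h.trans hg.symm))
  have hPuniq : ∀ {Q : Sylow p G}, Q ≠ P → mk Q ≠ mk P := by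
    intro Q hQ h
    obtain ⟨u, hu⟩ := (Quotient.exact' h : Q ∈ orbit (P : Subgroup G) P)
    exact hQ (hu.symm.trans (huP u))
  -- every other Sylow subgroup is uniquely `u • s ω`
  let g₀ : W × (P : Subgroup G) → {Q : Sylow p G // Q ≠ P} :=
    fun a => ⟨(a.2 : G) • s a.1, hne (huP a.2) (hsP a.1)⟩
  have hg₀ : Function.Bijective g₀ := by
    constructor
    · rintro ⟨ω, u⟩ ⟨ω', u'⟩ h
      have h1 : (u : G) • s ω = (u' : G) • s ω' := congrArg Subtype.val h
      obtain rfl : ω = ω' := Subtype.ext (by rw [← hmks ω, ← hmks ω', ← hmku u, h1, hmku])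
      refine Prod.ext rfl ?_
      have h2 := hfree (mul_mem (inv_mem u'.2) u.2) (hsP ω) (by rw [mul_smul, h1, inv_smul_smul])
      exact Subtype.ext (inv_mul_eq_one.mp h2).symm
    · rintro ⟨Q, hQ⟩
      have h1 : mk (s ⟨mk Q, hPuniq hQ⟩) = mk Q := hmks _
      obtain ⟨u, hu⟩ := (Quotient.exact' h1.symm : Q ∈ orbit (P : Subgroup G) _)
      exact ⟨(⟨mk Q, hPuniq hQ⟩, u), Subtype.ext hu⟩
  let E := Equiv.ofBijective g₀ hg₀
  have hE : ∀ ω u, (E (ω, u)).1 = (u : G) • s ω := fun _ _ => rfl
  have hcardW : Nat.card W = t := by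
    have h1 : Nat.card W * p = t * p := by
      rw [← hP, ← Nat.card_prod, Nat.card_congr E, Nat.card_eq_fintype_card,
        Fintype.card_subtype_compl, Fintype.card_subtype_eq, ← Nat.card_eq_fintype_card, hn, hP]
      omega
    exact Nat.eq_of_mul_eq_mul_right hp.out.pos h1
  -- the images of the representatives
  let A : C → W → W × (P : Subgroup G) := fun x ω =>
    E.symm ⟨(x : G) • s ω, hne (hxP x) (hsP ω)⟩
  have hA : ∀ (x : C) ω, (x : G) • s ω = ((A x ω).2 : G) • s (A x ω).1 := fun x ω => by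
    rw [← hE, show E ((A x ω).1, (A x ω).2) = E (A x ω) from rfl, Equiv.apply_symm_apply]
  have hcomm : ∀ (x : C) (u : (P : Subgroup G)), (x : G) * u = u * x := fun x u =>
    (mem_centralizer_iff.mp x.2 u u.2).symm
  have huniq : ∀ {ω ω' : W} {u u' : (P : Subgroup G)},
      (u : G) • s ω = (u' : G) • s ω' → ω = ω' ∧ u = u' := fun {ω ω' u u'} h => by
    have h1 : E (ω, u) = E (ω', u') := Subtype.ext h
    exact Prod.mk.inj (E.injective h1)
  have hA1 : ∀ ω, (A 1 ω).1 = ω := fun ω =>
    ((huniq (ω := ω) (ω' := (A 1 ω).1) (u := 1) (u' := (A 1 ω).2) (by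
      rw [← hA]; simp)).1).symm
  have hAmul : ∀ x y ω, (A (x * y) ω).1 = (A x (A y ω).1).1 := fun x y ω => by
    refine (huniq (u := (A (x * y) ω).2) (u' := (A y ω).2 * (A x (A y ω).1).2) ?_).1
    rw [← hA, Subgroup.coe_mul, mul_smul, hA y ω, ← mul_smul (x : G), hcomm, mul_smul, hA x,
      Subgroup.coe_mul, mul_smul]
  let σ : C →* Equiv.Perm W :=
    { toFun := fun x =>
        { toFun := fun ω => (A x ω).1
          invFun := fun ω => (A x⁻¹ ω).1
          left_inv := fun ω => by simp only; rw [← hAmul, inv_mul_cancel, hA1]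
          right_inv := fun ω => by simp only; rw [← hAmul, mul_inv_cancel, hA1] }
      map_one' := Equiv.ext hA1
      map_mul' := fun x y => Equiv.ext fun ω => hAmul x y ω }
  have hσ : ∀ x ω, σ x ω = (A x ω).1 := fun _ _ => rfl
  -- evenness
  have hsign : ∀ x, Equiv.Perm.sign (σ x) = 1 := by
    intro x
    let T : Equiv.Perm {Q : Sylow p G // Q ≠ P} := (MulAction.toPerm (x : G)).subtypePerm
      fun Q => ⟨fun h e => h (by rw [MulAction.toPerm_apply, e, hxP]),
        fun h => hne (hxP x) h⟩
    have hT : Equiv.Perm.sign T = 1 := by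
      rw [Equiv.Perm.sign_subtypePerm]
      · exact sign_toPerm hG (x : G)
      · intro Q hQ e
        exact hQ (by rw [MulAction.toPerm_apply, e, hxP])
    let R : Equiv.Perm (W × (P : Subgroup G)) := (Equiv.prodCongrLeft fun _ => σ x) *
      Equiv.prodCongrRight fun ω => Equiv.mulRight (A x ω).2
    have hR : E.permCongr R = T := by
      refine Equiv.ext fun Q => ?_
      obtain ⟨⟨ω, u⟩, rfl⟩ := E.surjective Q
      refine Subtype.ext ?_
      rw [Equiv.permCongr_apply, Equiv.symm_apply_apply]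
      show (E ((A x ω).1, u * (A x ω).2)).1 = (x : G) • ((E (ω, u)).1)
      rw [hE, hE, Subgroup.coe_mul, ← mul_smul (x : G), hcomm, mul_smul, mul_smul, hA x ω]
    have hodd : Odd p := hp.out.odd_of_ne_two hp2
    have hmr : ∀ v : (P : Subgroup G), Equiv.Perm.sign (Equiv.mulRight v) = 1 := by
      intro v
      have h1 : (Equiv.mulRight v) ^ p = 1 := by
        refine Equiv.ext fun u => ?_
        have h2 : ∀ j : ℕ, ((Equiv.mulRight v) ^ j) u = u * v ^ j := by
          intro j
          induction j with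
          | zero => simp
          | succ j ih =>
            rw [pow_succ', Equiv.Perm.mul_apply, ih, Equiv.coe_mulRight]
            rw [pow_succ, ← mul_assoc]
        rw [h2, orderOf_dvd_iff_pow_eq_one.mp ((orderOf_dvd_natCard v).trans (dvd_of_eq hP)),
          mul_one, Equiv.Perm.one_apply]
      have h3 := congrArg Equiv.Perm.sign h1
      rw [map_pow, map_one] at h3
      rcases Int.units_eq_one_or (Equiv.Perm.sign (Equiv.mulRight v)) with e | e
      · exact e
      · rw [e, hodd.neg_one_pow] at h3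
        exact absurd h3 (by decide)
    have hsR : Equiv.Perm.sign R = Equiv.Perm.sign (σ x) := by
      rw [map_mul, Equiv.Perm.sign_prodCongrRight, Finset.prod_eq_one fun ω _ => hmr _, mul_one,
        Equiv.Perm.sign_prodCongrLeft, Finset.prod_const, Finset.card_univ,
        ← Nat.card_eq_fintype_card, hP]
      rcases Int.units_eq_one_or (Equiv.Perm.sign (σ x)) with e | e <;> rw [e]
      · exact one_pow _
      · exact hodd.neg_one_pow
    rw [← hsR, ← Equiv.Perm.sign_permCongr E, hR, hT]
  -- transport to `Fin t`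
  let e := Finite.equivFinOfCardEq hcardW
  refine ⟨e.permCongrHom.toMonoidHom.comp σ, fun x => ?_, fun x hx => ?_, fun x hx => ?_⟩
  · exact (Equiv.Perm.sign_permCongr e _).trans (hsign x)
  · have h1 : σ x = 1 := e.permCongrHom.injective (hx.trans (map_one _).symm)
    have hall : ∀ Q : Sylow p G, (x : G) ^ p • Q = Q := by
      intro Q
      by_cases hQ : Q = P
      · subst hQ
        exact Sylow.smul_eq_iff_mem_normalizer.mpr (pow_mem (centralizer_le_normalizer' _ x.2) p)
      obtain ⟨⟨ω, u⟩, hωu⟩ := E.surjective ⟨Q, hQ⟩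
      have hQeq : Q = (u : G) • s ω := congrArg Subtype.val hωu.symm
      have hω : (A x ω).1 = ω := by rw [← hσ, h1]; rfl
      have hj : ∀ j : ℕ, (x : G) ^ j • s ω = ((A x ω).2 : G) ^ j • s ω := by
        intro j
        induction j with
        | zero => simp
        | succ j ih =>
          rw [pow_succ', mul_smul, ih, ← mul_smul (x : G),
            show (x : G) * ((A x ω).2 : G) ^ j = ((A x ω).2 : G) ^ j * x from
              hcomm x ((A x ω).2 ^ j), mul_smul, hA x ω, hω, pow_succ, mul_smul]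
      have hv : ((A x ω).2 : G) ^ p = 1 := congrArg Subtype.val
        (orderOf_dvd_iff_pow_eq_one.mp ((_root_.orderOf_dvd_natCard (A x ω).2).trans (dvd_of_eq hP)))
      rw [hQeq, ← mul_smul, show (x : G) ^ p * u = u * (x : G) ^ p from hcomm (x ^ p) u, mul_smul,
        hj, hv, one_smul]
    have hp1 : (x : G) ^ p = 1 :=
      CfsgLib.SylowNumber.eq_one_of_forall_smul_eq
        (CfsgLib.SylowNumber.sylow_toPermHom_injective hG hdvd) hall
    have hpg : IsPGroup p (zpowers (x : G)) := by
      obtain ⟨j, -, hj⟩ := (Nat.dvd_prime_pow hp.out).mp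
        (show orderOf (x : G) ∣ p ^ 1 by rw [pow_one]; exact orderOf_dvd_of_pow_eq_one hp1)
      exact IsPGroup.of_card (n := j) (by rw [Nat.card_zpowers, hj])
    have h2 : (x : G) ∈ zpowers (x : G) ⊓ (P : Subgroup G) :=
      hpg.inf_normalizer_sylow P ▸ Subgroup.mem_inf.mpr
        ⟨mem_zpowers _, centralizer_le_normalizer' _ x.2⟩
    exact h2.2
  · have hfixiff : ∀ (ω : W) (u : (P : Subgroup G)), (x : G) • (u : G) • s ω = (u : G) • s ω ↔ σ x ω = ω := by
      intro ω u
      rw [← mul_smul (x : G), hcomm, mul_smul, smul_left_cancel_iff]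
      constructor
      · intro h
        rw [hσ]
        exact (huniq (u := (A x ω).2) (u' := (1 : (P : Subgroup G))) (by
          rw [← hA, h]; simp)).1
      · intro h
        rw [hσ] at h
        have hj : ∀ j : ℕ, (x : G) ^ j • s ω = ((A x ω).2 : G) ^ j • s ω := by
          intro j
          induction j with
          | zero => simp
          | succ j ih =>
            rw [pow_succ', mul_smul, ih, ← mul_smul (x : G),
              show (x : G) * ((A x ω).2 : G) ^ j = ((A x ω).2 : G) ^ j * x from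
                hcomm x ((A x ω).2 ^ j), mul_smul, hA x ω, h, pow_succ, mul_smul]
        have h1 := hj (orderOf (x : G))
        rw [pow_orderOf_eq_one, one_smul] at h1
        have h2 := hfree (pow_mem (A x ω).2.2 _) (hsP ω) h1.symm
        have h3 : orderOf ((A x ω).2 : G) ∣ orderOf (x : G) := orderOf_dvd_of_pow_eq_one h2
        have h4 : orderOf ((A x ω).2 : G) ∣ p := by
          rw [Subgroup.orderOf_coe]; exact (_root_.orderOf_dvd_natCard _).trans (dvd_of_eq hP)
        have h5 : ((A x ω).2 : G) = 1 := orderOf_eq_one_iff.mp (Nat.eq_one_of_dvd_coprimes hx h3 h4)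
        rw [hA x ω, h, h5, one_smul]
    have h1 : Nat.card (fixedBy (Sylow p G) (x : G)) =
        1 + Nat.card {a : W × (P : Subgroup G) // σ x a.1 = a.1} := by
      have hPf : P ∈ fixedBy (Sylow p G) (x : G) := hxP x
      have h3 : Nat.card {a : W × (P : Subgroup G) // σ x a.1 = a.1} =
          Nat.card {Q : fixedBy (Sylow p G) (x : G) // Q ≠ ⟨P, hPf⟩} := by
        refine Nat.card_congr (Equiv.ofBijective
          (fun a => ⟨⟨(E a.1).1, (hfixiff a.1.1 a.1.2).mpr a.2⟩,
            fun h => (E a.1).2 (congrArg Subtype.val h)⟩) ⟨?_, ?_⟩)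
        · intro a b hab
          exact Subtype.ext (E.injective (Subtype.ext (congrArg (fun q => q.1.1) hab)))
        · rintro ⟨⟨Q, hQ⟩, hQP⟩
          obtain ⟨a, ha⟩ := E.surjective ⟨Q, fun h => hQP (Subtype.ext h)⟩
          have ha' : (E a).1 = Q := congrArg Subtype.val ha
          refine ⟨⟨a, (hfixiff a.1 a.2).mp ?_⟩, Subtype.ext (Subtype.ext ha')⟩
          have hQ' : (x : G) • Q = Q := hQ
          rw [← ha'] at hQ'
          exact hQ'
      rw [h3]
      have := Fintype.ofFinite (fixedBy (Sylow p G) (x : G))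
      have h4 := (Fintype.card_pos_iff (α := fixedBy (Sylow p G) (x : G))).mpr ⟨⟨P, hPf⟩⟩
      rw [Nat.card_eq_fintype_card, Nat.card_eq_fintype_card, Fintype.card_subtype_compl,
        Fintype.card_subtype_eq]
      omega
    rw [h1]
    congr 1
    rw [show Nat.card {a : W × (P : Subgroup G) // σ x a.1 = a.1} =
      Nat.card ({ω : W // σ x ω = ω} × (P : Subgroup G)) from Nat.card_congr
        ⟨fun a => (⟨a.1.1, a.2⟩, a.1.2), fun a => ⟨(a.1.1, a.2), a.1.2⟩,
          fun a => rfl, fun a => rfl⟩, Nat.card_prod, hP, mul_comm]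
    congr 1
    refine Nat.card_congr (Equiv.subtypeEquiv e fun ω => ?_)
    show σ x ω = ω ↔ (e.permCongr (σ x)) (e ω) = e ω
    simp

end CfsgLib.Small.OrbitHom
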