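import Cfsg.Agent.Lib.Small.LowTools
import Cfsg.Agent.Lib.Small.MidC
import Cfsg.Agent.Lib.Small.OrbitHom
import Cfsg.Agent.Lib.Small.Order504
import Cfsg.Agent.S1010

/-!
No simple group has order 1620, 1680, 1800, 2400, 2700, 3024, 3240, 3360 or 3600.
-/

set_option autoImplicit false

namespace CfsgLib.Small.Low

open Subgroup MulAction CfsgLib.Small
open scoped Pointwise

variable {G : Type*} [Group G] [Finite G]

/-- With a Sylow subgroup central, few elements of order `q` lie in a centraliser. -/
theorem card_order_le {C : Subgroup G} {p q c : ℕ} [hp : Fact p.Prime] [hq : Fact q.Prime]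
    {P : Subgroup G} (hP : Nat.card P = p) (hPC : P ≤ C) (hcen : C ≤ centralizer (P : Set G))
    (hC : Nat.card C = q * (p * c)) (hqc : ¬ q ∣ p * c)
    (hd : ∀ d ∈ c.divisors, d % q = 1 → d = 1) :
    Nat.card {w : C // orderOf w = q} ≤ q - 1 := by
  have hQ : ∀ T : Sylow q C, Nat.card T = q := fun T =>
    (card_sylow_of_card_eq (k := 1) (m := p * c) (by rw [hC, pow_one]) hqc T).trans (pow_one q)
  rw [card_orderOf_eq_prime hQ]
  obtain ⟨T⟩ := (inferInstance : Nonempty (Sylow q C))
  have hle : P.subgroupOf C ≤ normalizer ((T : Subgroup C) : Set C) := by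
    intro a ha
    refine centralizer_le_normalizer' _ (mem_centralizer_iff.mpr fun b _ => Subtype.ext ?_)
    exact (mem_centralizer_iff.mp (hcen b.2) a (mem_subgroupOf.mp ha)).symm
  have h1 : p ∣ Nat.card (normalizer ((T : Subgroup C) : Set C)) := by
    rw [← hP, ← Nat.card_congr (subgroupOfEquivOfLe hPC).toEquiv]
    exact card_dvd_of_le hle
  have h2 : q ∣ Nat.card (normalizer ((T : Subgroup C) : Set C)) :=
    (dvd_of_eq (hQ T).symm).trans (card_dvd_of_le le_normalizer)
  have hpq : ¬ q = p := fun e => hqc (e ▸ dvd_mul_right q c)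
  obtain ⟨w, hw⟩ := Nat.Coprime.mul_dvd_of_dvd_of_dvd
    ((Nat.coprime_primes hq.out hp.out).mpr hpq) h2 h1
  have h3 := card_normalizer_mul_card_sylow T
  rw [hw, hC] at h3
  have hn1 : Nat.card (Sylow q C) = 1 := by
    have hdvd : Nat.card (Sylow q C) ∣ c := by
      refine Dvd.intro_left w (Nat.eq_of_mul_eq_mul_left
        (Nat.mul_pos hq.out.pos hp.out.pos) ?_)
      linarith
    have hc0 : c ≠ 0 := fun e => hqc (by rw [e, mul_zero]; exact dvd_zero q)
    refine hd _ (Nat.mem_divisors.mpr ⟨hdvd, hc0⟩) ?_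
    have h4 := card_sylow_modEq_one q C
    rwa [Nat.ModEq, Nat.mod_eq_of_lt hq.out.one_lt] at h4
  rw [hn1, one_mul]

/-- Elements of order `q` commuting with a generator of `P`. -/
theorem card_commute_le {P : Subgroup G} {y : G} (hPy : P = zpowers y) {q : ℕ} :
    Nat.card {w : G // y * w = w * y ∧ orderOf w = q} ≤
      Nat.card {w : centralizer (P : Set G) // orderOf w = q} := by
  refine Nat.card_le_card_of_injective (fun w => ⟨⟨w.1, ?_⟩, ?_⟩) fun a b e => ?_
  · rw [Order504.centralizer_eq_of_zpowers hPy, mem_centralizer_singleton_iff]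
    exact w.2.1.symm
  · rw [← orderOf_coe]
    exact w.2.2
  · exact Subtype.ext (congrArg (fun v => ((v.1 : centralizer (P : Set G)) : G)) e)

/-- Centralisers of Sylow subgroups of prime order have equal index in the normalisers. -/
theorem relIndex_eq {p : ℕ} [Fact p.Prime] (P Q : Sylow p G) :
    (centralizer ((Q : Subgroup G) : Set G)).relIndex (normalizer ((Q : Subgroup G) : Set G)) =
      (centralizer ((P : Subgroup G) : Set G)).relIndex (normalizer ((P : Subgroup G) : Set G)) := by
  have key : ∀ A B : Sylow p G, Nat.card (centralizer ((A : Subgroup G) : Set G)) ≤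
      Nat.card (centralizer ((B : Subgroup G) : Set G)) := by
    intro A B
    obtain ⟨g, hg⟩ := exists_smul_eq G A B
    refine Nat.card_le_card_of_injective (fun z => ⟨g * z * g⁻¹, mem_centralizer_iff.mpr fun b hb => ?_⟩)
      fun a b e => Subtype.ext (by simpa using congrArg Subtype.val e)
    rw [SetLike.mem_coe, ← hg, Sylow.coe_subgroup_smul,
      Subgroup.mem_pointwise_smul_iff_inv_smul_mem] at hb
    have h1 := mem_centralizer_iff.mp z.2 _ hb
    simp only [← map_inv, MulAut.smul_def, MulAut.conj_apply, inv_inv] at h1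
    calc b * (g * z * g⁻¹) = g * (g⁻¹ * b * g * z) * g⁻¹ := by group
      _ = g * (z * (g⁻¹ * b * g)) * g⁻¹ := by rw [h1]
      _ = g * z * g⁻¹ * b := by group
  have hc := le_antisymm (key Q P) (key P Q)
  have h1 := card_centralizer_mul_relIndex (P : Subgroup G)
  have h2 := card_centralizer_mul_relIndex (Q : Subgroup G)
  have h3 : Nat.card (normalizer ((Q : Subgroup G) : Set G)) =
      Nat.card (normalizer ((P : Subgroup G) : Set G)) :=
    Nat.eq_of_mul_eq_mul_right Nat.card_pos
      ((card_normalizer_mul_card_sylow Q).trans (card_normalizer_mul_card_sylow P).symm)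
  rw [hc, h3, ← h1] at h2
  exact Nat.eq_of_mul_eq_mul_left Nat.card_pos h2

theorem exists_gen {P : Subgroup G} {p : ℕ} [Fact p.Prime] (hP : Nat.card P = p) :
    ∃ y ∈ P, orderOf y = p ∧ P = zpowers y := by
  obtain ⟨y, hy⟩ := exists_prime_orderOf_dvd_card' p (G := P) (dvd_of_eq hP.symm)
  refine ⟨y, y.2, by rw [orderOf_coe, hy], eq_zpowers_of_mem hP y.2 fun e => ?_⟩
  have : y = 1 := Subtype.ext e
  rw [this, orderOf_one] at hy
  exact (Fact.out : p.Prime).ne_one hy.symm

variable [IsSimpleGroup G]

/-- No simple group has order `1620`. -/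
theorem card_ne_1620 (hG : ¬ IsMulCommutative G) (h : Nat.card G = 1620) : False := by
  have : Fact (Nat.Prime 3) := ⟨Nat.prime_three⟩
  have hm := card_sylow_mem (p := 3) hG (k := 4) (m := 20) (by norm_num) (by rw [h]; norm_num)
    (by norm_num)
  have h2 := two_mul_card_dvd_factorial_card_sylow (p := 3) hG (by rw [h]; norm_num)
  rw [h] at h2
  have h10 : Nat.card (Sylow 3 G) = 10 := by
    refine (show ∀ n ∈ (Nat.divisors 20).filter (fun n => n % 3 = 1 ∧ 1 < n),
      2 * 1620 ∣ n.factorial → n = 10 by decide +kernel) _ hm h2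
  obtain ⟨P⟩ := (inferInstance : Nonempty (Sylow 3 G))
  have hi : (normalizer ((P : Subgroup G) : Set G)).index = 10 := by
    rw [P.card_eq_index_normalizer] at h10
    exact h10
  have hne : normalizer ((P : Subgroup G) : Set G) ≠ ⊤ := fun e => by
    rw [e, index_top] at hi; norm_num at hi
  refine false_of_full_sylow (p := 3) (k := 4) (m := 20) (M := 44800)
    (isCoatom_of_index hG hne (by rw [hi, h]; decide +kernel)) (by omega) (by omega)
    (by rw [hi, h]; decide +kernel) (by rw [h]; norm_num) (by norm_num)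
    (by rw [hi]; decide +kernel) (by norm_num)

/-- No simple group has order `3240`. -/
theorem card_ne_3240 (hG : ¬ IsMulCommutative G) (h : Nat.card G = 3240) : False := by
  have : Fact (Nat.Prime 3) := ⟨Nat.prime_three⟩
  have key : ∀ H : Subgroup G, H ≠ ⊤ → H.index = 10 → False := fun H hne hi =>
    false_of_full_sylow (p := 3) (k := 4) (m := 40) (M := 44800)
      (isCoatom_of_index hG hne (by rw [hi, h]; decide +kernel)) (by omega) (by omega)
      (by rw [hi, h]; decide +kernel) (by rw [h]; norm_num) (by norm_num)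
      (by rw [hi]; decide +kernel) (by norm_num)
  have hm := card_sylow_mem (p := 3) hG (k := 4) (m := 40) (by norm_num) (by rw [h]; norm_num)
    (by norm_num)
  have h2 := two_mul_card_dvd_factorial_card_sylow (p := 3) hG (by rw [h]; norm_num)
  rw [h] at h2
  rcases (show ∀ n ∈ (Nat.divisors 40).filter (fun n => n % 3 = 1 ∧ 1 < n),
      2 * 3240 ∣ n.factorial → n = 10 ∨ n = 40 by decide +kernel) _ hm h2 with h10 | h40
  · obtain ⟨P⟩ := (inferInstance : Nonempty (Sylow 3 G))
    have hi : (normalizer ((P : Subgroup G) : Set G)).index = 10 := by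
      rw [P.card_eq_index_normalizer] at h10
      exact h10
    exact key _ (fun e => by rw [e, index_top] at hi; norm_num at hi) hi
  obtain ⟨D, hD, hdvd, hn⟩ := exists_normalizer_of_not_modEq (p := 3) (k := 4) (m := 40)
    (by rw [h]; norm_num) (by norm_num) (by rw [h40]; decide)
  set N := normalizer (D : Set G)
  obtain ⟨r, hr⟩ := hdvd
  have hN := N.card_mul_index
  rw [hr, h] at hN
  have hri : r * N.index = 40 := by
    norm_num at hN
    linarith
  have hr0 : r ∈ Nat.divisors 40 := Nat.mem_divisors.mpr ⟨⟨_, hri.symm⟩, by norm_num⟩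
  obtain ⟨T⟩ := (inferInstance : Nonempty (Sylow 3 N))
  have hmod := card_sylow_modEq_one 3 N
  rw [Nat.ModEq, show 1 % 3 = 1 from rfl] at hmod
  have hnd : Nat.card (Sylow 3 N) ∣ r := index_sylow_of_card_eq (k := 4) hr
    (fun h3 => by have := h3.trans ⟨_, hri.symm⟩; norm_num at this) T ▸ T.card_dvd_index
  have hne : N ≠ ⊤ := fun e => by
    rcases eq_bot_or_top D (hN := normalizer_eq_top_iff.mp e) with e1 | e1
    · rw [e1, card_bot] at hD; norm_num at hD
    · rw [e1, card_top, h] at hD; norm_num at hD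
  have h3 := two_mul_card_dvd_factorial_index hG hne
  rw [h] at h3
  refine key N hne ?_
  have hi : N.index ≤ 10 := by
    obtain ⟨-, h4⟩ := (show ∀ r ∈ Nat.divisors 40, (∃ f ∈ Nat.divisors r, 1 < f ∧ f % 3 = 1) →
      r ≤ 40 ∧ 4 ≤ r by decide +kernel) r hr0
      ⟨_, Nat.mem_divisors.mpr ⟨hnd, by rintro rfl; norm_num at hri⟩, hn, hmod⟩
    have : 4 * N.index ≤ r * N.index := Nat.mul_le_mul_right _ h4
    omega
  exact (show ∀ k ∈ List.range 11, k ∣ 40 → 2 * 3240 ∣ k.factorial → k = 10 by decide +kernel) _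
    (List.mem_range.mpr (by omega)) ⟨r, by rw [← hri, mul_comm]⟩ h3

/-- No simple group has order `1800`. -/
theorem card_ne_1800 (hG : ¬ IsMulCommutative G) (h : Nat.card G = 1800) : False := by
  have : Fact (Nat.Prime 5) := ⟨by norm_num⟩
  have hm := card_sylow_mem (p := 5) hG (k := 2) (m := 72) (by norm_num) (by rw [h]; norm_num)
    (by norm_num)
  have hmod : ∀ n ∈ (Nat.divisors 72).filter (fun n => n % 5 = 1 ∧ 1 < n), n % 25 ≠ 1 := by
    decide +kernel
  obtain ⟨a, r, -, hr, -, hC, hn⟩ := Mid.sq_data (p := 5) (m := 72) hG (by rw [h]; norm_num)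
    (by norm_num) (by
      have := hmod _ hm
      rw [Nat.ModEq]
      norm_num
      exact this) [6] (by decide +kernel)
  obtain rfl : r = 6 := List.mem_singleton.mp hr
  exact Mid.not_twice_odd (p := 5) (s := 3) (by norm_num) hC (by norm_num) (by norm_num)
    (by decide +kernel) hn

/-- No simple group has order `2400`. -/
theorem card_ne_2400 (hG : ¬ IsMulCommutative G) (h : Nat.card G = 2400) : False := by
  have : Fact (Nat.Prime 5) := ⟨by norm_num⟩
  have hm := card_sylow_mem (p := 5) hG (k := 2) (m := 96) (by norm_num) (by rw [h]; norm_num)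
    (by norm_num)
  have hmod : ∀ n ∈ (Nat.divisors 96).filter (fun n => n % 5 = 1 ∧ 1 < n), n % 25 ≠ 1 := by
    decide +kernel
  obtain ⟨a, r, -, hr, -, hC, hn⟩ := Mid.sq_data (p := 5) (m := 96) hG (by rw [h]; norm_num)
    (by norm_num) (by
      have := hmod _ hm
      rw [Nat.ModEq]
      norm_num
      exact this) [6] (by decide +kernel)
  obtain rfl : r = 6 := List.mem_singleton.mp hr
  exact Mid.not_twice_odd (p := 5) (s := 3) (by norm_num) hC (by norm_num) (by norm_num)
    (by decide +kernel) hn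

/-- No simple group has order `2700`. -/
theorem card_ne_2700 (hG : ¬ IsMulCommutative G) (h : Nat.card G = 2700) : False := by
  have : Fact (Nat.Prime 5) := ⟨by norm_num⟩
  have hm := card_sylow_mem (p := 5) hG (k := 2) (m := 108) (by norm_num) (by rw [h]; norm_num)
    (by norm_num)
  have hmod : ∀ n ∈ (Nat.divisors 108).filter (fun n => n % 5 = 1 ∧ 1 < n), n % 25 ≠ 1 := by
    decide +kernel
  obtain ⟨a, r, -, hr, -, hC, hn⟩ := Mid.sq_data (p := 5) (m := 108) hG (by rw [h]; norm_num)
    (by norm_num) (by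
      have := hmod _ hm
      rw [Nat.ModEq]
      norm_num
      exact this) [6] (by decide +kernel)
  obtain rfl : r = 6 := List.mem_singleton.mp hr
  exact Mid.not_twice_odd (p := 5) (s := 3) (by norm_num) hC (by norm_num) (by norm_num)
    (by decide +kernel) hn

/-- No simple group has order `3600`. -/
theorem card_ne_3600 (hG : ¬ IsMulCommutative G) (h : Nat.card G = 3600) : False := by
  classical
  have : Fact (Nat.Prime 5) := ⟨by norm_num⟩
  have hm := card_sylow_mem (p := 5) hG (k := 2) (m := 144) (by norm_num) (by rw [h]; norm_num)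
    (by norm_num)
  have hmod : ∀ n ∈ (Nat.divisors 144).filter (fun n => n % 5 = 1 ∧ 1 < n), n % 25 ≠ 1 := by
    decide +kernel
  obtain ⟨a, r, hao, hr, hri, hC, hn⟩ := Mid.sq_data (p := 5) (m := 144) hG (by rw [h]; norm_num)
    (by norm_num) (by
      have := hmod _ hm
      rw [Nat.ModEq]
      norm_num
      exact this) [6, 12] (by decide +kernel)
  simp only [List.mem_cons, List.not_mem_nil, or_false] at hr
  rcases hr with rfl | rfl
  · exact Mid.not_twice_odd (p := 5) (s := 3) (by norm_num) hC (by norm_num) (by norm_num)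
      (by decide +kernel) hn
  set K := centralizer ({a} : Set G) with hK
  have hi : K.index = 12 := by omega
  have hne : K ≠ ⊤ := fun e => by rw [e, index_top] at hi; norm_num at hi
  have hco := isCoatom_of_index hG hne (by rw [hi, h]; decide +kernel)
  have := Fintype.ofFinite (G ⧸ K)
  have hcard : Fintype.card (G ⧸ K) = 12 := by rw [← hi, index_eq_card, Nat.card_eq_fintype_card]
  set s : Equiv.Perm (G ⧸ K) := MulAction.toPerm a with hs
  have ha1 : a ≠ 1 := fun e => by rw [e, orderOf_one] at hao; norm_num at hao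
  have hs5 : s ^ 5 = 1 := by
    rw [hs, Order720.toPerm_pow, ← hao, pow_orderOf_eq_one]
    ext q; simp
  have hs1 : s ≠ 1 := fun e =>
    ha1 (toPermHom_injective (G := G) hne (by rw [map_one]; exact e))
  obtain ⟨j, hj0, hj⟩ := Mid.perm_prime_fixed (q := 5) hs5 hs1
  rw [hcard] at hj
  have hfix1 : s (QuotientGroup.mk 1) = QuotientGroup.mk 1 :=
    (smul_mk_eq_self_iff K a 1).mpr (by
      simp only [inv_one, one_mul, mul_one]; exact mem_centralizer_singleton_iff.mpr rfl)
  have hpos : 0 < Nat.card {q // s q = q} := Nat.card_pos_iff.mpr ⟨⟨⟨_, hfix1⟩⟩, inferInstance⟩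
  rcases (show j = 1 ∨ j = 2 by omega) with rfl | rfl
  · have hsupp : s.support.card = 5 := by
      have h1 := Order720.support_card_add s
      omega
    have hord : orderOf s = 5 := orderOf_eq_prime hs5 hs1
    exact false_of_cycle hco (p := 5) Nat.prime_five (by omega) (by omega)
      (by rw [hi, h]; decide +kernel)
      (Equiv.Perm.isCycle_of_prime_order (hord.symm ▸ Nat.prime_five)
        (by rw [hord, hsupp]; norm_num)) hsupp
  -- the second fixed point would be fixed by all of `K`
  · obtain ⟨q, hq, hq1⟩ : ∃ q, s q = q ∧ q ≠ QuotientGroup.mk 1 := by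
      by_contra hno
      push Not at hno
      have : Subsingleton {q // s q = q} := ⟨fun u v => Subtype.ext
        ((hno u.1 u.2).trans (hno v.1 v.2).symm)⟩
      have := Finite.card_le_one_iff_subsingleton.mpr this
      omega
    have hKq : ∀ k ∈ K, k • q = q := by
      intro k hk
      have h1 : s (k • q) = k • q := by
        show a • k • q = k • q
        rw [← mul_smul, ← mem_centralizer_singleton_iff.mp hk, mul_smul,
          show a • q = q from hq]
      by_contra hne'
      have h2 : k • q ≠ QuotientGroup.mk 1 := fun e => hq1 (by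
        have h3 : k • (QuotientGroup.mk 1 : G ⧸ K) = QuotientGroup.mk 1 :=
          (smul_mk_eq_self_iff K k 1).mpr (by simpa using hk)
        exact MulAction.injective k (e.trans h3.symm))
      have hcard3 : 2 < Nat.card {q // s q = q} := by
        rw [Nat.card_eq_fintype_card, Fintype.two_lt_card_iff]
        exact ⟨⟨_, hfix1⟩, ⟨_, hq⟩, ⟨_, h1⟩, fun e => hq1 (congrArg Subtype.val e).symm,
          fun e => h2 (congrArg Subtype.val e).symm, fun e => hne' (congrArg Subtype.val e).symm⟩
      omega
    induction q using QuotientGroup.induction_on with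
    | H g =>
      have hle : K ≤ MulAut.conj g • K := fun k hk => by
        have h1 := (smul_mk_eq_self_iff K k g).mp (hKq k hk)
        refine Subgroup.mem_pointwise_smul_iff_inv_smul_mem.mpr ?_
        simpa [MulAut.smul_def] using h1
      have heq : MulAut.conj g • K = K := (eq_of_le_of_card_ge hle (le_of_eq
        (Nat.card_congr (equivSMul (MulAut.conj g) K).toEquiv).symm)).symm
      have hgN : g ∈ normalizer (K : Set G) := by
        rw [mem_normalizer_iff]
        intro x
        constructor
        · intro hx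
          rw [← heq]
          exact Subgroup.mem_pointwise_smul_iff_inv_smul_mem.mpr
            (by simpa [MulAut.smul_def, mul_assoc] using hx)
        · intro hx
          have := Subgroup.mem_pointwise_smul_iff_inv_smul_mem.mp (heq.symm ▸ hx :
            g * x * g⁻¹ ∈ MulAut.conj g • K)
          simpa [MulAut.smul_def, mul_assoc] using this
      rcases hco.le_iff.mp (le_normalizer : K ≤ normalizer (K : Set G)) with e | e
      · rcases eq_bot_or_top K (hN := normalizer_eq_top_iff.mp e) with e1 | e1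
        · exact ha1 (mem_bot.mp (e1 ▸ (mem_centralizer_singleton_iff.mpr rfl : a ∈ K)))
        · exact hne e1
      · refine hq1 (QuotientGroup.eq.mpr ?_)
        rw [mul_one, inv_mem_iff]
        exact e ▸ hgN

/-- No simple group has order `3360`. -/
theorem card_ne_3360 (hG : ¬ IsMulCommutative G) (h : Nat.card G = 3360) : False := by
  classical
  have : Fact (Nat.Prime 7) := ⟨by norm_num⟩
  have : Fact (Nat.Prime 2) := ⟨Nat.prime_two⟩
  obtain ⟨P⟩ := (inferInstance : Nonempty (Sylow 7 G))
  obtain ⟨hP, c, e, hmem, -, hcc, hN, hall⟩ := Mid.once_data (p := 7) (m := 480) hG (by norm_num)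
    (by rw [h]) (by norm_num) [(120, 2)] (by decide +kernel) P
  simp only [List.mem_singleton, Prod.mk.injEq] at hmem
  obtain ⟨hn, rfl⟩ := hmem
  rw [hn] at hall
  obtain rfl : c = 2 := by omega
  obtain ⟨u, f, hu, huC, -, hCu, hf1, hf2, hf3⟩ := Mid.exists_involution hG (by norm_num) P hP hcc
  rw [hn] at hf2 hf3
  rw [hN] at hCu
  have hi := (centralizer ({u} : Set G)).card_mul_index
  rw [hCu, h] at hi
  obtain ⟨y, hyP, hy, hPy⟩ := exists_gen (p := 7) hP
  rcases (show ∀ f ∈ Nat.divisors 120, f % 7 = 1 → f < 120 → f = 1 ∨ f = 8 ∨ f = 15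
      by decide +kernel) f (Nat.mem_divisors.mpr ⟨hf2, by norm_num⟩) hf1 hf3 with rfl | rfl | rfl
  · exact Mid.not_small_centralizer (G := G) (k := 5) (m := 105) (by norm_num) (by norm_num)
      (by rw [h]; norm_num) hu (by rw [hCu]; norm_num)
  · set H := centralizer ({u} : Set G) with hH
    have hi' : H.index = 15 := by omega
    have hne : H ≠ ⊤ := fun e => by rw [e, index_top] at hi'; norm_num at hi'
    have hfew : Nat.card (fixedBy (G ⧸ H) y) < 2 := by
      refine lt_of_le_of_lt ((card_fix_le (x := u) (y := y)).trans ?_) one_lt_two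
      rw [hu]
      exact (card_commute_le hPy).trans (card_order_le (p := 7) (q := 2) (c := 1) hP
        (fun a ha => mem_centralizer_iff.mpr fun b hb => by
          have : IsCyclic (P : Subgroup G) := isCyclic_of_prime_card hP
          exact congrArg Subtype.val ((IsCyclic.isMulCommutative (α := (P : Subgroup G))).is_comm.comm
            (⟨b, hb⟩ : (P : Subgroup G)) ⟨a, ha⟩)) le_rfl (by rw [hcc]) (by norm_num)
        (by decide +kernel))
    obtain ⟨h1, h2, h3, h4, h5⟩ := fix_data (p := 7) (q := 2) hne hu hy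
      (mem_centralizer_iff.mp huC y hyP).symm hfew
    rw [hi'] at h1 h3 h5
    have hf1' : Nat.card (fixedBy (G ⧸ H) u) = 1 := by omega
    have := Fintype.ofFinite (G ⧸ H)
    set s : Equiv.Perm (G ⧸ H) := MulAction.toPerm u with hs
    have hsum := Order720.support_card_add s
    rw [show Nat.card {a // s a = a} = Nat.card (fixedBy (G ⧸ H) u) from rfl, hf1',
      ← Nat.card_eq_fintype_card, ← index_eq_card, hi'] at hsum
    have := Order720.sign_of_semiregular s 0 7 (by
      rw [hs, Order720.toPerm_pow, show u ^ 2 ^ (0 + 1) = 1 by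
        simpa [hu] using pow_orderOf_eq_one u]
      ext q; simp) (fun q hq => by simpa using hq) (by omega)
    rw [hs, sign_toPerm hG] at this
    exact absurd this (by decide)
  · have hne : centralizer ({u} : Set G) ≠ ⊤ := fun e => by rw [e, index_top] at hi; norm_num at hi
    have h1 := Mid.centralizer_dvd_of_index (p := 7) hy hne (by omega)
    rw [show (centralizer ({u} : Set G)).index = 8 by omega,
      ← Order504.centralizer_eq_of_zpowers hPy, hcc] at h1
    norm_num [Nat.factorial] at h1

/-- No simple group has order `1680`. -/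
theorem card_ne_1680 (hG : ¬ IsMulCommutative G) (h : Nat.card G = 1680) : False := by
  classical
  have : Fact (Nat.Prime 5) := ⟨by norm_num⟩
  have : Fact (Nat.Prime 3) := ⟨Nat.prime_three⟩
  have hd5 := Mid.once_data (p := 5) (m := 336) hG (by norm_num) (by rw [h]) (by norm_num)
    [(21, 2), (21, 4), (56, 2)] (by decide +kernel)
  have hd3 := Mid.once_data (p := 3) (m := 560) hG (by norm_num) (by rw [h]) (by norm_num)
    [(28, 2), (40, 2), (70, 2), (280, 2)] (by decide +kernel)
  obtain ⟨P⟩ := (inferInstance : Nonempty (Sylow 5 G))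
  obtain ⟨hP, c, e, hmem, -, hcc, hN, hall⟩ := hd5 P
  have h56 : Nat.card (Sylow 5 G) = 56 ∧ e = 2 := by
    simp only [List.mem_cons, List.not_mem_nil, or_false, Prod.mk.injEq] at hmem
    rcases hmem with ⟨hn, -⟩ | ⟨hn, -⟩ | hn
    · exact absurd hn Cfsg.Agent.S1010.result
    · exact absurd hn Cfsg.Agent.S1010.result
    · exact hn
  obtain ⟨hn, rfl⟩ := h56
  rw [hn] at hall
  obtain rfl : c = 3 := by omega
  obtain ⟨x, hx⟩ := exists_prime_orderOf_dvd_card' 3
    (G := centralizer ((P : Subgroup G) : Set G)) (by rw [hcc]; norm_num)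
  have hxo : orderOf (x : G) = 3 := by rw [orderOf_coe]; exact hx
  obtain ⟨R, hxR⟩ := (IsPGroup.of_card (p := 3) (n := 1) (G := zpowers (x : G))
    (by rw [Nat.card_zpowers, hxo, pow_one])).exists_le_sylow
  obtain ⟨hR, c', e', hmem', -, hcc', hN', hall'⟩ := hd3 R
  simp only [List.mem_cons, List.not_mem_nil, or_false, Prod.mk.injEq] at hmem'
  set H := centralizer ((R : Subgroup G) : Set G) with hH
  have heq : zpowers (x : G) = (R : Subgroup G) :=
    eq_of_le_of_card_ge hxR (by rw [hR, Nat.card_zpowers, hxo])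
  have hHx : H = centralizer ({(x : G)} : Set G) := Order504.centralizer_eq_of_zpowers heq.symm
  have hPH : (P : Subgroup G) ≤ H := fun a ha => by
    rw [hHx]
    exact mem_centralizer_singleton_iff.mpr (mem_centralizer_iff.mp x.2 a ha)
  have h5 : 5 ∣ 3 * c' := hcc' ▸ hP ▸ card_dvd_of_le hPH
  have hc' : c' = 10 ∧ e' = 2 := by
    rcases hmem' with ⟨hn', rfl⟩ | ⟨hn', rfl⟩ | ⟨hn', rfl⟩ | ⟨hn', rfl⟩ <;> rw [hn'] at hall' <;>
      omega
  obtain ⟨rfl, rfl⟩ := hc'
  have hcount := Residual.card_eq_sylow_mul P hPH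
  rw [hcc'] at hcount
  set M := normalizer ((P : Subgroup G) : Set G) ⊓ H
  have hM15 : 15 ∣ Nat.card M := by
    have h3 : (R : Subgroup G) ≤ M := le_inf ?_ (le_centralizer_iff.mp (fun a ha => ?_))
    · refine Nat.Coprime.mul_dvd_of_dvd_of_dvd (m := 3) (n := 5) (by norm_num) ?_ ?_
      · exact hR ▸ card_dvd_of_le h3
      · exact hP ▸ card_dvd_of_le (le_inf le_normalizer hPH)
    · rw [← heq, zpowers_le]
      exact centralizer_le_normalizer' _ x.2
    · have : IsCyclic (R : Subgroup G) := isCyclic_of_prime_card hR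
      exact mem_centralizer_iff.mpr fun b hb =>
        congrArg Subtype.val ((IsCyclic.isMulCommutative (α := (R : Subgroup G))).is_comm.comm
          (⟨b, hb⟩ : (R : Subgroup G)) ⟨a, ha⟩)
  have hMd : Nat.card M ∣ 30 := by
    have := card_dvd_of_le (inf_le_left : M ≤ normalizer ((P : Subgroup G) : Set G))
    rwa [hN] at this
  have hM : Nat.card M = 15 ∨ Nat.card M = 30 :=
    (show ∀ d ∈ Nat.divisors 30, 15 ∣ d → d = 15 ∨ d = 30 by decide +kernel) _
      (Nat.mem_divisors.mpr ⟨hMd, by norm_num⟩) hM15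
  have hmod := card_sylow_modEq_one 5 H
  rw [Nat.ModEq, show 1 % 5 = 1 from rfl] at hmod
  rcases hM with e1 | e1
  · rw [e1] at hcount; omega
  have hHN : H = normalizer ((P : Subgroup G) : Set G) :=
    (eq_of_le_of_card_ge (inf_le_right : M ≤ H) (by rw [hcc', e1])).symm.trans
      (eq_of_le_of_card_ge inf_le_left (by rw [hN, e1]))
  -- `N(R)` normalises `C(R)`, whose only subgroup of order five is `P`
  have hle : normalizer ((R : Subgroup G) : Set G) ≤ normalizer ((P : Subgroup G) : Set G) := by
    intro g hg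
    have hgH : ∀ a ∈ (P : Subgroup G), g * a * g⁻¹ ∈ normalizer ((P : Subgroup G) : Set G) := by
      intro a ha
      rw [← hHN, hH, mem_centralizer_iff]
      intro r hr
      have h7 : g⁻¹ * r * g ∈ (R : Subgroup G) := by
        have := (mem_normalizer_iff.mp (inv_mem hg) r).mp hr
        rwa [inv_inv] at this
      have h8 : g⁻¹ * r * g * a = a * (g⁻¹ * r * g) :=
        mem_centralizer_iff.mp (hPH ha) _ h7
      calc r * (g * a * g⁻¹) = g * (g⁻¹ * r * g * a) * g⁻¹ := by group
        _ = g * (a * (g⁻¹ * r * g)) * g⁻¹ := by rw [h8]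
        _ = g * a * g⁻¹ * r := by group
    obtain ⟨y, hyP, hy, hPy⟩ := exists_gen (p := 5) hP
    have hmem : g * y * g⁻¹ ∈ (P : Subgroup G) := by
      have h9 : zpowers (g * y * g⁻¹) ⊓ normalizer ((P : Subgroup G) : Set G) =
          zpowers (g * y * g⁻¹) ⊓ (P : Subgroup G) :=
        (IsPGroup.of_card (p := 5) (n := 1) (by
          rw [Nat.card_zpowers, show g * y * g⁻¹ = MulAut.conj g y from rfl, MulEquiv.orderOf_eq,
            hy, pow_one])).inf_normalizer_sylow P
      exact (h9 ▸ Subgroup.mem_inf.mpr ⟨mem_zpowers _, hgH y hyP⟩ :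
        g * y * g⁻¹ ∈ zpowers (g * y * g⁻¹) ⊓ (P : Subgroup G)).2
    refine Sylow.smul_eq_iff_mem_normalizer.mp (Sylow.ext ?_)
    rw [Sylow.coe_subgroup_smul, hPy]
    refine (eq_of_le_of_card_ge ?_ (by
      rw [← Nat.card_congr (equivSMul (MulAut.conj g) (zpowers y)).toEquiv]))
    rintro _ ⟨b, hb, rfl⟩
    obtain ⟨i, rfl⟩ := mem_zpowers_iff.mp hb
    show MulAut.conj g (y ^ i) ∈ zpowers y
    rw [map_zpow, ← hPy]
    exact zpow_mem hmem i
  have := card_dvd_of_le hle
  rw [hN, hN'] at this
  norm_num at this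

/-- No simple group has order `3024`. -/
theorem card_ne_3024 (hG : ¬ IsMulCommutative G) (h : Nat.card G = 3024) : False := by
  classical
  have : Fact (Nat.Prime 7) := ⟨by norm_num⟩
  have : Fact (Nat.Prime 3) := ⟨Nat.prime_three⟩
  have : Fact (Nat.Prime 2) := ⟨Nat.prime_two⟩
  have hd := Mid.once_data (p := 7) (m := 432) hG (by norm_num) (by rw [h]) (by norm_num)
    [(36, 2), (36, 3), (36, 6)] (by decide +kernel)
  obtain ⟨P⟩ := (inferInstance : Nonempty (Sylow 7 G))
  obtain ⟨hP, c, e, hmem, hrel, hcc, hN, hall⟩ := hd P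
  simp only [List.mem_cons, List.not_mem_nil, or_false, Prod.mk.injEq] at hmem
  have hn : Nat.card (Sylow 7 G) = 36 := by rcases hmem with h1 | h1 | h1 <;> exact h1.1
  rw [hn] at hall
  have hcases : (c = 6 ∧ e = 2) ∨ (c = 4 ∧ e = 3) ∨ (c = 2 ∧ e = 6) := by
    rcases hmem with ⟨-, rfl⟩ | ⟨-, rfl⟩ | ⟨-, rfl⟩ <;> omega
  obtain ⟨φ, hsign, hker, hfix⟩ := OrbitHom.exists_orbit_hom hG P hP (by norm_num) (t := 5)
    (by rw [hn])
  have hPH : ∀ z : centralizer ((P : Subgroup G) : Set G),
      (P : Subgroup G) ≤ centralizer ({(z : G)} : Set G) := fun z a ha =>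
    mem_centralizer_singleton_iff.mpr (mem_centralizer_iff.mp z.2 a ha)
  rcases hcases with ⟨rfl, rfl⟩ | ⟨rfl, rfl⟩ | ⟨rfl, rfl⟩
  · obtain ⟨x, hx⟩ := exists_prime_orderOf_dvd_card' 3
      (G := centralizer ((P : Subgroup G) : Set G)) (by rw [hcc]; norm_num)
    have hxo : orderOf (x : G) = 3 := by rw [orderOf_coe]; exact hx
    have hne : φ x ≠ 1 := fun e1 => by
      have := Subgroup.orderOf_dvd_natCard _ (hker x e1)
      rw [hP, hxo] at this
      norm_num at this
    obtain ⟨j, hj0, hj⟩ := Mid.perm_prime_fixed (q := 3) (s := φ x)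
      (by rw [← map_pow, ← hx, pow_orderOf_eq_one, map_one]) hne
    rw [Fintype.card_fin] at hj
    obtain ⟨h1, h2⟩ := Mid.fix_eq_card_sylow (p := 7) (fun Q => (hd Q).1) P x.2 fun Q => by
      rw [relIndex_eq P Q, hrel, hxo]
      norm_num
    rw [← h1, hfix x (by rw [hxo]; norm_num), show Nat.card {i // φ x i = i} = 2 by omega] at h2
    have h3 := h2.trans (card_subgroup_dvd_card _)
    rw [h] at h3
    norm_num at h3
  · obtain ⟨x, hx⟩ := exists_prime_orderOf_dvd_card' 2
      (G := centralizer ((P : Subgroup G) : Set G)) (by rw [hcc]; norm_num)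
    have hxo : orderOf (x : G) = 2 := by rw [orderOf_coe]; exact hx
    have hne : φ x ≠ 1 := fun e1 => by
      have := Subgroup.orderOf_dvd_natCard _ (hker x e1)
      rw [hP, hxo] at this
      norm_num at this
    have h22 : φ x * φ x = 1 := by rw [← map_mul, ← pow_two, ← hx, pow_orderOf_eq_one, map_one]
    have hfix1 : Nat.card {i // φ x i = i} = 1 := by
      rw [Nat.card_eq_fintype_card]
      exact (show ∀ s : Equiv.Perm (Fin 5), s * s = 1 → Equiv.Perm.sign s = 1 → s ≠ 1 →
        Fintype.card {i // s i = i} = 1 by decide +kernel) _ h22 (hsign x) hne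
    obtain ⟨h1, -⟩ := Mid.fix_eq_card_sylow (p := 7) (fun Q => (hd Q).1) P x.2 fun Q => by
      rw [relIndex_eq P Q, hrel, hxo]
      norm_num
    have h2 := Residual.card_eq_sylow_mul P (hPH x)
    rw [← h1, hfix x (by rw [hxo]; norm_num), hfix1] at h2
    set M := normalizer ((P : Subgroup G) : Set G) ⊓ centralizer ({(x : G)} : Set G)
    -- a Sylow 2-subgroup of `C(P)` containing `x` is abelian
    obtain ⟨T, hT⟩ := (IsPGroup.of_card (p := 2) (n := 1) (G := zpowers x)
      (by rw [Nat.card_zpowers, hx, pow_one])).exists_le_sylow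
    have hT4 : Nat.card T = 4 :=
      card_sylow_of_card_eq (k := 2) (m := 7) (by rw [hcc]; norm_num) (by norm_num) T
    have hab : IsMulCommutative (T : Subgroup (centralizer ((P : Subgroup G) : Set G))) :=
      IsPGroup.isMulCommutative_of_card_eq_prime_sq (p := 2) (by rw [hT4]; norm_num)
    have hTM : (T : Subgroup (centralizer ((P : Subgroup G) : Set G))).map
      (centralizer ((P : Subgroup G) : Set G)).subtype ≤ M := by
      rintro _ ⟨w, hw, rfl⟩
      exact Subgroup.mem_inf.mpr ⟨centralizer_le_normalizer' _ w.2,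
        mem_centralizer_singleton_iff.mpr (congrArg Subtype.val
          (congrArg Subtype.val (hab.is_comm.comm (⟨w, hw⟩ : (T : Subgroup (centralizer ((P : Subgroup G) : Set G))))
            ⟨x, hT (mem_zpowers x)⟩)))⟩
    have h4 := card_dvd_of_le hTM
    rw [card_map_of_injective (centralizer ((P : Subgroup G) : Set G)).subtype_injective, hT4] at h4
    have h7 := card_dvd_of_le (le_inf le_normalizer (hPH x) : (P : Subgroup G) ≤ M)
    rw [hP] at h7
    obtain ⟨d, hd'⟩ := Nat.Coprime.mul_dvd_of_dvd_of_dvd (by norm_num : Nat.Coprime 4 7) h4 h7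
    rw [hd'] at h2
    have h10 := card_subgroup_dvd_card (centralizer ({(x : G)} : Set G))
    rw [← h2, h] at h10
    have h224 : (224 : ℕ) ∣ 3024 := (Dvd.intro d (by ring)).trans h10
    norm_num at h224
  · obtain ⟨u, f, hu, -, -, hCu, hf1, hf2, hf3⟩ := Mid.exists_involution hG (by norm_num) P hP hcc
    rw [hn] at hf2 hf3
    rw [hN] at hCu
    obtain rfl : f = 1 :=
      (show ∀ f ∈ Nat.divisors 36, f % 7 = 1 → f < 36 → f = 1 by decide +kernel) f
        (Nat.mem_divisors.mpr ⟨hf2, by norm_num⟩) hf1 hf3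
    exact Mid.not_small_centralizer (G := G) (k := 4) (m := 189) (by norm_num) (by norm_num)
      (by rw [h]; norm_num) hu (by rw [hCu]; norm_num)

end CfsgLib.Small.Low
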