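import Cfsg.Agent.Lib.Small.Intersection
import Cfsg.Agent.Lib.Small.OrderSixty
import Cfsg.Agent.Lib.FewOrders.Prime
import Cfsg.Agent.Lib.SylowNumber.TwentyTwo
import Cfsg.Agent.S0732

/-!
Sylow criteria on the order of a non-commutative simple group.
-/

set_option autoImplicit false

namespace CfsgLib.Small.Sieve

open Subgroup MulAction CfsgLib.Small

variable {G : Type*} [Group G] [Finite G] [IsSimpleGroup G] {p : ℕ} [hp : Fact p.Prime]

/-- `C(P)/P` permutes the `t` regular orbits of `P` on the Sylow subgroups faithfully. -/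
theorem card_centralizer_dvd (hG : ¬ IsMulCommutative G) (P : Sylow p G) (hP : Nat.card P = p)
    {t : ℕ} (hn : Nat.card (Sylow p G) = t * p + 1) :
    Nat.card (centralizer ((P : Subgroup G) : Set G)) ∣ p * t.factorial ∧
      (t = 2 → p ≠ 2 → Nat.card (centralizer ((P : Subgroup G) : Set G)) = p) := by
  classical
  have hdvd : p ∣ Nat.card G := hP ▸ card_subgroup_dvd_card (P : Subgroup G)
  have hPc : ∀ Q : Sylow p G, Nat.card Q = p := fun Q => by
    rw [Q.card_eq_multiplicity, ← P.card_eq_multiplicity, hP]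
  set C := centralizer ((P : Subgroup G) : Set G) with hC
  let Ω := orbitRel.Quotient (P : Subgroup G) (Sylow p G)
  let mk : Sylow p G → Ω := fun Q => Quotient.mk'' Q
  have hmk : ∀ {Q R : Sylow p G}, mk Q = mk R ↔ Q ∈ orbit (P : Subgroup G) R := fun {Q R} =>
    ⟨fun h => (Quotient.exact' h : _), fun h => Quotient.sound' h⟩
  have hPP : ∀ Q : Sylow p G, mk Q = mk P → Q = P := by
    intro Q hQ
    obtain ⟨u, hu⟩ := hmk.mp hQ
    exact hu.symm.trans (Sylow.smul_eq_iff_mem_normalizer.mpr (le_normalizer u.2))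
  have hfree : ∀ Q : Sylow p G, Q ≠ P → stabilizer (P : Subgroup G) Q = ⊥ := by
    intro Q hQ
    rw [Subgroup.eq_bot_iff_forall]
    intro u hu
    by_contra hu1
    have hu1' : (u : G) ≠ 1 := fun e => hu1 (Subtype.ext e)
    have hQu : (u : G) ∈ (Q : Subgroup G) := by
      have h2 : (u : G) ∈ (P : Subgroup G) ⊓ (Q : Subgroup G) :=
        P.2.inf_normalizer_sylow Q ▸ Subgroup.mem_inf.mpr
          ⟨u.2, Sylow.smul_eq_iff_mem_normalizer.mp (mem_stabilizer_iff.mp hu)⟩
      exact h2.2
    exact hQ (Sylow.ext ((eq_zpowers_of_mem (hPc Q) hQu hu1').trans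
      (eq_zpowers_of_mem hP u.2 hu1').symm))
  have hcard : Nat.card {ω : Ω // ω ≠ mk P} = t := by
    have := Fintype.ofFinite Ω
    have key : Nat.card (Sylow p G) = ∑ ω : Ω, Nat.card ω.orbit := by
      rw [Nat.card_congr (selfEquivSigmaOrbits' (P : Subgroup G) (Sylow p G)), Nat.card_sigma]
    rw [← Finset.sum_erase_add _ _ (Finset.mem_univ (mk P))] at key
    have h1 : Nat.card (mk P).orbit = 1 := by
      rw [orbitRel.Quotient.orbit_mk]
      have : orbit (P : Subgroup G) P = {P} := by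
        ext R
        exact ⟨fun hR => hPP R (hmk.mpr hR), fun h => h ▸ mem_orbit_self _⟩
      rw [this]; simp
    have h2 : ∀ ω ∈ (Finset.univ : Finset Ω).erase (mk P), Nat.card ω.orbit = p := by
      intro ω hω
      have hne := (Finset.mem_erase.mp hω).1
      induction ω using Quotient.inductionOn' with
      | h R =>
        rw [orbitRel.Quotient.orbit_mk,
          Nat.card_congr (orbitEquivQuotientStabilizer (P : Subgroup G) R),
          hfree R (fun e => hne (by rw [e])), ← index_eq_card, index_bot, hP]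
    rw [h1, Finset.sum_congr rfl h2, Finset.sum_const, smul_eq_mul, hn] at key
    rw [Nat.card_eq_fintype_card, Fintype.card_subtype_compl, Fintype.card_subtype_eq]
    rw [Finset.card_erase_of_mem (Finset.mem_univ _), Finset.card_univ] at key
    exact (Nat.eq_of_mul_eq_mul_right hp.out.pos (Nat.add_right_cancel key)).symm
  have hcomm : ∀ (x : C) (u : (P : Subgroup G)), (x : G) * u = u * x := fun x u =>
    (mem_centralizer_iff.mp x.2 u u.2).symm
  let f : C → Ω → Ω := fun x => Quotient.map' ((x : G) • ·) (by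
    rintro Q R ⟨u, rfl⟩
    exact ⟨u, show (u : G) • (x : G) • R = (x : G) • (u : G) • R by rw [← mul_smul, ← mul_smul, hcomm]⟩)
  have hfmk : ∀ (x : C) Q, f x (mk Q) = mk ((x : G) • Q) := fun x Q => rfl
  have hxP : ∀ x : C, (x : G) • P = P := fun x =>
    Sylow.smul_eq_iff_mem_normalizer.mpr (centralizer_le_normalizer' _ x.2)
  have hfP : ∀ x : C, f x (mk P) = mk P := fun x => by rw [hfmk, hxP]
  have hfmul : ∀ (x y : C) ω, f (x * y) ω = f x (f y ω) := by
    intro x y ω
    induction ω using Quotient.inductionOn' with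
    | h R => exact congrArg mk (mul_smul (x : G) (y : G) R)
  have hfone : ∀ ω, f 1 ω = ω := by
    intro ω
    induction ω using Quotient.inductionOn' with
    | h R => exact congrArg mk (one_smul G R)
  let F : C →* Equiv.Perm {ω : Ω // ω ≠ mk P} :=
    { toFun := fun x =>
        { toFun := fun ω => ⟨f x ω, fun e => ω.2 (by
            rw [← hfone ω, ← inv_mul_cancel x, hfmul, e, hfP])⟩
          invFun := fun ω => ⟨f x⁻¹ ω, fun e => ω.2 (by
            rw [← hfone ω, ← mul_inv_cancel x, hfmul, e, hfP])⟩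
          left_inv := fun ω => Subtype.ext (by
            show f x⁻¹ (f x ω) = ω
            rw [← hfmul, inv_mul_cancel, hfone])
          right_inv := fun ω => Subtype.ext (by
            show f x (f x⁻¹ ω) = ω
            rw [← hfmul, mul_inv_cancel, hfone]) }
      map_one' := Equiv.ext fun ω => Subtype.ext (hfone ω)
      map_mul' := fun x y => Equiv.ext fun ω => Subtype.ext (hfmul x y ω) }
  have hker : F.ker ≤ (P : Subgroup G).subgroupOf C := by
    intro x hx
    rw [mem_subgroupOf]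
    have hall : ∀ Q : Sylow p G, (x : G) ^ p • Q = Q := by
      intro Q
      obtain ⟨⟨u, hu⟩, hQu⟩ : (x : G) • Q ∈ orbit (P : Subgroup G) Q := by
        by_cases hQ : mk Q = mk P
        · rw [hPP Q hQ, hxP]; exact mem_orbit_self P
        · have := congrArg Subtype.val
            (Equiv.ext_iff.mp (MonoidHom.mem_ker.mp hx) ⟨mk Q, hQ⟩)
          exact hmk.mp this
      have hj : ∀ j : ℕ, (x : G) ^ j • Q = u ^ j • Q := by
        intro j
        induction j with
        | zero => simp
        | succ j ih =>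
          calc (x : G) ^ (j + 1) • Q = (x : G) • (x : G) ^ j • Q := by rw [pow_succ', mul_smul]
            _ = u ^ j • (x : G) • Q := by
              rw [ih, ← mul_smul, ← mul_smul, hcomm x ⟨u ^ j, pow_mem hu j⟩]
            _ = u ^ j • u • Q := by rw [← show u • Q = (x : G) • Q from hQu]
            _ = u ^ (j + 1) • Q := by rw [pow_succ, mul_smul]
      rw [hj, show u ^ p = 1 by
        have := orderOf_dvd_natCard (⟨u, hu⟩ : (P : Subgroup G))
        rw [Subgroup.orderOf_mk] at this
        exact orderOf_dvd_iff_pow_eq_one.mp (hP ▸ this), one_smul]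
    have h1 : (x : G) ^ p = 1 :=
      CfsgLib.SylowNumber.eq_one_of_forall_smul_eq
        (CfsgLib.SylowNumber.sylow_toPermHom_injective hG hdvd) hall
    have hpg : IsPGroup p (zpowers (x : G)) := by
      obtain ⟨j, -, hj⟩ := (Nat.dvd_prime_pow hp.out).mp
        (show orderOf (x : G) ∣ p ^ 1 by rw [pow_one]; exact orderOf_dvd_of_pow_eq_one h1)
      exact IsPGroup.of_card (n := j) (by rw [Nat.card_zpowers, hj])
    have h2 : (x : G) ∈ zpowers (x : G) ⊓ (P : Subgroup G) :=
      hpg.inf_normalizer_sylow P ▸ Subgroup.mem_inf.mpr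
        ⟨mem_zpowers _, centralizer_le_normalizer' _ x.2⟩
    exact h2.2
  have hkc : Nat.card F.ker ∣ p := by
    have hPC : (P : Subgroup G) ≤ C := fun a ha => mem_centralizer_iff.mpr fun b hb => by
      have hcyc : IsCyclic (P : Subgroup G) := isCyclic_of_prime_card hP
      let _ := IsCyclic.commGroup (α := (P : Subgroup G))
      exact congrArg Subtype.val (mul_comm (⟨b, hb⟩ : (P : Subgroup G)) ⟨a, ha⟩)
    have := card_dvd_of_le hker
    rwa [Nat.card_congr (subgroupOfEquivOfLe hPC).toEquiv, hP] at this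
  have hmain : Nat.card C ∣ p * t.factorial := by
    rw [← card_mul_index F.ker, index_ker, ← hcard]
    refine mul_dvd_mul hkc ?_
    rw [← Nat.card_perm]
    exact card_subgroup_dvd_card _
  refine ⟨hmain, fun ht2 hp2 => ?_⟩
  have hPC : (P : Subgroup G) ≤ C := fun a ha => mem_centralizer_iff.mpr fun b hb => by
    have hcyc : IsCyclic (P : Subgroup G) := isCyclic_of_prime_card hP
    let _ := IsCyclic.commGroup (α := (P : Subgroup G))
    exact congrArg Subtype.val (mul_comm (⟨b, hb⟩ : (P : Subgroup G)) ⟨a, ha⟩)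
  obtain ⟨c, hc⟩ : p ∣ Nat.card C := hP ▸ card_dvd_of_le hPC
  rw [hc, ht2, Nat.factorial_two] at hmain
  rcases (Nat.dvd_prime Nat.prime_two).mp (Nat.dvd_of_mul_dvd_mul_left hp.out.pos hmain) with
    hc1 | hc1
  · rw [hc, hc1, mul_one]
  exfalso
  obtain ⟨u, hu⟩ := exists_prime_orderOf_dvd_card' 2 (G := C) (by show 2 ∣ Nat.card C; rw [hc, hc1]; exact dvd_mul_left 2 p)
  have huF : F u ≠ 1 := fun h1 => by
    have h2 := mem_subgroupOf.mp (hker (MonoidHom.mem_ker.mpr h1))
    have h3 := orderOf_dvd_natCard (⟨(u : G), h2⟩ : (P : Subgroup G))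
    rw [Subgroup.orderOf_mk, Subgroup.orderOf_coe, hu, hP] at h3
    exact hp2 ((Nat.prime_dvd_prime_iff_eq Nat.prime_two hp.out).mp h3).symm
  have := Fintype.ofFinite (Sylow p G)
  have hsign := CfsgLib.Small.sign_toPerm hG (α := Sylow p G) (u : G)
  set s : Equiv.Perm (Sylow p G) := MulAction.toPerm (u : G) with hs
  have hsq : s ^ 2 = 1 := Equiv.ext fun Q => by
    have h2 : (u : G) * u = 1 := by
      have := congrArg Subtype.val (orderOf_dvd_iff_pow_eq_one.mp (dvd_of_eq hu) : u ^ 2 = 1)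
      simpa [pow_two] using this
    show (u : G) • (u : G) • Q = Q
    rw [← mul_smul, h2, one_smul]
  have hsupp : s.support = Finset.univ.erase P := by
    ext Q
    rw [Equiv.Perm.mem_support, Finset.mem_erase, and_iff_left (Finset.mem_univ Q)]
    refine ⟨fun h e => h (e ▸ hxP u), fun hQ h => huF (Equiv.ext fun ω => Subtype.ext ?_)⟩
    have hQ' : mk Q ≠ mk P := fun e => hQ (hPP Q e)
    have hfQ : F u ⟨mk Q, hQ'⟩ = ⟨mk Q, hQ'⟩ := Subtype.ext (congrArg mk (show (u : G) • Q = Q from h))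
    show ((F u) ω).1 = ω.1
    have h2 : Nat.card {ω : Ω // ω ≠ mk P} = 2 := hcard.trans ht2
    obtain ⟨a, b, hab, huniv⟩ := Nat.card_eq_two_iff.mp h2
    have hall : ∀ ξ : {ω : Ω // ω ≠ mk P}, ξ = a ∨ ξ = b := fun ξ => by
      have h5 : ξ ∈ ({a, b} : Set {ω : Ω // ω ≠ mk P}) := by rw [huniv]; trivial
      exact h5
    by_cases hω : ω = ⟨mk Q, hQ'⟩
    · rw [hω, hfQ]
    · have h3 : F u ω ≠ ⟨mk Q, hQ'⟩ := fun e => hω ((F u).injective (e.trans hfQ.symm))
      rcases hall ω with e1 | e1 <;> rcases hall ⟨mk Q, hQ'⟩ with e2 | e2 <;>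
        rcases hall (F u ω) with e3 | e3 <;> simp_all
  have hcs : s.support.card = 2 * p := by
    rw [hsupp, Finset.card_erase_of_mem (Finset.mem_univ _), Finset.card_univ,
      ← Nat.card_eq_fintype_card, hn, ht2]
    omega
  have hct := Equiv.Perm.cycleType_of_pow_prime_eq_one hsq
  have hsum := Equiv.Perm.sum_cycleType s
  rw [hct, Multiset.sum_replicate, hcs, smul_eq_mul] at hsum
  rw [Equiv.Perm.sign_of_cycleType, hct, Multiset.sum_replicate, Multiset.card_replicate,
    smul_eq_mul] at hsign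
  rw [show s.cycleType.card * 2 + s.cycleType.card = 3 * p by omega] at hsign
  obtain ⟨j, hj⟩ := (hp.out.odd_of_ne_two hp2)
  rw [hj, Odd.neg_one_pow ⟨3 * j + 1, by ring⟩] at hsign
  exact absurd hsign (by decide)

theorem pgl_not_simple (hp2 : p ≠ 2) :
    ¬ IsSimpleGroup (Matrix.ProjGenLinGroup (Fin 2) (ZMod p)) := by
  intro hsimple
  let S : Subgroup (ZMod p)ˣ := (powMonoidHom 2).range
  have hle : Subgroup.center (Matrix.GeneralLinearGroup (Fin 2) (ZMod p)) ≤
      ((QuotientGroup.mk' S).comp Matrix.GeneralLinearGroup.det).ker := by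
    rw [Matrix.GeneralLinearGroup.center_eq_range_scalar]
    rintro _ ⟨u, rfl⟩
    rw [MonoidHom.mem_ker, MonoidHom.comp_apply, Matrix.GeneralLinearGroup.det_scalar,
      QuotientGroup.mk'_apply, QuotientGroup.eq_one_iff]
    exact ⟨u, by simp⟩
  let f : Matrix.ProjGenLinGroup (Fin 2) (ZMod p) →* (ZMod p)ˣ ⧸ S :=
    QuotientGroup.lift _ _ hle
  have hchar : ringChar (ZMod p) ≠ 2 := by rw [ZMod.ringChar_zmod_n]; exact hp2
  obtain ⟨a, ha⟩ := FiniteField.exists_nonsquare hchar
  have ha0 : a ≠ 0 := fun h => ha (h ▸ IsSquare.zero)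
  let g : Matrix.GeneralLinearGroup (Fin 2) (ZMod p) :=
    Matrix.GeneralLinearGroup.mkOfDetNeZero (Matrix.diagonal ![a, 1]) (by simp [ha0])
  have hdet : Matrix.GeneralLinearGroup.det g = Units.mk0 a ha0 := by
    ext
    simp [g, Matrix.GeneralLinearGroup.mkOfDetNeZero]
  have hnot : Units.mk0 a ha0 ∉ S := by
    rintro ⟨u, hu⟩
    exact ha ⟨u, by have := congrArg Units.val hu; simpa [pow_two] using this.symm⟩
  have hker : f.ker ≠ ⊤ := by
    intro h
    apply hnot
    have h1 : f (Matrix.ProjGenLinGroup.mk g) = 1 :=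
      MonoidHom.mem_ker.mp (h ▸ Subgroup.mem_top _)
    rw [← hdet]
    exact (QuotientGroup.eq_one_iff _).mp h1
  have hbot := (Subgroup.Normal.eq_bot_or_eq_top (H := f.ker) inferInstance).resolve_right hker
  have hinj : Function.Injective f := (MonoidHom.ker_eq_bot_iff f).mp hbot
  have hc : ∀ x y : Matrix.GeneralLinearGroup (Fin 2) (ZMod p),
      Matrix.ProjGenLinGroup.mk (x * y) = Matrix.ProjGenLinGroup.mk (y * x) := fun x y =>
    hinj (by simp only [map_mul]; exact @mul_comm ((ZMod p)ˣ ⧸ S) _ _ _)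
  let x : Matrix.GeneralLinearGroup (Fin 2) (ZMod p) :=
    Matrix.GeneralLinearGroup.mkOfDetNeZero !![1, 1; 0, 1] (by simp [Matrix.det_fin_two])
  let y : Matrix.GeneralLinearGroup (Fin 2) (ZMod p) :=
    Matrix.GeneralLinearGroup.mkOfDetNeZero !![1, 0; 1, 1] (by simp [Matrix.det_fin_two])
  obtain ⟨u, hu⟩ := Matrix.ProjGenLinGroup.mk_eq_mk_iff.mp (hc x y)
  have h01 := congrArg (fun z : Matrix.GeneralLinearGroup (Fin 2) (ZMod p) => z.1 0 1) hu
  have h10 := congrArg (fun z : Matrix.GeneralLinearGroup (Fin 2) (ZMod p) => z.1 1 0) hu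
  have h00 := congrArg (fun z : Matrix.GeneralLinearGroup (Fin 2) (ZMod p) => z.1 0 0) hu
  simp [x, y, Matrix.GeneralLinearGroup.mkOfDetNeZero, Matrix.mul_apply, Fin.sum_univ_two]
    at h01 h10 h00
  rw [h01] at h00
  norm_num at h00
  exact one_ne_zero (show (1 : ZMod p) = 0 by linear_combination h00)

/-- Sylow data for a prime dividing the order exactly once. -/
theorem prime_once (hG : ¬ IsMulCommutative G) {m : ℕ} (hc : Nat.card G = p * m) (hm : ¬ p ∣ m) :
    ∃ t e : ℕ, 0 < t ∧ t * p + 1 ∣ m ∧ 2 * Nat.card G ∣ (t * p + 1).factorial ∧ 1 < e ∧ e < p ∧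
      e ∣ p - 1 ∧ e ∣ m / (t * p + 1) ∧ m / (t * p + 1) / e ∣ t.factorial ∧
      (t = 2 → p ≠ 2 → m / (t * p + 1) = e) ∧
      (t = 1 → 2 * e = p - 1 ∨ 2 ^ e = p + 1) := by
  classical
  obtain ⟨P⟩ := (inferInstance : Nonempty (Sylow p G))
  have hP : Nat.card P = p := by
    simpa using card_sylow_of_card_eq (k := 1) (m := m) (by rw [hc, pow_one]) hm P
  have hmem := card_sylow_mem (p := p) hG (k := 1) (m := m) one_ne_zero (by rw [hc, pow_one]) hm
  rw [Finset.mem_filter, Nat.mem_divisors] at hmem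
  obtain ⟨⟨hdm, hm0⟩, hmod, hlt⟩ := hmem
  obtain ⟨e, he1, he2, ⟨c, hcc⟩, hCe, hall⟩ := sylow_prime_order_data hG P hP
  have hd1 : Nat.card (Sylow p G) = Nat.card (Sylow p G) / p * p + 1 := by
    have := Nat.div_add_mod (Nat.card (Sylow p G)) p
    rw [hmod, mul_comm] at this
    omega
  set t := Nat.card (Sylow p G) / p with ht
  have ht0 : 0 < t := Nat.pos_of_ne_zero fun h => by rw [h] at hd1; omega
  have hdvd : p ∣ Nat.card G := by rw [hc]; exact dvd_mul_right p m
  have hfac := two_mul_card_dvd_factorial_card_sylow (p := p) hG hdvd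
  rw [hd1] at hdm hfac hall
  have hmce : m = c * e * (t * p + 1) := by
    refine Nat.eq_of_mul_eq_mul_left hp.out.pos ?_
    rw [← hc, ← hall, hcc]; ring
  have hquot : m / (t * p + 1) = c * e := by
    rw [hmce]; exact Nat.mul_div_cancel _ (Nat.succ_pos _)
  have hct : c ∣ t.factorial := by
    have := (card_centralizer_dvd hG P hP hd1).1
    rw [hcc] at this
    exact Nat.dvd_of_mul_dvd_mul_left hp.out.pos this
  refine ⟨t, e, ht0, hdm, hfac, he1, ?_, he2, ?_, ?_, ?_, ?_⟩
  · have := Nat.le_of_dvd (Nat.sub_pos_of_lt hp.out.one_lt) he2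
    omega
  · rw [hquot]; exact dvd_mul_left e c
  · rw [hquot, Nat.mul_div_cancel _ (by omega)]; exact hct
  · intro ht2 hp2
    have h1 := (card_centralizer_dvd hG P hP hd1).2 ht2 hp2
    rw [hcc] at h1
    have hc1 : c = 1 := Nat.eq_of_mul_eq_mul_left hp.out.pos (h1.trans (mul_one p).symm)
    rw [hquot, hc1, one_mul]
  intro ht1
  rw [ht1, Nat.factorial_one, Nat.dvd_one] at hct
  subst hct
  rw [ht1, one_mul] at hd1 hall
  have := Fintype.ofFinite (Sylow p G)
  have hinj := CfsgLib.SylowNumber.sylow_toPermHom_injective (p := p) hG hdvd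
  set H := (toPermHom G (Sylow p G)).range with hH
  have htr : MulAction.IsPretransitive H (Sylow p G) := by
    refine ⟨fun Q R => ?_⟩
    obtain ⟨g, hg⟩ := exists_smul_eq G Q R
    exact ⟨⟨toPermHom G (Sylow p G) g, g, rfl⟩, hg⟩
  have eH : G ≃* H := MonoidHom.ofInjective hinj
  have hcard : Nat.card H = (p + 1) * p * e := by
    rw [← Nat.card_congr eH.toEquiv, ← hall, hcc]; ring
  have he_lt : e < p := by
    have := Nat.le_of_dvd (Nat.sub_pos_of_lt hp.out.one_lt) he2
    omega
  rcases Cfsg.Agent.S0732.result hp.out (by rw [← Nat.card_eq_fintype_card, hd1]) H hcard he_lt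
    with ⟨hpe, ⟨φ⟩⟩ | ⟨h2, -⟩ | ⟨q, -, hq, he, -⟩
  · exfalso
    have hp2 : p ≠ 2 := fun h => by omega
    refine pgl_not_simple hp2 ?_
    exact (MulEquiv.isSimpleGroup_congr (eH.trans φ)).mp inferInstance
  · exact Or.inl h2
  · rcases he with rfl | rfl
    · omega
    · exact Or.inr hq.symm

/-- Sylow data in general, with the intersection criterion. -/
theorem prime_many (hG : ¬ IsMulCommutative G) {k m : ℕ} (hk : k ≠ 0) (hk2 : 2 ≤ k)
    (hc : Nat.card G = p ^ k * m) (hm : ¬ p ∣ m) :
    ∃ t : ℕ, 0 < t ∧ t * p + 1 ∣ m ∧ 2 * Nat.card G ∣ (t * p + 1).factorial ∧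
      ((t * p + 1) % (p * p) = 1 ∨
        ∃ s : ℕ, 0 < s ∧ s * p + 1 ∣ m ∧ 2 * Nat.card G ∣ (m / (s * p + 1)).factorial) := by
  classical
  obtain ⟨P⟩ := (inferInstance : Nonempty (Sylow p G))
  have hmem := card_sylow_mem (p := p) hG (k := k) (m := m) hk hc hm
  rw [Finset.mem_filter, Nat.mem_divisors] at hmem
  obtain ⟨⟨hdm, hm0⟩, hmod, hlt⟩ := hmem
  have hd1 : Nat.card (Sylow p G) = Nat.card (Sylow p G) / p * p + 1 := by
    have := Nat.div_add_mod (Nat.card (Sylow p G)) p
    rw [hmod, mul_comm] at this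
    omega
  set t := Nat.card (Sylow p G) / p with ht
  have ht0 : 0 < t := Nat.pos_of_ne_zero fun h => by rw [h] at hd1; omega
  have hdvd : p ∣ Nat.card G := hc ▸ (dvd_pow_self p hk).mul_right m
  have hfac := two_mul_card_dvd_factorial_card_sylow (p := p) hG hdvd
  rw [hd1] at hdm hfac
  refine ⟨t, ht0, hdm, hfac, ?_⟩
  by_cases h1 : (t * p + 1) % (p * p) = 1
  · exact Or.inl h1
  refine Or.inr ?_
  obtain ⟨D, μ, hD, hμ1, hμ, hμd⟩ := exists_normalizer_of_not_modEq_sq hk P
    (card_sylow_of_card_eq hc hm P) (by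
      rw [Nat.ModEq, hd1, pow_two, Nat.mod_eq_of_lt (show 1 < p * p by nlinarith [hp.out.two_le])]
      exact h1)
  have hμe : μ = μ / p * p + 1 := by
    have := Nat.div_add_mod μ p
    rw [hμ, mul_comm] at this
    omega
  set s := μ / p with hs
  have hs0 : 0 < s := Nat.pos_of_ne_zero fun h => by rw [h] at hμe; omega
  have hμm : μ ∣ m := by
    have h1 := hμd.trans (card_subgroup_dvd_card _)
    rw [hc] at h1
    exact Nat.dvd_of_mul_dvd_mul_left (pow_pos hp.out.pos k) h1
  refine ⟨s, hs0, hμe ▸ hμm, ?_⟩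
  rw [← hμe]
  set N := normalizer (D : Set G) with hN
  have hNne : N ≠ ⊤ := by
    refine normalizer_ne_top (fun hb => ?_) (fun ht => ?_)
    · rw [hb, Subgroup.card_bot] at hD
      have := (Nat.pow_eq_one.mp hD.symm).resolve_left hp.out.ne_one
      omega
    · have h2 := card_le_of_le (le_of_eq ht.symm)
      rw [Subgroup.card_top, hD, hc] at h2
      have h3 : p ^ (k - 1) < p ^ k * m :=
        (Nat.pow_lt_pow_right hp.out.one_lt (by omega)).trans_le (Nat.le_mul_of_pos_right _
          (Nat.pos_of_ne_zero hm0))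
      omega
  have hidx : N.index ∣ m / μ := by
    obtain ⟨j, hj⟩ := hμd
    have hN' := card_mul_index N
    rw [hN, hj, hc, mul_assoc, mul_assoc] at hN'
    have h2 := Nat.eq_of_mul_eq_mul_left (pow_pos hp.out.pos k) hN'
    rw [← h2, Nat.mul_div_cancel_left _ (by omega)]
    exact dvd_mul_left _ _
  refine (two_mul_card_dvd_factorial_index hG hNne).trans (Nat.factorial_dvd_factorial ?_)
  exact Nat.le_of_dvd (Nat.div_pos (Nat.le_of_dvd (Nat.pos_of_ne_zero hm0) hμm) (by omega)) hidx

/-- A Sylow subgroup of order `p²` is centralised by its normaliser unless some other prime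
divisor of `|G|` divides `(p² - 1)(p - 1)`. -/
theorem not_sq (hG : ¬ IsMulCommutative G) {m : ℕ} (hc : Nat.card G = p ^ 2 * m) (hm : ¬ p ∣ m) :
    ¬ Nat.Coprime m ((p * p - 1) * (p - 1)) := by
  classical
  intro hco
  obtain ⟨P⟩ := (inferInstance : Nonempty (Sylow p G))
  have hP : Nat.card P = p ^ 2 := card_sylow_of_card_eq hc hm P
  have hPc : (P : Subgroup G) ≤ centralizer ((P : Subgroup G) : Set G) := by
    intro x hx
    rw [mem_centralizer_iff]
    intro y hy
    have := IsPGroup.commutative_of_card_eq_prime_sq hP (⟨y, hy⟩ : (P : Subgroup G)) ⟨x, hx⟩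
    exact congrArg Subtype.val this
  refine not_normalizer_le_centralizer hG (hc ▸ (dvd_pow_self p two_ne_zero).mul_right m) P ?_
  intro g hg
  set N := normalizer ((P : Subgroup G) : Set G)
  set M := (centralizer ((P : Subgroup G) : Set G)).subgroupOf N
  suffices hM : M = ⊤ from mem_subgroupOf.mp (hM ▸ Subgroup.mem_top (⟨g, hg⟩ : N))
  by_contra hne
  have hnorm : M.Normal := by
    have := Subgroup.normalizerMonoidHom_ker (P : Subgroup G)
    show ((centralizer ((P : Subgroup G) : Set G)).subgroupOf N).Normal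
    rw [← this]
    exact MonoidHom.normal_ker _
  obtain ⟨r, hr, hrd⟩ := Nat.exists_prime_and_dvd (n := M.index) (fun h => hne (index_eq_one.mp h))
  have : Fact r.Prime := ⟨hr⟩
  obtain ⟨R⟩ := (inferInstance : Nonempty (Sylow r N))
  have hRM : ¬ (R : Subgroup N) ≤ M := fun hle =>
    R.not_dvd_index (hrd.trans (Subgroup.index_dvd_of_le hle))
  have hrm : r ∣ m ∧ r ≠ p := by
    have hrp : r ≠ p := by
      rintro rfl
      have hPM : ((P : Subgroup G).subgroupOf N) ≤ M := fun a ha =>
        mem_subgroupOf.mpr (hPc (mem_subgroupOf.mp ha))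
      have h1 : M.index ∣ ((P : Subgroup G).subgroupOf N).index := Subgroup.index_dvd_of_le hPM
      exact P.not_dvd_index ((hrd.trans h1).trans
        (relIndex_dvd_index_of_le (le_normalizer : (P : Subgroup G) ≤ N)))
    refine ⟨?_, hrp⟩
    have h1 : r ∣ Nat.card G := hrd.trans (M.index_dvd_card.trans (card_subgroup_dvd_card N))
    rw [hc] at h1
    exact (Nat.Coprime.dvd_of_dvd_mul_left
      (((Nat.coprime_primes hr hp.out).mpr hrp).pow_right 2) h1)
  refine hRM fun a ha => mem_subgroupOf.mpr (mem_centralizer_iff.mpr fun y hy => ?_)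
  set F := (P : Subgroup G) ⊓ centralizer ({(a : G)} : Set G)
  obtain ⟨j, hj⟩ := R.2 ⟨a, ha⟩
  have hpg : IsPGroup r (zpowers a) := by
    obtain ⟨i, -, hi⟩ := (Nat.dvd_prime_pow hr).mp
      (show orderOf a ∣ r ^ j from orderOf_dvd_of_pow_eq_one (congrArg Subtype.val hj))
    exact IsPGroup.of_card (n := i) (by rw [Nat.card_zpowers, hi])
  let act : MulAction (zpowers a) (P : Subgroup G) :=
    { smul := fun z u => ⟨(z : N) * (u : G) * ((z : N) : G)⁻¹,
        (mem_normalizer_iff.mp (z : N).2 _).mp u.2⟩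
      one_smul := fun u => Subtype.ext (by
        show (((1 : zpowers a) : N) : G) * u * (((1 : zpowers a) : N) : G)⁻¹ = u
        simp)
      mul_smul := fun x z u => Subtype.ext (by
        show (((x * z : zpowers a) : N) : G) * u * (((x * z : zpowers a) : N) : G)⁻¹ =
          ((x : N) : G) * (((z : N) : G) * u * ((z : N) : G)⁻¹) * ((x : N) : G)⁻¹
        push_cast
        group) }
  have hfix : Nat.card (fixedPoints (zpowers a) (P : Subgroup G)) = Nat.card F := by
    refine Nat.card_congr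
      { toFun := fun u => ⟨(u.1 : G), Subgroup.mem_inf.mpr ⟨u.1.2, ?_⟩⟩
        invFun := fun u => ⟨⟨(u : G), u.2.1⟩, ?_⟩
        left_inv := fun u => rfl
        right_inv := fun u => rfl }
    · have := congrArg Subtype.val (u.2 ⟨a, mem_zpowers a⟩)
      rw [mem_centralizer_singleton_iff]
      exact (mul_inv_eq_iff_eq_mul.mp this).symm
    · intro z
      refine Subtype.ext (mul_inv_eq_iff_eq_mul.mpr ?_)
      obtain ⟨n, hn⟩ := mem_zpowers_iff.mp z.2
      rw [← hn]
      push_cast
      exact (Commute.zpow_left (show Commute (a : G) u from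
        (mem_centralizer_singleton_iff.mp u.2.2).symm) n).eq
  have hmod := hpg.card_modEq_card_fixedPoints (P : Subgroup G)
  rw [hfix, hP] at hmod
  have hd : Nat.card F ∣ p ^ 2 := hP ▸ card_dvd_of_le inf_le_left
  obtain ⟨i, hi, hiF⟩ := (Nat.dvd_prime_pow hp.out).mp hd
  rw [hiF] at hmod
  have hi2 : i = 2 := by
    by_contra hi2
    have hdiv : r ∣ p ^ 2 - p ^ i := (Nat.modEq_iff_dvd'
      (Nat.pow_le_pow_right hp.out.pos (by omega))).mp hmod.symm
    have hr1 : r ∣ (p * p - 1) * (p - 1) := by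
      interval_cases i
      · rw [pow_zero, pow_two] at hdiv; exact hdiv.mul_right _
      · rw [pow_one, show p ^ 2 - p = p * (p - 1) by rw [Nat.mul_sub_one, pow_two]] at hdiv
        exact (Nat.Coprime.dvd_of_dvd_mul_left ((Nat.coprime_primes hr hp.out).mpr hrm.2) hdiv).mul_left _
      · exact absurd rfl hi2
    exact hr.ne_one (Nat.eq_one_of_dvd_one (hco.gcd_eq_one ▸ Nat.dvd_gcd hrm.1 hr1))
  subst hi2
  have hFP := eq_of_le_of_card_ge (inf_le_left : F ≤ _) (by rw [hiF, hP])
  have hyF : y ∈ F := by rw [show F = (P : Subgroup G) from hFP]; exact hy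
  exact mem_centralizer_singleton_iff.mp hyF.2

end CfsgLib.Small.Sieve
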