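import Cfsg.Agent.Lib.Small.MidLemmas
import Cfsg.Agent.Lib.Small.Fixed
import Cfsg.Agent.Lib.Small.SieveCriteria
import Cfsg.Agent.S0713

/-!
Tools for the orders between 1093 and 3640 that survive the sieve: primitive groups of small degree
with a cycle of prime length, and fixed points of commuting elements on cosets.
-/

set_option autoImplicit false

namespace CfsgLib.Small.Low

open Subgroup MulAction CfsgLib.Small

variable {G : Type*} [Group G] [Finite G] [IsSimpleGroup G]

/-- A subgroup of small index is maximal when no smaller degree is possible. -/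
theorem isCoatom_of_index (hG : ¬ IsMulCommutative G) {H : Subgroup G} (hH : H ≠ ⊤)
    (hdeg : ∀ k ∈ List.range' 2 (H.index - 2), k ∣ H.index → ¬ 2 * Nat.card G ∣ k.factorial) :
    IsCoatom H := by
  refine ⟨hH, fun K hK => by_contra fun hKt => ?_⟩
  have h1 := Subgroup.relIndex_mul_index hK.le
  have hKi : K.index ≠ 1 := fun e => hKt (index_eq_one.mp e)
  have hK0 : K.index ≠ 0 := index_ne_zero_of_finite
  have hr1 : H.relIndex K ≠ 1 := fun e => hK.not_ge (relIndex_eq_one.mp e)
  have hr0 : H.relIndex K ≠ 0 := index_ne_zero_of_finite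
  have hlt : K.index < H.index := by
    rw [← h1]
    exact lt_mul_left (Nat.pos_of_ne_zero hK0) (by omega)
  exact hdeg K.index (List.mem_range'_1.mpr ⟨by omega, by omega⟩)
    (Dvd.intro_left _ h1) (two_mul_card_dvd_factorial_index hG hKt)

/-- No element acts as a cycle of small prime length on the cosets of a maximal subgroup. -/
theorem false_of_cycle {H : Subgroup G} (hH : IsCoatom H) {p : ℕ} (hp : p.Prime)
    (hi5 : 5 ≤ H.index) (hpi : p + 3 ≤ H.index) (hbig : Nat.card G < H.index.factorial / 2)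
    [Fintype (G ⧸ H)] [DecidableEq (G ⧸ H)] {g : G}
    (hcyc : (MulAction.toPerm g : Equiv.Perm (G ⧸ H)).IsCycle)
    (hsupp : (MulAction.toPerm g : Equiv.Perm (G ⧸ H)).support.card = p) : False := by
  have hcard : Fintype.card (G ⧸ H) = H.index := by rw [index_eq_card, Nat.card_eq_fintype_card]
  have hnt : Nontrivial (G ⧸ H) := Finite.one_lt_card_iff_nontrivial.mp
    (by rw [← index_eq_card]; omega)
  have hprim : MulAction.IsPreprimitive G (G ⧸ H) := by
    refine (MulAction.isCoatom_stabilizer_iff_preprimitive (G := G) ((1 : G) : G ⧸ H)).mp ?_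
    rw [MulAction.stabilizer_quotient]
    exact hH
  set R := (toPermHom G (G ⧸ H)).range with hR
  have hprim' : MulAction.IsPreprimitive R (G ⧸ H) :=
    MulAction.IsPreprimitive.of_surjective (M := G) (N := R)
      (φ := (toPermHom G (G ⧸ H)).rangeRestrict) (f := ⟨id, fun g x => rfl⟩)
      Function.surjective_id
  have hle := Cfsg.Agent.S0713.result R hprim' hp (by omega) (by omega) hcyc hsupp ⟨g, rfl⟩
  have h3 := card_le_of_le hle
  rw [nat_card_alternatingGroup, ← index_eq_card] at h3
  have h4 : Nat.card R ≤ Nat.card G := Nat.le_of_dvd Nat.card_pos (card_range_dvd _)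
  omega

/-- A maximal subgroup of index `i` cannot have the `p`-part of `|G|` equal to that of `i!`. -/
theorem false_of_full_sylow {H : Subgroup G} (hH : IsCoatom H) {p k m M : ℕ} [hp : Fact p.Prime]
    (hi5 : 5 ≤ H.index) (hpi : p + 3 ≤ H.index) (hbig : Nat.card G < H.index.factorial / 2)
    (hc : Nat.card G = p ^ k * m) (hm : ¬ p ∣ m)
    (hf : H.index.factorial = p ^ k * M) (hM : ¬ p ∣ M) : False := by
  classical
  have := Fintype.ofFinite (G ⧸ H)
  have hcard : Fintype.card (G ⧸ H) = H.index := by rw [index_eq_card, Nat.card_eq_fintype_card]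
  set φ := toPermHom G (G ⧸ H)
  have hinj : Function.Injective φ := CfsgLib.Small.toPermHom_injective (G := G) hH.1
  obtain ⟨S⟩ := (inferInstance : Nonempty (Sylow p G))
  have hperm : Nat.card (Equiv.Perm (G ⧸ H)) = p ^ k * M := by
    rw [Nat.card_perm, ← index_eq_card, hf]
  obtain ⟨T, hT⟩ := ((S.2.map φ).exists_le_sylow : ∃ T : Sylow p (Equiv.Perm (G ⧸ H)), _)
  have hTeq : (S : Subgroup G).map φ = (T : Subgroup _) := eq_of_le_of_card_ge hT (by
    rw [card_sylow_of_card_eq hperm hM T, card_map_of_injective hinj,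
      card_sylow_of_card_eq hc hm S])
  obtain ⟨s, -, hs⟩ := Finset.exists_subset_card_eq (s := (Finset.univ : Finset (G ⧸ H))) (n := p)
    (by rw [Finset.card_univ, hcard]; omega)
  set c := s.toList.formPerm with hc'
  have hnd : s.toList.Nodup := s.nodup_toList
  have hlen : s.toList.length = p := by rw [Finset.length_toList, hs]
  have hcy : c.IsCycle := List.isCycle_formPerm hnd (by rw [hlen]; exact hp.out.two_le)
  have hcs : c.support.card = p := by
    rw [hc', List.support_formPerm_of_nodup _ hnd (fun x hx => by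
      rw [hx, List.length_singleton] at hlen
      exact hp.out.ne_one hlen.symm), List.toFinset_card_of_nodup hnd, hlen]
  have hpg : IsPGroup p (zpowers c) := IsPGroup.of_card (n := 1)
    (by rw [Nat.card_zpowers, hcy.orderOf, hcs, pow_one])
  obtain ⟨Q, hQ⟩ := hpg.exists_le_sylow
  obtain ⟨g, hg⟩ := exists_smul_eq (Equiv.Perm (G ⧸ H)) Q T
  have hmem : g * c * g⁻¹ ∈ (T : Subgroup (Equiv.Perm (G ⧸ H))) := by
    rw [← hg, Sylow.coe_subgroup_smul]
    exact Subgroup.smul_mem_pointwise_smul c (MulAut.conj g) _ (hQ (mem_zpowers c))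
  rw [← hTeq] at hmem
  obtain ⟨a, -, ha⟩ := hmem
  exact false_of_cycle hH hp.out hi5 hpi hbig (g := a)
    (by rw [show (MulAction.toPerm a : Equiv.Perm (G ⧸ H)) = g * c * g⁻¹ from ha]; exact hcy.conj)
    (by rw [show (MulAction.toPerm a : Equiv.Perm (G ⧸ H)) = g * c * g⁻¹ from ha,
      Equiv.Perm.card_support_conj, hcs])

omit [IsSimpleGroup G] in
/-- Conjugates of `x` commuting with `y` count the fixed points of `y` on the cosets of `C(x)`. -/
theorem card_fix_le {x y : G} :
    Nat.card (fixedBy (G ⧸ centralizer ({x} : Set G)) y) ≤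
      Nat.card {w : G // y * w = w * y ∧ orderOf w = orderOf x} := by
  classical
  have key : ∀ a : fixedBy (G ⧸ centralizer ({x} : Set G)) y, ∃ g : G,
      (g : G ⧸ centralizer ({x} : Set G)) = a.1 ∧ y * (g * x * g⁻¹) = (g * x * g⁻¹) * y := by
    rintro ⟨q, hq⟩
    induction q using QuotientGroup.induction_on with
    | H g =>
      refine ⟨g, rfl, ?_⟩
      have h1 := mem_centralizer_singleton_iff.mp ((smul_mk_eq_self_iff _ _ _).mp hq)
      calc y * (g * x * g⁻¹) = g * (g⁻¹ * y * g * x) * g⁻¹ := by group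
        _ = g * (x * (g⁻¹ * y * g)) * g⁻¹ := by rw [h1]
        _ = g * x * g⁻¹ * y := by group
  choose f hf1 hf2 using key
  refine Nat.card_le_card_of_injective (fun a => ⟨f a * x * (f a)⁻¹, hf2 a, ?_⟩) fun a b e => ?_
  · rw [show f a * x * (f a)⁻¹ = MulAut.conj (f a) x from rfl, MulEquiv.orderOf_eq]
  · refine Subtype.ext ?_
    rw [← hf1 a, ← hf1 b, QuotientGroup.eq, mem_centralizer_singleton_iff]
    have e' : f a * x * (f a)⁻¹ = f b * x * (f b)⁻¹ := congrArg Subtype.val e
    calc (f a)⁻¹ * f b * x = (f a)⁻¹ * (f b * x * (f b)⁻¹) * f b := by group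
      _ = (f a)⁻¹ * (f a * x * (f a)⁻¹) * f b := by rw [e']
      _ = x * ((f a)⁻¹ * f b) := by group

/-- Fixed points of commuting elements of distinct prime orders, when one has few fixed points. -/
theorem fix_data {H : Subgroup G} (hH : H ≠ ⊤) {p q : ℕ} [hp : Fact p.Prime] [hq : Fact q.Prime]
    {x y : G} (hx : orderOf x = q) (hy : orderOf y = p) (hxy : x * y = y * x)
    (hfew : Nat.card (fixedBy (G ⧸ H) y) < q) :
    Nat.card (fixedBy (G ⧸ H) x) % q = H.index % q ∧
      Nat.card (fixedBy (G ⧸ H) x) % p = Nat.card (fixedBy (G ⧸ H) y) % p ∧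
      H.index % p = Nat.card (fixedBy (G ⧸ H) y) % p ∧
      Nat.card (fixedBy (G ⧸ H) y) ≤ Nat.card (fixedBy (G ⧸ H) x) ∧
      Nat.card (fixedBy (G ⧸ H) x) < H.index := by
  classical
  have := Fintype.ofFinite (G ⧸ H)
  have hinj := CfsgLib.Small.toPermHom_injective (G := G) hH
  have hcard : Fintype.card (G ⧸ H) = H.index := by rw [index_eq_card, Nat.card_eq_fintype_card]
  have hcomm : ∀ a : G ⧸ H, x • y • a = y • x • a := fun a => by rw [← mul_smul, hxy, mul_smul]
  set s : Equiv.Perm (G ⧸ H) := MulAction.toPerm x with hs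
  set t : Equiv.Perm (G ⧸ H) := MulAction.toPerm y with ht
  have hpow : ∀ (g : G) (r : ℕ), orderOf g = r →
      (MulAction.toPerm g : Equiv.Perm (G ⧸ H)) ^ r = 1 := fun g r hr => by
    rw [Order720.toPerm_pow, ← hr, pow_orderOf_eq_one]
    ext a; simp
  -- every fixed point of `y` is fixed by `x`
  have hsub : ∀ a : G ⧸ H, y • a = a → x • a = a := by
    intro a ha
    by_contra hne
    have hiff : ∀ b : G ⧸ H, y • s b = s b ↔ y • b = b := fun b => by
      show y • x • b = x • b ↔ _
      rw [← hcomm]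
      exact smul_left_cancel_iff x
    set s' : Equiv.Perm {b : G ⧸ H // y • b = b} := s.subtypePerm hiff
    have hs'q : s' ^ q = 1 := by
      rw [Equiv.Perm.subtypePerm_pow]
      ext b
      simp [hs, hpow x q hx]
    obtain ⟨j, hj0, hj⟩ := Mid.perm_prime_fixed (q := q) (s := s') hs'q fun e => hne (by
      have := congrArg Subtype.val (Equiv.Perm.congr_fun e ⟨a, ha⟩)
      simpa [s', hs] using this)
    rw [← Nat.card_eq_fintype_card, show Nat.card {b : G ⧸ H // y • b = b} =
      Nat.card (fixedBy (G ⧸ H) y) from rfl] at hj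
    have : q ≤ j * q := Nat.le_mul_of_pos_left q hj0
    omega
  have hle : Nat.card (fixedBy (G ⧸ H) y) ≤ Nat.card (fixedBy (G ⧸ H) x) :=
    Nat.card_le_card_of_injective (fun a => ⟨a.1, hsub a.1 a.2⟩) fun a b e =>
      Subtype.ext (congrArg Subtype.val e :)
  have hs1 : s ≠ 1 := fun e => by
    have h1 : x = 1 := hinj (by rw [map_one]; exact e)
    rw [h1, orderOf_one] at hx
    exact hq.out.ne_one hx.symm
  obtain ⟨j, hj0, hj⟩ := Mid.perm_prime_fixed (q := q) (s := s) (hpow x q hx) hs1
  rw [hcard, show Nat.card {a // s a = a} = Nat.card (fixedBy (G ⧸ H) x) from rfl] at hj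
  have ht1 : t ≠ 1 := fun e => by
    have h1 : y = 1 := hinj (by rw [map_one]; exact e)
    rw [h1, orderOf_one] at hy
    exact hp.out.ne_one hy.symm
  obtain ⟨l, -, hl⟩ := Mid.perm_prime_fixed (q := p) (s := t) (hpow y p hy) ht1
  rw [hcard, show Nat.card {a // t a = a} = Nat.card (fixedBy (G ⧸ H) y) from rfl] at hl
  -- the action of `y` on the fixed points of `x`
  have hiff : ∀ b : G ⧸ H, x • t b = t b ↔ x • b = b := fun b => by
    show x • y • b = y • b ↔ _
    rw [hcomm]
    exact smul_left_cancel_iff y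
  set t' : Equiv.Perm {b : G ⧸ H // x • b = b} := t.subtypePerm hiff
  have ht'p : t' ^ p = 1 := by
    rw [Equiv.Perm.subtypePerm_pow]
    ext b
    simp [ht, hpow y p hy]
  have hfixeq : Nat.card {b : {b : G ⧸ H // x • b = b} // t' b = b} =
      Nat.card (fixedBy (G ⧸ H) y) :=
    Nat.card_congr
      { toFun := fun b => ⟨b.1.1, congrArg Subtype.val b.2⟩
        invFun := fun b => ⟨⟨b.1, hsub b.1 b.2⟩, Subtype.ext b.2⟩
        left_inv := fun _ => rfl
        right_inv := fun _ => rfl }
  refine ⟨?_, ?_, ?_, hle, ?_⟩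
  · rw [← hj, Nat.mul_add_mod_self_right]
  · by_cases ht'1 : t' = 1
    · rw [← hfixeq, ht'1]
      refine congrArg (· % p) (Nat.card_congr ?_)
      exact (Equiv.subtypeUnivEquiv fun b => rfl).symm
    · obtain ⟨i, -, hi⟩ := Mid.perm_prime_fixed (q := p) (s := t') ht'p ht'1
      rw [hfixeq, ← Nat.card_eq_fintype_card] at hi
      rw [show Nat.card (fixedBy (G ⧸ H) x) = Nat.card {b : G ⧸ H // x • b = b} from rfl, ← hi,
        Nat.mul_add_mod_self_right]
  · rw [← hl, Nat.mul_add_mod_self_right]
  · have : q ≤ j * q := Nat.le_mul_of_pos_left q hj0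
    have := hq.out.two_le
    omega

omit [IsSimpleGroup G] in
/-- Two Sylow subgroups meeting in a subgroup of index `p` normalise it. -/
theorem exists_normalizer_of_not_modEq {p : ℕ} [hp : Fact p.Prime] {k m : ℕ}
    (hc : Nat.card G = p ^ k * m) (hm : ¬ p ∣ m)
    (hn : ¬ Nat.card (Sylow p G) ≡ 1 [MOD p ^ 2]) :
    ∃ D : Subgroup G, Nat.card D * p = p ^ k ∧
      p ^ k ∣ Nat.card (normalizer (D : Set G)) ∧
      1 < Nat.card (Sylow p (normalizer (D : Set G))) := by
  obtain ⟨P, R, hne, hidx⟩ := exists_pair_of_not_modEq (k := 2) hn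
  have hPc : ∀ T : Sylow p G, Nat.card T = p ^ k := fun T => card_sylow_of_card_eq hc hm T
  set D := (P : Subgroup G) ⊓ (R : Subgroup G)
  have hind : ∀ T : Sylow p G, D ≤ (T : Subgroup G) →
      (D.subgroupOf (T : Subgroup G)).index * Nat.card D = p ^ k := fun T hT => by
    rw [mul_comm, ← Nat.card_congr (subgroupOfEquivOfLe hT).toEquiv, card_mul_index, hPc]
  have h1 := hind P inf_le_left
  rw [show D.subgroupOf (P : Subgroup G) = (R : Subgroup G).subgroupOf (P : Subgroup G) from
    inf_subgroupOf_left _ _] at h1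
  obtain ⟨i, -, hi⟩ := (Nat.dvd_prime_pow hp.out).mp (Dvd.intro _ h1)
  have hi1 : i = 1 := by
    rw [hi, show 2 - 1 = 1 from rfl, pow_one] at hidx
    have h3 : p ^ i ≤ p ^ 1 := by rwa [pow_one]
    have h4 := (Nat.pow_le_pow_iff_right hp.out.one_lt).mp h3
    rcases (show i = 0 ∨ i = 1 by omega) with rfl | rfl
    · exfalso
      rw [pow_zero] at hi
      rw [hi, one_mul] at h1
      have e1 : D = (P : Subgroup G) := eq_of_le_of_card_ge inf_le_left (by rw [h1, hPc])
      exact hne (Sylow.ext (eq_of_le_of_card_ge (inf_eq_left.mp e1) (by rw [hPc, hPc])))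
    · rfl
  rw [hi, hi1, pow_one] at h1
  have hnorm : ∀ T : Sylow p G, D ≤ (T : Subgroup G) →
      (T : Subgroup G) ≤ normalizer (D : Set G) := fun T hT => by
    have h2 := hind T hT
    rw [← h1] at h2
    have h3 : (D.subgroupOf (T : Subgroup G)).index = p :=
      Nat.eq_of_mul_eq_mul_right Nat.card_pos h2
    have hN : (D.subgroupOf (T : Subgroup G)).Normal := Subgroup.normal_of_index_eq_minFac_card (by
      obtain ⟨l, hl⟩ : ∃ l, k = l + 1 := by
        rcases k with _ | l
        · exfalso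
          rw [pow_zero] at h1
          exact hp.out.ne_one (Nat.eq_one_of_mul_eq_one_right h1)
        · exact ⟨l, rfl⟩
      rw [hPc, hl, Nat.pow_minFac (Nat.succ_ne_zero l), hp.out.minFac_eq, h3])
    exact Subgroup.normal_subgroupOf_iff_le_normalizer hT |>.mp hN
  refine ⟨D, by rw [mul_comm]; exact h1, (hPc P) ▸ card_dvd_of_le (hnorm P inf_le_left),
    Finite.one_lt_card_iff_nontrivial.mpr ⟨⟨P.subtype (hnorm P inf_le_left),
      R.subtype (hnorm R inf_le_right), fun e => hne (Sylow.subtype_injective e)⟩⟩⟩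

end CfsgLib.Small.Low
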