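import Cfsg.Agent.Lib.Small.OrbitHom
import Cfsg.Agent.Lib.Small.Residual
import Cfsg.Agent.Lib.Small.Order720
import Cfsg.Agent.Lib.OddOrder.PuigSeries
import Cfsg.Agent.S0713

/-!
Tools for the orders between 3641 and 6232 that survive the sieve.
-/

set_option autoImplicit false

namespace CfsgLib.Small.Mid

open Subgroup MulAction CfsgLib.Small
open scoped commutatorElement

variable {G : Type*} [Group G] [Finite G]

omit [Finite G] in
/-- An element of `N(P)` whose order is prime to `|N(P) : C(P)|` centralises `P`. -/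
theorem mem_centralizer_of_coprime {P : Subgroup G} {x : G} (hx : x ∈ normalizer (P : Set G))
    (h : Nat.Coprime (orderOf x)
      ((centralizer (P : Set G)).relIndex (normalizer (P : Set G)))) :
    x ∈ centralizer (P : Set G) := by
  have hn : ((centralizer (P : Set G)).subgroupOf (normalizer (P : Set G))).Normal := by
    rw [← Subgroup.normalizerMonoidHom_ker P]
    exact MonoidHom.normal_ker _
  set N := normalizer (P : Set G)
  set K := (centralizer (P : Set G)).subgroupOf N
  have h1 : orderOf (QuotientGroup.mk' K ⟨x, hx⟩) = 1 := by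
    refine Nat.eq_one_of_dvd_coprimes h ?_ ?_
    · rw [← Subgroup.orderOf_mk x hx]; exact orderOf_map_dvd _ _
    · exact (_root_.orderOf_dvd_natCard _).trans (dvd_of_eq K.index_eq_card.symm)
  rw [orderOf_eq_one_iff, QuotientGroup.mk'_apply, QuotientGroup.eq_one_iff] at h1
  exact mem_subgroupOf.mp h1

/-- In a group of order `2m`, `m` odd, all Sylow subgroups for odd primes lie in a subgroup of
index two. -/
theorem exists_odd_half {H : Type*} [Group H] [Finite H] {q m : ℕ} [hq : Fact q.Prime]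
    (hq2 : q ≠ 2) (hm : ¬ 2 ∣ m) (h : Nat.card H = 2 * m) :
    ∃ K : Subgroup H, Nat.card K = m ∧ Nat.card (Sylow q H) ≤ Nat.card (Sylow q K) := by
  obtain ⟨K, hK⟩ := CfsgLib.Involutions.exists_index_two_of_card_eq_two_mul_odd
    (Nat.odd_iff.mpr (by omega)) h
  have hK' : Nat.card K = m := by
    have := K.card_mul_index
    rw [hK, h] at this
    omega
  refine ⟨K, hK', ?_⟩
  have hle : ∀ R : Sylow q H, (R : Subgroup H) ≤ K := by
    intro R a ha
    obtain ⟨i, hi⟩ := R.2 ⟨a, ha⟩
    have hai : a ^ q ^ i = 1 := congrArg Subtype.val hi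
    obtain ⟨j, hj⟩ := (hq.out.odd_of_ne_two hq2).pow (n := i)
    have e : a = (a ^ 2) ^ (j + 1) := by
      rw [← pow_mul, show 2 * (j + 1) = q ^ i + 1 by omega, pow_succ, hai, one_mul]
    rw [e]
    exact pow_mem (sq_mem_of_index_two hK a) _
  exact Nat.card_le_card_of_injective (fun R => R.subtype (hle R))
    fun R R' e => Sylow.subtype_injective e

omit [Finite G] in
/-- The normaliser of a Sylow subgroup of prime order contains an element of order divisible by
`|N(P) : C(P)|`. -/
theorem exists_mem_dvd_orderOf {p : ℕ} [hp : Fact p.Prime] {P : Subgroup G} (hP : Nat.card P = p) :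
    ∃ g ∈ normalizer (P : Set G),
      (centralizer (P : Set G)).relIndex (normalizer (P : Set G)) ∣ orderOf g := by
  set N := normalizer (P : Set G)
  set K := (centralizer (P : Set G)).subgroupOf N
  have hn : K.Normal := by
    show ((centralizer (P : Set G)).subgroupOf N).Normal
    rw [← Subgroup.normalizerMonoidHom_ker P]
    exact MonoidHom.normal_ker _
  have hcyc : IsCyclic (N ⧸ K) := by
    have : IsCyclic P := isCyclic_of_prime_card hP
    have : IsCyclic (MulAut P) := by
      have : IsCyclic (ZMod (Nat.card P))ˣ := by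
        rw [hP]; exact ZMod.isCyclic_units_prime hp.out
      exact (IsCyclic.mulAutMulEquiv P).isCyclic.mpr this
    have h4 := isCyclic_of_injective _ (QuotientGroup.kerLift_injective P.normalizerMonoidHom)
    exact (QuotientGroup.quotientMulEquivOfEq (normalizerMonoidHom_ker P)).isCyclic.mp h4
  obtain ⟨q, hq⟩ := hcyc.exists_ofOrder_eq_natCard
  obtain ⟨a, rfl⟩ := QuotientGroup.mk'_surjective K q
  refine ⟨a, a.2, ?_⟩
  rw [relIndex, index_eq_card, ← hq, orderOf_coe]
  exact orderOf_map_dvd _ a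

omit [Finite G] in
/-- A cyclic group has at most one subgroup of each order. -/
theorem eq_of_cyclic_card {H : Type*} [Group H] [Finite H] [hH : IsCyclic H] {A B : Subgroup H}
    (h : Nat.card A = Nat.card B) : A = B := by
  classical
  have := Fintype.ofFinite H
  let n := Nat.card A
  have hsub : ∀ C : Subgroup H, Nat.card C = n → (C : Set H).toFinset =
      Finset.univ.filter fun a : H => a ^ n = 1 := by
    intro C hC
    refine Finset.eq_of_subset_of_card_le (fun a ha => ?_) ?_
    · rw [Set.mem_toFinset, SetLike.mem_coe] at ha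
      refine Finset.mem_filter.mpr ⟨Finset.mem_univ _, ?_⟩
      rw [← hC]
      exact congrArg Subtype.val (pow_card_eq_one' (x := (⟨a, ha⟩ : C)))
    · rw [Set.toFinset_card, ← Nat.card_eq_fintype_card]
      exact (IsCyclic.card_pow_eq_one_le Nat.card_pos).trans (dvd_of_eq hC.symm |> fun _ => (le_of_eq hC.symm))
  exact SetLike.coe_injective (Set.toFinset_inj.mp ((hsub A rfl).trans (hsub B h.symm).symm))

variable [IsSimpleGroup G]

/-- The order of an element is not divisible by the 2-part of the order of a simple group. -/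
theorem not_cyclic_two (hG : ¬ IsMulCommutative G) {k m : ℕ} (hk : k ≠ 0) (hm : ¬ 2 ∣ m)
    (hc : Nat.card G = 2 ^ k * m) {g : G} (hg : 2 ^ k ∣ orderOf g) : False := by
  have : Fact (Nat.Prime 2) := ⟨Nat.prime_two⟩
  obtain ⟨j, hj⟩ := hg
  have hj0 : j ≠ 0 := fun e => by rw [e, mul_zero] at hj; exact (orderOf_pos g).ne' hj
  have ho : orderOf (g ^ j) = 2 ^ k := by
    rw [orderOf_pow_of_dvd hj0 ⟨2 ^ k, by rw [hj, mul_comm]⟩, hj,
      Nat.mul_div_cancel _ (Nat.pos_of_ne_zero hj0)]
  have hpg : IsPGroup 2 (zpowers (g ^ j)) := IsPGroup.of_card (n := k) (by rw [Nat.card_zpowers, ho])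
  obtain ⟨T, hT⟩ := hpg.exists_le_sylow
  have he : zpowers (g ^ j) = (T : Subgroup G) := eq_of_le_of_card_ge hT (by
    rw [card_sylow_of_card_eq hc hm T, Nat.card_zpowers, ho])
  have hcyc : IsCyclic (T : Subgroup G) := by rw [← he]; infer_instance
  obtain ⟨H, hH⟩ := CfsgLib.Involutions.exists_index_two_of_cyclic_sylow
    (even_iff_two_dvd.mpr (hc ▸ (dvd_pow_self 2 hk).mul_right m)) T hcyc
  have hn := normal_of_index_eq_two hH
  rcases eq_bot_or_top H with e | e
  · rw [e, index_bot, hc] at hH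
    have h1 : Nat.card G = 2 := hc.trans hH
    exact hG (isCyclic_of_prime_card h1).isMulCommutative
  · rw [e, index_top] at hH
    norm_num at hH

/-- No isolated involution in a simple group. -/
theorem not_isolated (hG : ¬ IsMulCommutative G) {u : G} (hu : orderOf u = 2)
    (hiso : ∀ g : G, Commute u (g * u * g⁻¹) → g * u * g⁻¹ = u) : False := by
  have hu1 : u ≠ 1 := fun e => by rw [e, orderOf_one] at hu; norm_num at hu
  have : Fact (Nat.Prime 2) := ⟨Nat.prime_two⟩
  have hcore : Cfsg.pPrimeCore 2 G = ⊥ := by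
    rcases (Cfsg.pPrimeCore_normal 2 G).eq_bot_or_eq_top with e | e
    · exact e
    · exfalso
      have h1 : ¬ 2 ∣ Nat.card ↥(Cfsg.pPrimeCore 2 G) := CfsgLib.PCore.not_dvd_card_pPrimeCore
      rw [e, card_top] at h1
      exact h1 (hu ▸ _root_.orderOf_dvd_natCard u)
  refine Residual.centralizer_ne_top hG hu1 (eq_top_iff.mpr fun g _ => ?_)
  have h1 := CfsgLib.Involutions.zstar G u ⟨hu, hiso⟩ g
  rw [hcore, mem_bot, mul_inv_eq_one, mul_inv_eq_iff_eq_mul] at h1
  exact mem_centralizer_singleton_iff.mpr h1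

/-- An involution fixing only `P` and centralised by `N(P)` is isolated. -/
theorem fix_one_false (hG : ¬ IsMulCommutative G) {p : ℕ} [Fact p.Prime] (P : Sylow p G) {u : G}
    (hu : orderOf u = 2) (huN : u ∈ normalizer ((P : Subgroup G) : Set G))
    (hNC : normalizer ((P : Subgroup G) : Set G) ≤ centralizer ({u} : Set G))
    (hfix : Nat.card (fixedBy (Sylow p G) u) = 1) : False := by
  refine not_isolated hG hu fun g hg => ?_
  set w := g * u * g⁻¹
  have hPu : u • P = P := Sylow.smul_eq_iff_mem_normalizer.mpr huN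
  have hsub : ∀ v : G, Nat.card (fixedBy (Sylow p G) v) = 1 → ∀ Q R : Sylow p G,
      v • Q = Q → v • R = R → Q = R := fun v hv Q R hQ hR => by
    have h1 := (Nat.card_eq_one_iff_unique.mp hv).1
    exact congrArg Subtype.val (h1.elim (⟨Q, hQ⟩ : fixedBy (Sylow p G) v) ⟨R, hR⟩)
  have hwP : w • P = P := hsub u hfix _ _ (by rw [← mul_smul, hg.eq, mul_smul, hPu]) hPu
  have hwg : w • (g • P) = g • P := by
    rw [← mul_smul, show w * g = g * u by simp [w], mul_smul, hPu]
  have hgP : g • P = P := hsub w (by rw [card_fixedBy_conj, hfix]) _ _ hwg hwP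
  have h1 := mem_centralizer_singleton_iff.mp (hNC (Sylow.smul_eq_iff_mem_normalizer.mp hgP))
  exact mul_inv_eq_iff_eq_mul.mpr h1

omit [IsSimpleGroup G] in
/-- An element of `N(P) \ C(P)`, `|P| = p`, fixes at most one point of each regular `P`-orbit. -/
theorem fix_bound {p : ℕ} [hp : Fact p.Prime] (P : Sylow p G)
    (hP : ∀ Q : Sylow p G, Nat.card Q = p) {z : G}
    (hzN : z ∈ normalizer ((P : Subgroup G) : Set G))
    (hzC : z ∉ centralizer ((P : Subgroup G) : Set G)) :
    (Nat.card (fixedBy (Sylow p G) z) - 1) * p + 1 ≤ Nat.card (Sylow p G) := by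
  classical
  have := Fintype.ofFinite (Sylow p G)
  have := Fintype.ofFinite (fixedBy (Sylow p G) z)
  have hPf : P ∈ fixedBy (Sylow p G) z := Sylow.smul_eq_iff_mem_normalizer.mpr hzN
  have h1 : Nat.card ({Q : fixedBy (Sylow p G) z // Q.1 ≠ P} × (P : Subgroup G)) ≤
      Nat.card {R : Sylow p G // R ≠ P} := by
    refine Nat.card_le_card_of_injective (fun x => ⟨(x.2 : G) • x.1.1.1, fun e => ?_⟩) ?_
    · refine x.1.2 ?_
      rw [← inv_smul_smul (x.2 : G) x.1.1.1, e]
      exact Sylow.smul_eq_iff_mem_normalizer.mpr (le_normalizer (inv_mem x.2.2))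
    · rintro ⟨⟨⟨Q, hQ⟩, hQP⟩, u, hu⟩ ⟨⟨⟨R, hR⟩, hRP⟩, v, hv⟩ hab
      have h2 : u • Q = v • R := congrArg Subtype.val hab
      have h3 : R ∈ orbit (P : Subgroup G) Q :=
        ⟨⟨v⁻¹ * u, mul_mem (inv_mem hv) hu⟩, show (v⁻¹ * u) • Q = R by
          rw [mul_smul, h2, inv_smul_smul]⟩
      obtain rfl : R = Q := eq_of_fixed_of_mem_orbit (hP P) hzN hzC hQ hR h3
      have h4 : (v⁻¹ * u) • R = R := by rw [mul_smul, h2, inv_smul_smul]
      have huv : u = v := by
        by_contra hne
        have hw : v⁻¹ * u ∈ (P : Subgroup G) := mul_mem (inv_mem hv) hu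
        have hw1 : v⁻¹ * u ≠ 1 := fun e => hne (inv_mul_eq_one.mp e).symm
        have hR' : v⁻¹ * u ∈ (P : Subgroup G) ⊓ (R : Subgroup G) :=
          P.2.inf_normalizer_sylow R ▸ Subgroup.mem_inf.mpr
            ⟨hw, Sylow.smul_eq_iff_mem_normalizer.mp h4⟩
        exact hRP (Sylow.ext ((eq_zpowers_of_mem (hP R) hR'.2 hw1).trans
          (eq_zpowers_of_mem (hP P) hw hw1).symm))
      subst huv
      rfl
  rw [Nat.card_prod, hP P, Nat.card_eq_fintype_card, Nat.card_eq_fintype_card,
    Fintype.card_congr (Equiv.subtypeEquivRight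
      (p := fun Q : fixedBy (Sylow p G) z => Q.1 ≠ P) (q := fun Q => Q ≠ ⟨P, hPf⟩)
      fun Q => ⟨fun h' e => h' (congrArg Subtype.val e), fun h' e => h' (Subtype.ext e)⟩),
    Fintype.card_subtype_compl, Fintype.card_subtype_eq, Fintype.card_subtype_compl,
    Fintype.card_subtype_eq] at h1
  rw [Nat.card_eq_fintype_card, Nat.card_eq_fintype_card]
  have := Fintype.card_pos_iff.mpr ⟨P⟩
  omega

omit [IsSimpleGroup G] in
/-- For an element `x` centralising `P` of order prime to `p |N(P) : C(P)|` the fixed points of `x`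
are the Sylow subgroups of `C(x)`. -/
theorem fix_eq_card_sylow {p : ℕ} [hp : Fact p.Prime] (hP : ∀ Q : Sylow p G, Nat.card Q = p)
    (P : Sylow p G) {x : G} (hxP : x ∈ centralizer ((P : Subgroup G) : Set G))
    (hcop : ∀ Q : Sylow p G, Nat.Coprime (orderOf x)
      ((centralizer ((Q : Subgroup G) : Set G)).relIndex
        (normalizer ((Q : Subgroup G) : Set G)))) :
    Nat.card (fixedBy (Sylow p G) x) = Nat.card (Sylow p (centralizer ({x} : Set G))) ∧
      Nat.card (Sylow p (centralizer ({x} : Set G))) ∣ Nat.card (centralizer ({x} : Set G)) := by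
  have hPH : (P : Subgroup G) ≤ centralizer ({x} : Set G) := fun a ha =>
    mem_centralizer_singleton_iff.mpr (mem_centralizer_iff.mp hxP a ha)
  refine ⟨?_, Dvd.intro _ (Residual.card_eq_sylow_mul P hPH)⟩
  rw [← Residual.card_sylow_le_eq hP (hP P ▸ card_dvd_of_le hPH)]
  refine Nat.card_congr (Equiv.subtypeEquivRight fun Q => ?_)
  rw [mem_fixedBy, Sylow.smul_eq_iff_mem_normalizer]
  constructor
  · intro hQ a ha
    exact mem_centralizer_singleton_iff.mpr
      (mem_centralizer_iff.mp (mem_centralizer_of_coprime hQ (hcop Q)) a ha)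
  · intro hQ
    refine centralizer_le_normalizer' _ (mem_centralizer_iff.mpr fun a ha => ?_)
    exact mem_centralizer_singleton_iff.mp (hQ ha)

/-- `|C(y)|` divides `(i-p)! p` if `y` has order `p` and `i < 2p` is the index of a subgroup. -/
theorem centralizer_dvd_of_index {p : ℕ} [hp : Fact p.Prime] {y : G}
    (hy : orderOf y = p) {H : Subgroup G} (hH : H ≠ ⊤) (hi : H.index < 2 * p) :
    Nat.card (centralizer ({y} : Set G)) ∣ (H.index - p).factorial * p := by
  classical
  have := Fintype.ofFinite (G ⧸ H)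
  have hinj := CfsgLib.Small.toPermHom_injective (G := G) hH
  have hcard : Fintype.card (G ⧸ H) = H.index := by rw [index_eq_card, Nat.card_eq_fintype_card]
  rw [← hcard, ← Order504.card_centralizer_perm_dvd (α := G ⧸ H) (hcard ▸ hi)
    (g := MulAction.toPermHom G (G ⧸ H) y) (by rw [orderOf_injective _ hinj, hy])]
  exact Order504.card_centralizer_dvd_of_injective hinj y

/-- An element of odd prime order `p` fixing no coset of a subgroup of index below `4p` commutes
with no involution. -/
theorem not_commute_involution (hG : ¬ IsMulCommutative G) {p : ℕ} [hp : Fact p.Prime]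
    (hp2 : p ≠ 2) {y u : G} (hy : orderOf y = p) (hu : orderOf u = 2) (hcomm : y * u = u * y)
    {H : Subgroup G} (hH : ¬ p ∣ Nat.card H) (hi : H.index < 4 * p) : False := by
  classical
  have := Fintype.ofFinite (G ⧸ H)
  have hne : H ≠ ⊤ := fun e => hH (by rw [e, card_top]; exact hy ▸ _root_.orderOf_dvd_natCard y)
  have hpg : IsPGroup p (zpowers y) :=
    IsPGroup.of_card (n := 1) (by rw [Nat.card_zpowers, hy, pow_one])
  have hfree : ∀ q : G ⧸ H, y • q ≠ q := by
    intro q hq
    induction q using QuotientGroup.induction_on with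
    | H g =>
      rw [smul_mk_eq_self_iff] at hq
      refine hH ?_
      rw [← hy, show orderOf y = orderOf (g⁻¹ * y * g) by
        rw [show g⁻¹ * y * g = MulAut.conj g⁻¹ y by simp, MulEquiv.orderOf_eq]]
      exact Subgroup.orderOf_dvd_natCard H hq
  have hall : p ∣ Nat.card (G ⧸ H) := by
    have h := hpg.card_modEq_card_fixedPoints (G ⧸ H)
    have h0 : IsEmpty (fixedPoints (zpowers y) (G ⧸ H)) :=
      ⟨fun q => hfree q.1 (q.2 ⟨y, mem_zpowers y⟩)⟩
    rw [Nat.card_of_isEmpty (α := fixedPoints (zpowers y) (G ⧸ H))] at h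
    exact Nat.modEq_zero_iff_dvd.mp h
  let act : MulAction (zpowers y) {q : G ⧸ H // u • q = q} :=
    { smul := fun a q => ⟨(a : G) • q.1, by
        have hau : u * a = a * u := by
          obtain ⟨j, hj⟩ := mem_zpowers_iff.mp a.2
          rw [← hj]
          exact (Commute.zpow_right (show Commute u y from hcomm.symm) j).eq
        rw [← mul_smul, hau, mul_smul, q.2]⟩
      one_smul := fun q => Subtype.ext (one_smul G q.1)
      mul_smul := fun a b q => Subtype.ext (mul_smul (a : G) (b : G) q.1) }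
  have hfix : p ∣ Nat.card {q : G ⧸ H // u • q = q} := by
    have h := hpg.card_modEq_card_fixedPoints {q : G ⧸ H // u • q = q}
    have h0 : IsEmpty (fixedPoints (zpowers y) {q : G ⧸ H // u • q = q}) :=
      ⟨fun q => hfree q.1.1 (congrArg Subtype.val (q.2 ⟨y, mem_zpowers y⟩))⟩
    rw [Nat.card_of_isEmpty (α := fixedPoints (zpowers y) {q : G ⧸ H // u • q = q})] at h
    exact Nat.modEq_zero_iff_dvd.mp h
  set s : Equiv.Perm (G ⧸ H) := MulAction.toPerm u with hs
  have hs2 : s ^ 2 ^ (0 + 1) = 1 := by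
    rw [hs, Order720.toPerm_pow, show u ^ 2 ^ (0 + 1) = 1 by
      simpa [hu] using pow_orderOf_eq_one u]
    ext q; simp
  have hsum := Order720.support_card_add s
  rw [show Nat.card {a // s a = a} = Nat.card {q : G ⧸ H // u • q = q} from rfl] at hsum
  have h2 : 2 ∣ s.support.card := by
    have h0 := Equiv.Perm.cycleType_of_pow_prime_eq_one (p := 2) (by simpa using hs2)
    have h1 := Equiv.Perm.sum_cycleType s
    rw [h0, Multiset.sum_replicate, smul_eq_mul] at h1
    exact ⟨_, by rw [← h1, mul_comm]⟩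
  have hp' : p ∣ s.support.card := by
    rw [Nat.card_eq_fintype_card] at hall
    exact (Nat.dvd_add_left hfix).mp (hsum ▸ hall)
  obtain ⟨k, hk⟩ := Nat.Coprime.mul_dvd_of_dvd_of_dvd
    ((Nat.coprime_primes Nat.prime_two hp.out).mpr hp2.symm) h2 hp'
  have hlt : s.support.card < 4 * p := lt_of_le_of_lt (Finset.card_le_univ _)
    (by rwa [← Nat.card_eq_fintype_card, ← index_eq_card])
  have hk2 : k < 2 := by
    by_contra h
    have : 2 * p * 2 ≤ 2 * p * k := Nat.mul_le_mul_left _ (by omega)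
    omega
  interval_cases k
  · have h0 : s = 1 := Equiv.Perm.support_eq_empty_iff.mp (Finset.card_eq_zero.mp (by omega))
    have h1 : u = 1 := CfsgLib.Small.toPermHom_injective (G := G) hne (by rw [map_one]; exact h0)
    rw [h1, orderOf_one] at hu
    norm_num at hu
  · have := Order720.sign_of_semiregular s 0 p hs2 (fun q hq => by simpa using hq) (by omega)
    rw [hs, sign_toPerm hG, (hp.out.odd_of_ne_two hp2).neg_one_pow] at this
    exact absurd this (by decide)

/-- In a simple group of order `2^k m`, `m` odd, `3 ≤ k`, no involution centraliser has 2-part at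
most `4`. -/
theorem not_small_centralizer {k m : ℕ} (hk : 3 ≤ k) (hm : ¬ 2 ∣ m)
    (hc : Nat.card G = 2 ^ k * m) {u : G} (hu : orderOf u = 2)
    (h8 : ¬ 8 ∣ Nat.card (centralizer ({u} : Set G))) : False := by
  have : Fact (Nat.Prime 2) := ⟨Nat.prime_two⟩
  obtain ⟨l, rfl⟩ : ∃ l, k = l + 3 := ⟨k - 3, by omega⟩
  have hu2 : IsPGroup 2 (zpowers u) :=
    IsPGroup.of_card (n := 1) (by rw [Nat.card_zpowers, hu, pow_one])
  obtain ⟨S, hS⟩ := hu2.exists_le_sylow
  have huS : u ∈ (S : Subgroup G) := hS (mem_zpowers u)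
  have hScard : Nat.card S = 2 ^ (l + 3) := card_sylow_of_card_eq hc hm S
  have h8S : 8 ∣ 2 ^ (l + 3) := ⟨2 ^ l, by rw [pow_add]; ring⟩
  set u' : (S : Subgroup G) := ⟨u, huS⟩
  have hu' : orderOf u' = 2 := by rw [← orderOf_coe]; exact hu
  have hCle : ((centralizer ({u'} : Set (S : Subgroup G))).map (S : Subgroup G).subtype) ≤
      centralizer ({u} : Set G) := by
    rintro _ ⟨a, ha, rfl⟩
    exact mem_centralizer_singleton_iff.mpr
      (congrArg Subtype.val (mem_centralizer_singleton_iff.mp ha))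
  obtain ⟨i, -, hiC⟩ := (Nat.dvd_prime_pow Nat.prime_two).mp
    ((card_subgroup_dvd_card (centralizer ({u'} : Set (S : Subgroup G)))).trans (dvd_of_eq hScard))
  have hi2 : i ≤ 2 := by
    by_contra h
    refine h8 ((show 8 ∣ 2 ^ i from (pow_dvd_pow 2 (by omega : 3 ≤ i))).trans ?_)
    rw [← hiC, ← card_map_of_injective (S : Subgroup G).subtype_injective]
    exact card_dvd_of_le hCle
  have hcenle : center (S : Subgroup G) ≤ centralizer ({u'} : Set (S : Subgroup G)) := fun a ha =>
    mem_centralizer_singleton_iff.mpr (mem_center_iff.mp ha u').symm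
  have hC4 : Nat.card (centralizer ({u'} : Set (S : Subgroup G))) = 4 := by
    have hle : zpowers u' ≤ centralizer ({u'} : Set (S : Subgroup G)) := by
      rw [zpowers_le, mem_centralizer_singleton_iff]
    by_contra h
    have h2 : 2 ≤ 2 ^ i := by
      have := card_le_of_le hle
      rwa [Nat.card_zpowers, hu', hiC] at this
    have hi1 : i = 1 := by
      rcases Nat.lt_or_ge i 2 with h' | h'
      · interval_cases i <;> simp at h2 ⊢
      · exact absurd (by rw [hiC, show i = 2 by omega]; norm_num) h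
    have hzu : centralizer ({u'} : Set (S : Subgroup G)) = zpowers u' := by
      refine (eq_of_le_of_card_ge hle ?_).symm
      rw [hiC, hi1, pow_one, Nat.card_zpowers, hu']
    have : Nontrivial (S : Subgroup G) := Finite.one_lt_card_iff_nontrivial.mp
      (by rw [hScard]; exact Nat.one_lt_two_pow (by omega))
    have hne : center (S : Subgroup G) ≠ ⊥ := (nontrivial_iff_ne_bot _).mp S.2.center_nontrivial
    have heq : center (S : Subgroup G) = zpowers u' := by
      refine eq_of_le_of_card_ge (hzu ▸ hcenle) ?_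
      rw [Nat.card_zpowers, hu']
      exact (Subgroup.one_lt_card_iff_ne_bot _).mpr hne
    have htop : centralizer ({u'} : Set (S : Subgroup G)) = ⊤ := by
      refine eq_top_iff.mpr fun a _ => mem_centralizer_singleton_iff.mpr ?_
      exact mem_center_iff.mp (heq.symm ▸ mem_zpowers u' : u' ∈ center (S : Subgroup G)) a
    rw [htop, card_top, hScard, hi1] at hiC
    have h3 : 2 ^ 3 ≤ 2 ^ (l + 3) := Nat.pow_le_pow_right two_pos (by omega)
    omega
  obtain ⟨c, hcord⟩ : ∃ c : (S : Subgroup G), orderOf c = 2 ^ (l + 2) := by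
    rcases Cfsg.Agent.S3224.result S.2 u' hu' hC4 with ⟨n, ⟨f⟩⟩ | hq | h4
    · refine ⟨f.symm (DihedralGroup.r 1), ?_⟩
      rw [MulEquiv.orderOf_eq, DihedralGroup.orderOf_r_one]
      have := Nat.card_congr f.toEquiv
      rw [hScard, DihedralGroup.nat_card, pow_succ] at this
      omega
    · obtain ⟨n, hn, hcard, x, y, hx, -, -⟩ := hq
      have : n + 1 = l + 3 := Nat.pow_right_injective le_rfl (hcard.symm.trans hScard)
      exact ⟨x, by rw [hx, show n = l + 2 by omega]⟩
    · exfalso
      rw [hScard] at h4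
      have h3 : 2 ^ 3 ≤ 2 ^ (l + 3) := Nat.pow_le_pow_right two_pos (by omega)
      omega
  set M := zpowers c with hM
  have hMi : M.index = 2 := by
    have := M.card_mul_index
    rw [hM, Nat.card_zpowers, hcord, hScard, pow_succ 2 (l + 2)] at this
    exact Nat.eq_of_mul_eq_mul_left (by positivity) this
  have hMn : M.Normal := normal_of_index_eq_two hMi
  have hcen : ∀ a ∈ M, orderOf a = 2 → centralizer ({a} : Set (S : Subgroup G)) = ⊤ := by
    intro a ha ha2
    refine eq_top_iff.mpr fun s _ => mem_centralizer_singleton_iff.mpr ?_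
    have hb : s * a * s⁻¹ ∈ M := hMn.conj_mem a ha s
    have hb2 : orderOf (s * a * s⁻¹) = 2 := by
      rw [show s * a * s⁻¹ = MulAut.conj s a from rfl, MulEquiv.orderOf_eq, ha2]
    have hcyc : IsCyclic M := by rw [hM]; infer_instance
    have hA : zpowers (⟨s * a * s⁻¹, hb⟩ : M) = zpowers (⟨a, ha⟩ : M) :=
      CfsgLib.Small.Mid.eq_of_cyclic_card (by
        rw [Nat.card_zpowers, Nat.card_zpowers]
        exact (Subgroup.orderOf_mk _ hb).trans
          ((hb2.trans ha2.symm).trans (Subgroup.orderOf_mk _ ha).symm))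
    have hmem : (⟨s * a * s⁻¹, hb⟩ : M) ∈ zpowers (⟨a, ha⟩ : M) := hA ▸ mem_zpowers _
    obtain ⟨j, hj⟩ := mem_zpowers_iff.mp hmem
    have hj' : a ^ j = s * a * s⁻¹ := congrArg Subtype.val hj
    rw [← zpow_mod_orderOf, ha2] at hj'
    rcases Int.emod_two_eq_zero_or_one j with e | e <;>
      rw [show ((2 : ℕ) : ℤ) = 2 from rfl, e] at hj'
    · rw [zpow_zero] at hj'
      rw [← hj', orderOf_one] at hb2
      norm_num at hb2
    · rw [zpow_one] at hj'
      exact (mul_inv_eq_iff_eq_mul.mp hj'.symm)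
  set Q := M.map (S : Subgroup G).subtype
  have hQS : Q.relIndex (S : Subgroup G) = 2 := by
    rw [relIndex, show Q.subgroupOf (S : Subgroup G) = M from
      comap_map_eq_self_of_injective (S : Subgroup G).subtype_injective M]
    exact hMi
  rcases exists_or_forall_not (fun g : G => g * u * g⁻¹ ∈ Q) with ⟨g, a, ha, hag⟩ | hno
  · have ha2 : orderOf a = 2 := by
      rw [← orderOf_coe, show (a : G) = g * u * g⁻¹ from hag,
        show g * u * g⁻¹ = MulAut.conj g u from rfl, MulEquiv.orderOf_eq, hu]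
    refine h8 ?_
    rw [← Order720.centralizer_conj_card g u, ← show (a : G) = g * u * g⁻¹ from hag]
    refine ((show 8 ∣ Nat.card (S : Subgroup G) by rw [hScard]; exact h8S)).trans (card_dvd_of_le ?_)
    intro s hs
    have h1 : (⟨s, hs⟩ : (S : Subgroup G)) ∈ centralizer ({a} : Set (S : Subgroup G)) := by
      rw [hcen a ha ha2]; exact mem_top _
    have h2 : s * (a : G) = (a : G) * s :=
      congrArg Subtype.val (mem_centralizer_singleton_iff.mp h1)
    exact mem_centralizer_singleton_iff.mpr h2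
  · obtain ⟨N, hN, hN2, -⟩ := CfsgLib.Transfer.thompson_transfer S Q hQS u
      (hu ▸ pow_orderOf_eq_one u) (fun g _ => hno g)
    rcases eq_bot_or_top N with h | h
    · rw [h, index_bot, hc] at hN2
      have h3 : 2 ^ 3 ≤ 2 ^ (l + 3) * m := (Nat.pow_le_pow_right two_pos (by omega)).trans
        (Nat.le_mul_of_pos_right _ (Nat.pos_of_ne_zero fun e => hm (e ▸ dvd_zero 2)))
      omega
    · rw [h, index_top] at hN2; omega

/-- An element of an abelian Sylow subgroup centralised by its normaliser is trivial. -/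
theorem central_eq_one (hG : ¬ IsMulCommutative G) {q : ℕ} [Fact q.Prime] (T : Sylow q G)
    (hab : IsMulCommutative (T : Subgroup G)) {x : G} (hxT : x ∈ (T : Subgroup G))
    (hxN : ∀ g ∈ normalizer ((T : Subgroup G) : Set G), g * x = x * g) : x = 1 := by
  classical
  set N := normalizer ((T : Subgroup G) : Set G)
  set T' := (T : Subgroup G).subgroupOf N with hT'
  let _ : CommGroup T' :=
    { (inferInstance : Group T') with
      mul_comm := fun a b => by
        refine Subtype.ext (Subtype.ext ?_)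
        show a.1.1 * b.1.1 = b.1.1 * a.1.1
        exact congrArg Subtype.val
          (hab.is_comm.comm ⟨(a.1 : G), mem_subgroupOf.mp a.2⟩ ⟨(b.1 : G), mem_subgroupOf.mp b.2⟩) }
  have hfin : T'.FiniteIndex := Subgroup.finiteIndex_of_finite
  let f : N →* T' := MonoidHom.transfer (MonoidHom.id T')
  have hle : ⁅(T : Subgroup G), N⁆ ≤ (f.ker).map N.subtype := by
    rw [commutator_le]
    intro a ha b hb
    refine ⟨⁅(⟨a, le_normalizer ha⟩ : N), ⟨b, hb⟩⁆, ?_, rfl⟩
    rw [SetLike.mem_coe, MonoidHom.mem_ker, map_commutatorElement, commutatorElement_eq_one_iff_mul_comm]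
    exact mul_comm _ _
  obtain ⟨⟨y, hy⟩, hyk, rfl⟩ := hle (sylow_le_commutator_normalizer hG T hab hxT)
  have hcent : ∀ (k : ℕ) (g₀ : N),
      g₀⁻¹ * (⟨y, hy⟩ : N) ^ k * g₀ = (⟨y, hy⟩ : N) ^ k := by
    intro k g₀
    have h1 : Commute (⟨y, hy⟩ : N) g₀ := (Subtype.ext (hxN g₀ g₀.2)).symm
    rw [mul_assoc, (h1.pow_left k).eq, inv_mul_cancel_left]
  have hval := MonoidHom.transfer_eq_pow (MonoidHom.id T') (⟨y, hy⟩ : N) (fun k g₀ _ => hcent k g₀)
  have hker : MonoidHom.transfer (MonoidHom.id T') (⟨y, hy⟩ : N) = 1 := hyk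
  rw [hker] at hval
  have hpow : y ^ T'.index = 1 := (congrArg (fun a : T' => ((a : N) : G)) hval).symm
  have h1 : orderOf y ∣ T'.index := orderOf_dvd_of_pow_eq_one hpow
  obtain ⟨j, hj⟩ := T.2 ⟨y, hxT⟩
  have h2 : orderOf y ∣ q ^ j := orderOf_dvd_of_pow_eq_one (congrArg Subtype.val hj)
  have h3 : ¬ q ∣ T'.index := fun h => T.not_dvd_index
    (h.trans (relIndex_dvd_index_of_le (le_normalizer : (T : Subgroup G) ≤ N)))
  exact orderOf_eq_one_iff.mp (Nat.eq_one_of_dvd_coprimes
    ((((Fact.out : q.Prime).coprime_iff_not_dvd).mpr h3).pow_left j) h2 h1)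

omit [IsSimpleGroup G] in
/-- A permutation of prime order `q` moves a positive multiple of `q` points. -/
theorem perm_prime_fixed {α : Type*} [Fintype α] [DecidableEq α] {q : ℕ} [hq : Fact q.Prime]
    {s : Equiv.Perm α} (hs : s ^ q = 1) (h1 : s ≠ 1) :
    ∃ j, 0 < j ∧ j * q + Nat.card {a // s a = a} = Fintype.card α := by
  have h0 := Equiv.Perm.cycleType_of_pow_prime_eq_one (p := q) hs
  have h2 := Equiv.Perm.sum_cycleType s
  rw [h0, Multiset.sum_replicate, smul_eq_mul] at h2
  refine ⟨_, Nat.pos_of_ne_zero fun e => h1 ?_, by rw [h2]; exact Order720.support_card_add s⟩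
  rw [e, zero_mul] at h2
  exact Equiv.Perm.support_eq_empty_iff.mp (Finset.card_eq_zero.mp h2.symm)

/-- The possible `(n, e)` for a prime dividing the order exactly once. -/
theorem once_data (hG : ¬ IsMulCommutative G) {p m : ℕ} [hp : Fact p.Prime] (hp2 : p ≠ 2)
    (hc : Nat.card G = p * m) (hm : ¬ p ∣ m) (S : List (ℕ × ℕ))
    (hS : ∀ n ∈ m.divisors, ∀ e ∈ (p - 1).divisors, n % p = 1 → 1 < n → 1 < e → n * e ∣ m →
      m / (n * e) ∣ ((n - 1) / p).factorial → ((n - 1) / p = 2 → m / (n * e) = 1) → (n, e) ∈ S)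
    (Q : Sylow p G) :
    Nat.card Q = p ∧ ∃ c e : ℕ, (Nat.card (Sylow p G), e) ∈ S ∧
      (centralizer ((Q : Subgroup G) : Set G)).relIndex
        (normalizer ((Q : Subgroup G) : Set G)) = e ∧
      Nat.card (centralizer ((Q : Subgroup G) : Set G)) = p * c ∧
      Nat.card (normalizer ((Q : Subgroup G) : Set G)) = p * c * e ∧
      c * e * Nat.card (Sylow p G) = m := by
  have hQ : Nat.card Q = p := by
    simpa using card_sylow_of_card_eq (k := 1) (m := m) (by rw [hc, pow_one]) hm Q
  refine ⟨hQ, ?_⟩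
  obtain ⟨e, he1, he2, ⟨c, hcc⟩, hCe, hall⟩ := sylow_prime_order_data hG Q hQ
  have hmem := card_sylow_mem (p := p) hG (k := 1) (m := m) one_ne_zero (by rw [hc, pow_one]) hm
  rw [Finset.mem_filter] at hmem
  obtain ⟨hdm, hmod, hlt⟩ := hmem
  set n := Nat.card (Sylow p G) with hn
  have hmce : c * e * n = m := Nat.eq_of_mul_eq_mul_left hp.out.pos (by rw [← hc, ← hall, hcc]; ring)
  have hq : m / (n * e) = c := by
    rw [← hmce, show c * e * n = c * (n * e) by ring, Nat.mul_div_cancel _ (by positivity)]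
  have hn1 : n = (n - 1) / p * p + 1 := by
    have h1 := Nat.div_add_mod n p
    rw [hmod] at h1
    have h2 : n - 1 = p * (n / p) := by omega
    rw [h2, Nat.mul_div_cancel_left _ hp.out.pos, mul_comm]
    omega
  have hcd := Sieve.card_centralizer_dvd hG Q hQ (t := (n - 1) / p) hn1
  rw [hcc] at hcd
  refine ⟨c, e, hS n hdm e (Nat.mem_divisors.mpr ⟨he2, by have := hp.out.two_le; omega⟩) hmod hlt
      he1 ⟨c, by rw [← hmce]; ring⟩ ?_ ?_, ?_, hcc, by rw [← hCe, hcc], hmce⟩
  · rw [hq]; exact Nat.dvd_of_mul_dvd_mul_left hp.out.pos hcd.1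
  · intro ht
    rw [hq]
    exact Nat.eq_of_mul_eq_mul_left hp.out.pos ((hcd.2 ht hp2).trans (mul_one p).symm)
  · refine Nat.eq_of_mul_eq_mul_left (show 0 < p * c from hcc ▸ Nat.card_pos) ?_
    rw [← hcc]
    exact (card_centralizer_mul_relIndex _).trans hCe.symm

/-- For `|C(P)| = 2p` there is an involution `u` with `|C(u)| = f |N(P)|`, `f` a proper divisor of
`n_p` congruent to `1`. -/
theorem exists_involution (hG : ¬ IsMulCommutative G) {p : ℕ} [hp : Fact p.Prime] (hp2 : p ≠ 2)
    (P : Sylow p G) (hP : Nat.card P = p)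
    (hcc : Nat.card (centralizer ((P : Subgroup G) : Set G)) = p * 2) :
    ∃ (u : G) (f : ℕ), orderOf u = 2 ∧ u ∈ centralizer ((P : Subgroup G) : Set G) ∧
      normalizer ((P : Subgroup G) : Set G) ≤ centralizer ({u} : Set G) ∧
      Nat.card (centralizer ({u} : Set G)) =
        f * Nat.card (normalizer ((P : Subgroup G) : Set G)) ∧
      f % p = 1 ∧ f ∣ Nat.card (Sylow p G) ∧ f < Nat.card (Sylow p G) := by
  have : Fact (Nat.Prime 2) := ⟨Nat.prime_two⟩
  obtain ⟨u', hu'⟩ := exists_prime_orderOf_dvd_card' 2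
    (G := centralizer ((P : Subgroup G) : Set G)) (by rw [hcc]; exact dvd_mul_left 2 p)
  have hu : orderOf (u' : G) = 2 := by rw [orderOf_coe]; exact hu'
  have hN := Residual.normalizer_le_centralizer_involution P hP hp2 hcc u'.2 hu
  have h1 := Residual.card_eq_sylow_mul P ((le_normalizer).trans hN)
  rw [inf_of_le_left hN] at h1
  set f := Nat.card (Sylow p (centralizer ({(u' : G)} : Set G)))
  have hf : f ∣ Nat.card (Sylow p G) := by
    refine Nat.dvd_of_mul_dvd_mul_right
      (Nat.card_pos (α := normalizer ((P : Subgroup G) : Set G))) ?_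
    rw [h1, mul_comm, card_normalizer_mul_card_sylow]
    exact card_subgroup_dvd_card _
  refine ⟨u', f, hu, u'.2, hN, h1.symm, ?_, hf,
    (Nat.le_of_dvd Nat.card_pos hf).lt_of_ne fun e => ?_⟩
  · have := card_sylow_modEq_one p (centralizer ({(u' : G)} : Set G))
    rw [Nat.ModEq, Nat.mod_eq_of_lt hp.out.one_lt] at this
    exact this
  · refine Residual.centralizer_ne_top hG (x := (u' : G)) (fun e1 => ?_)
      ((card_eq_iff_eq_top _).mp ?_)
    · rw [e1, orderOf_one] at hu; norm_num at hu
    · rw [← h1, e, mul_comm, card_normalizer_mul_card_sylow]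

omit [IsSimpleGroup G] in
/-- In a `q`-group of order at least `q²` every element centralises a subgroup of order `q²` and
some element of order `q` is central. -/
theorem sq_dvd_centralizer {q k : ℕ} [hq : Fact q.Prime] {T : Subgroup G} (hk : 2 ≤ k)
    (hT : Nat.card T = q ^ k) {x : G} (hxT : x ∈ T) (hx : orderOf x = q) :
    q ^ 2 ∣ Nat.card (centralizer ({x} : Set G)) ∧
      ∃ z ∈ T, orderOf z = q ∧ T ≤ centralizer ({z} : Set G) := by
  have hpg : IsPGroup q T := IsPGroup.of_card hT
  have : Nontrivial T := Finite.one_lt_card_iff_nontrivial.mp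
    (by rw [hT]; exact Nat.one_lt_pow (by omega) hq.out.one_lt)
  have hne : Nontrivial (center T) := hpg.center_nontrivial
  obtain ⟨j, hj0, hj⟩ := (hpg.to_subgroup (center T)).nontrivial_iff_card.mp hne
  obtain ⟨z', hz'⟩ := exists_prime_orderOf_dvd_card' q (G := center T)
    (by rw [hj]; exact dvd_pow_self q hj0.ne')
  have hz : orderOf ((z' : T) : G) = q := by rw [orderOf_coe, orderOf_coe]; exact hz'
  have hzT : T ≤ centralizer ({((z' : T) : G)} : Set G) := fun a ha =>
    mem_centralizer_singleton_iff.mpr (congrArg Subtype.val (mem_center_iff.mp z'.2 ⟨a, ha⟩))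
  refine ⟨?_, _, (z' : T).2, hz, hzT⟩
  set z : G := ((z' : T) : G)
  have hzx : z ∈ centralizer ({x} : Set G) := mem_centralizer_singleton_iff.mpr
    (mem_centralizer_singleton_iff.mp (hzT hxT)).symm
  set D := T ⊓ centralizer ({x} : Set G)
  obtain ⟨i, -, hi⟩ := (Nat.dvd_prime_pow hq.out).mp
    ((card_dvd_of_le (inf_le_left : D ≤ T)).trans (dvd_of_eq hT))
  refine dvd_trans ?_ ((dvd_of_eq hi.symm).trans (card_dvd_of_le inf_le_right))
  refine pow_dvd_pow q ?_
  by_contra hlt
  have hle : zpowers x ≤ D := zpowers_le.mpr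
    (Subgroup.mem_inf.mpr ⟨hxT, mem_centralizer_singleton_iff.mpr rfl⟩)
  have hD : zpowers x = D := eq_of_le_of_card_ge hle (by
    rw [hi, Nat.card_zpowers, hx]
    exact (Nat.pow_le_pow_right hq.out.pos (by omega : i ≤ 1)).trans (pow_one q).le)
  have hzD : z ∈ zpowers x := hD ▸ Subgroup.mem_inf.mpr ⟨(z' : T).2, hzx⟩
  have hzz : zpowers z = zpowers x := eq_of_le_of_card_ge (zpowers_le.mpr hzD)
    (by rw [Nat.card_zpowers, Nat.card_zpowers, hx, hz])
  have hTD : T ≤ D := le_inf le_rfl fun a ha => by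
    obtain ⟨l, hl⟩ := mem_zpowers_iff.mp (hzz.symm ▸ mem_zpowers x : x ∈ zpowers z)
    rw [← hl]
    exact mem_centralizer_singleton_iff.mpr
      ((Commute.zpow_right (show Commute a z from mem_centralizer_singleton_iff.mp (hzT ha)) l).eq)
  have h2 := card_le_of_le hTD
  rw [hT, hi] at h2
  have h3 := (Nat.pow_le_pow_iff_right hq.out.one_lt).mp h2
  omega

/-- With a Sylow 2-subgroup of order 4 all involutions of a simple group are conjugate. -/
theorem involutions_conj (hG : ¬ IsMulCommutative G) {m : ℕ} (hm : ¬ 2 ∣ m)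
    (hc : Nat.card G = 2 ^ 2 * m) {u v : G} (hu : orderOf u = 2) (hv : orderOf v = 2) :
    IsConj u v := by
  have : Fact (Nat.Prime 2) := ⟨Nat.prime_two⟩
  obtain ⟨T, hT⟩ := (IsPGroup.of_card (p := 2) (n := 1) (G := zpowers u)
    (by rw [Nat.card_zpowers, hu, pow_one])).exists_le_sylow
  obtain ⟨R, hR⟩ := (IsPGroup.of_card (p := 2) (n := 1) (G := zpowers v)
    (by rw [Nat.card_zpowers, hv, pow_one])).exists_le_sylow
  obtain ⟨g, hg⟩ := exists_smul_eq G R T
  have hv' : g * v * g⁻¹ ∈ (T : Subgroup G) := by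
    rw [← hg, Sylow.coe_subgroup_smul]
    exact Subgroup.smul_mem_pointwise_smul v (MulAut.conj g) _ (hR (mem_zpowers v))
  refine IsConj.trans ?_ (isConj_iff.mpr ⟨g, rfl⟩ : IsConj v (g * v * g⁻¹)).symm
  have hv'2 : orderOf (g * v * g⁻¹) = 2 := by
    rw [show g * v * g⁻¹ = MulAut.conj g v from rfl, MulEquiv.orderOf_eq, hv]
  generalize g * v * g⁻¹ = w at hv' hv'2
  have huT : u ∈ (T : Subgroup G) := hT (mem_zpowers u)
  have hT4 : Nat.card T = 4 := card_sylow_of_card_eq hc hm T
  have hab : IsMulCommutative (T : Subgroup G) :=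
    IsPGroup.isMulCommutative_of_card_eq_prime_sq (p := 2) (by rw [hT4]; rfl)
  set N := normalizer ((T : Subgroup G) : Set G)
  have hnf : ∀ a ∈ (T : Subgroup G), orderOf a = 2 → ∃ n ∈ N, n * a * n⁻¹ ≠ a := by
    intro a ha ha2
    by_contra hno
    push Not at hno
    have := central_eq_one hG T hab ha fun n hn => mul_inv_eq_iff_eq_mul.mp (hno n hn)
    rw [this, orderOf_one] at ha2
    norm_num at ha2
  have hmem : ∀ n ∈ N, ∀ a ∈ (T : Subgroup G), n * a * n⁻¹ ∈ (T : Subgroup G) :=
    fun n hn a ha => (mem_normalizer_iff.mp hn a).mp ha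
  have hord : ∀ (n a : G), orderOf (n * a * n⁻¹) = orderOf a := fun n a => by
    rw [show n * a * n⁻¹ = MulAut.conj n a from rfl, MulEquiv.orderOf_eq]
  -- there are exactly three involutions in `T`
  have hthree : ∀ a b c d : G, a ∈ (T : Subgroup G) → b ∈ (T : Subgroup G) →
      c ∈ (T : Subgroup G) → d ∈ (T : Subgroup G) → orderOf a = 2 → orderOf b = 2 →
      orderOf c = 2 → orderOf d = 2 → a ≠ b → a ≠ c → b ≠ c → d = a ∨ d = b ∨ d = c := by
    classical
    intro a b c d ha hb hc' hd ha2 hb2 hc2 hd2 hab' hac hbc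
    by_contra hno
    push Not at hno
    have := Fintype.ofFinite (T : Subgroup G)
    have h1 : ∀ y : G, orderOf y = 2 → y ≠ 1 := fun y hy e => by
      rw [e, orderOf_one] at hy; norm_num at hy
    have hcard : ({(1 : (T : Subgroup G)), ⟨a, ha⟩, ⟨b, hb⟩, ⟨c, hc'⟩, ⟨d, hd⟩} :
        Finset (T : Subgroup G)).card = 5 := by
      repeat rw [Finset.card_insert_of_notMem (by
        simp [Subtype.ext_iff, hab', hac, hbc, hno.1.symm, hno.2.1.symm, hno.2.2.symm,
          (h1 a ha2).symm, (h1 b hb2).symm, (h1 c hc2).symm, (h1 d hd2).symm])]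
      rw [Finset.card_singleton]
    have h5 := Finset.card_le_univ
      ({(1 : (T : Subgroup G)), ⟨a, ha⟩, ⟨b, hb⟩, ⟨c, hc'⟩, ⟨d, hd⟩} : Finset (T : Subgroup G))
    rw [hcard, ← Nat.card_eq_fintype_card, hT4] at h5
    omega
  by_cases huw : u = w
  · exact huw ▸ IsConj.refl u
  obtain ⟨n, hn, hne⟩ := hnf u huT hu
  set c := n * u * n⁻¹
  have hcT := hmem n hn u huT
  have hc2 : orderOf c = 2 := (hord n u).trans hu
  have huc : IsConj u c := isConj_iff.mpr ⟨n, rfl⟩
  by_cases hcw : c = w
  · exact hcw ▸ huc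
  obtain ⟨l, hl, hlne⟩ := hnf w hv' hv'2
  have hwl : IsConj w (l * w * l⁻¹) := isConj_iff.mpr ⟨l, rfl⟩
  rcases hthree u w c (l * w * l⁻¹) huT hv' hcT (hmem l hl w hv') hu hv'2 hc2
    ((hord l w).trans hv'2) huw hne.symm (Ne.symm hcw) with h | h | h
  · exact (h ▸ hwl).symm
  · exact absurd h hlne
  · exact huc.trans (h ▸ hwl).symm

end CfsgLib.Small.Mid
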