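import Cfsg.Agent.Lib.Small.PrimeExceptional
import Cfsg.Agent.Lib.Small.AbelianFocal
import Cfsg.Agent.Lib.Small.Order504

/-!
No simple group has order 1004913: the degree equation for the prime 409 has no solution.
-/

set_option autoImplicit false

namespace CfsgLib.Small.Order1004913

open Subgroup CfsgLib.Small

variable {G : Type*} [Group G] [Finite G] [IsSimpleGroup G]

theorem prime_data [Fact (Nat.Prime 409)] (h : Nat.card G = 1004913) (P : Sylow 409 G) :
    Nat.card P = 409 ∧ Nat.card (centralizer ((P : Subgroup G) : Set G)) = 409 ∧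
      Nat.card (normalizer ((P : Subgroup G) : Set G)) = 409 * 3 := by
  have hG : ¬ IsMulCommutative G := nc_of_not_prime (by rw [h]; norm_num)
  have hP : Nat.card P = 409 := by
    simpa using card_sylow_of_card_eq (k := 1) (m := 2457) (by rw [h]; norm_num) (by norm_num) P
  have hm := card_sylow_mem (p := 409) hG (k := 1) (m := 2457) one_ne_zero
    (by rw [h]; norm_num) (by norm_num)
  rw [show ((Nat.divisors 2457).filter fun n => n % 409 = 1 ∧ 1 < n) = {819} from by decide +kernel,
    Finset.mem_singleton] at hm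
  obtain ⟨e, he1, he2, ⟨c, hc⟩, hCe, hall⟩ := sylow_prime_order_data hG P hP
  rw [hm, h, hc] at hall
  rw [hc] at hCe ⊢
  have h3 : c * e = 3 := by
    rw [mul_assoc 409 c e] at hall; omega
  rcases (Nat.dvd_prime Nat.prime_three).mp (Dvd.intro e h3 : c ∣ 3) with rfl | rfl
  · exact ⟨hP, rfl, by rw [← hCe]; omega⟩
  · omega

theorem card_ne (h : Nat.card G = 1004913) : False := by
  classical
  have : Fact (Nat.Prime 409) := ⟨by norm_num⟩
  have := Fintype.ofFinite G
  obtain ⟨P⟩ := (inferInstance : Nonempty (Sylow 409 G))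
  obtain ⟨hP, hC, hN⟩ := prime_data h P
  have hG : ¬ IsMulCommutative G := nc_of_not_prime (by rw [h]; norm_num)
  have hCK : centralizer ((P : Subgroup G) : Set G) = (P : Subgroup G) := by
    refine (eq_of_le_of_card_ge (fun x hx => mem_centralizer_iff.mpr fun y hy => ?_)
      (by rw [hC, hP])).symm
    have hcyc : IsCyclic (P : Subgroup G) := isCyclic_of_prime_card hP
    let _ := IsCyclic.commGroup (α := (P : Subgroup G))
    exact congrArg Subtype.val (mul_comm (⟨y, hy⟩ : (P : Subgroup G)) ⟨x, hx⟩)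
  have hCle : ∀ k ∈ (P : Subgroup G), k ≠ 1 → centralizer ({k} : Set G) ≤ (P : Subgroup G) :=
    fun k hk hk1 => by
      rw [← Order504.centralizer_eq_of_zpowers (eq_zpowers_of_mem hP hk hk1), hCK]
  obtain ⟨ε, a', d0, S, a, d, hε, hd0, hd01, hd0m, hS, hrel, hnorm, hsq⟩ :=
    PrimeExceptional.degree_relation (commutator_eq_top hG) hP hCle (e := 3) (t := 136) hN
      (by norm_num) (by norm_num)
  rw [h] at hd0 hsq
  push_cast at hrel hnorm hd0m
  have ha' : a' = 0 := by
    by_contra h0
    have h1 : 1 ≤ a' ^ 2 := by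
      have := mul_self_pos.mpr h0
      nlinarith
    have h2 : 0 ≤ ∑ ψ ∈ S, a ψ ^ 2 := Finset.sum_nonneg fun ψ _ => sq_nonneg _
    nlinarith [sq_nonneg (a' - ε)]
  subst ha'
  have hε2 : ε ^ 2 = 1 := by rcases hε with rfl | rfl <;> norm_num
  have hnorm' : ∑ ψ ∈ S, a ψ ^ 2 = 2 := by linear_combination hnorm - hε2
  have hS' : ∀ ψ ∈ S, a ψ = 1 ∧ d ψ = 819 := by
    intro ψ hψ
    obtain ⟨hdd, hd1, ha0, hmod⟩ := hS ψ hψ
    rw [h] at hdd
    have hle := Finset.single_le_sum (fun x _ => sq_nonneg (a x)) hψ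
    rw [hnorm'] at hle
    have hab1 : a ψ = 1 ∨ a ψ = -1 := by
      have h1 : a ψ ≤ 1 := by nlinarith
      have h2 : -1 ≤ a ψ := by nlinarith
      omega
    have hdle : d ψ ≤ 1002 := by
      have := Finset.single_le_sum (fun x _ => Nat.zero_le (d x ^ 2)) hψ
      nlinarith
    have hlist : ∀ n ∈ Finset.range 1003, n ∣ 1004913 → 1 < n →
        n % 409 ≠ 408 ∧ (n % 409 = 1 → n = 819) := by decide +kernel
    obtain ⟨hl1, hl2⟩ := hlist _ (Finset.mem_range.mpr (by omega)) hdd hd1
    rw [Int.ModEq] at hmod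
    rcases hab1 with e | e <;> rw [e] at hmod
    · exact ⟨e, hl2 (by omega)⟩
    · omega
  rw [Finset.sum_congr rfl (g := fun _ => (1 : ℤ)) (fun ψ hψ => by rw [(hS' ψ hψ).1]; norm_num),
    Finset.sum_const, nsmul_one] at hnorm'
  rw [Finset.sum_congr rfl (g := fun _ => (819 : ℤ))
    (fun ψ hψ => by rw [(hS' ψ hψ).1, (hS' ψ hψ).2]; norm_num), Finset.sum_const,
    nsmul_eq_mul, hnorm'] at hrel
  rcases hε with rfl | rfl
  · have h39 : (d0 : ℤ) = 1639 := by linear_combination -hrel
    have : d0 = 1639 := by exact_mod_cast h39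
    subst this
    norm_num at hd0
  · have : (d0 : ℤ) = -1639 := by linear_combination hrel
    omega

end CfsgLib.Small.Order1004913
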