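import Cfsg.Agent.Lib.Small.Order2520Lines

/-!
Simple groups of order 2520: a pentagon-free counting argument in the graph of the 35 lines.
-/

set_option autoImplicit false
set_option linter.unusedSectionVars false

namespace CfsgLib.Small.Order2520

open Subgroup MulAction CfsgLib.Small

variable {G : Type*} [Group G] [Finite G] [IsSimpleGroup G] [Fact (Nat.Prime 3)]

/-- Two adjacent lines with their four-groups. -/
structure Cfg (Y L V W : Subgroup G) : Prop where
  adj : Adj Y L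
  fourV : Four Y V
  fourW : Four L W

/-- A line at distance two from `Y`. -/
def leaf (Y : Subgroup G) (v w : G) : Subgroup G := cj (v * w) Y

/-- A neighbour of a leaf. -/
def qline (L : Subgroup G) (v w u : G) : Subgroup G := cj (v * w * u) L

/-- Two leaves have a common neighbour. -/
def Share (Y : Subgroup G) (v v' w w' : G) : Prop :=
  ∃ Q, Adj (leaf Y v w) Q ∧ Adj (leaf Y v' w') Q

theorem cfg_symm {Y L V W : Subgroup G} (h : Cfg Y L V W) : Cfg L Y W V :=
  ⟨h.adj.symm, h.fourW, h.fourV⟩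

theorem Share.symm {Y : Subgroup G} {v v' w w' : G} (h : Share Y v v' w w') :
    Share Y v' v w' w := by
  obtain ⟨Q, h1, h2⟩ := h
  exact ⟨Q, h2, h1⟩

variable (D : Data G) {Y L V W : Subgroup G} (h : Cfg Y L V W)
include D h

theorem Data.line_commute {y v : G} (hy : y ∈ Y) (hv : v ∈ V) : Commute v y :=
  commute_of_le_centralizer h.fourV.le hv hy

theorem Data.cj_V {v : G} (hv : v ∈ V) : cj v Y = Y := cj_self_of_centralizes (h.fourV.le hv)

theorem Data.cj_L_self {y : G} (hy : y ∈ Y) : cj y L = L :=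
  cj_self_of_centralizes (h.adj.symm.le hy)

theorem Data.inter_eq {y : G} (hy : y ∈ Y) (hyL : y ∈ L) : y = 1 := by
  by_contra h1
  exact h.adj.ne ((eq_zpowers_of_mem h.adj.left.card hy h1).trans
    (eq_zpowers_of_mem h.adj.right.card hyL h1).symm)

theorem Data.conj_W {y w : G} (hy : y ∈ Y) (hw : w ∈ W) : y * w * y⁻¹ ∈ W :=
  (mem_normalizer_iff.mp (D.four_normalized h.fourW
    (centralizer_le_normalizer' _ (h.adj.symm.le hy))) w).mp hw

theorem Data.free_W {y w : G} (hy : y ∈ Y) (hy1 : y ≠ 1) (hw : w ∈ W) (hc : Commute y w) :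
    w = 1 := by
  obtain ⟨T, hYT, hLT⟩ := D.exists_sylow_adj h.adj
  exact D.four_free h.adj.right h.fourW hLT hw (hYT hy)
    (fun hyL => hy1 (D.inter_eq h hy hyL)) hc

theorem Data.mul_self_V {v : G} (hv : v ∈ V) : v * v = 1 := by
  rw [← pow_two]; exact ((h.fourV.mem_iff v).mp hv).2

/-- A generator of `Y` permutes the involutions of `W` transitively. -/
theorem Data.cycle {y w w' : G} (hy : y ∈ Y) (hy1 : y ≠ 1) (hw : w ∈ W) (hw1 : w ≠ 1)
    (hw' : w' ∈ W) (hw'1 : w' ≠ 1) :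
    w' = w ∨ w' = y * w * y⁻¹ ∨ w' = y * (y * w * y⁻¹) * y⁻¹ := by
  classical
  by_contra hcon
  push Not at hcon
  obtain ⟨h1, h2, h3⟩ := hcon
  set a := y * w * y⁻¹ with ha
  set b := y * a * y⁻¹ with hb
  have hya : a ∈ W := D.conj_W h hy hw
  have hyb : b ∈ W := D.conj_W h hy hya
  have hne : a ≠ w := fun e => hw1 (D.free_W h hy hy1 hw (mul_inv_eq_iff_eq_mul.mp e))
  have hy3 : y * (y * y) = 1 := by
    rw [← pow_two, ← pow_succ']
    exact orderOf_dvd_iff_pow_eq_one.mp (dvd_of_eq (orderOf_eq_three h.adj.left.card hy hy1))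
  have ha1 : a ≠ 1 := fun e => hw1 (conj_eq_one_iff.mp e)
  have hb1 : b ≠ 1 := fun e => ha1 (conj_eq_one_iff.mp e)
  have hab : b ≠ a := fun e => hne (by
    rw [hb, ha] at e
    exact mul_left_cancel (mul_right_cancel e))
  have hwb : b ≠ w := fun e => hne (by
    calc a = y * w * y⁻¹ := ha
      _ = y * b * y⁻¹ := by rw [e]
      _ = y * (y * y) * w * (y * (y * y))⁻¹ := by rw [hb, ha]; group
      _ = w := by rw [hy3, one_mul, inv_one, mul_one])
  have hsub : ((({1, w, a, b, w'} : Finset G)) : Set G) ⊆ (W : Set G) := by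
    intro z hz
    simp only [Finset.coe_insert, Finset.coe_singleton, Set.mem_insert_iff,
      Set.mem_singleton_iff] at hz
    rcases hz with rfl | rfl | rfl | rfl | rfl <;> first | assumption | exact one_mem W
  have := Set.ncard_le_ncard hsub
  rw [Set.ncard_coe_finset, ← Nat.card_coe_set_eq] at this
  change _ ≤ Nat.card W at this
  rw [h.fourW.card, Finset.card_insert_of_notMem (by simp [hw1.symm, ha1.symm, hb1.symm, hw'1.symm]),
    Finset.card_insert_of_notMem (by simp [hne.symm, hwb.symm, h1.symm]),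
    Finset.card_insert_of_notMem (by simp [hab.symm, h2.symm]),
    Finset.card_insert_of_notMem (by simp [h3.symm]), Finset.card_singleton] at this
  omega

theorem Data.adj_leaf {v w : G} (hw : w ∈ W) : Adj (cj v L) (leaf Y v w) := by
  have h1 := Adj.cj D (Adj.cj D h.adj w) v
  rw [D.cj_V (cfg_symm h) hw, cj_cj] at h1
  exact h1.symm (X := leaf Y v w)

theorem Data.adj_nb {v : G} (hv : v ∈ V) : Adj Y (cj v L) := by
  have h1 := Adj.cj D h.adj v
  rwa [D.cj_V h hv] at h1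

theorem Data.leaf_ne {v w : G} (hv : v ∈ V) (hw : w ∈ W) (hw1 : w ≠ 1) : leaf Y v w ≠ Y := by
  intro e
  refine hw1 (D.neighbour_injective h.fourW h.adj.symm hw (one_mem W) ?_)
  rw [cj_one]
  refine cj_inj (g := v) ?_
  rw [cj_cj, D.cj_V h hv]
  exact e

theorem Data.leaf_not_adj {v w : G} (hv : v ∈ V) (hw : w ∈ W) : ¬ Adj Y (leaf Y v w) :=
  fun e => D.no_triangle (D.adj_nb h hv) (D.adj_leaf h hw) e

theorem Data.leaf_inj {v v' w w' : G} (hv : v ∈ V) (hv' : v' ∈ V) (hw : w ∈ W) (hw' : w' ∈ W)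
    (hw1 : w ≠ 1) (e : leaf Y v w = leaf Y v' w') : v = v' ∧ w = w' := by
  have hvv : v = v' := D.neighbour_injective h.fourV h.adj hv hv'
    (D.common_unique (D.leaf_ne h hv hw hw1).symm (D.adj_nb h hv) (D.adj_nb h hv')
      (D.adj_leaf h hw).symm (e ▸ (D.adj_leaf h hw').symm))
  refine ⟨hvv, ?_⟩
  subst hvv
  rw [leaf, leaf, ← cj_cj, ← cj_cj] at e
  exact D.neighbour_injective h.fourW h.adj.symm hw hw' (cj_inj e)

theorem Data.nb_neighbour {v : G} {M : Subgroup G} (hM : Adj (cj v L) M) :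
    ∃ w ∈ W, leaf Y v w = M := by
  have h1 := Adj.cj D hM v⁻¹
  rw [cj_cj, inv_mul_cancel, cj_one] at h1
  obtain ⟨w, hw, e⟩ := D.neighbour h.fourW h.adj.symm h1
  exact ⟨w, hw, by rw [leaf, ← cj_cj, e, cj_cj, mul_inv_cancel, cj_one]⟩

theorem Data.leaf_neighbour {v w : G} {Q : Subgroup G} (hQ : Adj (leaf Y v w) Q) :
    ∃ u ∈ V, qline L v w u = Q := by
  have h1 := Adj.cj D hQ (v * w)⁻¹
  rw [leaf, cj_cj, inv_mul_cancel, cj_one] at h1
  obtain ⟨u, hu, e⟩ := D.neighbour h.fourV h.adj h1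
  exact ⟨u, hu, by rw [qline, ← cj_cj, e, cj_cj, mul_inv_cancel, cj_one]⟩

theorem Data.adj_qline (v w : G) {u : G} (hu : u ∈ V) : Adj (leaf Y v w) (qline L v w u) := by
  have h1 := Adj.cj D (D.adj_nb h hu) (v * w)
  rwa [cj_cj] at h1

theorem Data.qline_one {v w : G} (hw : w ∈ W) : qline L v w 1 = cj v L := by
  rw [qline, mul_one, ← cj_cj, D.cj_V (cfg_symm h) hw]

theorem Data.qline_inj {v w u u' : G} (hu : u ∈ V) (hu' : u' ∈ V)
    (e : qline L v w u = qline L v w u') : u = u' := by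
  rw [qline, qline, ← cj_cj (v * w) u, ← cj_cj (v * w) u'] at e
  exact D.neighbour_injective h.fourV h.adj hu hu' (cj_inj e)

theorem Data.share_ne_nb {v v' w w' : G} {Q : Subgroup G} (hv : v ∈ V) (hv' : v' ∈ V)
    (hw : w ∈ W) (hw' : w' ∈ W) (hw1 : w ≠ 1) (hw'1 : w' ≠ 1) (hne : v ≠ v')
    (h1 : Adj (leaf Y v w) Q) (h2 : Adj (leaf Y v' w') Q) {x : G} (hx : x ∈ V) :
    Q ≠ cj x L := by
  rintro rfl
  refine hne ?_
  exact (D.neighbour_injective h.fourV h.adj hv hx (D.common_unique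
      (D.leaf_ne h hv hw hw1).symm (D.adj_nb h hv) (D.adj_nb h hx) (D.adj_leaf h hw).symm h1)).trans
    (D.neighbour_injective h.fourV h.adj hx hv' (D.common_unique
      (D.leaf_ne h hv' hw' hw'1).symm (D.adj_nb h hx) (D.adj_nb h hv') h2 (D.adj_leaf h hw').symm))

theorem Data.share_translate {v v' w w' x : G} (hs : Share Y v v' w w') :
    Share Y (x * v) (x * v') w w' := by
  obtain ⟨Q, h1, h2⟩ := hs
  refine ⟨cj x Q, ?_, ?_⟩
  · have := Adj.cj D h1 x
    rwa [leaf, cj_cj, ← mul_assoc] at this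
  · have := Adj.cj D h2 x
    rwa [leaf, cj_cj, ← mul_assoc] at this

theorem Data.share_conj_L {v v' w w' l : G} (hl : l ∈ L) (hw : w ∈ W) (hw' : w' ∈ W)
    (hs : Share Y v v' w w') : Share Y (l * v * l⁻¹) (l * v' * l⁻¹) w w' := by
  obtain ⟨Q, h1, h2⟩ := hs
  have key : ∀ {a b : G}, b ∈ W → cj l (leaf Y a b) = leaf Y (l * a * l⁻¹) b := by
    intro a b hb
    have hc : l * b = b * l := (D.line_commute (cfg_symm h) hl hb).eq.symm
    calc cj l (leaf Y a b) = cj (l * a * l⁻¹ * (l * b)) Y := by rw [leaf, cj_cj]; group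
      _ = cj (l * a * l⁻¹ * b) (cj l Y) := by rw [cj_cj, hc]; group
      _ = leaf Y (l * a * l⁻¹) b := by rw [D.cj_L_self (cfg_symm h) hl]; rfl
  exact ⟨cj l Q, key hw ▸ Adj.cj D h1 l, key hw' ▸ Adj.cj D h2 l⟩

theorem Data.cj_Y_leaf {v w y : G} (hy : y ∈ Y) (hv : v ∈ V) :
    cj y (leaf Y v w) = leaf Y v (y * w * y⁻¹) := by
  have hc : y * v = v * y := (D.line_commute h hy hv).eq.symm
  calc cj y (leaf Y v w) = cj (y * v * w) Y := by rw [leaf, cj_cj, mul_assoc]
    _ = cj (v * (y * w * y⁻¹)) (cj y Y) := by rw [hc, cj_cj]; group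
    _ = leaf Y v (y * w * y⁻¹) := by rw [cj_self_of_mem hy]; rfl

theorem Data.share_conj_Y {v v' w w' y : G} (hy : y ∈ Y) (hv : v ∈ V) (hv' : v' ∈ V)
    (hs : Share Y v v' w w') : Share Y v v' (y * w * y⁻¹) (y * w' * y⁻¹) := by
  obtain ⟨Q, h1, h2⟩ := hs
  exact ⟨cj y Q, D.cj_Y_leaf h hy hv ▸ Adj.cj D h1 y, D.cj_Y_leaf h hy hv' ▸ Adj.cj D h2 y⟩

theorem Data.share_all_d {d w w' : G} (hd : d ∈ V) (hd1 : d ≠ 1) (hw : w ∈ W) (hw' : w' ∈ W)
    (hs : Share Y 1 d w w') {e : G} (he : e ∈ V) (he1 : e ≠ 1) : Share Y 1 e w w' := by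
  obtain ⟨l, hl, hl1, -⟩ := exists_gen h.adj.right.card
  have key : ∀ {x : G}, Share Y 1 x w w' → Share Y 1 (l * x * l⁻¹) w w' := fun {x} hx => by
    have := D.share_conj_L h hl hw hw' hx
    simpa using this
  rcases D.cycle (cfg_symm h) hl hl1 hd hd1 he he1 with rfl | rfl | rfl
  · exact hs
  · exact key hs
  · exact key (key hs)

theorem Data.card_lines_le : Nat.card {X : Subgroup G // IsLine X} ≤ 35 := by
  have hidx : (normalizer (Y : Set G)).index = 35 := by
    have := card_mul_index (normalizer (Y : Set G))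
    rw [D.normalizer_line h.adj.left, D.card] at this
    omega
  rw [← hidx, index_eq_card]
  refine Nat.card_le_card_of_surjective (fun q => Quotient.liftOn' q
    (fun g : G => (⟨cj g Y, D.line_cj h.adj.left g⟩ : {X : Subgroup G // IsLine X})) ?_) ?_
  · intro a b hab
    rw [QuotientGroup.leftRel_apply] at hab
    refine Subtype.ext ?_
    change cj a Y = cj b Y
    rw [show b = a * (a⁻¹ * b) by group, ← cj_cj, cj_eq_self_iff.mpr hab]
  · rintro ⟨X, hX⟩
    obtain ⟨g, hg⟩ := D.lines_conj hX h.adj.left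
    exact ⟨QuotientGroup.mk g, Subtype.ext hg⟩

theorem Data.exists_share : ∃ v v' w w', v ∈ V ∧ v' ∈ V ∧ w ∈ W ∧ w' ∈ W ∧ w ≠ 1 ∧ w' ≠ 1 ∧
    v ≠ v' ∧ Share Y v v' w w' := by
  classical
  by_contra hcon
  push Not at hcon
  let f : V × {w : W // w ≠ 1} × {u : V // u ≠ 1} → {X : Subgroup G // IsLine X} := fun p =>
    ⟨qline L p.1 (p.2.1.1 : G) (p.2.2.1 : G), D.line_cj h.adj.right _⟩
  have hf : Function.Injective f := by
    rintro ⟨⟨v, hv⟩, ⟨⟨w, hw⟩, hw1⟩, ⟨⟨u, hu⟩, hu1⟩⟩ ⟨⟨v', hv'⟩, ⟨⟨w', hw'⟩, hw1'⟩, ⟨⟨u', hu'⟩, hu1'⟩⟩ e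
    have e' : qline L v w u = qline L v' w' u' := congrArg Subtype.val e
    have hw1 : w ≠ 1 := fun e => hw1 (Subtype.ext e)
    have hw1' : w' ≠ 1 := fun e => hw1' (Subtype.ext e)
    have hu1 : u ≠ 1 := fun e => hu1 (Subtype.ext e)
    have hvv : v = v' := by_contra fun hne => hcon v v' w w' hv hv' hw hw' hw1 hw1' hne
      ⟨qline L v w u, D.adj_qline h v w hu, e' ▸ D.adj_qline h v' w' hu'⟩
    subst hvv
    have hww : w = w' := by
      by_contra hne
      refine hu1 (D.qline_inj h (v := v) (w := w) hu (one_mem V) ?_)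
      rw [D.qline_one h hw]
      exact D.common_unique (fun e2 => hne (D.leaf_inj h hv hv hw hw' hw1 e2).2)
        (D.adj_qline h v w hu) (D.adj_leaf h hw).symm (e' ▸ D.adj_qline h v w' hu')
        (D.adj_leaf h hw').symm
    subst hww
    obtain rfl := D.qline_inj h hu hu' e'
    rfl
  have h1 := (Nat.card_le_card_of_injective f hf).trans (D.card_lines_le h)
  have hVc : Nat.card {u : V // u ≠ 1} = 3 := by
    have := Fintype.ofFinite V
    rw [Nat.card_eq_fintype_card, Fintype.card_subtype_compl, Fintype.card_subtype_eq,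
      ← Nat.card_eq_fintype_card, h.fourV.card]
  have hWc : Nat.card {w : W // w ≠ 1} = 3 := by
    have := Fintype.ofFinite W
    rw [Nat.card_eq_fintype_card, Fintype.card_subtype_compl, Fintype.card_subtype_eq,
      ← Nat.card_eq_fintype_card, h.fourW.card]
  rw [Nat.card_prod, Nat.card_prod, h.fourV.card, hVc, hWc] at h1
  omega

/-- `X` is `Y`, a neighbour of `Y` or a leaf. -/
def InW (Y L V W X : Subgroup G) : Prop :=
  X = Y ∨ (∃ v ∈ V, X = cj v L) ∨ ∃ v ∈ V, ∃ w ∈ W, w ≠ 1 ∧ X = leaf Y v w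

omit D h in
theorem inW_self (Y L V W : Subgroup G) : InW Y L V W Y := Or.inl rfl

theorem Data.false_of_closed
    (hcl : ∀ v ∈ V, ∀ w ∈ W, w ≠ 1 → ∀ u ∈ V, u ≠ 1 → InW Y L V W (qline L v w u)) : False := by
  classical
  have hadj : ∀ {X Z}, InW Y L V W X → Adj X Z → InW Y L V W Z := by
    intro X Z hX hXZ
    rcases hX with rfl | ⟨v, hv, rfl⟩ | ⟨v, hv, w, hw, hw1, rfl⟩
    · obtain ⟨v, hv, e⟩ := D.neighbour h.fourV h.adj hXZ
      exact Or.inr (Or.inl ⟨v, hv, e.symm⟩)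
    · obtain ⟨w, hw, e⟩ := D.nb_neighbour h hXZ
      rcases eq_or_ne w 1 with rfl | hw1
      · left; rw [← e, leaf, mul_one, D.cj_V h hv]
      · exact Or.inr (Or.inr ⟨v, hv, w, hw, hw1, e.symm⟩)
    · obtain ⟨u, hu, e⟩ := D.leaf_neighbour h hXZ
      rcases eq_or_ne u 1 with rfl | hu1
      · exact Or.inr (Or.inl ⟨v, hv, by rw [← e, D.qline_one h hw]⟩)
      · exact e ▸ hcl v hv w hw hw1 u hu hu1
  have hmap : ∀ g, InW Y L V W (cj g Y) → ∀ X, InW Y L V W X → InW Y L V W (cj g X) := by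
    intro g hg X hX
    rcases hX with rfl | ⟨v, hv, rfl⟩ | ⟨v, hv, w, hw, hw1, rfl⟩
    · exact hg
    · exact hadj hg (Adj.cj D (D.adj_nb h hv) g)
    · exact hadj (hadj hg (Adj.cj D (D.adj_nb h hv) g)) (Adj.cj D (D.adj_leaf h hw) g)
  let Ω := {X : Subgroup G // InW Y L V W X}
  let H : Subgroup G :=
    { carrier := {g | InW Y L V W (cj g Y)}
      one_mem' := by
        change InW Y L V W (cj 1 Y)
        rw [cj_one]; exact inW_self Y L V W
      mul_mem' := fun {a b} ha hb => by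
        change InW Y L V W (cj (a * b) Y)
        rw [← cj_cj]; exact hmap a ha _ hb
      inv_mem' := fun {a} ha => by
        let F : Ω → Ω := fun X => ⟨cj a X.1, hmap a ha X.1 X.2⟩
        have hF : Function.Injective F := fun X X' e => Subtype.ext (cj_inj (congrArg Subtype.val e))
        obtain ⟨⟨X, hX⟩, e⟩ := (Finite.injective_iff_surjective.mp hF) ⟨Y, inW_self Y L V W⟩
        change InW Y L V W (cj a⁻¹ Y)
        have e' : cj a X = Y := congrArg Subtype.val e
        conv => arg 5; rw [← e', cj_cj, inv_mul_cancel, cj_one]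
        exact hX }
  have hline : ∀ {X}, InW Y L V W X → IsLine X := by
    rintro X (rfl | ⟨v, hv, rfl⟩ | ⟨v, hv, w, hw, hw1, rfl⟩)
    · exact h.adj.left
    · exact D.line_cj h.adj.right v
    · exact D.line_cj h.adj.left _
  have hNH : normalizer (Y : Set G) ≤ H := fun g hg => by
    change InW Y L V W (cj g Y)
    rw [cj_eq_self_iff.mpr hg]; exact inW_self Y L V W
  have hcard : Nat.card Ω = (normalizer (Y : Set G)).relIndex H := by
    rw [relIndex, index_eq_card]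
    refine (Nat.card_congr (Equiv.ofBijective (fun q => Quotient.liftOn' q
      (fun g : H => (⟨cj (g : G) Y, g.2⟩ : Ω)) ?_) ⟨?_, ?_⟩)).symm
    · intro a b hab
      rw [QuotientGroup.leftRel_apply, mem_subgroupOf] at hab
      refine Subtype.ext ?_
      change cj (a : G) Y = cj (b : G) Y
      have hab' : (a : G)⁻¹ * b ∈ normalizer (Y : Set G) := by simpa using hab
      rw [show (b : G) = a * ((a : G)⁻¹ * b) by group, ← cj_cj, cj_eq_self_iff.mpr hab']
    · intro q q'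
      induction q using QuotientGroup.induction_on with
      | H a =>
        induction q' using QuotientGroup.induction_on with
        | H b =>
          intro e
          have e' : cj (a : G) Y = cj (b : G) Y := congrArg Subtype.val e
          rw [QuotientGroup.eq, mem_subgroupOf]
          refine cj_eq_self_iff.mp ?_
          push_cast
          rw [← cj_cj, ← e', cj_cj, inv_mul_cancel, cj_one]
    · rintro ⟨X, hX⟩
      obtain ⟨g, rfl⟩ := D.lines_conj (hline hX) h.adj.left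
      exact ⟨QuotientGroup.mk (⟨g, hX⟩ : H), rfl⟩
  let e : Unit ⊕ V ⊕ V × {w : W // w ≠ 1} → Ω := fun s => match s with
    | Sum.inl _ => ⟨Y, inW_self Y L V W⟩
    | Sum.inr (Sum.inl v) => ⟨cj (v : G) L, Or.inr (Or.inl ⟨v, v.2, rfl⟩)⟩
    | Sum.inr (Sum.inr p) => ⟨leaf Y p.1 p.2.1, Or.inr (Or.inr ⟨p.1, p.1.2, p.2.1, p.2.1.2,
        fun h1 => p.2.2 (Subtype.ext h1), rfl⟩)⟩
  have he : Function.Bijective e := by
    constructor
    · have hnl : ∀ {v x w : G}, v ∈ V → x ∈ V → w ∈ W → cj v L ≠ leaf Y x w :=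
        fun hv hx hw e => D.leaf_not_adj h hx hw (e ▸ D.adj_nb h hv)
      rintro (⟨⟩ | ⟨v, hv⟩ | ⟨⟨v, hv⟩, ⟨w, hw⟩, hw1⟩) (⟨⟩ | ⟨v', hv'⟩ | ⟨⟨v', hv'⟩, ⟨w', hw'⟩, hw1'⟩) e1
      all_goals replace e1 := congrArg Subtype.val e1
      · rfl
      · exact absurd e1 (D.adj_nb h hv').ne
      · exact absurd e1.symm (D.leaf_ne h hv' hw' fun h1 => hw1' (Subtype.ext h1))
      · exact absurd e1.symm (D.adj_nb h hv).ne
      · obtain rfl := D.neighbour_injective h.fourV h.adj hv hv' e1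
        rfl
      · exact absurd e1 (hnl hv hv' hw')
      · exact absurd e1 (D.leaf_ne h hv hw fun h1 => hw1 (Subtype.ext h1))
      · exact absurd e1.symm (hnl hv' hv hw)
      · obtain ⟨rfl, rfl⟩ := D.leaf_inj h hv hv' hw hw' (fun h1 => hw1 (Subtype.ext h1)) e1
        rfl
    · rintro ⟨X, rfl | ⟨v, hv, rfl⟩ | ⟨v, hv, w, hw, hw1, rfl⟩⟩
      · exact ⟨Sum.inl (), rfl⟩
      · exact ⟨Sum.inr (Sum.inl ⟨v, hv⟩), rfl⟩
      · exact ⟨Sum.inr (Sum.inr ⟨⟨v, hv⟩, ⟨w, hw⟩, fun h1 => hw1 (congrArg Subtype.val h1)⟩), rfl⟩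
  have h17 : Nat.card Ω = 17 := by
    have hWc : Nat.card {w : W // w ≠ 1} = 3 := by
      have := Fintype.ofFinite W
      rw [Nat.card_eq_fintype_card, Fintype.card_subtype_compl, Fintype.card_subtype_eq,
        ← Nat.card_eq_fintype_card, h.fourW.card]
    rw [← Nat.card_congr (Equiv.ofBijective e he), Nat.card_sum, Nat.card_sum, Nat.card_prod,
      h.fourV.card, hWc, Nat.card_unique]
  have hdvd : (normalizer (Y : Set G)).relIndex H ∣ Nat.card G :=
    (Subgroup.index_dvd_card _).trans (card_subgroup_dvd_card H)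
  rw [← hcard, h17, D.card] at hdvd
  norm_num at hdvd

/-- For a suitable involution `w` of `W` any two leaves `(1, w)`, `(d, w)` share a neighbour. -/
theorem Data.exists_good : ∃ w ∈ W, w ≠ 1 ∧ ∀ d ∈ V, d ≠ 1 → Share Y 1 d w w := by
  classical
  obtain ⟨v, v', w, w', hv, hv', hw, hw', hw1, hw'1, hne, hs⟩ := D.exists_share h
  have hd : v * v' ∈ V := mul_mem hv hv'
  have hd1 : v * v' ≠ 1 := fun e => hne (by
    rw [← mul_one v, ← D.mul_self_V h hv', ← mul_assoc, e, one_mul])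
  have hs1 : Share Y 1 (v * v') w w' := by
    have := D.share_translate h (x := v) hs
    rwa [D.mul_self_V h hv] at this
  by_contra hno
  push Not at hno
  have hdiff : ∀ {x x' a : G}, x ∈ V → x' ∈ V → a ∈ W → a ≠ 1 → x ≠ x' →
      ¬ Share Y x x' a a := by
    intro x x' a hx hx' ha ha1 hxx hsh
    obtain ⟨e, he, he1, hne'⟩ := hno a ha ha1
    refine hne' (D.share_all_d h (d := x * x') (mul_mem hx hx') (fun e' => hxx ?_) ha ha ?_ he he1)
    · rw [← mul_one x, ← D.mul_self_V h hx', ← mul_assoc, e', one_mul]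
    · have := D.share_translate h (x := x) hsh
      rwa [D.mul_self_V h hx] at this
  obtain ⟨y, hy, hy1, -⟩ := exists_gen h.adj.left.card
  have hy3 : y * (y * y) = 1 := by
    rw [← pow_two, ← pow_succ']
    exact orderOf_dvd_iff_pow_eq_one.mp (dvd_of_eq (orderOf_eq_three h.adj.left.card hy hy1))
  have hc3 : ∀ a : G, y * (y * (y * a * y⁻¹) * y⁻¹) * y⁻¹ = a := fun a => by
    rw [show y * (y * (y * a * y⁻¹) * y⁻¹) * y⁻¹ = y * (y * y) * a * (y * (y * y))⁻¹ by group,
      hy3, one_mul, inv_one, mul_one]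
  have hswap : ∀ {d a b : G}, d ∈ V → d ≠ 1 → Share Y 1 d a b → Share Y 1 d b a := by
    intro d a b hd _ hsh
    have := D.share_translate h (x := d) hsh.symm
    rwa [mul_one, D.mul_self_V h hd] at this
  -- all the pairs `((1, a), (d, y a y⁻¹))` share
  have hall : ∀ a ∈ W, a ≠ 1 → ∀ d ∈ V, d ≠ 1 → Share Y 1 d a (y * a * y⁻¹) := by
    obtain ⟨b, hb, hb1, hb'⟩ : ∃ b ∈ W, b ≠ 1 ∧ Share Y 1 (v * v') b (y * b * y⁻¹) := by
      rcases D.cycle h hy hy1 hw hw1 hw' hw'1 with e | e | e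
      · exact absurd (e ▸ hs1) (hdiff (one_mem V) hd hw hw1 (Ne.symm hd1))
      · exact ⟨w, hw, hw1, e ▸ hs1⟩
      · refine ⟨w', hw', hw'1, ?_⟩
        rw [show y * w' * y⁻¹ = w by rw [e]; exact hc3 w]
        exact hswap hd hd1 hs1
    intro a ha ha1 d hd' hd'1
    have hstep : ∀ {c : G}, Share Y 1 d c (y * c * y⁻¹) →
        Share Y 1 d (y * c * y⁻¹) (y * (y * c * y⁻¹) * y⁻¹) := fun hc =>
      D.share_conj_Y h hy (one_mem V) hd' hc
    have h0 := D.share_all_d h hd hd1 hb (D.conj_W h hy hb) hb' hd' hd'1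
    rcases D.cycle h hy hy1 hb hb1 ha ha1 with rfl | rfl | rfl
    · exact h0
    · exact hstep h0
    · exact hstep (hstep h0)
  -- so every neighbour of a leaf is a leaf
  refine D.false_of_closed h fun x hx a ha ha1 u hu hu1 => ?_
  set a2 := y * a * y⁻¹ with ha2
  set a3 := y * a2 * y⁻¹ with ha3
  have ha2W : a2 ∈ W := D.conj_W h hy ha
  have ha3W : a3 ∈ W := D.conj_W h hy ha2W
  have ha21 : a2 ≠ 1 := fun e => ha1 (conj_eq_one_iff.mp e)
  have ha31 : a3 ≠ 1 := fun e => ha21 (conj_eq_one_iff.mp e)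
  have ha23 : a2 ≠ a3 := fun e =>
    ha21 (D.free_W h hy hy1 ha2W (mul_inv_eq_iff_eq_mul.mp (ha3 ▸ e.symm)))
  have hpick : ∀ {b : G}, b ∈ W → b ≠ 1 → (∀ d ∈ V, d ≠ 1 → Share Y 1 d a b) →
      ∃ d ∈ V, d ≠ 1 ∧ Adj (leaf Y d b) (qline L 1 a u) := by
    intro b hb hb1 hbs
    let S := {d : V // d ≠ 1}
    choose Q hQ1 hQ2 using fun d : S => hbs d.1 d.1.2 (fun e => d.2 (Subtype.ext e))
    choose f hf hf' using fun d : S => D.leaf_neighbour h (hQ1 d)
    let F : S → S := fun d => ⟨⟨f d, hf d⟩, fun e => by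
      have e' : f d = 1 := congrArg Subtype.val e
      refine D.share_ne_nb h (one_mem V) d.1.2 ha hb ha1 hb1
        (fun e => d.2 (Subtype.ext e.symm)) (hQ1 d) (hQ2 d) (one_mem V) ?_
      rw [← hf' d, e', D.qline_one h ha]⟩
    have hF : Function.Injective F := by
      intro d d' e
      have e' : f d = f d' := congrArg (fun s : S => (s.1 : G)) e
      by_contra hdd
      refine hdiff d.1.2 d'.1.2 hb hb1 (fun e2 => hdd (Subtype.ext (Subtype.ext e2))) ?_
      refine ⟨Q d, hQ2 d, ?_⟩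
      rw [← hf' d, e', hf' d']
      exact hQ2 d'
    obtain ⟨d, hd⟩ := (Finite.injective_iff_surjective.mp hF)
      ⟨⟨u, hu⟩, fun e => hu1 (congrArg Subtype.val e)⟩
    refine ⟨d.1, d.1.2, fun e => d.2 (Subtype.ext e), ?_⟩
    have : f d = u := congrArg (fun s : S => (s.1 : G)) hd
    rw [← this, hf' d]
    exact hQ2 d
  obtain ⟨d, hd0, hd01, hB⟩ := hpick ha2W ha21 fun d hd hd1 => hall a ha ha1 d hd hd1
  obtain ⟨d', hd', hd'1, hC⟩ := hpick ha3W ha31 fun d hd hd1 => hswap hd hd1 (by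
    have := hall a3 ha3W ha31 d hd hd1
    rwa [show y * a3 * y⁻¹ = a from hc3 a] at this)
  set Q := qline L 1 a u with hQdef
  have hA : Adj (leaf Y 1 a) Q := D.adj_qline h 1 a hu
  have hdd : d ≠ d' := by
    rintro rfl
    refine D.share_ne_nb h (one_mem V) hd0 ha ha2W ha1 ha21 hd01.symm hA hB hd0 ?_
    exact D.common_unique (fun e => ha23 (D.leaf_inj h hd0 hd0 ha2W ha3W ha21 e).2)
      hB (D.adj_leaf h ha2W).symm hC (D.adj_leaf h ha3W).symm
  -- the element `g` rotates the three leaves at `Q`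
  obtain ⟨l, hl, hl1, -⟩ := exists_gen h.adj.right.card
  obtain ⟨l', hl', hl'd⟩ : ∃ l' ∈ L, l' * d * l'⁻¹ = d * d' := by
    have hdd1 : d * d' ≠ 1 := fun e => hdd (by
      rw [← mul_one d, ← D.mul_self_V h hd', ← mul_assoc, e, one_mul])
    rcases D.cycle (cfg_symm h) hl hl1 hd0 hd01 (mul_mem hd0 hd') hdd1 with e | e | e
    · exact ⟨1, one_mem L, by rw [e]; group⟩
    · exact ⟨l, hl, e.symm⟩
    · exact ⟨l * l, mul_mem hl hl, by rw [e]; group⟩
  set g := d * l' * y with hg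
  have hlV : ∀ {z : G}, z ∈ V → l' * z * l'⁻¹ ∈ V := fun hz => D.conj_W (cfg_symm h) hl' hz
  have hgleaf : ∀ {z b : G}, z ∈ V → b ∈ W →
      cj g (leaf Y z b) = leaf Y (d * (l' * z * l'⁻¹)) (y * b * y⁻¹) := by
    intro z b hz hb
    have hb' := D.conj_W h hy hb
    have hc : l' * (y * b * y⁻¹) = (y * b * y⁻¹) * l' :=
      (D.line_commute (cfg_symm h) hl' hb').eq.symm
    rw [hg, ← cj_cj, ← cj_cj, D.cj_Y_leaf h hy hz]
    calc cj d (cj l' (leaf Y z (y * b * y⁻¹)))
        = cj (d * (l' * z * l'⁻¹) * (l' * (y * b * y⁻¹))) Y := by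
          rw [leaf, cj_cj, cj_cj]; group
      _ = cj (d * (l' * z * l'⁻¹) * (y * b * y⁻¹)) (cj l' Y) := by rw [cj_cj, hc]; group
      _ = _ := by rw [D.cj_L_self (cfg_symm h) hl']; rfl
  have hgA : cj g (leaf Y 1 a) = leaf Y d a2 := by
    rw [hgleaf (one_mem V) ha, show d * (l' * 1 * l'⁻¹) = d by group]
  have hgB : cj g (leaf Y d a2) = leaf Y d' a3 := by
    rw [hgleaf hd0 ha2W, hl'd, ← mul_assoc, D.mul_self_V h hd0, one_mul]
  have hgQ : cj g Q = Q := by
    have h1 := Adj.cj D hA g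
    have h2 := Adj.cj D hB g
    rw [hgA] at h1
    rw [hgB] at h2
    exact D.common_unique (fun e => hdd (D.leaf_inj h hd0 hd' ha2W ha3W ha21 e).1) h1 hB h2 hC
  have hgC : cj g (leaf Y d' a3) = leaf Y 1 a := by
    have h1 := Adj.cj D hC g
    rw [hgQ, hgleaf hd' ha3W, show y * a3 * y⁻¹ = a from hc3 a] at h1
    rw [hgleaf hd' ha3W, show y * a3 * y⁻¹ = a from hc3 a]
    by_cases he : d * (l' * d' * l'⁻¹) = 1
    · rw [he]
    · exact (hdiff (mul_mem hd0 (hlV hd')) (one_mem V) ha ha1 he ⟨Q, h1, hA⟩).elim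
  have hgC' : g ∈ centralizer (Y : Set G) :=
    mul_mem (mul_mem (h.fourV.le hd0) (h.adj.le hl')) (by
      rw [mem_centralizer_iff]
      intro z hz
      rcases mem_three h.adj.left.card hy hy1 hz with rfl | rfl | rfl <;> group)
  have hg36 : g ^ 36 = 1 := by
    have := orderOf_dvd_natCard (⟨g, hgC'⟩ : centralizer (Y : Set G))
    rw [Subgroup.orderOf_mk, h.adj.left.card_centralizer] at this
    exact orderOf_dvd_iff_pow_eq_one.mp this
  set z := g ^ 4 with hz
  have hz3 : z ^ 3 = 1 := by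
    obtain ⟨j, -, hj⟩ := (Nat.dvd_prime_pow Nat.prime_three).mp
      (show orderOf z ∣ 3 ^ 2 from orderOf_dvd_of_pow_eq_one (by rw [hz, ← pow_mul]; exact hg36))
    obtain ⟨T, hT⟩ := (IsPGroup.of_card (p := 3) (n := j) (by rw [Nat.card_zpowers, hj]) :
      IsPGroup 3 (zpowers z)).exists_le_sylow
    exact D.pow_three (hT (mem_zpowers z))
  have hzA : cj z (leaf Y 1 a) = leaf Y d a2 := by
    rw [hz, show g ^ 4 = g * (g * (g * g)) by rw [← pow_two, ← pow_succ', ← pow_succ'],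
      ← cj_cj g (g * (g * g)), ← cj_cj g (g * g), ← cj_cj g g, hgA, hgB, hgC, hgA]
  have hzY : z ∉ Y := by
    intro hzY
    rw [D.cj_Y_leaf h hzY (one_mem V)] at hzA
    exact hd01 (D.leaf_inj h (one_mem V) hd0 (D.conj_W h hzY ha) ha2W
      (fun e => ha1 (conj_eq_one_iff.mp e)) hzA).1.symm
  have hz1 : z ≠ 1 := fun e => hzY (e ▸ one_mem Y)
  have hzC : z ∈ centralizer (Y : Set G) := pow_mem hgC' 4
  have hQline : IsLine Q := D.line_cj h.adj.right _
  have hzQ : z ∈ centralizer (Q : Set G) := by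
    refine mem_centralizer_of_normalizes hQline.card ?_ hz3
    rw [hz]
    exact pow_mem (cj_eq_self_iff.mp hgQ) 4
  set X := zpowers z with hX
  have hX3 : Nat.card X = 3 := by rw [Nat.card_zpowers]; exact orderOf_eq_prime hz3 hz1
  have hXY : X ≤ centralizer (Y : Set G) := zpowers_le.mpr hzC
  have hXQ : X ≤ centralizer (Q : Set G) := zpowers_le.mpr hzQ
  have hQY : ¬ Q ≤ centralizer (Y : Set G) := by
    intro hQC
    by_cases e : Q = Y
    · exact D.leaf_not_adj h (one_mem V) ha (e ▸ hA).symm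
    · obtain ⟨x', hx', e'⟩ := D.neighbour h.fourV h.adj ⟨h.adj.left, hQline, Ne.symm e, hQC⟩
      exact D.share_ne_nb h (one_mem V) hd0 ha ha2W ha1 ha21 hd01.symm hA hB hx' e'.symm
  have hp : ∀ {Z : Subgroup G}, Nat.card Z = 3 → IsPGroup 3 Z := fun hZ =>
    IsPGroup.of_card (n := 1) (by rw [hZ, pow_one])
  obtain ⟨T, hT⟩ := (IsPGroup.to_sup_of_normal_right' (hp hX3) (hp h.adj.left.card)
    (hXY.trans (centralizer_le_normalizer' _))).exists_le_sylow
  obtain ⟨R, hR⟩ := (IsPGroup.to_sup_of_normal_right' (hp hX3) (hp hQline.card)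
    (hXQ.trans (centralizer_le_normalizer' _))).exists_le_sylow
  have hTR : T ≠ R := by
    rintro rfl
    exact hQY ((le_sup_right.trans hR).trans (D.le_centralizer_of_le (le_sup_right.trans hT)))
  have hXl : IsLine X := D.isLine_of_two hX3 hTR (D.le_centralizer_of_le (le_sup_left.trans hT))
    (D.le_centralizer_of_le (le_sup_left.trans hR))
  have hXne : Y ≠ X := fun e => hzY (e ▸ mem_zpowers z)
  obtain ⟨x', hx', e'⟩ := D.neighbour h.fourV h.adj ⟨h.adj.left, hXl, hXne, hXY⟩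
  have hQX : X ≠ Q := fun e => hQY (e ▸ hXY)
  have hXQ' : Adj (cj x' L) Q := by
    rw [e']
    exact ⟨hXl, hQline, hQX, le_centralizer_iff.mp hXQ⟩
  obtain ⟨b, hb, hbe⟩ := D.nb_neighbour h hXQ'
  have hb1 : b ≠ 1 := fun e => hQY (by
    rw [← hbe, leaf, e, mul_one, D.cj_V h hx']
    intro z hz
    rw [mem_centralizer_iff]
    intro z' hz'
    rcases mem_three h.adj.left.card hy hy1 hz with rfl | rfl | rfl <;>
      rcases mem_three h.adj.left.card hy hy1 hz' with rfl | rfl | rfl <;> group)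
  refine Or.inr (Or.inr ⟨x * x', mul_mem hx hx', b, hb, hb1, ?_⟩)
  rw [leaf, mul_assoc, ← cj_cj, show cj (x' * b) Y = Q from hbe, hQdef, qline, qline, cj_cj]
  group

end CfsgLib.Small.Order2520
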