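import Cfsg.Agent.Lib.Small.Order2520

/-!
Simple groups of order 2520: the 35 subgroups of order 3 with centraliser of order 36.
-/

set_option autoImplicit false
set_option linter.unusedSectionVars false

namespace CfsgLib.Small.Order2520

open Subgroup MulAction CfsgLib.Small

variable {G : Type*} [Group G] [Finite G] [IsSimpleGroup G] [Fact (Nat.Prime 3)]

/-- A subgroup of order 3 with centraliser of order 36. -/
structure IsLine (X : Subgroup G) : Prop where
  card : Nat.card X = 3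
  card_centralizer : Nat.card (centralizer (X : Set G)) = 36

theorem orderOf_eq_three {X : Subgroup G} (hX : Nat.card X = 3) {x : G} (hx : x ∈ X) (h1 : x ≠ 1) :
    orderOf x = 3 := by
  rw [← hX, eq_zpowers_of_mem hX hx h1, Nat.card_zpowers]

theorem mem_three {X : Subgroup G} (hX : Nat.card X = 3) {x y : G} (hx : x ∈ X) (h1 : x ≠ 1)
    (hy : y ∈ X) : y = 1 ∨ y = x ∨ y = x⁻¹ := by
  classical
  have h3 := orderOf_eq_three hX hx h1
  rw [eq_zpowers_of_mem hX hx h1, mem_zpowers_iff_mem_range_orderOf, h3] at hy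
  obtain ⟨k, hk, rfl⟩ := Finset.mem_image.mp hy
  rw [Finset.mem_range] at hk
  interval_cases k
  · exact Or.inl (pow_zero x)
  · exact Or.inr (Or.inl (pow_one x))
  · refine Or.inr (Or.inr (eq_inv_of_mul_eq_one_left ?_))
    rw [← pow_succ, show 2 + 1 = orderOf x by rw [h3], pow_orderOf_eq_one]

theorem exists_gen {X : Subgroup G} (hX : Nat.card X = 3) : ∃ x ∈ X, x ≠ 1 ∧ X = zpowers x := by
  obtain ⟨x, hx, h1⟩ : ∃ x ∈ X, x ≠ 1 := by
    by_contra h
    push Not at h
    rw [Subgroup.eq_bot_iff_forall _ |>.mpr h, Subgroup.card_bot] at hX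
    omega
  exact ⟨x, hx, h1, eq_zpowers_of_mem hX hx h1⟩

theorem eq_of_le_three {X Y : Subgroup G} (hX : Nat.card X = 3) (hY : Nat.card Y = 3) (h : X ≤ Y) :
    X = Y := eq_of_le_of_card_ge h (by omega)

theorem conj_cases {X : Subgroup G} (hX : Nat.card X = 3) {g x : G}
    (hg : g ∈ normalizer (X : Set G)) (hx : x ∈ X) : g * x * g⁻¹ = x ∨ g * x * g⁻¹ = x⁻¹ := by
  rcases eq_or_ne x 1 with rfl | h1
  · left; simp
  · rcases mem_three hX hx h1 ((mem_normalizer_iff.mp hg x).mp hx) with h | h | h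
    · exact absurd (conj_eq_one_iff.mp h) h1
    · exact Or.inl h
    · exact Or.inr h

theorem conj_eq_inv {X : Subgroup G} (hX : Nat.card X = 3) {g x : G}
    (hg : g ∈ normalizer (X : Set G)) (hgc : g ∉ centralizer (X : Set G)) (hx : x ∈ X) :
    g * x * g⁻¹ = x⁻¹ := by
  rcases eq_or_ne x 1 with rfl | h1
  · simp
  refine (conj_cases hX hg hx).resolve_left fun h => hgc ?_
  rw [eq_zpowers_of_mem hX hx h1, mem_centralizer_iff]
  intro z hz
  obtain ⟨n, rfl⟩ := mem_zpowers_iff.mp hz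
  exact (Commute.zpow_left (show Commute x g from (mul_inv_eq_iff_eq_mul.mp h).symm) n).eq

theorem mem_centralizer_of_normalizes {X : Subgroup G} (hX : Nat.card X = 3) {g : G}
    (hg : g ∈ normalizer (X : Set G)) (h3 : g ^ 3 = 1) : g ∈ centralizer (X : Set G) := by
  by_contra hgc
  obtain ⟨x, hx, h1, -⟩ := exists_gen hX
  have e1 := conj_eq_inv hX hg hgc hx
  have e2 : g ^ 3 * x * (g ^ 3)⁻¹ = x⁻¹ := by
    have h2 : (g * g) * x * (g * g)⁻¹ = x := by
      calc (g * g) * x * (g * g)⁻¹ = g * (g * x * g⁻¹) * g⁻¹ := by group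
        _ = x := by rw [e1, ← conj_inv, e1, inv_inv]
    rw [pow_succ', pow_two]
    calc g * (g * g) * x * (g * (g * g))⁻¹ = g * ((g * g) * x * (g * g)⁻¹) * g⁻¹ := by group
      _ = x⁻¹ := by rw [h2, e1]
  rw [h3, one_mul, inv_one, mul_one] at e2
  have := orderOf_eq_three hX hx h1
  have h2 : orderOf x ∣ 2 := orderOf_dvd_of_pow_eq_one (by
    rw [pow_two]
    calc x * x = x * x⁻¹ := by conv_lhs => arg 2; rw [e2]
      _ = 1 := mul_inv_cancel x)
  rw [this] at h2
  omega

/-- Two distinct commuting lines. -/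
structure Adj (X Y : Subgroup G) : Prop where
  left : IsLine X
  right : IsLine Y
  ne : X ≠ Y
  le : Y ≤ centralizer (X : Set G)

theorem Adj.symm {X Y : Subgroup G} (h : Adj X Y) : Adj Y X :=
  ⟨h.right, h.left, h.ne.symm, le_centralizer_iff.mp h.le⟩

variable (D : Data G)
include D

theorem Data.nc : ¬ IsMulCommutative G := Order2520.nc D.card

theorem Data.not_commute {x t : G} (hx : orderOf x = 5 ∨ orderOf x = 7) (ht : orderOf t = 3)
    (h : Commute x t) : False := by
  have hd := dvd_centralizer_of_commute h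
  rw [ht] at hd
  rcases hx with hx | hx
  · have := hd.trans (D.five x hx)
    norm_num at this
  · rw [D.seven x hx] at hd
    norm_num at hd

theorem Data.card_dvd_of_centralizes {H : Subgroup G} {t : G} (ht : orderOf t = 3)
    (hH : ∀ g ∈ H, Commute g t) : Nat.card H ∣ 72 := by
  have hd : Nat.card H ∣ 72 * 35 := (D.card ▸ card_subgroup_dvd_card H : Nat.card H ∣ 2520)
  have hno : ∀ r : ℕ, r.Prime → r = 5 ∨ r = 7 → ¬ r ∣ Nat.card H := by
    intro r hr hr' hdr
    have : Fact r.Prime := ⟨hr⟩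
    obtain ⟨x, hx, hxr⟩ := exists_orderOf_of_dvd hdr
    exact D.not_commute (by rcases hr' with rfl | rfl <;> simp [hxr]) ht (hH x hx)
  refine Nat.Coprime.dvd_of_dvd_mul_right ?_ hd
  rw [show 35 = 5 * 7 by norm_num, Nat.coprime_mul_iff_right]
  exact ⟨((Nat.Prime.coprime_iff_not_dvd (by norm_num)).mpr (hno 5 (by norm_num) (Or.inl rfl))).symm,
    ((Nat.Prime.coprime_iff_not_dvd (by norm_num)).mpr (hno 7 (by norm_num) (Or.inr rfl))).symm⟩

theorem Data.sylow_comm (T : Sylow 3 G) :
    (T : Subgroup G) ≤ centralizer ((T : Subgroup G) : Set G) :=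
  le_centralizer_self_of_card_sq (p := 3) (by rw [D.card_sylow T]; norm_num)

theorem Data.sylow_isMulCommutative (T : Sylow 3 G) : IsMulCommutative (T : Subgroup G) :=
  ⟨⟨fun a b => Subtype.ext (commute_of_le_centralizer (D.sylow_comm T) a.2 b.2).eq⟩⟩

theorem Data.le_centralizer_of_le {X : Subgroup G} {T : Sylow 3 G} (h : X ≤ (T : Subgroup G)) :
    (T : Subgroup G) ≤ centralizer (X : Set G) :=
  (D.sylow_comm T).trans (centralizer_le h)

theorem Data.le_of_le_centralizer {X : Subgroup G} (hX : Nat.card X = 3) {T : Sylow 3 G}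
    (h : (T : Subgroup G) ≤ centralizer (X : Set G)) : X ≤ (T : Subgroup G) := by
  have hp : IsPGroup 3 X := IsPGroup.of_card (n := 1) (by rw [hX, pow_one])
  have h2 : X ≤ X ⊓ (T : Subgroup G) := by
    rw [← hp.inf_normalizer_sylow T]
    exact le_inf le_rfl ((le_centralizer_iff.mp h).trans (centralizer_le_normalizer' _))
  exact h2.trans inf_le_right

/-- The quotient `N(T)/T` is commutative. -/
theorem Data.comm_quot (T : Sylow 3 G) {g a : G}
    (hg : g ∈ normalizer ((T : Subgroup G) : Set G))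
    (ha : a ∈ normalizer ((T : Subgroup G) : Set G)) : g * a * g⁻¹ * a⁻¹ ∈ (T : Subgroup G) := by
  set N := normalizer ((T : Subgroup G) : Set G)
  have : ((T : Subgroup G).subgroupOf N).Normal := normal_in_normalizer
  have hidx : ((T : Subgroup G).subgroupOf N).index = 4 := by
    have h1 := card_mul_index ((T : Subgroup G).subgroupOf N)
    rw [Nat.card_congr (subgroupOfEquivOfLe le_normalizer).toEquiv, D.card_sylow T,
      D.card_normalizer T] at h1
    omega
  have : Fact (Nat.Prime 2) := ⟨Nat.prime_two⟩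
  have hcomm := IsPGroup.commutative_of_card_eq_prime_sq (p := 2)
    (G := N ⧸ (T : Subgroup G).subgroupOf N) (by rw [← index_eq_card, hidx]; norm_num)
  have h1 : ((⟨g, hg⟩ * ⟨a, ha⟩ * ⟨g, hg⟩⁻¹ * ⟨a, ha⟩⁻¹ : N) :
      N ⧸ (T : Subgroup G).subgroupOf N) = 1 := by
    simp only [QuotientGroup.mk_mul, QuotientGroup.mk_inv]
    rw [hcomm (QuotientGroup.mk _) (QuotientGroup.mk _), mul_inv_cancel_right, mul_inv_cancel]
  rw [QuotientGroup.eq_one_iff, mem_subgroupOf] at h1
  simpa using h1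

theorem Data.normalizer_centralizer_ne (T : Sylow 3 G) {x : G} (hx : x ∈ (T : Subgroup G))
    (h1 : x ≠ 1) : ∃ g ∈ normalizer ((T : Subgroup G) : Set G), ¬ Commute g x := by
  by_contra h
  push Not at h
  exact h1 (eq_one_of_normalizer_centralizes D.nc T (D.sylow_isMulCommutative T) hx h)

theorem Data.card_sylow_sub {C : Subgroup G} {T : Sylow 3 G} (h : (T : Subgroup G) ≤ C) :
    Nat.card ↥(normalizer ((T : Subgroup G) : Set G) ⊓ C) * Nat.card (Sylow 3 C) =
      Nat.card C := by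
  have h1 := card_normalizer_mul_card_sylow (T.subtype h)
  rw [Sylow.coe_subtype, ← subgroupOf_normalizer_eq h] at h1
  rw [← h1]
  congr 1
  rw [← inf_subgroupOf_right, Nat.card_congr (subgroupOfEquivOfLe inf_le_right).toEquiv]

/-- A subgroup of order 3 lying in two Sylow subgroups is a line. -/
theorem Data.isLine_of_two {X : Subgroup G} (hX : Nat.card X = 3) {T R : Sylow 3 G} (hTR : T ≠ R)
    (hT : (T : Subgroup G) ≤ centralizer (X : Set G))
    (hR : (R : Subgroup G) ≤ centralizer (X : Set G)) : IsLine X := by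
  classical
  refine ⟨hX, ?_⟩
  set C := centralizer (X : Set G) with hC
  obtain ⟨x, hx, hx1, hXz⟩ := exists_gen hX
  have h72 : Nat.card C ∣ 72 := D.card_dvd_of_centralizes (orderOf_eq_three hX hx hx1)
    fun g hg => (mem_centralizer_iff.mp hg x hx).symm
  have h9 : 9 ∣ Nat.card C := D.card_sylow T ▸ card_dvd_of_le hT
  have hn1 : 1 < Nat.card (Sylow 3 C) := by
    rw [Finite.one_lt_card_iff_nontrivial]
    exact ⟨⟨T.subtype hT, R.subtype hR, fun e => hTR (Sylow.subtype_injective e)⟩⟩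
  have hn3 := card_sylow_modEq_one 3 C
  have hmul := D.card_sylow_sub hT
  have h9' : 9 ∣ Nat.card ↥(normalizer ((T : Subgroup G) : Set G) ⊓ C) :=
    D.card_sylow T ▸ card_dvd_of_le (le_inf le_normalizer hT)
  obtain ⟨k, hk⟩ := h9'
  set n := Nat.card (Sylow 3 C)
  have hsplit : Nat.card C = 36 ∨ Nat.card C = 72 ∧ k = 2 := by
    rw [hk] at hmul
    have hcases : ∀ c ∈ Nat.divisors 72, 9 ∣ c → c = 9 ∨ c = 18 ∨ c = 36 ∨ c = 72 := by
      decide +kernel
    have hc := hcases _ (Nat.mem_divisors.mpr ⟨h72, by norm_num⟩) h9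
    rw [Nat.ModEq] at hn3
    have hk0 : 0 < k := Nat.pos_of_ne_zero fun e => by
      rw [e, mul_zero] at hk; exact Nat.card_pos.ne' hk
    have hkd : n * k ≤ 8 := by
      have : 9 * (n * k) = Nat.card C := by rw [← hmul]; ring
      omega
    have hn8 : n ≤ 8 := le_trans (Nat.le_mul_of_pos_right n hk0) hkd
    interval_cases n <;> omega
  refine hsplit.resolve_right fun ⟨h, hk2⟩ => ?_
  subst hk2
  -- an involution of `N(T)` centralising `X`
  have : Fact (Nat.Prime 2) := ⟨Nat.prime_two⟩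
  obtain ⟨a, haNC, ha⟩ := exists_orderOf_of_dvd
    (H := normalizer ((T : Subgroup G) : Set G) ⊓ C) (r := 2) (by rw [hk]; norm_num)
  obtain ⟨haN, haC⟩ := Subgroup.mem_inf.mp haNC
  have hXT : X ≤ (T : Subgroup G) := D.le_of_le_centralizer hX hT
  have hNX : normalizer ((T : Subgroup G) : Set G) ≤ normalizer (X : Set G) := by
    intro g hg
    by_cases hT' : ∀ t ∈ (T : Subgroup G), Commute a t
    · set CT := centralizer ((T : Subgroup G) : Set G) with hCT
      by_cases hgc : g ∈ CT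
      · exact centralizer_le_normalizer' _ (centralizer_le hXT hgc)
      have h18 : 18 ∣ Nat.card CT := by
        refine Nat.Coprime.mul_dvd_of_dvd_of_dvd (by norm_num : Nat.Coprime 2 9) ?_
          (D.card_sylow T ▸ card_dvd_of_le (D.sylow_comm T))
        rw [← ha, ← Nat.card_zpowers]
        exact card_dvd_of_le (zpowers_le.mpr (mem_centralizer_iff.mpr fun t ht =>
          ((hT' t ht).eq).symm))
      have hm := card_centralizer_mul_relIndex (T : Subgroup G)
      rw [D.card_normalizer T] at hm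
      have hne : CT.relIndex (normalizer ((T : Subgroup G) : Set G)) ≠ 1 := fun e =>
        not_normalizer_le_centralizer D.nc (by rw [D.card]; norm_num) T (relIndex_eq_one.mp e)
      have hr : CT.relIndex (normalizer ((T : Subgroup G) : Set G)) = 2 := by
        obtain ⟨j, hj⟩ := h18
        rw [← hCT, hj] at hm
        have hjk : j * CT.relIndex (normalizer ((T : Subgroup G) : Set G)) = 2 := by
          rw [mul_assoc] at hm; omega
        rcases (Nat.dvd_prime Nat.prime_two).mp (Dvd.intro_left _ hjk) with e | e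
        · exact absurd e hne
        · exact e
      have hinv : ∀ {z : G}, z ∈ (T : Subgroup G) → g * z * g⁻¹ = z⁻¹ := fun hz =>
        conj_eq_inv_of_relIndex_two D.nc T (D.sylow_isMulCommutative T) hr hg hgc hz
      refine cj_eq_self_iff.mp ?_
      rw [hXz, cj_zpowers, hinv (hXT hx), zpowers_inv]
    · set F := (T : Subgroup G) ⊓ centralizer ({a} : Set G) with hF
      have hmemF : ∀ {y : G}, y ∈ F ↔ y ∈ (T : Subgroup G) ∧ Commute y a := fun {y} => by
        rw [hF, Subgroup.mem_inf, mem_centralizer_singleton_iff]; rfl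
      have hXF : X ≤ F := fun y hy =>
        hmemF.mpr ⟨hXT hy, mem_centralizer_iff.mp haC y hy⟩
      have hF3 : F = X := by
        refine (eq_of_le_of_card_ge hXF ?_).symm
        have hd : Nat.card F ∣ 3 ^ 2 := by
          rw [show 3 ^ 2 = Nat.card (T : Subgroup G) by rw [D.card_sylow T]; norm_num]
          exact card_dvd_of_le inf_le_left
        obtain ⟨j, hj, hjF⟩ := (Nat.dvd_prime_pow Nat.prime_three).mp hd
        rw [hjF, hX]
        interval_cases j
        · norm_num
        · norm_num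
        · refine absurd (fun t ht => ?_) hT'
          have := eq_of_le_of_card_ge (inf_le_left : F ≤ T) (by rw [hjF, D.card_sylow T]; norm_num)
          exact (hmemF.mp (by rw [hF, this]; exact ht)).2.symm
      have hcm := D.comm_quot T hg haN
      refine cj_eq_self_iff.mp (cj_inj (g := g⁻¹) ?_)
      rw [cj_cj, inv_mul_cancel, cj_one]
      refine eq_of_le_three hX (by rw [card_cj, hX]) (fun y hy => ?_) |>.trans rfl
      rw [mem_cj, inv_inv]
      have hy' : g * y * g⁻¹ ∈ (T : Subgroup G) := (mem_normalizer_iff.mp hg y).mp (hXT hy)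
      rw [← hF3, hmemF]
      refine ⟨hy', ?_⟩
      have e1 : Commute (g * y * g⁻¹) (g * a * g⁻¹) :=
        (show Commute y a from mem_centralizer_iff.mp haC y hy).map (MulAut.conj g).toMonoidHom
      have e2 : Commute (g * y * g⁻¹) (g * a * g⁻¹ * a⁻¹) :=
        commute_of_le_centralizer (D.sylow_comm T) hy' hcm
      have e3 := e2.inv_right.mul_right e1
      simpa [mul_assoc] using e3
  obtain ⟨g, hg, hgx⟩ := D.normalizer_centralizer_ne T (hXT hx) hx1
  have hm := card_centralizer_mul_relIndex X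
  have hr := relIndex_centralizer_normalizer_dvd_of_prime hX
  rw [← hC, h] at hm
  rcases (Nat.dvd_prime Nat.prime_two).mp hr with e | e
  · exact hgx (mem_centralizer_iff.mp (relIndex_eq_one.mp e (hNX hg)) x hx).symm
  · rw [← hC] at e
    rw [e] at hm
    have := card_subgroup_dvd_card (normalizer (X : Set G))
    rw [← hm, D.card] at this
    norm_num at this

theorem Data.exists_line : ∃ (X : Subgroup G) (T : Sylow 3 G), IsLine X ∧ X ≤ (T : Subgroup G) := by
  obtain ⟨P, R, hne, hi⟩ := exists_pair_of_not_modEq (G := G) (p := 3) (k := 2)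
    (by rw [D.num]; decide)
  have hmul := card_mul_index ((R : Subgroup G).subgroupOf (P : Subgroup G))
  rw [← inf_subgroupOf_left, Nat.card_congr (subgroupOfEquivOfLe inf_le_left).toEquiv,
    inf_subgroupOf_left, D.card_sylow P] at hmul
  set X := (P : Subgroup G) ⊓ (R : Subgroup G)
  have hd : Nat.card X ∣ 9 := D.card_sylow P ▸ card_dvd_of_le inf_le_left
  have hne9 : Nat.card X ≠ 9 := fun e => hne (Sylow.ext (eq_of_le_of_card_ge
    ((eq_of_le_of_card_ge (inf_le_left : X ≤ P) (by rw [D.card_sylow P, e])).symm.le.trans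
      inf_le_right) (by rw [D.card_sylow, D.card_sylow])))
  have hX : Nat.card X = 3 := by
    have h9 : ∀ d ∈ Nat.divisors 9, d = 1 ∨ d = 3 ∨ d = 9 := by decide
    rcases h9 _ (Nat.mem_divisors.mpr ⟨hd, by norm_num⟩) with e | e | e
    · rw [e] at hmul; omega
    · exact e
    · exact absurd e hne9
  exact ⟨X, P, D.isLine_of_two hX hne (D.le_centralizer_of_le inf_le_left)
    (D.le_centralizer_of_le inf_le_right), inf_le_left⟩

theorem Data.line_cj {X : Subgroup G} (h : IsLine X) (g : G) : IsLine (cj g X) :=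
  ⟨(card_cj g X).trans h.card, by rw [← cj_centralizer, card_cj, h.card_centralizer]⟩

theorem Data.exists_line_le (T : Sylow 3 G) : ∃ X, IsLine X ∧ X ≤ (T : Subgroup G) := by
  obtain ⟨X, R, hX, hle⟩ := D.exists_line
  obtain ⟨g, rfl⟩ := exists_smul_eq G R T
  exact ⟨cj g X, D.line_cj hX g, cj_sylow g R ▸ cj_mono hle⟩

theorem Data.line_sylow_data {X : Subgroup G} (h : IsLine X) {T : Sylow 3 G}
    (hle : X ≤ (T : Subgroup G)) :
    Nat.card (Sylow 3 (centralizer (X : Set G))) = 4 ∧
      normalizer ((T : Subgroup G) : Set G) ⊓ centralizer (X : Set G) = T := by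
  set C := centralizer (X : Set G) with hC
  have hT := D.le_centralizer_of_le hle
  have hmul := D.card_sylow_sub hT
  obtain ⟨k, hk⟩ : 9 ∣ Nat.card ↥(normalizer ((T : Subgroup G) : Set G) ⊓ C) :=
    D.card_sylow T ▸ card_dvd_of_le (le_inf le_normalizer hT)
  rw [hk, h.card_centralizer] at hmul
  have hkn : k * Nat.card (Sylow 3 C) = 4 := by rw [mul_assoc] at hmul; rw [hC]; omega
  have hn3 := card_sylow_modEq_one 3 C
  have h4 : ∀ d ∈ Nat.divisors 4, d = 1 ∨ d = 2 ∨ d = 4 := by decide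
  rcases h4 _ (Nat.mem_divisors.mpr ⟨Dvd.intro_left _ hkn, by norm_num⟩) with e | e | e
  · exfalso
    rw [e, mul_one] at hkn
    obtain ⟨x, hx, h1, -⟩ := exists_gen h.card
    obtain ⟨g, hg, hgx⟩ := D.normalizer_centralizer_ne T (hle hx) h1
    refine hgx ?_
    have : normalizer ((T : Subgroup G) : Set G) ⊓ C = normalizer ((T : Subgroup G) : Set G) :=
      eq_of_le_of_card_ge inf_le_left (by rw [hk, hkn, D.card_normalizer T])
    exact (mem_centralizer_iff.mp (this.symm ▸ hg : g ∈ _ ⊓ C).2 x hx).symm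
  · rw [e] at hn3; simp [Nat.ModEq] at hn3
  · refine ⟨e, (eq_of_le_of_card_ge (le_inf le_normalizer hT) ?_).symm⟩
    rw [e] at hkn
    rw [hk, D.card_sylow T]
    omega

theorem Data.centralizer_sylow (T : Sylow 3 G) :
    centralizer ((T : Subgroup G) : Set G) = T := by
  obtain ⟨X, hX, hle⟩ := D.exists_line_le T
  refine le_antisymm ?_ (D.sylow_comm T)
  conv_rhs => rw [← (D.line_sylow_data hX hle).2]
  exact le_inf (centralizer_le_normalizer' _) (centralizer_le hle)

theorem Data.pow_three {T : Sylow 3 G} {t : G} (ht : t ∈ (T : Subgroup G)) : t ^ 3 = 1 := by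
  by_contra h3
  have hd := orderOf_dvd_natCard (⟨t, ht⟩ : (T : Subgroup G))
  rw [Subgroup.orderOf_mk, D.card_sylow T] at hd
  have h9 : ∀ d ∈ Nat.divisors 9, d ∣ 3 ∨ d = 9 := by decide
  have ho : orderOf t = 9 := (h9 _ (Nat.mem_divisors.mpr ⟨hd, by norm_num⟩)).resolve_left
    fun e => h3 (orderOf_dvd_iff_pow_eq_one.mp e)
  have hTz : (T : Subgroup G) = zpowers t :=
    (eq_of_le_of_card_ge (zpowers_le.mpr ht) (by rw [D.card_sylow T, Nat.card_zpowers, ho])).symm
  have : IsCyclic (T : Subgroup G) := by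
    rw [hTz]; exact Subgroup.isCyclic_zpowers t
  have hr := relIndex_centralizer_normalizer_dvd_card_mulAut (T : Subgroup G)
  rw [IsCyclic.card_mulAut, D.card_sylow T] at hr
  have hm := card_centralizer_mul_relIndex (T : Subgroup G)
  rw [D.centralizer_sylow T, D.card_sylow T, D.card_normalizer T] at hm
  rw [D.centralizer_sylow T, show
    (T : Subgroup G).relIndex (normalizer ((T : Subgroup G) : Set G)) = 4 by omega] at hr
  exact absurd hr (by decide)

theorem Data.mem_of_centralizes {T : Sylow 3 G} {g : G}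
    (h : ∀ t ∈ (T : Subgroup G), Commute g t) : g ∈ (T : Subgroup G) := by
  rw [← D.centralizer_sylow T, mem_centralizer_iff]
  exact fun t ht => (h t ht).symm.eq

/-- Some involution inverts `T`. -/
theorem Data.exists_inversion (T : Sylow 3 G) :
    ∃ i, orderOf i = 2 ∧ ∀ t ∈ (T : Subgroup G), i * t * i⁻¹ = t⁻¹ := by
  classical
  have : Fact (Nat.Prime 2) := ⟨Nat.prime_two⟩
  set N := normalizer ((T : Subgroup G) : Set G) with hN
  have hcm : ∀ {s t : G}, s ∈ (T : Subgroup G) → t ∈ (T : Subgroup G) → Commute s t :=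
    fun hs ht => commute_of_le_centralizer (D.sylow_comm T) hs ht
  have hnm : ∀ {g t : G}, g ∈ N → t ∈ (T : Subgroup G) → g * t * g⁻¹ ∈ (T : Subgroup G) :=
    fun hg ht => (mem_normalizer_iff.mp hg _).mp ht
  obtain ⟨a, haN, ha⟩ := exists_orderOf_of_dvd (H := N) (r := 2)
    (by rw [D.card_normalizer T]; norm_num)
  have ha2 : a * a = 1 := by rw [← pow_two]; exact orderOf_dvd_iff_pow_eq_one.mp (dvd_of_eq ha)
  have hainv : a⁻¹ = a := inv_eq_of_mul_eq_one_right ha2
  have haa : ∀ t : G, a * (a * t * a⁻¹) * a⁻¹ = t := fun t => by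
    rw [hainv, show a * (a * t * a) * a = (a * a) * t * (a * a) by group, ha2, one_mul, mul_one]
  by_cases hF : ∀ t ∈ (T : Subgroup G), Commute a t → t = 1
  · refine ⟨a, ha, fun t ht => ?_⟩
    have hc : Commute a (t * (a * t * a⁻¹)) := by
      refine mul_inv_eq_iff_eq_mul.mp ?_
      calc a * (t * (a * t * a⁻¹)) * a⁻¹ = (a * t * a⁻¹) * (a * (a * t * a⁻¹) * a⁻¹) := by group
        _ = (a * t * a⁻¹) * t := by rw [haa]
        _ = t * (a * t * a⁻¹) := ((hcm ht (hnm haN ht)).eq).symm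
    exact eq_inv_of_mul_eq_one_right (hF _ (mul_mem ht (hnm haN ht)) hc)
  push Not at hF
  obtain ⟨f, hfT, hfa, hf1⟩ := hF
  have haT : a ∉ (T : Subgroup G) := fun h => by
    have := orderOf_dvd_of_pow_eq_one (D.pow_three h)
    rw [ha] at this
    omega
  obtain ⟨t0, ht0, ht0a⟩ : ∃ t ∈ (T : Subgroup G), ¬ Commute a t := by
    by_contra h
    push Not at h
    exact haT (D.mem_of_centralizes h)
  set e := t0⁻¹ * (a * t0 * a⁻¹) with he
  have heT : e ∈ (T : Subgroup G) := mul_mem (inv_mem ht0) (hnm haN ht0)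
  have hea : a * e * a⁻¹ = e⁻¹ := by
    calc a * e * a⁻¹ = (a * t0 * a⁻¹)⁻¹ * (a * (a * t0 * a⁻¹) * a⁻¹) := by rw [he]; group
      _ = (a * t0 * a⁻¹)⁻¹ * t0 := by rw [haa]
      _ = e⁻¹ := by rw [he]; group
  have he1 : e ≠ 1 := fun h =>
    ht0a (mul_inv_eq_iff_eq_mul.mp (inv_mul_eq_one.mp h).symm)
  have hsq : ∀ {u : G}, u ∈ (T : Subgroup G) → u = u⁻¹ → u = 1 := fun {u} hu h => by
    have h2 : u * u = 1 := by nth_rewrite 2 [h]; exact mul_inv_cancel u
    have h3 : u ^ 3 = 1 := D.pow_three hu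
    rwa [pow_succ, pow_two, h2, one_mul] at h3
  set F := (T : Subgroup G) ⊓ centralizer ({a} : Set G) with hFdef
  have hmemF : ∀ {y : G}, y ∈ F ↔ y ∈ (T : Subgroup G) ∧ Commute y a := fun {y} => by
    rw [hFdef, Subgroup.mem_inf, mem_centralizer_singleton_iff]; rfl
  let E : Subgroup G :=
    { carrier := {u | u ∈ (T : Subgroup G) ∧ a * u * a⁻¹ = u⁻¹}
      one_mem' := ⟨one_mem _, by simp⟩
      mul_mem' := fun {u v} hu hv => ⟨mul_mem hu.1 hv.1, by
        rw [mul_inv_rev, ← conj_mul, hu.2, hv.2, (hcm (inv_mem hu.1) (inv_mem hv.1)).eq]⟩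
      inv_mem' := fun {u} hu => ⟨inv_mem hu.1, by rw [← conj_inv, hu.2]⟩ }
  have hmemE : ∀ {y : G}, y ∈ E ↔ y ∈ (T : Subgroup G) ∧ a * y * a⁻¹ = y⁻¹ := Iff.rfl
  have hFE : ∀ u ∈ F, u ∈ E → u = 1 := fun u h1 h2 => by
    refine hsq (hmemF.mp h1).1 ?_
    rw [← (hmemE.mp h2).2]
    exact (mul_inv_eq_iff_eq_mul.mpr (hmemF.mp h1).2.symm).symm
  have hthree : ∀ A : Subgroup G, A ≤ (T : Subgroup G) → (∃ u ∈ A, u ≠ 1) →
      (∃ u ∈ (T : Subgroup G), u ∉ A) → Nat.card A = 3 := by
    rintro A hAT ⟨u, huA, hu1⟩ ⟨v, hvT, hvA⟩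
    have hd : Nat.card A ∣ 9 := D.card_sylow T ▸ card_dvd_of_le hAT
    have h9 : ∀ d ∈ Nat.divisors 9, d = 1 ∨ d = 3 ∨ d = 9 := by decide
    rcases h9 _ (Nat.mem_divisors.mpr ⟨hd, by norm_num⟩) with h | h | h
    · rw [eq_bot_of_card_eq A h] at huA
      exact absurd (Subgroup.mem_bot.mp huA) hu1
    · exact h
    · refine absurd ?_ hvA
      rw [eq_of_le_of_card_ge hAT (by rw [h, D.card_sylow T])]
      exact hvT
  have hfF : f ∈ F := hmemF.mpr ⟨hfT, hfa.symm⟩
  have heE : e ∈ E := hmemE.mpr ⟨heT, hea⟩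
  have hF3 : Nat.card F = 3 :=
    hthree F inf_le_left ⟨f, hfF, hf1⟩ ⟨e, heT, fun h => he1 (hFE e h heE)⟩
  have hE3 : Nat.card E = 3 :=
    hthree E (fun u hu => (hmemE.mp hu).1) ⟨e, heE, he1⟩ ⟨f, hfT, fun h => hf1 (hFE f hfF h)⟩
  have hmoda : ∀ {g y : G}, g ∈ N → y ∈ (T : Subgroup G) →
      g * (a * y * a⁻¹) * g⁻¹ = a * (g * y * g⁻¹) * a⁻¹ := by
    intro g y hg hy
    have hc := D.comm_quot T hg haN
    set c := g * a * g⁻¹ * a⁻¹ with hc'
    have h1 : g * (a * y * a⁻¹) * g⁻¹ = c * (a * (g * y * g⁻¹) * a⁻¹) * c⁻¹ := by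
      rw [hc']; group
    rw [h1]
    exact mul_inv_eq_iff_eq_mul.mpr (hcm hc (hnm haN (hnm hg hy))).eq
  have hnormF : ∀ g ∈ N, g ∈ normalizer (F : Set G) := by
    intro g hg
    refine cj_eq_self_iff.mp (eq_of_le_three (by rw [card_cj, hF3]) hF3 fun y hy => ?_)
    rw [mem_cj, hmemF] at hy
    obtain ⟨hyT, hya⟩ := hy
    have e' : y = g * (g⁻¹ * y * g) * g⁻¹ := by group
    rw [e', hmemF]
    refine ⟨hnm hg hyT, (mul_inv_eq_iff_eq_mul.mp ?_).symm⟩
    rw [← hmoda hg hyT, mul_inv_eq_iff_eq_mul.mpr hya.symm]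
  have hnormE : ∀ g ∈ N, g ∈ normalizer (E : Set G) := by
    intro g hg
    refine cj_eq_self_iff.mp (eq_of_le_three (by rw [card_cj, hE3]) hE3 fun y hy => ?_)
    rw [mem_cj, hmemE] at hy
    obtain ⟨hyT, hya⟩ := hy
    have e' : y = g * (g⁻¹ * y * g) * g⁻¹ := by group
    rw [e', hmemE]
    refine ⟨hnm hg hyT, ?_⟩
    rw [← hmoda hg hyT, hya]
    group
  obtain ⟨g, hgN, hgF, hgE⟩ : ∃ g ∈ N, g ∉ centralizer (F : Set G) ∧
      g ∉ centralizer (E : Set G) := by
    obtain ⟨g, hgN, hg⟩ := D.normalizer_centralizer_ne T hfT hf1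
    obtain ⟨h', hhN, hh⟩ := D.normalizer_centralizer_ne T heT he1
    have hgF : g ∉ centralizer (F : Set G) := fun h => hg (mem_centralizer_iff.mp h f hfF).symm
    have hhE : h' ∉ centralizer (E : Set G) := fun h => hh (mem_centralizer_iff.mp h e heE).symm
    by_cases hgE : g ∈ centralizer (E : Set G)
    · by_cases hhF : h' ∈ centralizer (F : Set G)
      · exact ⟨g * h', mul_mem hgN hhN, fun h => hgF ((mul_mem_cancel_right hhF).mp h),
          fun h => hhE ((mul_mem_cancel_left hgE).mp h)⟩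
      · exact ⟨h', hhN, hhF, hhE⟩
    · exact ⟨g, hgN, hgF, hgE⟩
  have hinvg : ∀ t ∈ (T : Subgroup G), g * t * g⁻¹ = t⁻¹ := by
    intro t ht
    let φ : F × E → (T : Subgroup G) := fun p =>
      ⟨(p.1 : G) * p.2, mul_mem (hmemF.mp p.1.2).1 (hmemE.mp p.2.2).1⟩
    have hφ : Function.Injective φ := fun p q hpq =>
      mul_injective_of_disjoint (Subgroup.disjoint_def.mpr (fun {u} h1 h2 => hFE u h1 h2))
        (congrArg Subtype.val hpq)
    obtain ⟨⟨u, v⟩, huv⟩ := ((Nat.bijective_iff_injective_and_card φ).mpr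
      ⟨hφ, by rw [Nat.card_prod, hF3, hE3, D.card_sylow T]⟩).2 ⟨t, ht⟩
    rw [show t = (u : G) * v from (congrArg Subtype.val huv).symm, mul_inv_rev,
      ← conj_mul, conj_eq_inv hF3 (hnormF g hgN) hgF u.2,
      conj_eq_inv hE3 (hnormE g hgN) hgE v.2]
    exact (hcm (inv_mem (hmemF.mp u.2).1) (inv_mem (hmemE.mp v.2).1)).eq
  have hgg : g * g ∈ (T : Subgroup G) := D.mem_of_centralizes fun t ht => by
    refine mul_inv_eq_iff_eq_mul.mp ?_
    calc g * g * t * (g * g)⁻¹ = g * (g * t * g⁻¹) * g⁻¹ := by group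
      _ = t := by rw [hinvg t ht, ← conj_inv, hinvg t ht, inv_inv]
  refine ⟨g * (g * g) ^ 4, ?_, fun t ht => ?_⟩
  · refine orderOf_eq_prime ?_ fun h1 => ?_
    · rw [show g * (g * g) ^ 4 = g ^ 9 by rw [← pow_two, ← pow_mul, ← pow_succ'], ← pow_mul,
        show 9 * 2 = 2 * 9 by norm_num, pow_mul, pow_two,
        show 9 = 3 * 3 by norm_num, pow_mul, D.pow_three hgg, one_pow]
    · have hgT : g ∈ (T : Subgroup G) := by
        rw [eq_inv_of_mul_eq_one_left h1]; exact inv_mem (pow_mem hgg _)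
      exact hgF (centralizer_le (inf_le_left : F ≤ T) (D.sylow_comm T hgT))
  · have hc : (g * g) ^ 4 * t * ((g * g) ^ 4)⁻¹ = t :=
      mul_inv_eq_iff_eq_mul.mpr (hcm (pow_mem hgg 4) ht).eq
    calc g * (g * g) ^ 4 * t * (g * (g * g) ^ 4)⁻¹
        = g * ((g * g) ^ 4 * t * ((g * g) ^ 4)⁻¹) * g⁻¹ := by group
      _ = t⁻¹ := by rw [hc, hinvg t ht]

theorem Data.normalizer_line {X : Subgroup G} (h : IsLine X) :
    Nat.card (normalizer (X : Set G)) = 72 := by
  obtain ⟨T, hT⟩ := (IsPGroup.of_card (p := 3) (n := 1) (by rw [h.card, pow_one]) :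
    IsPGroup 3 X).exists_le_sylow
  obtain ⟨i, -, hinv⟩ := D.exists_inversion T
  obtain ⟨x, hx, h1, hXz⟩ := exists_gen h.card
  have hiN : i ∈ normalizer (X : Set G) :=
    cj_eq_self_iff.mp (by rw [hXz, cj_zpowers, hinv x (hT hx), zpowers_inv])
  have hm := card_centralizer_mul_relIndex X
  rw [h.card_centralizer] at hm
  rcases (Nat.dvd_prime Nat.prime_two).mp (relIndex_centralizer_normalizer_dvd_of_prime h.card)
    with e | e
  · exfalso
    have hc := mem_centralizer_iff.mp (relIndex_eq_one.mp e hiN) x hx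
    have h2 : x⁻¹ = x := by rw [← hinv x (hT hx)]; exact mul_inv_eq_iff_eq_mul.mpr hc.symm
    have h3 := orderOf_eq_three h.card hx h1
    have hd : orderOf x ∣ 2 := orderOf_dvd_of_pow_eq_one (by
      rw [pow_two]; nth_rewrite 2 [← h2]; exact mul_inv_cancel x)
    rw [h3] at hd
    omega
  · rw [e] at hm; omega

theorem Data.card_inf_normalizer_line {X : Subgroup G} (h : IsLine X) {T : Sylow 3 G}
    (hle : X ≤ (T : Subgroup G)) :
    Nat.card ↥(normalizer ((T : Subgroup G) : Set G) ⊓ normalizer (X : Set G)) ≤ 18 := by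
  classical
  obtain ⟨i, -, hinv⟩ := D.exists_inversion T
  set M := normalizer ((T : Subgroup G) : Set G) ⊓ normalizer (X : Set G)
  set C := centralizer (X : Set G) with hC
  have hiT : i ∈ normalizer ((T : Subgroup G) : Set G) := by
    refine cj_eq_self_iff.mp (eq_of_le_of_card_ge (fun y hy => ?_) (by rw [card_cj]))
    rw [mem_cj] at hy
    have := (T : Subgroup G).inv_mem hy
    rw [← hinv _ hy] at this
    simpa [mul_assoc] using this
  obtain ⟨x, hx, h1, hXz⟩ := exists_gen h.card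
  have hiX : i ∈ normalizer (X : Set G) :=
    cj_eq_self_iff.mp (by rw [hXz, cj_zpowers, hinv x (hle hx), zpowers_inv])
  have hbody : ∀ g : M, (g : G) ∉ C → i * g ∈ C := fun g hg => by
    rw [hC, hXz, mem_centralizer_iff]
    intro z hz
    obtain ⟨n, rfl⟩ := mem_zpowers_iff.mp hz
    refine (Commute.zpow_left (show Commute x (i * (g : G)) from ?_) n).eq
    refine (mul_inv_eq_iff_eq_mul.mp ?_).symm
    calc i * g * x * (i * (g : G))⁻¹ = i * (g * x * (g : G)⁻¹) * i⁻¹ := by group
      _ = x := by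
        rw [conj_eq_inv h.card (Subgroup.mem_inf.mp g.2).2 hg hx, ← conj_inv, hinv x (hle hx),
          inv_inv]
  have hT' : ∀ g : G, g ∈ normalizer ((T : Subgroup G) : Set G) → g ∈ C →
      g ∈ (T : Subgroup G) := fun g h1 h2 => (D.line_sylow_data h hle).2 ▸ ⟨h1, h2⟩
  let ψ : M → Bool × (T : Subgroup G) := fun g =>
    if hg : (g : G) ∈ C then (false, ⟨g, hT' _ (Subgroup.mem_inf.mp g.2).1 hg⟩)
    else (true, ⟨i * g, hT' _ (mul_mem hiT (Subgroup.mem_inf.mp g.2).1) (hbody g hg)⟩)
  have hψ : Function.Injective ψ := by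
    intro a b hab
    simp only [ψ] at hab
    split_ifs at hab <;> simp_all
  have := Nat.card_le_card_of_injective ψ hψ
  rw [Nat.card_prod, D.card_sylow T] at this
  simpa using this

/-- `V` is the Sylow 2-subgroup of the centraliser of the line `Y`. -/
structure Four (Y V : Subgroup G) : Prop where
  card : Nat.card V = 4
  le : V ≤ centralizer (Y : Set G)
  mem_iff : ∀ v, v ∈ V ↔ v ∈ centralizer (Y : Set G) ∧ v ^ 2 = 1
  comm : V ≤ centralizer (V : Set G)

theorem Data.exists_four {Y : Subgroup G} (h : IsLine Y) : ∃ V, Four Y V := by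
  classical
  have : Fact (Nat.Prime 2) := ⟨Nat.prime_two⟩
  set C := centralizer (Y : Set G) with hC
  have hS : ∀ S : Sylow 2 C, Nat.card (S : Subgroup C) = 2 ^ 2 := fun S =>
    card_sylow_of_card_eq (k := 2) (m := 9) (by rw [hC, h.card_centralizer]; norm_num) (by norm_num) S
  obtain ⟨T, hT⟩ := (IsPGroup.of_card (p := 3) (n := 1) (by rw [h.card, pow_one]) :
    IsPGroup 3 Y).exists_le_sylow
  have hYC : Y ≤ C := fun y hy => by
    rw [hC]; exact centralizer_le hT (D.sylow_comm T (hT hy))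
  obtain ⟨y, hy, hy1, hYz⟩ := exists_gen h.card
  have hy3 := orderOf_eq_three h.card hy hy1
  have hn2 : Nat.card (Sylow 2 C) = 1 := by
    obtain ⟨S⟩ := (inferInstance : Nonempty (Sylow 2 C))
    have h12 : 12 ∣ Nat.card (centralizer ((S : Subgroup C) : Set C)) := by
      refine Nat.Coprime.mul_dvd_of_dvd_of_dvd (by norm_num : Nat.Coprime 4 3)
        ((dvd_of_eq (hS S).symm).trans (card_dvd_of_le (le_centralizer_self_of_card_sq (hS S)))) ?_
      rw [← hy3, ← Subgroup.orderOf_mk (H := C) y (hYC hy), ← Nat.card_zpowers]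
      refine card_dvd_of_le (zpowers_le.mpr (mem_centralizer_iff.mpr fun s _ => Subtype.ext ?_))
      exact (mem_centralizer_iff.mp s.2 y hy).symm
    have hmul := card_normalizer_mul_card_sylow S
    rw [show Nat.card C = 36 by rw [hC, h.card_centralizer]] at hmul
    have hle := centralizer_le_normalizer' (S : Subgroup C)
    obtain ⟨j, hj⟩ := h12.trans (card_dvd_of_le hle)
    rw [hj, mul_assoc] at hmul
    have hjn : j * Nat.card (Sylow 2 C) = 3 := by omega
    rcases (Nat.dvd_prime Nat.prime_three).mp (Dvd.intro_left _ hjn) with e | e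
    · exact e
    exfalso
    rw [e] at hjn
    have hNC : normalizer ((S : Subgroup C) : Set C) ≤ centralizer ((S : Subgroup C) : Set C) := by
      refine (eq_of_le_of_card_ge hle ?_).ge
      rw [hj, show j = 1 by omega]
      exact Nat.le_of_dvd Nat.card_pos h12
    have hcompl := MonoidHom.ker_transferSylow_isComplement' S hNC
    set K := (MonoidHom.transferSylow S hNC).ker
    have hK : Nat.card K = 9 := by
      have := hcompl.card_mul
      rw [hS S, show Nat.card C = 36 by rw [hC, h.card_centralizer]] at this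
      omega
    have h4 := (D.line_sylow_data h hT).1
    rw [← hC] at h4
    obtain ⟨R, hR⟩ := (IsPGroup.of_card (p := 3) (n := 2) (by rw [hK]; norm_num) :
      IsPGroup 3 K).exists_le_sylow
    have hR' : Nat.card (R : Subgroup C) = 9 := by
      simpa using card_sylow_of_card_eq (k := 2) (m := 4)
        (by rw [hC, h.card_centralizer]; norm_num) (by norm_num) R
    have hn : (R : Subgroup C).Normal :=
      eq_of_le_of_card_ge hR (by rw [hK, hR']) ▸ inferInstanceAs K.Normal
    have := Sylow.unique_of_normal R hn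
    rw [Nat.card_unique] at h4
    omega
  obtain ⟨S⟩ := (inferInstance : Nonempty (Sylow 2 C))
  have huniq : ∀ R : Sylow 2 C, R = S := fun R => (Nat.card_eq_one_iff_unique.mp hn2).1.elim R S
  have hin : ∀ v : C, (v : G) ^ 2 = 1 → v ∈ (S : Subgroup C) := by
    intro v hv
    have hpg : IsPGroup 2 (zpowers v) := by
      obtain ⟨j, -, hj⟩ := (Nat.dvd_prime_pow Nat.prime_two).mp
        (show orderOf v ∣ 2 ^ 1 from orderOf_dvd_of_pow_eq_one (Subtype.ext (by simpa using hv)))
      exact IsPGroup.of_card (n := j) (by rw [Nat.card_zpowers, hj])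
    obtain ⟨R, hR⟩ := hpg.exists_le_sylow
    exact huniq R ▸ hR (mem_zpowers v)
  have hT' : (T : Subgroup G) ≤ C := hC ▸ D.le_centralizer_of_le hT
  obtain ⟨t, ht, htY⟩ : ∃ t ∈ (T : Subgroup G), t ∉ Y := by
    by_contra hcon
    push Not at hcon
    have := Nat.card_mono (Y : Set G).toFinite hcon
    have h9 := D.card_sylow T
    have h3 := h.card
    simp only [Nat.card_coe_set_eq] at this
    rw [← Nat.card_coe_set_eq, ← Nat.card_coe_set_eq] at this
    change Nat.card (T : Subgroup G) ≤ Nat.card Y at this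
    omega
  have hfree : ∀ v ∈ (S : Subgroup C), Commute t (v : G) → v = 1 := by
    intro v hv htv
    have hTz : (T : Subgroup G) ≤ centralizer ({(v : G)} : Set G) := by
      have hd : Nat.card ↥((T : Subgroup G) ⊓ centralizer ({(v : G)} : Set G)) ∣ 9 :=
        D.card_sylow T ▸ card_dvd_of_le inf_le_left
      have hlt : Nat.card Y < Nat.card ↥((T : Subgroup G) ⊓ centralizer ({(v : G)} : Set G)) := by
        have hle : Y ≤ (T : Subgroup G) ⊓ centralizer ({(v : G)} : Set G) := fun z hz =>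
          Subgroup.mem_inf.mpr
            ⟨hT hz, mem_centralizer_singleton_iff.mpr (mem_centralizer_iff.mp v.2 z hz)⟩
        refine lt_of_le_of_ne (card_le_of_le hle) fun e => htY ?_
        rw [eq_of_le_of_card_ge hle e.ge]
        exact Subgroup.mem_inf.mpr ⟨ht, mem_centralizer_singleton_iff.mpr htv.eq⟩
      rw [h.card] at hlt
      have h9 : ∀ d ∈ Nat.divisors 9, 3 < d → d = 9 := by decide
      have e := h9 _ (Nat.mem_divisors.mpr ⟨hd, by norm_num⟩) hlt
      exact (eq_of_le_of_card_ge (inf_le_left : (T : Subgroup G) ⊓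
        centralizer ({(v : G)} : Set G) ≤ _) (by rw [e, D.card_sylow T])).ge.trans inf_le_right
    have hvT := D.mem_of_centralizes (T := T) (g := (v : G)) fun s hs =>
      (mem_centralizer_singleton_iff.mp (hTz hs)).symm
    have h1 : orderOf v ∣ 3 := by
      rw [← Subgroup.orderOf_coe]; exact orderOf_dvd_of_pow_eq_one (D.pow_three hvT)
    have h2 : orderOf v ∣ 4 := by
      have := orderOf_dvd_natCard (⟨v, hv⟩ : (S : Subgroup C))
      rwa [Subgroup.orderOf_mk, hS S] at this
    exact orderOf_eq_one_iff.mp (Nat.dvd_one.mp (Nat.dvd_gcd h1 h2))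
  have hconj : ∀ c : C, ∀ v ∈ (S : Subgroup C), c * v * c⁻¹ ∈ (S : Subgroup C) := by
    intro c v hv
    have hnorm : (S : Subgroup C).Normal := by
      have := Nat.card_eq_one_iff_unique.mp hn2
      have := this.1
      exact Sylow.normal_of_subsingleton S
    exact hnorm.conj_mem v hv c
  have hexp : ∀ v ∈ (S : Subgroup C), v ^ 2 = 1 := by
    by_contra hcon
    push Not at hcon
    obtain ⟨v, hv, hv2⟩ := hcon
    have hd : orderOf v ∣ 4 := by
      have := orderOf_dvd_natCard (⟨v, hv⟩ : (S : Subgroup C))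
      rwa [Subgroup.orderOf_mk, hS S] at this
    have h4 : ∀ d ∈ Nat.divisors 4, d ∣ 2 ∨ d = 4 := by decide
    have ho : orderOf v = 4 := (h4 _ (Nat.mem_divisors.mpr ⟨hd, by norm_num⟩)).resolve_left
      fun e => hv2 (orderOf_dvd_iff_pow_eq_one.mp e)
    have hSz : (S : Subgroup C) = zpowers v :=
      (eq_of_le_of_card_ge (zpowers_le.mpr hv) (by rw [hS S, Nat.card_zpowers, ho]; norm_num)).symm
    set c : C := ⟨t, hT' ht⟩
    have hmem := hconj c v hv
    rw [hSz, mem_zpowers_iff_mem_range_orderOf, ho] at hmem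
    obtain ⟨k, hk, e⟩ := Finset.mem_image.mp hmem
    rw [Finset.mem_range] at hk
    have hc3 : c ^ 3 = 1 := Subtype.ext (by simpa [c] using D.pow_three ht)
    have hv1 : v ≠ 1 := fun e => by rw [e, orderOf_one] at ho; omega
    have he : orderOf (c * v * c⁻¹) = 4 := by
      rw [← ho]; exact orderOf_injective (MulAut.conj c).toMonoidHom (MulAut.conj c).injective v
    have hcomm : Commute c v := by
      interval_cases k
      · rw [pow_zero] at e; rw [← e, orderOf_one] at he; omega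
      · rw [pow_one] at e; exact mul_inv_eq_iff_eq_mul.mp e.symm
      · rw [← e] at he
        have : orderOf (v ^ 2) ∣ 2 := orderOf_dvd_of_pow_eq_one (by
          rw [← pow_mul, show 2 * 2 = orderOf v by rw [ho], pow_orderOf_eq_one])
        rw [he] at this
        omega
      · exfalso
        have e1 : c * v * c⁻¹ = v⁻¹ := by
          rw [← e]
          exact eq_inv_of_mul_eq_one_left
            (by rw [← pow_succ, show 3 + 1 = orderOf v by rw [ho], pow_orderOf_eq_one])
        have e2 : c * c * v * (c * c)⁻¹ = v := by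
          calc c * c * v * (c * c)⁻¹ = c * (c * v * c⁻¹) * c⁻¹ := by group
            _ = v := by rw [e1, ← conj_inv, e1, inv_inv]
        have e3 : c * (c * c) * v * (c * (c * c))⁻¹ = v⁻¹ := by
          calc c * (c * c) * v * (c * (c * c))⁻¹ = c * (c * c * v * (c * c)⁻¹) * c⁻¹ := by group
            _ = v⁻¹ := by rw [e2, e1]
        rw [← pow_two, ← pow_succ', hc3, one_mul, inv_one, mul_one] at e3
        refine hv2 ?_
        rw [pow_two]
        nth_rewrite 2 [e3]
        exact mul_inv_cancel v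
    exact hv1 (hfree v hv (congrArg Subtype.val hcomm.eq))
  refine ⟨(S : Subgroup C).map C.subtype, ?_, map_subtype_le _, fun v => ?_, ?_⟩
  · rw [← Nat.card_congr ((S : Subgroup C).equivMapOfInjective _ Subtype.val_injective).toEquiv,
      hS S]
    norm_num
  · constructor
    · rintro ⟨w, hw, rfl⟩
      exact ⟨w.2, by simpa using congrArg Subtype.val (hexp w hw)⟩
    · rintro ⟨hv, hv2⟩
      exact ⟨⟨v, hv⟩, hin ⟨v, hv⟩ hv2, rfl⟩
  · rintro _ ⟨a, ha, rfl⟩
    rw [mem_centralizer_iff]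
    rintro _ ⟨b, hb, rfl⟩
    exact congrArg Subtype.val (mem_centralizer_iff.mp
      (le_centralizer_self_of_card_sq (hS S) ha) b hb)

theorem Data.four_unique {Y V W : Subgroup G} (hV : Four Y V) (hW : Four Y W) : V = W := by
  ext v; rw [hV.mem_iff, hW.mem_iff]

theorem Data.four_cj {Y V : Subgroup G} (hV : Four Y V) (g : G) : Four (cj g Y) (cj g V) := by
  refine ⟨(card_cj g V).trans hV.card, cj_centralizer g Y ▸ cj_mono hV.le, fun v => ?_,
    cj_centralizer g V ▸ cj_mono hV.comm⟩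
  rw [mem_cj, hV.mem_iff, ← cj_centralizer, mem_cj]
  refine and_congr_right fun _ => ?_
  rw [pow_two, pow_two, show g⁻¹ * v * g * (g⁻¹ * v * g) = g⁻¹ * (v * v) * g by group]
  constructor
  · intro h
    calc v * v = g * (g⁻¹ * (v * v) * g) * g⁻¹ := by group
      _ = 1 := by rw [h]; group
  · intro h; rw [h]; group

theorem Data.four_normalized {Y V : Subgroup G} (hV : Four Y V) {g : G}
    (hg : g ∈ normalizer (Y : Set G)) : g ∈ normalizer (V : Set G) := by
  have := D.four_cj hV g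
  rw [cj_eq_self_iff.mpr hg] at this
  exact cj_eq_self_iff.mp (D.four_unique this hV)

theorem Data.four_reg {Y V : Subgroup G} (hY : IsLine Y) (hV : Four Y V) {T : Sylow 3 G}
    (hT : Y ≤ (T : Subgroup G)) {v : G} (hv : v ∈ V)
    (hn : v ∈ normalizer ((T : Subgroup G) : Set G)) : v = 1 := by
  have hvT : v ∈ (T : Subgroup G) := (D.line_sylow_data hY hT).2 ▸ ⟨hn, hV.le hv⟩
  have h3 := D.pow_three hvT
  have h2 := ((hV.mem_iff v).mp hv).2
  rw [pow_succ, h2, one_mul] at h3
  exact h3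

theorem Data.four_free {Y V : Subgroup G} (hY : IsLine Y) (hV : Four Y V) {T : Sylow 3 G}
    (hT : Y ≤ (T : Subgroup G)) {v t : G} (hv : v ∈ V) (ht : t ∈ (T : Subgroup G)) (htY : t ∉ Y)
    (hc : Commute t v) : v = 1 := by
  refine D.four_reg hY hV hT hv (centralizer_le_normalizer' _ ?_)
  rw [mem_centralizer_iff]
  intro s hs
  set F := (T : Subgroup G) ⊓ centralizer ({v} : Set G)
  have hd : Nat.card F ∣ 9 := D.card_sylow T ▸ card_dvd_of_le inf_le_left
  have hle : Y ≤ F := fun z hz => Subgroup.mem_inf.mpr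
    ⟨hT hz, mem_centralizer_singleton_iff.mpr (mem_centralizer_iff.mp (hV.le hv) z hz)⟩
  have hlt : 3 < Nat.card F := by
    rw [← hY.card]
    refine lt_of_le_of_ne (card_le_of_le hle) fun e => htY ?_
    rw [eq_of_le_of_card_ge hle e.ge]
    exact Subgroup.mem_inf.mpr ⟨ht, mem_centralizer_singleton_iff.mpr hc.eq⟩
  have h9 : ∀ d ∈ Nat.divisors 9, 3 < d → d = 9 := by decide
  have e := h9 _ (Nat.mem_divisors.mpr ⟨hd, by norm_num⟩) hlt
  have hTF : (T : Subgroup G) ≤ F :=
    (eq_of_le_of_card_ge (inf_le_left : F ≤ _) (by rw [e, D.card_sylow T])).ge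
  exact (mem_centralizer_singleton_iff.mp (Subgroup.mem_inf.mp (hTF hs)).2)

theorem Data.lines_conj {X Y : Subgroup G} (hX : IsLine X) (hY : IsLine Y) :
    ∃ g, cj g Y = X := by
  classical
  have : Fact (Nat.Prime 2) := ⟨Nat.prime_two⟩
  have hS : ∀ S : Sylow 2 G, Nat.card (S : Subgroup G) = 8 := fun S => by
    simpa using card_sylow_of_card_eq (k := 3) (m := 315) (by rw [D.card]; norm_num) (by norm_num) S
  have key : ∀ {Z W : Subgroup G}, IsLine Z → Four Z W →
      ∃ S : Sylow 2 G, W ≤ (S : Subgroup G) := by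
    intro Z W _ hW
    obtain ⟨S, hS⟩ := (IsPGroup.of_card (p := 2) (n := 2) (by rw [hW.card]; norm_num) :
      IsPGroup 2 W).exists_le_sylow
    exact ⟨S, hS⟩
  obtain ⟨V, hV⟩ := D.exists_four hY
  obtain ⟨W, hW⟩ := D.exists_four hX
  obtain ⟨S, hVS⟩ := key hY hV
  obtain ⟨R, hWR⟩ := key hX hW
  obtain ⟨g, rfl⟩ := exists_smul_eq G S R
  have hV' := D.four_cj hV g
  have hVR : cj g V ≤ ((g • S : Sylow 2 G) : Subgroup G) := cj_sylow g S ▸ cj_mono hVS
  obtain ⟨z, hzV, hzW, hz1⟩ : ∃ z, z ∈ cj g V ∧ z ∈ W ∧ z ≠ 1 := by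
    by_contra hcon
    push Not at hcon
    let φ : ↥(cj g V) × W → ((g • S : Sylow 2 G) : Subgroup G) := fun p =>
      ⟨(p.1 : G) * p.2, mul_mem (hVR p.1.2) (hWR p.2.2)⟩
    have hφ : Function.Injective φ := fun p q h =>
      mul_injective_of_disjoint (Subgroup.disjoint_def.mpr (fun {u} h1 h2 => hcon u h1 h2))
        (congrArg Subtype.val h)
    have := Nat.card_le_card_of_injective φ hφ
    rw [Nat.card_prod, hV'.card, hW.card, hS] at this
    omega
  set C := centralizer ({z} : Set G) with hC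
  have hin : ∀ {Z U : Subgroup G}, Four Z U → z ∈ U → Z ≤ C := fun hU hz w hw =>
    mem_centralizer_singleton_iff.mpr (mem_centralizer_iff.mp (hU.le hz) w hw)
  have h9 : ¬ 9 ∣ Nat.card C := by
    intro h9
    obtain ⟨P, hP⟩ := Sylow.exists_subgroup_card_pow_prime 3
      (show 3 ^ 2 ∣ Nat.card C by norm_num; exact h9)
    set P' := P.map C.subtype
    have hP' : Nat.card P' = 9 := by
      rw [← Nat.card_congr (P.equivMapOfInjective _ Subtype.val_injective).toEquiv, hP]; norm_num
    obtain ⟨T, hT⟩ := (IsPGroup.of_card (p := 3) (n := 2) (by rw [hP']; norm_num) :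
      IsPGroup 3 P').exists_le_sylow
    have hTC : (T : Subgroup G) ≤ C :=
      (eq_of_le_of_card_ge hT (by rw [hP', D.card_sylow T])).symm.le.trans (map_subtype_le P)
    have hzT := D.mem_of_centralizes (T := T) (g := z) fun t ht =>
      (mem_centralizer_singleton_iff.mp (hTC ht)).symm
    have h3 := D.pow_three hzT
    have h2 := ((hW.mem_iff z).mp hzW).2
    rw [pow_succ, h2, one_mul] at h3
    exact hz1 h3
  have h3C : 3 ∣ Nat.card C := hX.card ▸ card_dvd_of_le (hin hW hzW)
  have hR : ∀ R : Sylow 3 C, Nat.card (R : Subgroup C) = 3 := by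
    intro R
    obtain ⟨m, hm⟩ := h3C
    simpa using card_sylow_of_card_eq (k := 1) (m := m) (by rw [hm, pow_one])
      (fun h => h9 (by rw [hm]; exact mul_dvd_mul_left 3 h)) R
  have hsub : ∀ {Z : Subgroup G}, Nat.card Z = 3 → Z ≤ C →
      ∃ R : Sylow 3 C, (R : Subgroup C) = Z.subgroupOf C := by
    intro Z hZ hZC
    have hc : Nat.card (Z.subgroupOf C) = 3 := by
      rw [Nat.card_congr (subgroupOfEquivOfLe hZC).toEquiv, hZ]
    obtain ⟨R, hR'⟩ := (IsPGroup.of_card (p := 3) (n := 1) (by rw [hc, pow_one]) :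
      IsPGroup 3 (Z.subgroupOf C)).exists_le_sylow
    exact ⟨R, (eq_of_le_of_card_ge hR' (by rw [hc, hR R])).symm⟩
  obtain ⟨A, hA⟩ := hsub (D.line_cj hY g).card (hin hV' hzV)
  obtain ⟨B, hB⟩ := hsub hX.card (hin hW hzW)
  obtain ⟨⟨c, hc⟩, rfl⟩ := exists_smul_eq C A B
  refine ⟨c * g, eq_of_le_three ((card_cj _ _).trans hY.card) hX.card fun w hw => ?_⟩
  rw [← cj_cj, mem_cj] at hw
  have hwC : c⁻¹ * w * c ∈ C := hin hV' hzV hw
  have hwC' : w ∈ C := by
    have := mul_mem (mul_mem hc hwC) (inv_mem hc)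
    simpa [mul_assoc] using this
  have : (⟨w, hwC'⟩ : C) ∈ ((⟨c, hc⟩ : C) • A : Sylow 3 C).toSubgroup := by
    rw [cj_sylow, mem_cj, hA, mem_subgroupOf]
    simpa using hw
  rw [hB, mem_subgroupOf] at this
  exact this

theorem Data.conj_in_normalizer {X Y : Subgroup G} (hX : IsLine X) (hY : IsLine Y) {T : Sylow 3 G}
    (hXT : X ≤ (T : Subgroup G)) (hYT : Y ≤ (T : Subgroup G)) :
    ∃ n ∈ normalizer ((T : Subgroup G) : Set G), cj n Y = X := by
  obtain ⟨g, rfl⟩ := D.lines_conj hX hY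
  obtain ⟨y, hy, -, hYz⟩ := exists_gen hY.card
  have := D.sylow_isMulCommutative T
  obtain ⟨n, hn, e⟩ := T.conj_eq_normalizer_conj_of_mem y g⁻¹ (hYT hy)
    (hXT (mem_cj.mpr (by simpa [mul_assoc] using hy)))
  refine ⟨n⁻¹, inv_mem hn, ?_⟩
  rw [hYz, cj_zpowers, cj_zpowers, inv_inv, ← e, inv_inv]

/-- Exactly two lines lie in each Sylow 3-subgroup. -/
theorem Data.exists_partner {Y : Subgroup G} (hY : IsLine Y) {T : Sylow 3 G}
    (hT : Y ≤ (T : Subgroup G)) : ∃ L, IsLine L ∧ L ≤ (T : Subgroup G) ∧ L ≠ Y ∧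
      ∀ X, IsLine X → X ≤ (T : Subgroup G) → X = Y ∨ X = L := by
  classical
  set N := normalizer ((T : Subgroup G) : Set G) with hN
  set M := N ⊓ normalizer (Y : Set G)
  obtain ⟨n, hn, hnM⟩ : ∃ n ∈ N, n ∉ M := by
    by_contra h
    push Not at h
    have := card_le_of_le (H := N) (K := M) h
    have h18 := D.card_inf_normalizer_line hY hT
    rw [hN, D.card_normalizer T] at this
    exact absurd (this.trans h18) (by norm_num)
  have hnY : cj n Y ≠ Y := fun e => hnM (Subgroup.mem_inf.mpr ⟨hn, cj_eq_self_iff.mp e⟩)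
  refine ⟨cj n Y, D.line_cj hY n, ?_, hnY, fun X hX hXT => ?_⟩
  · exact (cj_mono hT).trans (le_of_eq (cj_eq_self_iff.mpr hn))
  obtain ⟨m, hm, rfl⟩ := D.conj_in_normalizer hX hY hXT hT
  by_cases hmM : m ∈ M
  · exact Or.inl (cj_eq_self_iff.mpr (Subgroup.mem_inf.mp hmM).2)
  refine Or.inr ?_
  have h18 := D.card_inf_normalizer_line hY hT
  have hidx : M.relIndex N = 2 := by
    have h1 : Nat.card M * M.relIndex N = Nat.card N := by
      rw [← relIndex_bot_left, ← relIndex_bot_left, relIndex_mul_relIndex ⊥ _ _ bot_le inf_le_left]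
    rw [show Nat.card N = 36 from D.card_normalizer T] at h1
    have hne : M.relIndex N ≠ 1 := fun e => hnM (relIndex_eq_one.mp e hn)
    obtain ⟨i, hi, hinv⟩ := D.exists_inversion T
    obtain ⟨y, hy, -, hYz⟩ := exists_gen hY.card
    have hiN : i ∈ N := by
      refine cj_eq_self_iff.mp (eq_of_le_of_card_ge (fun u hu => ?_) (by rw [card_cj]))
      rw [mem_cj] at hu
      have := (T : Subgroup G).inv_mem hu
      rw [← hinv _ hu] at this
      simpa [mul_assoc] using this
    have hiY : i ∈ normalizer (Y : Set G) :=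
      cj_eq_self_iff.mp (by rw [hYz, cj_zpowers, hinv y (hT hy), zpowers_inv])
    have h2 : 2 ∣ Nat.card M := by
      rw [← hi, ← Nat.card_zpowers]
      exact card_dvd_of_le (zpowers_le.mpr (Subgroup.mem_inf.mpr ⟨hiN, hiY⟩))
    have h9 : 9 ∣ Nat.card M := by
      rw [← D.card_sylow T]
      refine card_dvd_of_le (le_inf le_normalizer ?_)
      exact (D.le_centralizer_of_le hT).trans (centralizer_le_normalizer' _)
    obtain ⟨j, hj⟩ := Nat.Coprime.mul_dvd_of_dvd_of_dvd (by norm_num : Nat.Coprime 2 9) h2 h9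
    rw [hj] at h1 h18
    have hj1 : j = 1 := by
      have : 0 < j := Nat.pos_of_ne_zero fun e => by
        rw [e, mul_zero] at hj; exact Nat.card_pos.ne' hj
      omega
    subst hj1
    omega
  have hd : n⁻¹ * m ∈ M := by
    have h := (mul_mem_iff_of_index_two (H := M.subgroupOf N) hidx
      (a := (⟨n, hn⟩ : N)⁻¹) (b := ⟨m, hm⟩)).mpr
      (by rw [inv_mem_iff]; simp only [mem_subgroupOf]; tauto)
    simpa [mem_subgroupOf] using h
  calc cj m Y = cj n (cj (n⁻¹ * m) Y) := by rw [cj_cj, mul_inv_cancel_left]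
    _ = cj n Y := by rw [cj_eq_self_iff.mpr (Subgroup.mem_inf.mp hd).2]

theorem Adj.cj {X Y : Subgroup G} (h : Adj X Y) (g : G) :
    Adj (Order2520.cj g X) (Order2520.cj g Y) :=
  ⟨D.line_cj h.left g, D.line_cj h.right g, fun e => h.ne (cj_inj e),
    cj_centralizer g X ▸ cj_mono h.le⟩

theorem Data.exists_sylow_adj {X Y : Subgroup G} (h : Adj X Y) :
    ∃ T : Sylow 3 G, X ≤ (T : Subgroup G) ∧ Y ≤ (T : Subgroup G) := by
  have hp : ∀ {Z : Subgroup G}, IsLine Z → IsPGroup 3 Z := fun hZ =>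
    IsPGroup.of_card (n := 1) (by rw [hZ.card, pow_one])
  obtain ⟨T, hT⟩ := (IsPGroup.to_sup_of_normal_right' (hp h.right) (hp h.left)
    (h.le.trans (centralizer_le_normalizer' _))).exists_le_sylow
  exact ⟨T, le_sup_right.trans hT, le_sup_left.trans hT⟩

theorem Data.sylow_eq_of_two {X Y : Subgroup G} (hX : Nat.card X = 3) (hY : Nat.card Y = 3)
    (hne : X ≠ Y) {T R : Sylow 3 G} (h1 : X ≤ (T : Subgroup G)) (h2 : Y ≤ (T : Subgroup G))
    (h3 : X ≤ (R : Subgroup G)) (h4 : Y ≤ (R : Subgroup G)) : T = R := by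
  have hd : Nat.card ↥(X ⊔ Y) ∣ 9 := D.card_sylow T ▸ card_dvd_of_le (sup_le h1 h2)
  have hlt : 3 < Nat.card ↥(X ⊔ Y) := by
    rw [← hX]
    refine lt_of_le_of_ne (card_le_of_le le_sup_left) fun e => hne ?_
    exact (eq_of_le_three hY hX
      ((le_sup_right : Y ≤ X ⊔ Y).trans (eq_of_le_of_card_ge le_sup_left e.ge).ge)).symm
  have h9 : ∀ d ∈ Nat.divisors 9, 3 < d → d = 9 := by decide
  have e := h9 _ (Nat.mem_divisors.mpr ⟨hd, by norm_num⟩) hlt
  exact Sylow.ext ((eq_of_le_of_card_ge (sup_le h1 h2) (by rw [e, D.card_sylow])).symm.trans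
    (eq_of_le_of_card_ge (sup_le h3 h4) (by rw [e, D.card_sylow])))

theorem Data.no_triangle {X Y Z : Subgroup G} (h1 : Adj X Y) (h2 : Adj Y Z) (h3 : Adj X Z) :
    False := by
  obtain ⟨T, hX, hY⟩ := D.exists_sylow_adj h1
  have hp : IsPGroup 3 Z := IsPGroup.of_card (n := 1) (by rw [h2.right.card, pow_one])
  have hZ : Z ≤ (T : Subgroup G) := by
    have hp2 : IsPGroup 3 ↥(X ⊔ Y) := T.2.to_le (sup_le hX hY)
    have hnorm : Z ≤ normalizer ((X ⊔ Y : Subgroup G) : Set G) :=
      le_trans (le_centralizer_iff.mp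
        (sup_le (le_centralizer_iff.mp h3.le) (le_centralizer_iff.mp h2.le)))
        (centralizer_le_normalizer' _)
    obtain ⟨R, hR⟩ := (IsPGroup.to_sup_of_normal_right' hp hp2 hnorm).exists_le_sylow
    · rw [D.sylow_eq_of_two h1.left.card h1.right.card h1.ne hX hY
        ((le_sup_left.trans le_sup_right).trans hR) ((le_sup_right.trans le_sup_right).trans hR)]
      exact le_sup_left.trans hR
  obtain ⟨L, -, -, -, huniq⟩ := D.exists_partner h1.left hX
  rcases huniq Y h1.right hY with e | e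
  · exact h1.ne e.symm
  rcases huniq Z h2.right hZ with e' | e'
  · exact h3.ne e'.symm
  · exact h2.ne (e.trans e'.symm)

theorem Data.exists_adj {Y : Subgroup G} (hY : IsLine Y) : ∃ L, Adj Y L := by
  obtain ⟨T, hT⟩ := (IsPGroup.of_card (p := 3) (n := 1) (by rw [hY.card, pow_one]) :
    IsPGroup 3 Y).exists_le_sylow
  obtain ⟨L, hL, hLT, hne, -⟩ := D.exists_partner hY hT
  exact ⟨L, hY, hL, hne.symm, hLT.trans (D.le_centralizer_of_le hT)⟩

/-- The neighbours of a line are the conjugates of one of them by the four-group. -/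
theorem Data.neighbour {Y L M V : Subgroup G} (hV : Four Y V) (hL : Adj Y L) (hM : Adj Y M) :
    ∃ v ∈ V, cj v L = M := by
  classical
  obtain ⟨T, hYT, hLT⟩ := D.exists_sylow_adj hL
  obtain ⟨R, hYR, hMR⟩ := D.exists_sylow_adj hM
  have hcent : ∀ v : V, cj (v : G) Y = Y := fun v => cj_self_of_centralizes (hV.le v.2)
  have hle : ∀ v : V, (((v : G) • T : Sylow 3 G) : Subgroup G) ≤ centralizer (Y : Set G) := by
    intro v
    refine D.le_centralizer_of_le ?_
    rw [cj_sylow, ← hcent v]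
    exact cj_mono hYT
  let f : V → Sylow 3 (centralizer (Y : Set G)) := fun v => ((v : G) • T).subtype (hle v)
  have hf : Function.Injective f := by
    intro a b hab
    have h' : (a : G) • T = (b : G) • T := Sylow.subtype_injective hab
    have hm : ((b : G)⁻¹ * a) • T = T := by rw [mul_smul, h', inv_smul_smul]
    have := D.four_reg hL.left hV hYT (mul_mem (inv_mem b.2) a.2)
      (Sylow.smul_eq_iff_mem_normalizer.mp hm)
    exact Subtype.ext (inv_mul_eq_one.mp this).symm
  obtain ⟨v, hv⟩ := ((Nat.bijective_iff_injective_and_card f).mpr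
    ⟨hf, by rw [hV.card, (D.line_sylow_data hL.left hYT).1]⟩).2
      (R.subtype (D.le_centralizer_of_le hYR))
  have hR : (v : G) • T = R := Sylow.subtype_injective hv
  refine ⟨v, v.2, ?_⟩
  obtain ⟨P, -, -, -, huniq⟩ := D.exists_partner hL.left hYR
  have h1 : cj (v : G) L ≤ (R : Subgroup G) := by rw [← hR, cj_sylow]; exact cj_mono hLT
  rcases huniq _ (D.line_cj hL.right v) h1 with e | e
  · exact absurd (cj_inj (e.trans (hcent v).symm)) hL.ne.symm
  rcases huniq _ hM.right hMR with e' | e'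
  · exact absurd e'.symm hM.ne
  · exact e.trans e'.symm

theorem Data.neighbour_injective {Y L V : Subgroup G} (hV : Four Y V) (hL : Adj Y L) {v w : G}
    (hv : v ∈ V) (hw : w ∈ V) (h : cj v L = cj w L) : v = w := by
  obtain ⟨T, hYT, hLT⟩ := D.exists_sylow_adj hL
  have h1 : cj (w⁻¹ * v) L = L := by rw [← cj_cj, h, cj_cj, inv_mul_cancel, cj_one]
  have hvw := mul_mem (inv_mem hw) hv
  have hY' : cj (w⁻¹ * v) Y = Y := cj_self_of_centralizes (hV.le hvw)
  have hT : ((w⁻¹ * v) • T : Sylow 3 G) = T := by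
    refine D.sylow_eq_of_two hL.left.card hL.right.card hL.ne ?_ ?_ hYT hLT
    · rw [cj_sylow, ← hY']; exact cj_mono hYT
    · rw [cj_sylow, ← h1]; exact cj_mono hLT
  exact (inv_mul_eq_one.mp
    (D.four_reg hL.left hV hYT hvw (Sylow.smul_eq_iff_mem_normalizer.mp hT))).symm

theorem Data.four_determines {Y M V : Subgroup G} (hY : IsLine Y) (hM : IsLine M) (h1 : Four Y V)
    (h2 : Four M V) : Y = M := by
  classical
  set C := centralizer (V : Set G) with hC
  obtain ⟨y, hy, hy1, -⟩ := exists_gen hY.card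
  have hYC : ∀ {Z : Subgroup G}, Four Z V → Z ≤ C := fun hZ => le_centralizer_iff.mp hZ.le
  obtain ⟨v, hv, hv1⟩ : ∃ v ∈ V, v ≠ 1 := by
    by_contra h
    push Not at h
    have := h1.card
    rw [Subgroup.eq_bot_iff_forall _ |>.mpr h, Subgroup.card_bot] at this
    omega
  have hno : ∀ r : ℕ, r = 5 ∨ r = 7 → ¬ r ∣ Nat.card C := by
    intro r hr hd
    have : Fact r.Prime := ⟨by rcases hr with rfl | rfl <;> norm_num⟩
    obtain ⟨x, hx, hxr⟩ := exists_orderOf_of_dvd hd
    have h4 : 4 ∣ Nat.card (centralizer (zpowers x : Set G)) := h1.card ▸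
      card_dvd_of_le (le_centralizer_iff.mp (zpowers_le.mpr hx))
    rcases hr with rfl | rfl
    · have := h4.trans (D.five x hxr); norm_num at this
    · rw [D.seven x hxr] at h4; norm_num at h4
  have h9 : ¬ 9 ∣ Nat.card C := by
    intro h9
    obtain ⟨P, hP⟩ := Sylow.exists_subgroup_card_pow_prime 3
      (show 3 ^ 2 ∣ Nat.card C by norm_num; exact h9)
    set P' := P.map C.subtype
    have hP' : Nat.card P' = 9 := by
      rw [← Nat.card_congr (P.equivMapOfInjective _ Subtype.val_injective).toEquiv, hP]; norm_num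
    obtain ⟨T, hT⟩ := (IsPGroup.of_card (p := 3) (n := 2) (by rw [hP']; norm_num) :
      IsPGroup 3 P').exists_le_sylow
    have hTC : (T : Subgroup G) ≤ C :=
      (eq_of_le_of_card_ge hT (by rw [hP', D.card_sylow T])).symm.le.trans (map_subtype_le P)
    have hvT := D.mem_of_centralizes (T := T) (g := v) fun t ht =>
      (commute_of_le_centralizer hTC ht hv).symm
    have h3 := D.pow_three hvT
    rw [pow_succ, ((h1.mem_iff v).mp hv).2, one_mul] at h3
    exact hv1 h3
  have hd : Nat.card C ∣ 2520 := D.card ▸ card_subgroup_dvd_card C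
  have hcard : Nat.card C ∣ 24 := by
    have hd' : Nat.card C ∣ 24 * (3 * (5 * 7)) := by norm_num; exact hd
    have hco : ∀ r : ℕ, r.Prime → ¬ r ∣ Nat.card C → Nat.Coprime (Nat.card C) r := fun r hr h =>
      ((Nat.Prime.coprime_iff_not_dvd hr).mpr h).symm
    have h5 := hco 5 (by norm_num) (hno 5 (Or.inl rfl))
    have h7 := hco 7 (by norm_num) (hno 7 (Or.inr rfl))
    have h72 : Nat.card C ∣ 24 * 3 :=
      (h5.mul_right h7).dvd_of_dvd_mul_right (by rw [mul_assoc]; exact hd')
    have hl : ∀ d ∈ Nat.divisors 72, ¬ 9 ∣ d → d ∣ 24 := by decide +kernel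
    exact hl _ (Nat.mem_divisors.mpr ⟨by simpa using h72, by norm_num⟩) h9
  set Y' := Y.subgroupOf C
  have hY'c : Nat.card Y' = 3 := by
    rw [Nat.card_congr (subgroupOfEquivOfLe (hYC h1)).toEquiv, hY.card]
  have hS : ∀ R : Sylow 3 C, Nat.card (R : Subgroup C) = 3 := by
    intro R
    obtain ⟨m, hm⟩ : 3 ∣ Nat.card C := hY.card ▸ card_dvd_of_le (hYC h1)
    simpa using card_sylow_of_card_eq (k := 1) (m := m) (by rw [hm, pow_one])
      (fun h => h9 (by rw [hm]; exact mul_dvd_mul_left 3 h)) R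
  obtain ⟨R, hR⟩ := (IsPGroup.of_card (p := 3) (n := 1) (by rw [hY'c, pow_one]) :
    IsPGroup 3 Y').exists_le_sylow
  have hRY := eq_of_le_of_card_ge hR (by rw [hY'c, hS R])
  have h12 : 12 ∣ Nat.card (normalizer ((R : Subgroup C) : Set C)) := by
    refine Nat.Coprime.mul_dvd_of_dvd_of_dvd (by norm_num : Nat.Coprime 4 3) ?_
      ((dvd_of_eq (hS R).symm).trans (card_dvd_of_le le_normalizer))
    have hVC : V ≤ C := h1.comm
    rw [← h1.card, ← Nat.card_congr (subgroupOfEquivOfLe hVC).toEquiv]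
    refine card_dvd_of_le (le_trans ?_ (centralizer_le_normalizer' _))
    rw [← hRY]
    intro a ha
    rw [mem_centralizer_iff]
    intro b hb
    exact Subtype.ext (mem_centralizer_iff.mp (h1.le (mem_subgroupOf.mp ha)) b (mem_subgroupOf.mp hb))
  have hmul := card_normalizer_mul_card_sylow R
  have hone : Nat.card (Sylow 3 C) = 1 := by
    obtain ⟨j, hj⟩ := h12
    rw [hj] at hmul
    have hd2 : 12 * (j * Nat.card (Sylow 3 C)) ∣ 12 * 2 := by
      rw [← mul_assoc, hmul]; exact hcard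
    have h2 := (Dvd.intro_left _ rfl : Nat.card (Sylow 3 C) ∣ j * Nat.card (Sylow 3 C)).trans
      (Nat.dvd_of_mul_dvd_mul_left (by norm_num) hd2)
    have hn3 := card_sylow_modEq_one 3 C
    rcases (Nat.dvd_prime Nat.prime_two).mp h2 with e | e
    · exact e
    · rw [e] at hn3; simp [Nat.ModEq] at hn3
  have hM'c : Nat.card (M.subgroupOf C) = 3 := by
    rw [Nat.card_congr (subgroupOfEquivOfLe (hYC h2)).toEquiv, hM.card]
  obtain ⟨R', hR'⟩ := (IsPGroup.of_card (p := 3) (n := 1) (by rw [hM'c, pow_one]) :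
    IsPGroup 3 (M.subgroupOf C)).exists_le_sylow
  rw [(Nat.card_eq_one_iff_unique.mp hone).1.elim R' R, ← hRY] at hR'
  refine (eq_of_le_three hM.card hY.card fun m hm => ?_).symm
  exact mem_subgroupOf.mp (hR' (show (⟨m, hYC h2 hm⟩ : C) ∈ M.subgroupOf C from hm))

/-- Two lines have at most one common neighbour. -/
theorem Data.common_unique {Y M L L' : Subgroup G} (hne : Y ≠ M) (h1 : Adj Y L) (h2 : Adj Y L')
    (h3 : Adj M L) (h4 : Adj M L') : L = L' := by
  classical
  by_contra hLL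
  have : Fact (Nat.Prime 2) := ⟨Nat.prime_two⟩
  set I := centralizer (Y : Set G) ⊓ centralizer (M : Set G)
  have hLI : L ≤ I := le_inf h1.le h3.le
  have hL'I : L' ≤ I := le_inf h2.le h4.le
  have hd : Nat.card I ∣ 36 := h1.left.card_centralizer ▸ card_dvd_of_le inf_le_left
  have h9 : ¬ 9 ∣ Nat.card I := by
    intro h9
    obtain ⟨P, hP⟩ := Sylow.exists_subgroup_card_pow_prime 3
      (show 3 ^ 2 ∣ Nat.card I by norm_num; exact h9)
    set P' := P.map I.subtype
    have hP' : Nat.card P' = 9 := by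
      rw [← Nat.card_congr (P.equivMapOfInjective _ Subtype.val_injective).toEquiv, hP]; norm_num
    obtain ⟨T, hT⟩ := (IsPGroup.of_card (p := 3) (n := 2) (by rw [hP']; norm_num) :
      IsPGroup 3 P').exists_le_sylow
    have hTI : (T : Subgroup G) ≤ I :=
      (eq_of_le_of_card_ge hT (by rw [hP', D.card_sylow T])).symm.le.trans (map_subtype_le P)
    have hYT := D.le_of_le_centralizer h1.left.card (hTI.trans inf_le_left)
    have hYM : Adj M Y := ⟨h3.left, h1.left, hne.symm, hYT.trans (hTI.trans inf_le_right)⟩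
    exact D.no_triangle hYM h1 h3
  have h3I : 3 ∣ Nat.card I := h1.right.card ▸ card_dvd_of_le hLI
  have hS : ∀ R : Sylow 3 I, Nat.card (R : Subgroup I) = 3 := by
    intro R
    obtain ⟨m, hm⟩ := h3I
    simpa using card_sylow_of_card_eq (k := 1) (m := m) (by rw [hm, pow_one])
      (fun h => h9 (by rw [hm]; exact mul_dvd_mul_left 3 h)) R
  have hsub : ∀ {Z : Subgroup G}, Nat.card Z = 3 → Z ≤ I →
      ∃ R : Sylow 3 I, (R : Subgroup I) = Z.subgroupOf I := by
    intro Z hZ hZI
    have hc : Nat.card (Z.subgroupOf I) = 3 := by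
      rw [Nat.card_congr (subgroupOfEquivOfLe hZI).toEquiv, hZ]
    obtain ⟨R, hR'⟩ := (IsPGroup.of_card (p := 3) (n := 1) (by rw [hc, pow_one]) :
      IsPGroup 3 (Z.subgroupOf I)).exists_le_sylow
    exact ⟨R, (eq_of_le_of_card_ge hR' (by rw [hc, hS R])).symm⟩
  obtain ⟨A, hA⟩ := hsub h1.right.card hLI
  obtain ⟨B, hB⟩ := hsub h2.right.card hL'I
  have hAB : A ≠ B := by
    rintro rfl
    exact hLL (by rw [← inf_eq_left.mpr hLI, ← inf_eq_left.mpr hL'I,
      ← subgroupOf_map_subtype L, ← subgroupOf_map_subtype L', ← hA, ← hB])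
  have hn1 : 1 < Nat.card (Sylow 3 I) := Finite.one_lt_card_iff_nontrivial.mpr ⟨⟨A, B, hAB⟩⟩
  have hn3 := card_sylow_modEq_one 3 I
  have h4I : 4 ∣ Nat.card I := by
    have hmul := card_normalizer_mul_card_sylow A
    have h3N : 3 ∣ Nat.card (normalizer ((A : Subgroup I) : Set I)) :=
      (dvd_of_eq (hS A).symm).trans (card_dvd_of_le le_normalizer)
    obtain ⟨j, hj⟩ := h3N
    rw [hj, mul_assoc] at hmul
    have hd' : Nat.card (Sylow 3 I) ∣ 12 := by
      have : 3 * (j * Nat.card (Sylow 3 I)) ∣ 3 * 12 := hmul.symm ▸ hd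
      exact (Dvd.intro_left _ rfl).trans (Nat.dvd_of_mul_dvd_mul_left (by norm_num) this)
    have h12 : ∀ d ∈ Nat.divisors 12, d % 3 = 1 → 1 < d → d = 4 := by decide +kernel
    have e := h12 _ (Nat.mem_divisors.mpr ⟨hd', by norm_num⟩) hn3 hn1
    rw [e] at hmul
    exact Dvd.intro (3 * j) (by rw [← hmul]; ring)
  obtain ⟨S0, hS0⟩ := Sylow.exists_subgroup_card_pow_prime 2
    (show 2 ^ 2 ∣ Nat.card I by norm_num; exact h4I)
  set S := S0.map I.subtype
  have hSc : Nat.card S = 4 := by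
    rw [← Nat.card_congr (S0.equivMapOfInjective _ Subtype.val_injective).toEquiv, hS0]; norm_num
  have key : ∀ {Z : Subgroup G}, IsLine Z → S ≤ centralizer (Z : Set G) → Four Z S := by
    intro Z hZ hle
    obtain ⟨V, hV⟩ := D.exists_four hZ
    have hp : IsPGroup 2 ↥(S ⊔ V) := IsPGroup.to_sup_of_normal_right'
      (IsPGroup.of_card (n := 2) (by rw [hSc]; norm_num))
      (IsPGroup.of_card (n := 2) (by rw [hV.card]; norm_num))
      (fun a ha => D.four_normalized hV (centralizer_le_normalizer' _ (hle ha)))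
    obtain ⟨j, hj⟩ := IsPGroup.iff_card.mp hp
    have hd := card_dvd_of_le (sup_le hle hV.le : S ⊔ V ≤ centralizer (Z : Set G))
    rw [hj, hZ.card_centralizer] at hd
    have hj2 : j ≤ 2 := by
      by_contra h
      have : 2 ^ 3 ∣ 36 := (pow_dvd_pow 2 (not_le.mp h)).trans hd
      norm_num at this
    have hle4 : Nat.card ↥(S ⊔ V) ≤ 4 := hj.le.trans (Nat.pow_le_pow_right (by norm_num) hj2)
    have e1 := eq_of_le_of_card_ge (le_sup_left : S ≤ S ⊔ V) (by omega)
    have e2 := eq_of_le_of_card_ge (le_sup_right : V ≤ S ⊔ V) (by rw [hV.card]; exact hle4)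
    rwa [show S = V from e1.trans e2.symm]
  exact hne (D.four_determines h1.left h3.left
    (key h1.left ((map_subtype_le S0).trans inf_le_left))
    (key h3.left ((map_subtype_le S0).trans inf_le_right)))

end CfsgLib.Small.Order2520
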