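import Cfsg.Agent.Lib.Small.Fixed
import Cfsg.Agent.Lib.Small.AbelianFocal
import Cfsg.Agent.Lib.Small.Order504
import Cfsg.Agent.Lib.SylowNumber.Action
import Cfsg.Agent.Lib.SylowNumber.TwentyTwo

/-!
No simple group has order 459648 = 2^7 * 3^3 * 7 * 19.  An involution centralising two Sylow
19-subgroups would have a centraliser of index at most 63, which is impossible.
-/

set_option autoImplicit false

namespace CfsgLib.Small.Order459648

open Subgroup MulAction CfsgLib.Small CfsgLib.SylowNumber

variable {G : Type*} [Group G] [Finite G] [IsSimpleGroup G]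

theorem nc (h : Nat.card G = 459648) : ¬ IsMulCommutative G :=
  nc_of_not_prime (by rw [h]; norm_num)

omit [IsSimpleGroup G] in
theorem card_nineteen [Fact (Nat.Prime 19)] (h : Nat.card G = 459648) (P : Sylow 19 G) :
    Nat.card P = 19 := by
  simpa using card_sylow_of_card_eq (k := 1) (m := 24192) (by rw [h]; norm_num) (by norm_num) P

theorem nineteen_data [Fact (Nat.Prime 19)] (h : Nat.card G = 459648) :
    Nat.card (Sylow 19 G) = 1008 ∧ ∀ P : Sylow 19 G,
      4 ∣ Nat.card (centralizer ((P : Subgroup G) : Set G)) ∧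
      Nat.card (normalizer ((P : Subgroup G) : Set G)) = 456 := by
  classical
  have hm := card_sylow_mem (p := 19) (nc h) (k := 1) (m := 24192) one_ne_zero
    (by rw [h]; norm_num) (by norm_num)
  rw [show ((Nat.divisors 24192).filter fun n => n % 19 = 1 ∧ 1 < n) = {96, 1008} from
    by decide +kernel] at hm
  simp only [Finset.mem_insert, Finset.mem_singleton] at hm
  have hd : ∀ P : Sylow 19 G, ∃ e c, e ∣ 18 ∧
      Nat.card (centralizer ((P : Subgroup G) : Set G)) = 19 * c ∧
      Nat.card (normalizer ((P : Subgroup G) : Set G)) = 19 * (c * e) ∧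
      19 * (c * e * Nat.card (Sylow 19 G)) = 459648 := by
    intro P
    obtain ⟨e, he1, he2, ⟨c, hc⟩, hCe, hall⟩ :=
      sylow_prime_order_data (nc h) P (card_nineteen h P)
    refine ⟨e, c, he2, hc, by rw [← hCe, hc, mul_assoc], ?_⟩
    rw [← h, ← hall, hc, mul_assoc, mul_assoc, mul_assoc]
  rcases hm with hm | hm
  · exfalso
    -- an element of order 7 centralising one of order 19 would act trivially
    obtain ⟨P⟩ := (inferInstance : Nonempty (Sylow 19 G))
    obtain ⟨e, c, he, hc, hN, hall⟩ := hd P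
    rw [hm] at hall
    have h252 : c * e = 252 := by omega
    have h7 : 7 ∣ c := by
      have : 7 ∣ c * e := by rw [h252]; norm_num
      rcases (Nat.Prime.dvd_mul (by norm_num)).mp this with h' | h'
      · exact h'
      · exact absurd (h'.trans he) (by norm_num)
    have : Fact (Nat.Prime 7) := ⟨by norm_num⟩
    obtain ⟨⟨y, hy⟩, hy'⟩ := exists_prime_orderOf_dvd_card'
      (G := centralizer ((P : Subgroup G) : Set G)) 7 (by rw [hc]; exact h7.mul_left 19)
    rw [Subgroup.orderOf_mk] at hy'
    obtain ⟨⟨x, hxP⟩, hx⟩ := exists_prime_orderOf_dvd_card' (G := (P : Subgroup G)) 19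
      (by rw [card_nineteen h P])
    rw [Subgroup.orderOf_mk] at hx
    have := Fintype.ofFinite (Sylow 19 G)
    have hα : Fintype.card (Sylow 19 G) = 96 := by rw [← Nat.card_eq_fintype_card, hm]
    have h1 := card_fix_modEq_common (α := Sylow 19 G) (r := 19) (x := y) (y := x)
      (orderOf_dvd_iff_pow_eq_one.mp (dvd_of_eq hx)) (mem_centralizer_iff.mp hy x hxP).symm
    have h2 : ((fixFinset (Sylow 19 G) y).filter fun a => x • a = a) = {P} := by
      ext S
      rw [Finset.mem_filter, Finset.mem_singleton, mem_fixFinset]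
      constructor
      · rintro ⟨-, hS⟩
        exact ((exists_unique_sylow_mem hx (card_nineteen h)).unique
          ((smul_eq_self_iff_mem (P := P) hxP).mp hS) hxP)
      · rintro rfl
        exact ⟨Sylow.smul_eq_iff_mem_normalizer.mpr (centralizer_le_normalizer' _ hy),
          (smul_eq_self_iff_mem (P := S) hxP).mpr hxP⟩
    rw [h2, Finset.card_singleton, Nat.ModEq] at h1
    have h3 := card_fix_modEq (α := Sylow 19 G) (r := 7)
      (orderOf_dvd_iff_pow_eq_one.mp (dvd_of_eq hy'))
    rw [hα, Nat.ModEq] at h3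
    have hle : (fixFinset (Sylow 19 G) y).card ≤ 96 := hα ▸ Finset.card_le_univ _
    have h96 : (fixFinset (Sylow 19 G) y).card ≠ 96 := fun e => by
      have := eq_one_of_fix_eq_univ (α := Sylow 19 G)
        (sylow_toPermHom_injective (nc h) (by rw [h]; norm_num)) (e.trans hα.symm)
      rw [this, orderOf_one] at hy'
      omega
    omega
  · refine ⟨hm, fun P => ?_⟩
    obtain ⟨e, c, he, hc, hN, hall⟩ := hd P
    rw [hm] at hall
    have h24 : c * e = 24 := by omega
    refine ⟨?_, by rw [hN, h24]⟩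
    rw [hc]
    refine Dvd.dvd.mul_left ?_ 19
    have he24 : e ∈ Nat.divisors 18 := Nat.mem_divisors.mpr ⟨he, by norm_num⟩
    have key : ∀ d ∈ Nat.divisors 18, ∀ c ∈ Finset.range 25, c * d = 24 → 4 ∣ c := by decide +kernel
    refine key e he24 c (Finset.mem_range.mpr ?_) h24
    have he0 : 1 ≤ e := Nat.pos_of_ne_zero fun h0 => by rw [h0, mul_zero] at h24; omega
    have := Nat.le_mul_of_pos_right c he0
    omega

/-- Some involution centralises two Sylow 19-subgroups, with a commutative subgroup of order 4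
between it and the centraliser of the first. -/
theorem exists_involution [Fact (Nat.Prime 19)] (h : Nat.card G = 459648) :
    ∃ (P S : Sylow 19 G) (T : Subgroup G) (t : G), P ≠ S ∧ Nat.card T = 4 ∧ IsMulCommutative T ∧
      T ≤ centralizer ((P : Subgroup G) : Set G) ∧ t ∈ T ∧ t ≠ 1 ∧
      t ∈ centralizer ((S : Subgroup G) : Set G) := by
  classical
  have : Fact (Nat.Prime 2) := ⟨Nat.prime_two⟩
  obtain ⟨hn, hdata⟩ := nineteen_data h
  obtain ⟨P⟩ := (inferInstance : Nonempty (Sylow 19 G))
  obtain ⟨T0, hT0⟩ := Sylow.exists_subgroup_card_pow_prime 2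
    (show 2 ^ 2 ∣ Nat.card (centralizer ((P : Subgroup G) : Set G)) from (hdata P).1)
  set T := T0.map (centralizer ((P : Subgroup G) : Set G)).subtype
  have hTle : T ≤ centralizer ((P : Subgroup G) : Set G) := map_subtype_le T0
  have hTc : Nat.card T = 4 := by
    rw [← Nat.card_congr (T0.equivMapOfInjective _ Subtype.val_injective).toEquiv, hT0]; norm_num
  have hTab : IsMulCommutative T :=
    IsPGroup.isMulCommutative_of_card_eq_prime_sq (p := 2) (by rw [hTc]; norm_num)
  have hTp : IsPGroup 2 T := IsPGroup.of_card (n := 2) (by rw [hTc]; norm_num)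
  have hmod := hTp.card_modEq_card_fixedPoints (Sylow 19 G)
  rw [hn, Nat.ModEq] at hmod
  have hPfix : P ∈ fixedPoints T (Sylow 19 G) := fun u =>
    Sylow.smul_eq_iff_mem_normalizer.mpr (centralizer_le_normalizer' _ (hTle u.2))
  have : Nonempty (fixedPoints T (Sylow 19 G)) := ⟨⟨P, hPfix⟩⟩
  have hpos : 0 < Nat.card (fixedPoints T (Sylow 19 G)) := Nat.card_pos
  have : Nontrivial (fixedPoints T (Sylow 19 G)) :=
    Finite.one_lt_card_iff_nontrivial.mp (by omega)
  obtain ⟨⟨S, hS⟩, hSP⟩ := exists_ne (⟨P, hPfix⟩ : fixedPoints T (Sylow 19 G))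
  have hne : P ≠ S := fun e => hSP (Subtype.ext e.symm)
  set CS := centralizer ((S : Subgroup G) : Set G)
  have hTN : ∀ u ∈ T, u ∈ normalizer ((S : Subgroup G) : Set G) := fun u hu =>
    Sylow.smul_eq_iff_mem_normalizer.mp (hS ⟨u, hu⟩)
  have hsq : ∀ u ∈ T, u * u ∈ CS := by
    intro u hu
    obtain ⟨e, -, he, -, hCe, -⟩ := sylow_prime_order_data (nc h) S (card_nineteen h S)
    have hrel : CS.relIndex (normalizer ((S : Subgroup G) : Set G)) ∣ 18 :=
      relIndex_centralizer_normalizer_dvd_of_prime (card_nineteen h S)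
    have hnorm : (CS.subgroupOf (normalizer ((S : Subgroup G) : Set G))).Normal := inferInstance
    have h1 := (CS.subgroupOf (normalizer ((S : Subgroup G) : Set G))).pow_index_mem ⟨u, hTN u hu⟩
    obtain ⟨k, hk⟩ := hrel
    have h18 : u ^ 18 ∈ CS := by
      rw [hk, pow_mul]
      exact pow_mem (mem_subgroupOf.mp h1) k
    have h4 : u ^ 4 = 1 := by
      have := pow_card_eq_one' (G := T) (x := ⟨u, hu⟩)
      rw [hTc] at this
      exact congrArg Subtype.val this
    have : u ^ 18 = u * u := by
      rw [show 18 = 4 * 4 + 2 from rfl, pow_add, pow_mul, h4, one_pow, one_mul, pow_two]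
    rwa [this] at h18
  refine (?_ : ∃ t ∈ T, t ≠ 1 ∧ t ∈ CS).elim fun t ht =>
    ⟨P, S, T, t, hne, hTc, hTab, hTle, ht.1, ht.2.1, ht.2.2⟩
  by_contra hno
  push Not at hno
  obtain ⟨⟨x, hxS⟩, hx⟩ := exists_prime_orderOf_dvd_card' (G := (S : Subgroup G)) 19
    (by rw [card_nineteen h S])
  rw [Subgroup.orderOf_mk] at hx
  have hSx := eq_zpowers_of_mem (card_nineteen h S) hxS
    (fun e => by rw [e, orderOf_one] at hx; omega)
  have hinv : ∀ u ∈ T, u ≠ 1 → u * x * u⁻¹ = x⁻¹ := by
    intro u hu hu1
    refine conj_eq_inv_of_sq_commute hx (hSx ▸ hTN u hu) (fun e => hno u hu hu1 ?_) ?_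
    · show u ∈ centralizer _
      rw [Order504.centralizer_eq_of_zpowers hSx, mem_centralizer_singleton_iff]
      exact mul_inv_eq_iff_eq_mul.mp e
    · rw [mul_inv_eq_iff_eq_mul]
      exact (mem_centralizer_iff.mp (hsq u hu) x hxS).symm
  have : Nontrivial T := Finite.one_lt_card_iff_nontrivial.mp (by rw [hTc]; norm_num)
  obtain ⟨⟨a, ha⟩, ha1⟩ := exists_ne (1 : T)
  have ha1' : a ≠ 1 := fun e => ha1 (Subtype.ext e)
  obtain ⟨⟨b, hb⟩, hb1, hba⟩ : ∃ b : T, b ≠ 1 ∧ b ≠ ⟨a, ha⟩⁻¹ := by
    by_contra hall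
    push Not at hall
    have := Fintype.ofFinite T
    have hsub : (Finset.univ : Finset T) ⊆ {1, ⟨a, ha⟩⁻¹} := fun b _ => by
      by_cases hb : b = 1
      · simp [hb]
      · simp [hall b hb]
    have := (Finset.card_le_card hsub).trans Finset.card_le_two
    rw [Finset.card_univ, ← Nat.card_eq_fintype_card, hTc] at this
    omega
  have hb1' : b ≠ 1 := fun e => hb1 (Subtype.ext e)
  have hab : a * b ≠ 1 := fun e => hba (Subtype.ext (eq_inv_of_mul_eq_one_right e))
  refine hno (a * b) (mul_mem ha hb) hab ?_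
  show a * b ∈ centralizer _
  rw [Order504.centralizer_eq_of_zpowers hSx, mem_centralizer_singleton_iff,
    ← mul_inv_eq_iff_eq_mul]
  calc a * b * x * (a * b)⁻¹ = a * (b * x * b⁻¹) * a⁻¹ := by group
    _ = a * x⁻¹ * a⁻¹ := by rw [hinv b hb hb1']
    _ = x := by rw [← conj_inv, hinv a ha ha1', inv_inv]

theorem card_ne (h : Nat.card G = 459648) : False := by
  classical
  have : Fact (Nat.Prime 19) := ⟨by norm_num⟩
  have : Fact (Nat.Prime 3) := ⟨Nat.prime_three⟩
  obtain ⟨hn, hdata⟩ := nineteen_data h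
  obtain ⟨P, S, T, t, hne, hTc, hTab, hTle, htT, ht1, htS⟩ := exists_involution h
  obtain ⟨⟨x, hxP⟩, hx⟩ := exists_prime_orderOf_dvd_card' (G := (P : Subgroup G)) 19
    (by rw [card_nineteen h P])
  rw [Subgroup.orderOf_mk] at hx
  have hx1 : x ≠ 1 := fun e => by rw [e, orderOf_one] at hx; omega
  have hPx := eq_zpowers_of_mem (card_nineteen h P) hxP hx1
  set W := centralizer ({t} : Set G)
  have hPW : (P : Subgroup G) ≤ W := fun a ha =>
    mem_centralizer_singleton_iff.mpr (mem_centralizer_iff.mp (hTle htT) a ha)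
  have hSW : (S : Subgroup G) ≤ W := fun a ha =>
    mem_centralizer_singleton_iff.mpr (mem_centralizer_iff.mp htS a ha)
  have hTW : T ≤ W := fun a ha => mem_centralizer_singleton_iff.mpr
    (congrArg Subtype.val (hTab.is_comm.comm (⟨a, ha⟩ : T) ⟨t, htT⟩))
  have hWtop : W ≠ ⊤ := fun e => ht1 (by
    have : t ∈ center G := mem_center_iff.mpr fun g =>
      mem_centralizer_singleton_iff.mp (e ▸ mem_top g : g ∈ W)
    rw [center_eq_bot_of_nc (nc h), mem_bot] at this
    exact this)
  let P' : Sylow 19 W := P.subtype hPW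
  have hP'c : Nat.card (P' : Subgroup W) = 19 :=
    (Nat.card_congr (subgroupOfEquivOfLe hPW).toEquiv).trans (card_nineteen h P)
  set NW := normalizer ((P' : Subgroup W) : Set W)
  have h19 : 19 ∣ Nat.card NW := (dvd_of_eq hP'c.symm).trans (card_dvd_of_le le_normalizer)
  have h4 : 4 ∣ Nat.card NW := by
    refine (dvd_of_eq ((Nat.card_congr (subgroupOfEquivOfLe hTW).toEquiv).trans hTc).symm).trans
      (card_dvd_of_le (le_trans ?_ (centralizer_le_normalizer' _)))
    intro a ha
    rw [mem_centralizer_iff]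
    intro b hb
    exact Subtype.ext (mem_centralizer_iff.mp (hTle (mem_subgroupOf.mp ha)) b hb)
  have h76 : 76 ∣ Nat.card NW := Nat.Coprime.mul_dvd_of_dvd_of_dvd (by norm_num : Nat.Coprime 4 19) h4 h19
  have h456 : Nat.card NW ∣ 456 := by
    rw [← (hdata P).2, Nat.card_congr (NW.equivMapOfInjective W.subtype Subtype.val_injective).toEquiv]
    refine card_dvd_of_le ((le_normalizer_map (H := (P' : Subgroup W)) W.subtype).trans (le_of_eq ?_))
    rw [show (P' : Subgroup W) = (P : Subgroup G).subgroupOf W from rfl, map_subgroupOf_eq_of_le hPW]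
  have hmul := card_normalizer_mul_card_sylow P'
  have hmodW := card_sylow_modEq_one 19 W
  rw [Nat.ModEq] at hmodW
  have h2 : 2 ≤ Nat.card (Sylow 19 W) := by
    have : Nontrivial (Sylow 19 W) :=
      ⟨P', S.subtype hSW, fun e => hne (Sylow.subtype_injective e)⟩
    exact Finite.one_lt_card
  have hWd : Nat.card W ∣ 459648 := h ▸ card_subgroup_dvd_card W
  have hidx := card_mul_index W
  rw [h] at hidx
  have hfac := two_mul_card_dvd_factorial_index (nc h) hWtop
  rw [h] at hfac
  have hi19 : 19 ≤ W.index :=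
    (Nat.Prime.dvd_factorial (by norm_num)).mp ((by norm_num : 19 ∣ 2 * 459648).trans hfac)
  have hn96 : Nat.card (Sylow 19 W) = 96 := by
    have hd : Nat.card (Sylow 19 W) ∣ 6048 := by
      have h1 : 76 * Nat.card (Sylow 19 W) ∣ 76 * 6048 :=
        (Nat.mul_dvd_mul_right h76 _).trans ((dvd_of_eq hmul).trans hWd)
      exact (Nat.mul_dvd_mul_iff_left (by norm_num : 0 < 76)).mp h1
    have hmem : Nat.card (Sylow 19 W) ∈ (Nat.divisors 6048).filter fun n => n % 19 = 1 ∧ 1 < n :=
      Finset.mem_filter.mpr ⟨Nat.mem_divisors.mpr ⟨hd, by norm_num⟩, by omega, h2⟩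
    rw [show ((Nat.divisors 6048).filter fun n => n % 19 = 1 ∧ 1 < n) = {96, 1008} from
      by decide +kernel] at hmem
    simp only [Finset.mem_insert, Finset.mem_singleton] at hmem
    refine hmem.resolve_right fun e => ?_
    rw [e] at hmul
    have : 76 * 1008 * 19 ≤ Nat.card W * W.index := by
      rw [← hmul]
      exact Nat.mul_le_mul (Nat.mul_le_mul_right _ (Nat.le_of_dvd Nat.card_pos h76)) hi19
    omega
  rw [hn96] at hmul
  have hcase : Nat.card NW = 76 ∨ (Nat.card NW = 228 ∧ W.index = 21) := by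
    obtain ⟨k, hk⟩ := h76
    rw [← hmul, show Nat.card (normalizer ((P' : Subgroup W) : Set W)) = 76 * k from hk] at hidx
    have hk6 : k ∣ 6 := (Nat.mul_dvd_mul_iff_left (by norm_num : 0 < 76)).mp
      (show 76 * k ∣ 76 * 6 from hk ▸ h456)
    have hkle := Nat.le_of_dvd (by norm_num) hk6
    interval_cases k
    · omega
    · exact Or.inl hk
    · omega
    · exact Or.inr ⟨hk, by omega⟩
    · omega
    · omega
    · omega
  rcases hcase with hNW | ⟨-, hi⟩
  swap
  · -- a transposition-free element commuting with a 19-cycle on 21 points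
    have := Fintype.ofFinite (G ⧸ W)
    have hinj := toPermHom_injective (G := G) hWtop
    have hd := Order504.card_centralizer_dvd_of_injective hinj x
    have hc : Fintype.card (G ⧸ W) = 21 := by rw [← Nat.card_eq_fintype_card, ← index_eq_card, hi]
    rw [Order504.card_centralizer_perm_dvd (p := 19) (by omega)
      (by rw [orderOf_injective _ hinj, hx]), hc, ← Order504.centralizer_eq_of_zpowers hPx] at hd
    have := (hdata P).1.trans hd
    norm_num [Nat.factorial] at this
  -- the normal complement of `P` in `W`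
  have hcomm : NW ≤ centralizer ((P' : Subgroup W) : Set W) := by
    have hle : (P : Subgroup G) ⊔ T ≤ centralizer ((P : Subgroup G) : Set G) := by
      refine sup_le (fun a ha => mem_centralizer_iff.mpr fun b hb => ?_) hTle
      have hcyc : IsCyclic (P : Subgroup G) := isCyclic_of_prime_card (card_nineteen h P)
      let _ := IsCyclic.commGroup (α := (P : Subgroup G))
      exact congrArg Subtype.val (mul_comm (⟨b, hb⟩ : (P : Subgroup G)) ⟨a, ha⟩)
    have hPTW : (P : Subgroup G) ⊔ T ≤ W := sup_le hPW hTW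
    have hle' : ((P : Subgroup G) ⊔ T).subgroupOf W ≤ NW := by
      refine le_trans ?_ (centralizer_le_normalizer' _)
      intro a ha
      rw [mem_centralizer_iff]
      intro b hb
      exact Subtype.ext (mem_centralizer_iff.mp (hle (mem_subgroupOf.mp ha)) b hb)
    have heq : ((P : Subgroup G) ⊔ T).subgroupOf W = NW := by
      refine eq_of_le_of_card_ge hle' ?_
      rw [hNW, Nat.card_congr (subgroupOfEquivOfLe hPTW).toEquiv]
      refine Nat.le_of_dvd Nat.card_pos (Nat.Coprime.mul_dvd_of_dvd_of_dvd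
        (by norm_num : Nat.Coprime 4 19) ?_ ?_)
      · exact hTc ▸ card_dvd_of_le le_sup_right
      · exact (dvd_of_eq (card_nineteen h P).symm).trans (card_dvd_of_le le_sup_left)
    rw [← heq]
    intro a ha
    rw [mem_centralizer_iff]
    intro b hb
    exact Subtype.ext (mem_centralizer_iff.mp (hle (mem_subgroupOf.mp ha)) b hb)
  have hcompl := MonoidHom.ker_transferSylow_isComplement' P' hcomm
  set M := (MonoidHom.transferSylow P' hcomm).ker
  have hMc : Nat.card M = 384 := by
    have := hcompl.card_mul_card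
    rw [show Nat.card (P' : Subgroup W) = 19 from hP'c, ← hmul,
      show Nat.card (normalizer ((P' : Subgroup W) : Set W)) = 76 from hNW] at this
    omega
  have hMn : M.Normal := MonoidHom.normal_ker _
  -- `x` fixes a Sylow 3-subgroup of `M`
  have hR3 : ∀ R : Sylow 3 M, Nat.card R = 3 := fun R => by
    simpa using card_sylow_of_card_eq (G := M) (k := 1) (m := 128) (by rw [hMc]; norm_num)
      (by norm_num) R
  have hn3 : ¬ 19 ∣ Nat.card (Sylow 3 M) := by
    intro hd
    obtain ⟨R⟩ := (inferInstance : Nonempty (Sylow 3 M))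
    have h1 := (hd.trans (Dvd.intro_left _ (card_normalizer_mul_card_sylow R)))
    rw [hMc] at h1
    norm_num at h1
  let x' : W := ⟨x, hPW hxP⟩
  have hx' : orderOf x' = 19 := by rw [Subgroup.orderOf_mk, hx]
  have hpg : IsPGroup 19 (zpowers x') := IsPGroup.of_card (n := 1)
    (by rw [Nat.card_zpowers, hx', pow_one])
  let mapR : Sylow 3 M → Subgroup W := fun R => (R : Subgroup M).map M.subtype
  let act : MulAction (zpowers x') (Sylow 3 M) :=
    MulAction.compHom _ ((MulAut.conjNormal (H := M)).comp (zpowers x').subtype)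
  have hmod3 := hpg.card_modEq_card_fixedPoints (Sylow 3 M)
  have hne3 : Nonempty (fixedPoints (zpowers x') (Sylow 3 M)) := by
    refine (Nat.card_pos_iff.mp ?_).1
    refine Nat.pos_of_ne_zero fun e => hn3 ?_
    rw [e, Nat.modEq_zero_iff_dvd] at hmod3
    exact hmod3
  obtain ⟨⟨R, hR⟩⟩ := hne3
  have hRc : Nat.card (mapR R) = 3 :=
    (Nat.card_congr ((R : Subgroup M).equivMapOfInjective _ Subtype.val_injective).toEquiv).symm.trans
      (hR3 R)
  have hconj : ∀ u : zpowers x', ∀ r ∈ mapR R, (u : W) * r * (u : W)⁻¹ ∈ mapR R := by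
    intro u r hr
    obtain ⟨m, hm, rfl⟩ := hr
    have hu : (MulAut.conjNormal (H := M) (u : W)) • R = R := by
      have h := hR u
      exact h
    refine ⟨MulAut.conjNormal (u : W) m, ?_, MulAut.conjNormal_apply _ _⟩
    rw [← hu]
    exact smul_mem_pointwise_smul _ _ _ hm
  have hxN : x' ∈ normalizer (mapR R : Set W) := by
    rw [mem_normalizer_iff]
    intro r
    refine ⟨hconj ⟨x', mem_zpowers x'⟩ r, fun hr => ?_⟩
    have := hconj ⟨x'⁻¹, inv_mem (mem_zpowers x')⟩ _ hr
    simpa [mul_assoc] using this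
  have hxC : x' ∈ centralizer (mapR R : Set W) := by
    have h1 : x' ^ ((centralizer (mapR R : Set W)).relIndex (normalizer (mapR R : Set W))) ∈
        centralizer (mapR R : Set W) := by
      have hnorm : ((centralizer (mapR R : Set W)).subgroupOf
          (normalizer (mapR R : Set W))).Normal := inferInstance
      exact mem_subgroupOf.mp (((centralizer (mapR R : Set W)).subgroupOf
        (normalizer (mapR R : Set W))).pow_index_mem ⟨x', hxN⟩)
    have hrel := relIndex_centralizer_normalizer_dvd_of_prime (p := 3) hRc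
    obtain ⟨k, hk⟩ := hrel
    have h2 : x' ^ 2 ∈ centralizer (mapR R : Set W) := by
      rw [show (2 : ℕ) = 3 - 1 from rfl, hk, pow_mul]; exact pow_mem h1 k
    have h3 : x' = (x' ^ 2) ^ 10 := by
      rw [← pow_mul, ← pow_mod_orderOf, hx', show 2 * 10 % 19 = 1 from rfl, pow_one]
    rw [h3]; exact pow_mem h2 10
  have hdiv : 3 ∣ Nat.card NW := by
    refine hRc ▸ card_dvd_of_le (le_trans ?_ (centralizer_le_normalizer' _))
    intro r hr
    rw [mem_centralizer_iff]
    intro b hb
    have hbz : b ∈ zpowers x' := by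
      rw [← eq_zpowers_of_mem hP'c (show x' ∈ (P' : Subgroup W) from hxP)
        (fun e => hx1 (congrArg Subtype.val e))]
      exact hb
    obtain ⟨n, rfl⟩ := mem_zpowers_iff.mp hbz
    exact (Commute.zpow_left (show Commute x' r from (mem_centralizer_iff.mp hxC r hr).symm) n).eq
  rw [hNW] at hdiv
  norm_num at hdiv

end CfsgLib.Small.Order459648
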