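import Cfsg.Agent.Lib.Small.Order5040Seven
import Cfsg.Agent.Lib.Involutions.BrauerSuzuki
import Cfsg.Agent.Lib.Involutions.Fusion

/-!
Simple groups of order 5040: an involution whose centraliser is the normaliser of a Sylow
5-subgroup, of order 40.
-/

set_option autoImplicit false

namespace CfsgLib.Small.Order5040

open Subgroup MulAction CfsgLib.Small CfsgLib.SylowNumber

variable {G : Type*} [Group G] [Finite G]

theorem card_five [Fact (Nat.Prime 5)] (h : Nat.card G = 5040) (Q : Sylow 5 G) :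
    Nat.card Q = 5 := by
  simpa using card_sylow_of_card_eq (k := 1) (m := 1008) (by rw [h]; norm_num) (by norm_num) Q

/-- An element commuting with every element of a generating set of subgroups of coprime orders. -/
theorem le_centralizer_of_card {N : Subgroup G} {u : G} {A B : Subgroup G} (hA : A ≤ N) (hB : B ≤ N)
    (hAu : ∀ a ∈ A, a * u = u * a) (hBu : ∀ b ∈ B, b * u = u * b)
    (hcop : Nat.Coprime (Nat.card A) (Nat.card B)) (hN : Nat.card N = Nat.card A * Nat.card B) :
    N ≤ centralizer ({u} : Set G) := by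
  have hAD : A ≤ N ⊓ centralizer ({u} : Set G) :=
    le_inf hA fun a ha => mem_centralizer_singleton_iff.mpr (hAu a ha)
  have hBD : B ≤ N ⊓ centralizer ({u} : Set G) :=
    le_inf hB fun b hb => mem_centralizer_singleton_iff.mpr (hBu b hb)
  have hd := hcop.mul_dvd_of_dvd_of_dvd (card_dvd_of_le hAD) (card_dvd_of_le hBD)
  rw [← hN] at hd
  have h := eq_of_le_of_card_ge (inf_le_left : N ⊓ centralizer ({u} : Set G) ≤ N)
    (Nat.le_of_dvd Nat.card_pos hd)
  exact h ▸ inf_le_right

/-- An involution in a normal subgroup of a 2-group, central in the 2-group. -/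
theorem exists_central_involution {T : Subgroup G} (hT : IsPGroup 2 T) {K : Subgroup G}
    (hKT : K ≤ T) (hnorm : ∀ t ∈ T, ∀ k ∈ K, t * k * t⁻¹ ∈ K) (hK : K ≠ ⊥) :
    ∃ u ∈ K, orderOf u = 2 ∧ ∀ t ∈ T, t * u = u * t := by
  classical
  have : Fact (Nat.Prime 2) := ⟨Nat.prime_two⟩
  let _ : MulAction T K :=
    { smul := fun t k => ⟨(t : G) * k * (t : G)⁻¹, hnorm t t.2 k k.2⟩
      one_smul := fun k => Subtype.ext (by change (1 : G) * k * (1 : G)⁻¹ = k; simp)
      mul_smul := fun s t k => Subtype.ext (by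
        change ((s : G) * t) * k * ((s : G) * t)⁻¹ = (s : G) * ((t : G) * k * (t : G)⁻¹) * (s : G)⁻¹
        group) }
  have hKp : IsPGroup 2 K := hT.to_le hKT
  obtain ⟨j, hj⟩ := IsPGroup.iff_card.mp hKp
  have hj0 : j ≠ 0 := fun e => hK (eq_bot_of_card_eq K (by rw [hj, e, pow_zero]))
  obtain ⟨b, hb, hne⟩ := hT.exists_fixed_point_of_prime_dvd_card_of_fixed_point K
    (hj ▸ dvd_pow_self 2 hj0) (a := (1 : K))
    (by intro t; exact Subtype.ext (by change (t : G) * 1 * (t : G)⁻¹ = 1; simp))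
  obtain ⟨i, hi, ho⟩ := (Nat.dvd_prime_pow Nat.prime_two).mp (hj ▸ orderOf_dvd_natCard b)
  have hi0 : i ≠ 0 := fun e => hne (orderOf_eq_one_iff.mp (by rw [ho, e, pow_zero])).symm
  refine ⟨(b : G) ^ 2 ^ (i - 1), pow_mem b.2 _, ?_, fun t ht => ?_⟩
  · rw [orderOf_pow' _ (pow_ne_zero _ two_ne_zero), Subgroup.orderOf_coe, ho,
      Nat.gcd_eq_right (pow_dvd_pow 2 (Nat.sub_le i 1)),
      Nat.pow_div (Nat.sub_le i 1) (by norm_num), show i - (i - 1) = 1 by omega, pow_one]
  · have h2 : t * (b : G) * t⁻¹ = b := congrArg Subtype.val (hb ⟨t, ht⟩)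
    exact (show Commute t (b : G) from mul_inv_eq_iff_eq_mul.mp h2).pow_right _

variable [IsSimpleGroup G] [Fact (Nat.Prime 5)] [Fact (Nat.Prime 7)]

omit [Fact (Nat.Prime 7)] in
theorem five_data (h : Nat.card G = 5040) (Q : Sylow 5 G) :
    ∃ e, (e = 2 ∨ e = 4) ∧
      (centralizer ((Q : Subgroup G) : Set G)).relIndex (normalizer ((Q : Subgroup G) : Set G)) = e ∧
      5 ∣ Nat.card (centralizer ((Q : Subgroup G) : Set G)) ∧
      Nat.card (centralizer ((Q : Subgroup G) : Set G)) * e * Nat.card (Sylow 5 G) = 5040 := by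
  obtain ⟨e, he1, he2, h5C, hCe, hall⟩ := sylow_prime_order_data (nc h) Q (card_five h Q)
  refine ⟨e, ?_, ?_, h5C, hall.trans h⟩
  · have := Nat.le_of_dvd (by norm_num) he2
    interval_cases e <;> simp_all
  · have := card_centralizer_mul_relIndex (Q : Subgroup G)
    rw [← hCe] at this
    exact Nat.eq_of_mul_eq_mul_left Nat.card_pos this

/-- No element of order 7 normalises a Sylow 5-subgroup. -/
theorem not_seven_normalizer (h : Nat.card G = 5040) {Q : Sylow 5 G} {y : G} (hy : orderOf y = 7)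
    (hyN : y ∈ normalizer ((Q : Subgroup G) : Set G)) : False := by
  have hyC := mem_centralizer_of_pow hyN (orderOf_dvd_iff_pow_eq_one.mp (dvd_of_eq hy))
    (Nat.Coprime.coprime_dvd_right
      (relIndex_centralizer_normalizer_dvd_of_prime (p := 5) (card_five h Q)) (by norm_num))
  obtain ⟨⟨q, hq⟩, hqo⟩ := exists_prime_orderOf_dvd_card' (G := (Q : Subgroup G)) 5
    (by rw [card_five h Q])
  rw [Subgroup.orderOf_mk] at hqo
  obtain ⟨P, hyP, -⟩ := exists_unique_sylow_mem hy (card_seven h)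
  have hqC : q ∈ centralizer ((P : Subgroup G) : Set G) := by
    rw [Order504.centralizer_eq_of_zpowers (eq_zpowers_of_mem (card_seven h P) hyP
      (fun e => by rw [e, orderOf_one] at hy; omega)), mem_centralizer_singleton_iff]
    exact mem_centralizer_iff.mp hyC q hq
  have := orderOf_dvd_natCard (⟨q, hqC⟩ : centralizer ((P : Subgroup G) : Set G))
  rw [Subgroup.orderOf_mk, hqo, ((seven_structure h).2 P).1] at this
  norm_num at this

theorem five_mem (h : Nat.card G = 5040) :
    Nat.card (Sylow 5 G) = 21 ∨ Nat.card (Sylow 5 G) = 56 ∨ Nat.card (Sylow 5 G) = 126 := by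
  have hm := card_sylow_mem (p := 5) (nc h) (k := 1) (m := 1008) one_ne_zero
    (by rw [h]; norm_num) (by norm_num)
  rw [show ((Nat.divisors 1008).filter fun n => n % 5 = 1 ∧ 1 < n) = {6, 16, 21, 36, 56, 126, 336}
    from by decide +kernel] at hm
  simp only [Finset.mem_insert, Finset.mem_singleton] at hm
  obtain ⟨Q⟩ := (inferInstance : Nonempty (Sylow 5 G))
  have hmul := card_normalizer_mul_card_sylow Q
  have hseven : ¬ 7 ∣ Nat.card (normalizer ((Q : Subgroup G) : Set G)) := by
    intro hd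
    obtain ⟨⟨y, hyN⟩, hy⟩ := exists_prime_orderOf_dvd_card' 7 hd
    rw [Subgroup.orderOf_mk] at hy
    exact not_seven_normalizer h hy hyN
  rw [h] at hmul
  rcases hm with e | e | e | e | e | e | e
  · exfalso
    have := two_mul_card_dvd_factorial_card_sylow (nc h) (p := 5) (by rw [h]; norm_num)
    rw [e, h] at this
    norm_num [Nat.factorial] at this
  · rw [e] at hmul; omega
  · exact Or.inl e
  · rw [e] at hmul; omega
  · exact Or.inr (Or.inl e)
  · exact Or.inr (Or.inr e)
  · exfalso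
    obtain ⟨d, hd, -, ⟨k, hk⟩, hall⟩ := five_data h Q
    rw [e, hk] at hall
    rcases hd with rfl | rfl <;> omega

omit [Fact (Nat.Prime 5)] in
/-- An element of order 7, an involution inverting it and an element of order 3 commuting with the
involution. -/
theorem normalizer_seven_elements (h : Nat.card G = 5040) :
    ∃ (P : Sylow 7 G) (v s : G), orderOf v = 2 ∧ orderOf s = 3 ∧ v * s = s * v ∧
      v ∈ normalizer ((P : Subgroup G) : Set G) ∧ v ∉ centralizer ((P : Subgroup G) : Set G) ∧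
      s ∈ normalizer ((P : Subgroup G) : Set G) ∧ s ∉ centralizer ((P : Subgroup G) : Set G) := by
  have : Fact (Nat.Prime 2) := ⟨Nat.prime_two⟩
  have : Fact (Nat.Prime 3) := ⟨Nat.prime_three⟩
  obtain ⟨P⟩ := (inferInstance : Nonempty (Sylow 7 G))
  obtain ⟨hC, hN⟩ := (seven_structure h).2 P
  obtain ⟨x, hxP, hx, -, hCx⟩ := exists_gen h P
  have hPx := eq_zpowers_of_mem (card_seven h P) hxP (fun e => by rw [e, orderOf_one] at hx; omega)
  have hnotC : ∀ g : G, g ≠ 1 → g ^ 6 = 1 → g ∉ centralizer ((P : Subgroup G) : Set G) := by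
    intro g hg h6 hgC
    have := orderOf_dvd_natCard (⟨g, hgC⟩ : centralizer ((P : Subgroup G) : Set G))
    rw [Subgroup.orderOf_mk, hC] at this
    exact hg (orderOf_eq_one_iff.mp
      (Nat.eq_one_of_dvd_coprimes (by norm_num : Nat.Coprime 6 7)
        (orderOf_dvd_of_pow_eq_one h6) this))
  obtain ⟨⟨v, hvN⟩, hv⟩ := exists_prime_orderOf_dvd_card'
    (G := normalizer ((P : Subgroup G) : Set G)) 2 (by rw [hN]; norm_num)
  obtain ⟨⟨a, haN⟩, ha⟩ := exists_prime_orderOf_dvd_card'
    (G := normalizer ((P : Subgroup G) : Set G)) 3 (by rw [hN]; norm_num)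
  rw [Subgroup.orderOf_mk] at hv ha
  have hv1 : v ≠ 1 := fun e => by rw [e, orderOf_one] at hv; omega
  have hvv : v * v = 1 := by rw [← pow_two, ← hv, pow_orderOf_eq_one]
  have hvC := hnotC v hv1 (by rw [show (6 : ℕ) = 2 * 3 from rfl, pow_mul, pow_two, hvv, one_pow])
  have hvx : v * x * v⁻¹ = x⁻¹ := by
    refine conj_eq_inv_of_sq_commute (p := 7) hx (hPx ▸ hvN) (fun e => hvC ?_) (by rw [hvv]; simp)
    rw [hCx, mem_centralizer_singleton_iff]
    exact mul_inv_eq_iff_eq_mul.mp e
  have hinv : ∀ y ∈ (P : Subgroup G), v * y * v⁻¹ = y⁻¹ := by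
    intro y hy
    rw [hPx, mem_zpowers_iff] at hy
    obtain ⟨i, rfl⟩ := hy
    rw [← conj_zpow, hvx, inv_zpow]
  -- the conjugate of `v` by `a` is `v y` with `y` in `P`
  have hy : v⁻¹ * (a * v * a⁻¹) ∈ (P : Subgroup G) := by
    have hCP : centralizer ((P : Subgroup G) : Set G) = (P : Subgroup G) := by
      refine (eq_of_le_of_card_ge ?_ (by rw [hC, card_seven h P])).symm
      rw [hPx, zpowers_le, ← hPx, hCx, mem_centralizer_singleton_iff]
    rw [← hCP, hCx, mem_centralizer_singleton_iff]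
    have h1 : a⁻¹ * x * a ∈ (P : Subgroup G) := by
      have := (mem_normalizer_iff.mp (inv_mem haN) x).mp hxP
      rwa [inv_inv] at this
    have h2 : (a * v * a⁻¹) * x * (a * v * a⁻¹)⁻¹ = x⁻¹ := by
      calc (a * v * a⁻¹) * x * (a * v * a⁻¹)⁻¹ = a * (v * (a⁻¹ * x * a) * v⁻¹) * a⁻¹ := by group
        _ = a * (a⁻¹ * x * a)⁻¹ * a⁻¹ := by rw [hinv _ h1]
        _ = x⁻¹ := by group
    calc v⁻¹ * (a * v * a⁻¹) * x = v⁻¹ * ((a * v * a⁻¹) * x * (a * v * a⁻¹)⁻¹) * (a * v * a⁻¹) := by
          group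
      _ = v⁻¹ * (v * x * v⁻¹) * (a * v * a⁻¹) := by rw [h2, hvx]
      _ = x * (v⁻¹ * (a * v * a⁻¹)) := by group
  set y := v⁻¹ * (a * v * a⁻¹) with hydef
  have hy7 : y ^ 7 = 1 := by
    rw [← orderOf_dvd_iff_pow_eq_one]
    have := orderOf_dvd_natCard (⟨y, hy⟩ : (P : Subgroup G))
    rwa [Subgroup.orderOf_mk, card_seven h P] at this
  have hcomm : Commute v (y ^ 4 * a) := by
    have h1 : v * y ^ 4 * v⁻¹ = (y ^ 4)⁻¹ := hinv _ (pow_mem hy 4)
    have h2 : a * v = v * y * a := by rw [hydef]; group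
    have h3 : y ^ 4 * v = v * (y ^ 4)⁻¹ := by
      have hvi : v⁻¹ = v := inv_eq_of_mul_eq_one_right hvv
      calc y ^ 4 * v = v * (v⁻¹ * y ^ 4 * v) := by group
        _ = v * (v * y ^ 4 * v⁻¹) := by rw [hvi]
        _ = v * (y ^ 4)⁻¹ := by rw [h1]
    have h4 : (y ^ 4)⁻¹ * y = y ^ 4 := by
      rw [inv_mul_eq_iff_eq_mul, ← pow_add, show 4 + 4 = 7 + 1 from rfl, pow_succ, hy7, one_mul]
    calc v * (y ^ 4 * a) = v * ((y ^ 4)⁻¹ * y) * a := by rw [h4, mul_assoc]
      _ = (v * (y ^ 4)⁻¹) * (y * a) := by group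
      _ = y ^ 4 * (v * y * a) := by rw [← h3]; group
      _ = y ^ 4 * a * v := by rw [← h2]; group
  refine ⟨P, v, y ^ 4 * a, hv, ?_, hcomm.eq, hvN, hvC, mul_mem (pow_mem (le_normalizer hy) 4) haN, ?_⟩
  rotate_left
  · -- not centralising
    intro hmem
    refine hnotC a (fun e => by rw [e, orderOf_one] at ha; omega)
      (by rw [show (6 : ℕ) = 3 * 2 from rfl, pow_mul, ← ha, pow_orderOf_eq_one, one_pow]) ?_
    have hyC : y ^ 4 ∈ centralizer ((P : Subgroup G) : Set G) := by
      rw [hPx] at hy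
      obtain ⟨i, hi⟩ := mem_zpowers_iff.mp hy
      rw [hCx, mem_centralizer_singleton_iff, ← hi]
      exact (((Commute.refl x).zpow_left i).pow_left 4).eq
    exact (mul_mem_cancel_left hyC).mp hmem
  · -- order
    set s := y ^ 4 * a with hs
    have hyc : ∀ z ∈ (P : Subgroup G), y ^ 4 * z * (y ^ 4)⁻¹ = z := by
      intro z hz
      rw [hPx] at hy hz
      obtain ⟨i, hi⟩ := mem_zpowers_iff.mp hy
      obtain ⟨j, hj⟩ := mem_zpowers_iff.mp hz
      have hc : Commute (y ^ 4) z := by
        rw [← hi, ← hj]; exact ((Commute.refl x).zpow_zpow i j).pow_left 4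
      rw [hc.eq, mul_inv_cancel_right]
    have hsa : ∀ z ∈ (P : Subgroup G), s * z * s⁻¹ = a * z * a⁻¹ := by
      intro z hz
      rw [hs, mul_inv_rev]
      calc y ^ 4 * a * z * (a⁻¹ * (y ^ 4)⁻¹) = y ^ 4 * (a * z * a⁻¹) * (y ^ 4)⁻¹ := by group
        _ = a * z * a⁻¹ := hyc _ ((mem_normalizer_iff.mp haN z).mp hz)
    have hax : ∀ z ∈ (P : Subgroup G), a * z * a⁻¹ ∈ (P : Subgroup G) := fun z hz =>
      (mem_normalizer_iff.mp haN z).mp hz
    have h3 : s ^ 3 * x = x * s ^ 3 := by
      have ha3 : a ^ 3 = 1 := by rw [← ha, pow_orderOf_eq_one]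
      have : s ^ 3 * x * (s ^ 3)⁻¹ = x := by
        calc s ^ 3 * x * (s ^ 3)⁻¹ = s * (s * (s * x * s⁻¹) * s⁻¹) * s⁻¹ := by
              simp [pow_succ, mul_assoc]
          _ = a * (a * (a * x * a⁻¹) * a⁻¹) * a⁻¹ := by
            rw [hsa _ hxP, hsa _ (hax _ hxP), hsa _ (hax _ (hax _ hxP))]
          _ = a ^ 3 * x * (a ^ 3)⁻¹ := by simp [pow_succ, mul_assoc]
          _ = x := by rw [ha3]; simp
      exact mul_inv_eq_iff_eq_mul.mp this
    have hsP : s ^ 3 ∈ centralizer ((P : Subgroup G) : Set G) := by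
      rw [hCx, mem_centralizer_singleton_iff]; exact h3
    have hsP' : s ^ 3 ∈ (P : Subgroup G) := by
      have hCP : centralizer ((P : Subgroup G) : Set G) = (P : Subgroup G) := by
        refine (eq_of_le_of_card_ge ?_ (by rw [hC, card_seven h P])).symm
        rw [hPx, zpowers_le, ← hPx, hCx, mem_centralizer_singleton_iff]
      exact hCP ▸ hsP
    have hfix := hinv _ hsP'
    rw [(hcomm.pow_right 3).eq, mul_inv_cancel_right] at hfix
    have h7 : (s ^ 3) ^ 7 = 1 := by
      rw [← orderOf_dvd_iff_pow_eq_one]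
      have := orderOf_dvd_natCard (⟨s ^ 3, hsP'⟩ : (P : Subgroup G))
      rwa [Subgroup.orderOf_mk, card_seven h P] at this
    have hsq : (s ^ 3) ^ 2 = 1 := by
      rw [pow_two]
      calc s ^ 3 * s ^ 3 = s ^ 3 * (s ^ 3)⁻¹ := by rw [← hfix]
        _ = 1 := mul_inv_cancel _
    have hs3 : s ^ 3 = 1 := by
      calc s ^ 3 = (s ^ 3) ^ (7 - 2 * 3) := by norm_num
        _ = 1 := by
          have : (s ^ 3) ^ 7 = ((s ^ 3) ^ 2) ^ 3 * (s ^ 3) := by group
          rw [hsq, one_pow, one_mul, h7] at this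
          rw [← this]; simp
    refine orderOf_eq_prime hs3 fun e => ?_
    have hane : a ≠ 1 := fun e' => by rw [e', orderOf_one] at ha; omega
    refine hnotC a hane (by rw [show (6 : ℕ) = 3 * 2 from rfl, pow_mul, ← ha, pow_orderOf_eq_one,
      one_pow]) ?_
    rw [hCx, mem_centralizer_singleton_iff]
    have := hsa x hxP
    rw [e, inv_one, one_mul, mul_one] at this
    exact mul_inv_eq_iff_eq_mul.mp this.symm

theorem five_eq (h : Nat.card G = 5040) : Nat.card (Sylow 5 G) = 126 := by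
  classical
  have : Fact (Nat.Prime 2) := ⟨Nat.prime_two⟩
  have : Fact (Nat.Prime 3) := ⟨Nat.prime_three⟩
  by_contra hne
  have hn : Nat.card (Sylow 5 G) = 21 ∨ Nat.card (Sylow 5 G) = 56 := by
    rcases five_mem h with e | e | e <;> tauto
  obtain ⟨P, v, s, hv, hs, hvs, hvN, hvC, hsN, hsC⟩ := normalizer_seven_elements h
  have := Fintype.ofFinite (Sylow 5 G)
  have horb : ∀ a : Sylow 5 G, Nat.card (orbit (P : Subgroup G) a) = 7 := by
    intro a
    have hd : Nat.card (orbit (P : Subgroup G) a) ∣ 7 := by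
      have h2 := index_dvd_card (stabilizer (P : Subgroup G) a)
      rw [index_stabilizer, show Nat.card (P : Subgroup G) = 7 from card_seven h P,
        ← Nat.card_coe_set_eq] at h2
      exact h2
    refine ((Nat.dvd_prime (by norm_num)).mp hd).resolve_left fun h1 => ?_
    obtain ⟨x, hxP, hx, -, -⟩ := exists_gen h P
    have hsub := (Nat.card_eq_one_iff_unique.mp h1).1
    have hxa : x • a = a := congrArg Subtype.val (hsub.elim
      (⟨x • a, ⟨⟨x, hxP⟩, rfl⟩⟩ : orbit (P : Subgroup G) a) ⟨a, mem_orbit_self a⟩)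
    exact not_seven_normalizer h hx (Sylow.smul_eq_iff_mem_normalizer.mp hxa)
  have himg := card_eq_card_image_mul (P : Subgroup G) (Finset.univ : Finset (Sylow 5 G))
    (fun _ _ _ _ => Finset.mem_univ _) (fun a _ => horb a)
  have hbound : ∀ g : G, g ∈ normalizer ((P : Subgroup G) : Set G) →
      g ∉ centralizer ((P : Subgroup G) : Set G) → 7 * (fixFinset (Sylow 5 G) g).card ≤ Nat.card (Sylow 5 G) := by
    intro g hg hgC
    have := card_fix_le_card_image (α := Sylow 5 G) (card_seven h P) hg hgC Finset.univ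
    rw [Nat.card_eq_fintype_card, ← Finset.card_univ, himg, mul_comm]
    exact Nat.mul_le_mul_right 7 this
  have hs3 : s ^ 3 = 1 := orderOf_dvd_iff_pow_eq_one.mp (dvd_of_eq hs)
  have hFs := hbound s hsN hsC
  have hmod := card_fix_modEq (α := Sylow 5 G) hs3
  rw [← Nat.card_eq_fintype_card, Nat.ModEq] at hmod
  obtain ⟨Q, hQ⟩ : (fixFinset (Sylow 5 G) s).Nonempty := by
    rw [← Finset.card_pos]
    rcases hn with e | e
    · have hFv := hbound v hvN hvC
      have h4 := four_dvd_card_support (α := Sylow 5 G) (orderOf_dvd_iff_pow_eq_one.mp (dvd_of_eq hv))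
        (sign_toPerm (nc h) v)
      rw [← Nat.card_eq_fintype_card, e] at h4
      rw [e] at hFv
      have hmem := card_fix_modEq_common (α := Sylow 5 G) (r := 3) (x := v) (y := s) hs3 hvs
      rw [Nat.ModEq, show (fixFinset (Sylow 5 G) v).card = 1 by omega] at hmem
      have hsub : ((fixFinset (Sylow 5 G) v).filter fun a => s • a = a) ⊆ fixFinset (Sylow 5 G) s := fun a ha =>
        mem_fixFinset.mpr (Finset.mem_filter.mp ha).2
      have := Finset.card_le_card hsub
      omega
    · rw [e] at hmod; omega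
  have hQs := mem_fixFinset.mp hQ
  have hsQ := mem_centralizer_of_pow (Sylow.smul_eq_iff_mem_normalizer.mp hQs) hs3
    (Nat.Coprime.coprime_dvd_right
      (relIndex_centralizer_normalizer_dvd_of_prime (p := 5) (card_five h Q)) (by norm_num))
  obtain ⟨⟨q, hq⟩, hqo⟩ := exists_prime_orderOf_dvd_card' (G := (Q : Subgroup G)) 5
    (by rw [card_five h Q])
  rw [Subgroup.orderOf_mk] at hqo
  have h5 := fix_mod (card_five h) hq hqo (mem_centralizer_iff.mp hsQ q hq).symm hQs
  rcases hn with e | e <;> rw [e] at hFs hmod <;> omega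

/-- An involution centralising the normaliser of a Sylow 5-subgroup; its centraliser has at most
six Sylow 5-subgroups. -/
theorem involution_five (h : Nat.card G = 5040) :
    ∃ (Q : Sylow 5 G) (u : G), orderOf u = 2 ∧
      u ∈ centralizer ((Q : Subgroup G) : Set G) ∧
      normalizer ((Q : Subgroup G) : Set G) ≤ centralizer ({u} : Set G) ∧
      (Nat.card (centralizer ({u} : Set G)) = 40 ∨ Nat.card (centralizer ({u} : Set G)) = 240) := by
  classical
  have : Fact (Nat.Prime 2) := ⟨Nat.prime_two⟩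
  have h126 := five_eq h
  obtain ⟨Q⟩ := (inferInstance : Nonempty (Sylow 5 G))
  obtain ⟨e, he, hrel, -, -⟩ := five_data h Q
  have hN := card_normalizer_eq h126 Q
  rw [h] at hN
  set N := normalizer ((Q : Subgroup G) : Set G) with hNdef
  have hN40 : Nat.card N = 40 := by omega
  set C := centralizer ((Q : Subgroup G) : Set G) with hCdef
  obtain ⟨T0, hT0⟩ := Sylow.exists_subgroup_card_pow_prime (G := N) 2 (n := 3)
    (by rw [hN40]; norm_num)
  set T := T0.map N.subtype with hTdef
  have hTN : T ≤ N := map_subtype_le T0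
  have hT8 : Nat.card T = 8 := by
    rw [← Nat.card_congr (T0.equivMapOfInjective _ Subtype.val_injective).toEquiv, hT0]; norm_num
  have hTp : IsPGroup 2 T := IsPGroup.of_card (n := 3) (by rw [hT8]; norm_num)
  have hCn : (C.subgroupOf N).Normal := by
    rw [hCdef, hNdef, ← normalizerMonoidHom_ker]; infer_instance
  have hK : C ⊓ T ≠ ⊥ := by
    intro e'
    have h1 : (C.subgroupOf N).relIndex (T.subgroupOf N) ∣ e := by
      rw [← hrel]; exact @relIndex_dvd_index_of_normal _ _ (C.subgroupOf N) _ hCn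
    rw [relIndex_subgroupOf hTN, ← inf_relIndex_right, e', relIndex_bot_left, hT8] at h1
    rcases he with rfl | rfl <;> omega
  have hnorm : ∀ t ∈ T, ∀ k ∈ C ⊓ T, t * k * t⁻¹ ∈ C ⊓ T := by
    intro t ht k hk
    refine Subgroup.mem_inf.mpr ⟨?_, mul_mem (mul_mem ht hk.2) (inv_mem ht)⟩
    exact mem_subgroupOf.mp (hCn.conj_mem ⟨k, centralizer_le_normalizer' _ hk.1⟩
      (mem_subgroupOf.mpr hk.1) ⟨t, hTN ht⟩)
  obtain ⟨u, huK, hu, huT⟩ := exists_central_involution hTp inf_le_right hnorm hK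
  have huC : u ∈ C := huK.1
  have hu1 : u ≠ 1 := fun e => by rw [e, orderOf_one] at hu; omega
  have hND : N ≤ centralizer ({u} : Set G) :=
    le_centralizer_of_card hTN le_normalizer huT (fun b hb => mem_centralizer_iff.mp huC b hb)
      (by rw [hT8, show Nat.card (Q : Subgroup G) = 5 from card_five h Q]; norm_num)
      (by rw [hN40, hT8, show Nat.card (Q : Subgroup G) = 5 from card_five h Q])
  refine ⟨Q, u, hu, huC, hND, ?_⟩
  have hmul := card_eq_normalizer_mul (le_normalizer.trans hND)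
  rw [inf_eq_left.mpr hND, hN40] at hmul
  set D := centralizer ({u} : Set G) with hDdef
  have h7 : ¬ 7 ∣ Nat.card D := by
    intro hd
    obtain ⟨⟨y, hyD⟩, hy⟩ := exists_prime_orderOf_dvd_card' 7 hd
    rw [Subgroup.orderOf_mk] at hy
    obtain ⟨P, hyP, -⟩ := exists_unique_sylow_mem hy (card_seven h)
    have huP : u ∈ centralizer ((P : Subgroup G) : Set G) := by
      rw [Order504.centralizer_eq_of_zpowers (eq_zpowers_of_mem (card_seven h P) hyP
        (fun e => by rw [e, orderOf_one] at hy; omega)), mem_centralizer_singleton_iff]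
      exact (mem_centralizer_singleton_iff.mp hyD).symm
    have := orderOf_dvd_natCard (⟨u, huP⟩ : centralizer ((P : Subgroup G) : Set G))
    rw [Subgroup.orderOf_mk, hu, ((seven_structure h).2 P).1] at this
    norm_num at this
  have hd : 40 * Nat.card (Sylow 5 D) ∣ 40 * 126 := by
    rw [hmul, show 40 * 126 = 5040 from rfl, ← h]; exact card_subgroup_dvd_card _
  have hmod := card_sylow_modEq_one 5 D
  rw [Nat.ModEq] at hmod
  rcases (show ∀ d ∈ Nat.divisors 126, d % 5 = 1 → d = 1 ∨ d = 6 ∨ 7 ∣ d from by decide +kernel) _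
    (Nat.mem_divisors.mpr ⟨(Nat.mul_dvd_mul_iff_left (by norm_num : 0 < 40)).mp hd, by norm_num⟩)
    hmod with e' | e' | e'
  · left; rw [← hmul, e']
  · right; rw [← hmul, e']
  · exact absurd (e'.trans (Dvd.intro_left _ hmul)) h7

/-- The centraliser has order 40, by Glauberman's `Z*`-theorem. -/
theorem exists_involution_forty (h : Nat.card G = 5040) :
    ∃ u : G, orderOf u = 2 ∧ Nat.card (centralizer ({u} : Set G)) = 40 := by
  classical
  obtain ⟨Q, u, hu, huC, hND, h40 | h240⟩ := involution_five h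
  · exact ⟨u, hu, h40⟩
  exfalso
  have : Fact (Nat.Prime 2) := ⟨Nat.prime_two⟩
  have hu1 : u ≠ 1 := fun e => by rw [e, orderOf_one] at hu; omega
  set D := centralizer ({u} : Set G) with hDdef
  have hQD : (Q : Subgroup G) ≤ D := le_normalizer.trans hND
  have huD : u ∈ D := mem_centralizer_singleton_iff.mpr rfl
  obtain ⟨⟨q, hqQ⟩, hq⟩ := exists_prime_orderOf_dvd_card' (G := (Q : Subgroup G)) 5
    (by rw [card_five h Q])
  rw [Subgroup.orderOf_mk] at hq
  have hQq := eq_zpowers_of_mem (card_five h Q) hqQ (fun e => by rw [e, orderOf_one] at hq; omega)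
  -- `q` fixes only the trivial coset
  have hmem : ∀ g : G, g⁻¹ * q * g ∈ D ↔ g ∈ D := by
    intro g
    refine ⟨fun hg => ?_, fun hg => mul_mem (mul_mem (inv_mem hg) (hQD hqQ)) hg⟩
    have h5 : ∀ R : Sylow 5 D, Nat.card R = 5 := fun R => by
      simpa using card_sylow_of_card_eq (k := 1) (m := 48) (by rw [h240]; norm_num) (by norm_num) R
    have ho : orderOf (⟨g⁻¹ * q * g, hg⟩ : D) = 5 := by
      rw [Subgroup.orderOf_mk, show g⁻¹ * q * g = MulAut.conj g⁻¹ q by simp, MulEquiv.orderOf_eq, hq]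
    obtain ⟨R, hR, -⟩ := exists_unique_sylow_mem ho h5
    obtain ⟨d, hd⟩ := MulAction.exists_smul_eq D R (Q.subtype hQD)
    have hdQ : (d : G) * (g⁻¹ * q * g) * (d : G)⁻¹ ∈ (Q : Subgroup G) := by
      have : d * ⟨g⁻¹ * q * g, hg⟩ * d⁻¹ ∈ ((d • R : Sylow 5 D) : Subgroup D) := by
        rw [Sylow.coe_subgroup_smul]
        exact ⟨_, hR, by simp⟩
      rw [hd] at this
      exact mem_subgroupOf.mp this
    have hgN : (d : G) * g⁻¹ ∈ normalizer ((Q : Subgroup G) : Set G) := by
      apply Sylow.smul_eq_iff_mem_normalizer.mp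
      refine (exists_unique_sylow_mem (show orderOf ((d : G) * g⁻¹ * q * ((d : G) * g⁻¹)⁻¹) = 5 by
        rw [← MulAut.conj_apply, MulEquiv.orderOf_eq, hq]) (card_five h)).unique ?_ ?_
      · rw [← SetLike.mem_coe, Sylow.coe_smul]
        exact ⟨q, hqQ, by simp [mul_assoc]⟩
      · rw [show (d : G) * g⁻¹ * q * ((d : G) * g⁻¹)⁻¹ = (d : G) * (g⁻¹ * q * g) * (d : G)⁻¹ by group]
        exact hdQ
    have := mul_mem (inv_mem d.2) (hND hgN)
    rwa [inv_mul_cancel_left, inv_mem_iff] at this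
  have := Fintype.ofFinite (G ⧸ D)
  have hi : D.index = 21 := by
    have := card_mul_index D
    rw [h, h240] at this
    omega
  have hqu : u * q = q * u := (mem_centralizer_iff.mp huC q hqQ).symm
  have hmod := card_fix_modEq_common (α := G ⧸ D) (r := 5) (x := u) (y := q)
    (orderOf_dvd_iff_pow_eq_one.mp (dvd_of_eq hq)) hqu
  have h1mem : ((1 : G) : G ⧸ D) ∈ fixFinset (G ⧸ D) u := by
    rw [mem_fixFinset, smul_mk_eq_self_iff]; simpa using huD
  have hone : ((fixFinset (G ⧸ D) u).filter fun a => q • a = a) = {((1 : G) : G ⧸ D)} := by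
    ext a
    induction a using QuotientGroup.induction_on with
    | H g =>
      rw [Finset.mem_filter, Finset.mem_singleton, mem_fixFinset, smul_mk_eq_self_iff,
        smul_mk_eq_self_iff, QuotientGroup.eq, mul_one, inv_mem_iff, hmem]
      exact ⟨fun h => h.2, fun hg => ⟨mul_mem (mul_mem (inv_mem hg) huD) hg, hg⟩⟩
  rw [hone, Finset.card_singleton, Nat.ModEq] at hmod
  have h4 := four_dvd_card_support (α := G ⧸ D) (orderOf_dvd_iff_pow_eq_one.mp (dvd_of_eq hu))
    (sign_toPerm (nc h) u)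
  have hne := centralizer_ne_top h hu1
  have hlt : (fixFinset (G ⧸ D) u).card < 21 := by
    rw [← hi, index_eq_card, Nat.card_eq_fintype_card]
    exact lt_of_le_of_ne (Finset.card_le_univ _) fun e => hu1 (eq_one_of_fix_eq_univ
      (α := G ⧸ D) (toPermHom_injective hne) e)
  rw [← Nat.card_eq_fintype_card, ← index_eq_card, hi] at h4
  have hF1 : (fixFinset (G ⧸ D) u).card = 1 := by omega
  -- so `u` is isolated
  have hiso : Cfsg.IsIsolatedInvolution u := by
    refine ⟨hu, fun g hg => ?_⟩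
    have hgf : (g : G ⧸ D) ∈ fixFinset (G ⧸ D) u := by
      rw [mem_fixFinset, smul_mk_eq_self_iff, hDdef, mem_centralizer_singleton_iff]
      calc g⁻¹ * u * g * u = g⁻¹ * (u * (g * u * g⁻¹)) * g := by group
        _ = g⁻¹ * (g * u * g⁻¹ * u) * g := by rw [hg.eq]
        _ = u * (g⁻¹ * u * g) := by group
    have hgD : g ∈ D := by
      have := Finset.card_le_one.mp hF1.le _ hgf _ h1mem
      rwa [QuotientGroup.eq, mul_one, inv_mem_iff] at this
    rw [mem_centralizer_singleton_iff.mp hgD, mul_inv_cancel_right]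
  have hz := CfsgLib.Involutions.zstar G u hiso
  rcases eq_bot_or_top (Cfsg.pPrimeCore 2 G) with e | e
  · refine hu1 ?_
    have : u ∈ center G := mem_center_iff.mpr fun g => by
      have := hz g
      rw [e, mem_bot, mul_inv_eq_one, mul_inv_eq_iff_eq_mul] at this
      exact this
    rwa [center_eq_bot_of_nc (nc h), mem_bot] at this
  · have := CfsgLib.PCore.not_dvd_card_pPrimeCore (p := 2) (G := G)
    rw [e, card_top, h] at this
    norm_num at this

end CfsgLib.Small.Order5040
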