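import Cfsg.Agent.Lib.Small.Fixed
import Cfsg.Agent.Lib.Small.Order504
import Cfsg.Agent.Lib.Small.Order2016
import Cfsg.Agent.Lib.SylowNumber.Action
import Cfsg.Agent.Lib.SylowNumber.TwentyTwo

/-!
Simple groups of order 5040: a Sylow 7-subgroup is self-centralising with normaliser of order 42.
-/

set_option autoImplicit false

namespace CfsgLib.Small.Order5040

open Subgroup MulAction CfsgLib.Small CfsgLib.SylowNumber

variable {G : Type*} [Group G] [Finite G]

section Tools

variable {p : ℕ} [hp : Fact p.Prime]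

theorem card_centralizer_sylow (P R : Sylow p G) :
    Nat.card (centralizer ((P : Subgroup G) : Set G)) =
      Nat.card (centralizer ((R : Subgroup G) : Set G)) := by
  obtain ⟨g, rfl⟩ := MulAction.exists_smul_eq G P R
  refine Nat.card_congr (Equiv.subtypeEquiv (MulAut.conj g).toEquiv fun y => ?_)
  simp only [MulEquiv.toEquiv_eq_coe, EquivLike.coe_coe, MulAut.conj_apply, mem_centralizer_iff,
    SetLike.mem_coe]
  constructor
  · intro hy b hb
    rw [Sylow.coe_subgroup_smul] at hb
    obtain ⟨a, ha, rfl⟩ := hb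
    change g * a * g⁻¹ * (g * y * g⁻¹) = g * y * g⁻¹ * (g * a * g⁻¹)
    calc g * a * g⁻¹ * (g * y * g⁻¹) = g * (a * y) * g⁻¹ := by group
      _ = g * (y * a) * g⁻¹ := by rw [hy a ha]
      _ = g * y * g⁻¹ * (g * a * g⁻¹) := by group
  · intro hy a ha
    have h := hy (g * a * g⁻¹) (by
      rw [Sylow.coe_subgroup_smul]
      exact ⟨a, ha, by simp⟩)
    calc a * y = g⁻¹ * (g * a * g⁻¹ * (g * y * g⁻¹)) * g := by group
      _ = g⁻¹ * (g * y * g⁻¹ * (g * a * g⁻¹)) * g := by rw [h]
      _ = y * a := by group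

omit [Finite G] in
/-- An element of the normaliser whose order is prime to the automiser centralises. -/
theorem mem_centralizer_of_pow {R : Subgroup G} {u : G} (hu : u ∈ normalizer (R : Set G)) {m : ℕ}
    (hm : u ^ m = 1)
    (hcop : Nat.Coprime m ((centralizer (R : Set G)).relIndex (normalizer (R : Set G)))) :
    u ∈ centralizer (R : Set G) := by
  set K := (centralizer (R : Set G)).subgroupOf (normalizer (R : Set G)) with hK
  have hKn : K.Normal := by
    rw [hK, ← normalizerMonoidHom_ker]; infer_instance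
  have h1 : orderOf (QuotientGroup.mk' K ⟨u, hu⟩) ∣ m := by
    refine orderOf_dvd_of_pow_eq_one ?_
    rw [← map_pow, show (⟨u, hu⟩ : normalizer (R : Set G)) ^ m = 1 from Subtype.ext hm, map_one]
  have h2 : orderOf (QuotientGroup.mk' K ⟨u, hu⟩) ∣ K.index := by
    rw [index_eq_card]; exact orderOf_dvd_natCard _
  have h3 : (⟨u, hu⟩ : normalizer (R : Set G)) ∈ K :=
    (QuotientGroup.eq_one_iff _).mp (orderOf_eq_one_iff.mp
      (Nat.eq_one_of_dvd_coprimes hcop h1 h2))
  exact mem_subgroupOf.mp h3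

variable [Fintype (Sylow p G)] [DecidableEq (Sylow p G)]

/-- An element centralising an element `x` of order `p` fixes `1 mod p` Sylow subgroups. -/
theorem fix_mod (hP : ∀ S : Sylow p G, Nat.card S = p) {P : Sylow p G} {x u : G}
    (hxP : x ∈ (P : Subgroup G)) (hx : orderOf x = p) (hxu : u * x = x * u) (hu : u • P = P) :
    (fixFinset (Sylow p G) u).card % p = 1 := by
  have h1 := card_fix_modEq_common (α := Sylow p G) (r := p) (x := u) (y := x)
    (orderOf_dvd_iff_pow_eq_one.mp (dvd_of_eq hx)) hxu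
  have h2 : ((fixFinset (Sylow p G) u).filter fun a => x • a = a) = {P} := by
    ext S
    rw [Finset.mem_filter, Finset.mem_singleton, mem_fixFinset]
    constructor
    · rintro ⟨-, hS⟩
      exact (exists_unique_sylow_mem hx hP).unique ((smul_eq_self_iff_mem (P := P) hxP).mp hS) hxP
    · rintro rfl
      exact ⟨hu, (smul_eq_self_iff_mem (P := S) hxP).mpr hxP⟩
  rw [h2, Finset.card_singleton] at h1
  rw [Nat.ModEq, Nat.mod_eq_of_lt hp.out.one_lt] at h1
  exact h1

/-- An element normalising but not centralising a Sylow subgroup of order `p` fixes at most one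
Sylow subgroup in each orbit. -/
theorem fix_le [IsSimpleGroup G] (hP : ∀ S : Sylow p G, Nat.card S = p) {u : G} {S : Sylow p G} (hu : u • S = S)
    (hnc : u ∉ centralizer ((S : Subgroup G) : Set G)) :
    p * (fixFinset (Sylow p G) u).card ≤ Fintype.card (Sylow p G) - 1 + p := by
  classical
  set A := (Finset.univ : Finset (Sylow p G)).erase S
  have hA : ∀ a ∈ A, ∀ v ∈ (S : Subgroup G), v • a ∈ A := by
    intro a ha v hv
    refine Finset.mem_erase.mpr ⟨fun e => (Finset.mem_erase.mp ha).1 ?_, Finset.mem_univ _⟩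
    exact MulAction.injective v (e.trans ((smul_eq_self_iff_mem (P := S) hv).mpr hv).symm)
  have horb : ∀ a ∈ A, Nat.card (orbit (S : Subgroup G) a) = p := by
    intro a ha
    have hd := Dvd.intro _ (card_orbit_mul_card_inf S a)
    rw [show Nat.card (S : Subgroup G) = p from hP S] at hd
    exact ((Nat.dvd_prime hp.out).mp hd).resolve_left
      (card_orbit_ne_one (fun e => (Finset.mem_erase.mp ha).1 e.symm))
  have h1 := card_eq_card_image_mul (S : Subgroup G) A hA horb
  have h2 := card_fix_le_card_image (hP S) (Sylow.smul_eq_iff_mem_normalizer.mp hu) hnc A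
  have h3 : (fixFinset (Sylow p G) u).card ≤ (A.filter fun a => u • a = a).card + 1 := by
    refine (Finset.card_le_card (t := insert S (A.filter fun a => u • a = a))
      fun T hT => ?_).trans (Finset.card_insert_le _ _)
    rw [Finset.mem_insert, Finset.mem_filter, Finset.mem_erase]
    by_cases hTS : T = S
    · exact Or.inl hTS
    · exact Or.inr ⟨⟨hTS, Finset.mem_univ _⟩, mem_fixFinset.mp hT⟩
  rw [Finset.card_erase_of_mem (Finset.mem_univ _), Finset.card_univ] at h1
  calc p * (fixFinset (Sylow p G) u).card ≤ p * ((A.image (orbitFinset (S : Subgroup G))).card + 1) :=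
        Nat.mul_le_mul_left p (by omega)
    _ = Fintype.card (Sylow p G) - 1 + p := by rw [h1]; ring

/-- If `u` centralises each Sylow subgroup it fixes, these are the Sylow subgroups of `C(u)`. -/
theorem card_sylow_centralizer (hP : ∀ S : Sylow p G, Nat.card S = p) {u : G}
    (hc : ∀ S ∈ fixFinset (Sylow p G) u, u ∈ centralizer ((S : Subgroup G) : Set G))
    {S0 : Sylow p G} (hS0 : S0 ∈ fixFinset (Sylow p G) u) :
    Nat.card (Sylow p (centralizer ({u} : Set G))) = (fixFinset (Sylow p G) u).card := by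
  set D := centralizer ({u} : Set G)
  have hle : ∀ S ∈ fixFinset (Sylow p G) u, (S : Subgroup G) ≤ D := fun S hS a ha =>
    mem_centralizer_singleton_iff.mpr (mem_centralizer_iff.mp (hc S hS) a ha)
  rw [← Fintype.card_coe, ← Nat.card_eq_fintype_card]
  refine (Nat.card_eq_of_bijective (fun S : fixFinset (Sylow p G) u =>
    Sylow.subtype S.1 (hle S.1 S.2)) ⟨fun a b e => Subtype.ext (Sylow.subtype_injective e), ?_⟩).symm
  intro Q
  obtain ⟨S, hS⟩ := (Q.2.map D.subtype).exists_le_sylow
  have hQc : p ≤ Nat.card (Q : Subgroup D) := by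
    rw [Q.card_eq_multiplicity]
    refine Nat.le_self_pow ?_ p
    have hd : p ∣ Nat.card D := hP S0 ▸ card_dvd_of_le (hle S0 hS0)
    exact (hp.out.factorization_pos_of_dvd Nat.card_pos.ne' hd).ne'
  have hmap : (Q : Subgroup D).map D.subtype = (S : Subgroup G) := eq_of_le_of_card_ge hS (by
    rw [← Nat.card_congr ((Q : Subgroup D).equivMapOfInjective _ Subtype.val_injective).toEquiv,
      show Nat.card (S : Subgroup G) = p from hP S]
    exact hQc)
  have hSD : (S : Subgroup G) ≤ D := hmap ▸ map_subtype_le _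
  have huS : u ∈ centralizer ((S : Subgroup G) : Set G) := mem_centralizer_iff.mpr fun a ha =>
    mem_centralizer_singleton_iff.mp (hSD ha)
  have hfix : S ∈ fixFinset (Sylow p G) u := mem_fixFinset.mpr
    (Sylow.smul_eq_iff_mem_normalizer.mpr (centralizer_le_normalizer' _ huS))
  refine ⟨⟨S, hfix⟩, Sylow.ext ?_⟩
  change (S : Subgroup G).subgroupOf D = (Q : Subgroup D)
  rw [← hmap, subgroupOf, comap_map_eq_self_of_injective Subtype.val_injective]

omit [Fintype (Sylow p G)] [DecidableEq (Sylow p G)] in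
/-- The order of `C(u)` from its Sylow number and the normaliser. -/
theorem card_eq_normalizer_mul {D : Subgroup G} {P : Sylow p G} (hPD : (P : Subgroup G) ≤ D) :
    Nat.card ↥(normalizer ((P : Subgroup G) : Set G) ⊓ D) * Nat.card (Sylow p D) = Nat.card D := by
  have h := card_normalizer_mul_card_sylow (P.subtype hPD)
  rw [show ((P.subtype hPD : Sylow p D) : Subgroup D) = (P : Subgroup G).subgroupOf D from rfl,
    ← subgroupOf_normalizer_eq hPD, ← inf_subgroupOf_right,
    Nat.card_congr (subgroupOfEquivOfLe inf_le_right).toEquiv] at h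
  exact h

end Tools

theorem card_seven [Fact (Nat.Prime 7)] (h : Nat.card G = 5040) (P : Sylow 7 G) :
    Nat.card P = 7 := by
  simpa using card_sylow_of_card_eq (k := 1) (m := 720) (by rw [h]; norm_num) (by norm_num) P

/-- An element commuting with a generator of a subgroup of order `7` of a centraliser of order
`7 q` is central in that centraliser. -/
theorem centralizer_cyclic [Fact (Nat.Prime 7)] {P : Sylow 7 G} {x u : G} {q : ℕ}
    (hx : orderOf x = 7) (hxP : x ∈ (P : Subgroup G)) (hu : orderOf u = q)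
    (hq : Nat.Coprime 7 q) (huC : u ∈ centralizer ((P : Subgroup G) : Set G))
    (hxC : x ∈ centralizer ((P : Subgroup G) : Set G))
    (hC : Nat.card (centralizer ((P : Subgroup G) : Set G)) = 7 * q) :
    centralizer ((P : Subgroup G) : Set G) = zpowers (x * u) := by
  have hc : Commute x u := mem_centralizer_iff.mp huC x hxP
  refine (eq_of_le_of_card_ge (zpowers_le.mpr (mul_mem hxC huC)) ?_).symm
  rw [hC, Nat.card_zpowers, hc.orderOf_mul_eq_mul_orderOf_of_coprime (by rwa [hx, hu]), hx, hu]

variable [IsSimpleGroup G]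

theorem nc (h : Nat.card G = 5040) : ¬ IsMulCommutative G :=
  nc_of_not_prime (by rw [h]; norm_num)

theorem seven_mem [Fact (Nat.Prime 7)] (h : Nat.card G = 5040) :
    Nat.card (Sylow 7 G) = 8 ∨ Nat.card (Sylow 7 G) = 15 ∨ Nat.card (Sylow 7 G) = 36 ∨
      Nat.card (Sylow 7 G) = 120 := by
  have hm := card_sylow_mem (p := 7) (nc h) (k := 1) (m := 720) one_ne_zero
    (by rw [h]; norm_num) (by norm_num)
  rw [show ((Nat.divisors 720).filter fun n => n % 7 = 1 ∧ 1 < n) = {8, 15, 36, 120} from
    by decide +kernel] at hm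
  simpa only [Finset.mem_insert, Finset.mem_singleton] using hm

theorem centralizer_ne_top (h : Nat.card G = 5040) {u : G} (hu : u ≠ 1) :
    centralizer ({u} : Set G) ≠ ⊤ := fun e => hu (by
  have : u ∈ center G := mem_center_iff.mpr fun g =>
    mem_centralizer_singleton_iff.mp (e ▸ mem_top g)
  rwa [center_eq_bot_of_nc (nc h), mem_bot] at this)

section Cases

variable [Fact (Nat.Prime 7)]

theorem seven_data (h : Nat.card G = 5040) :
    ∀ P : Sylow 7 G, ∃ e c, 1 < e ∧ (e = 2 ∨ e = 3 ∨ e = 6) ∧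
      Nat.card (centralizer ((P : Subgroup G) : Set G)) = 7 * c ∧
      Nat.card (normalizer ((P : Subgroup G) : Set G)) = 7 * (c * e) ∧
      (centralizer ((P : Subgroup G) : Set G)).relIndex (normalizer ((P : Subgroup G) : Set G)) = e ∧
      c * e * Nat.card (Sylow 7 G) = 720 := by
  intro P
  obtain ⟨e, he1, he2, ⟨c, hc⟩, hCe, hall⟩ := sylow_prime_order_data (nc h) P (card_seven h P)
  refine ⟨e, c, he1, ?_, hc, by rw [← hCe, hc, mul_assoc], ?_, ?_⟩
  · exact (show ∀ d ∈ Nat.divisors 6, 1 < d → d = 2 ∨ d = 3 ∨ d = 6 from by decide) e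
      (Nat.mem_divisors.mpr ⟨he2, by norm_num⟩) he1
  · have := card_centralizer_mul_relIndex (P : Subgroup G)
    rw [← hCe] at this
    exact Nat.eq_of_mul_eq_mul_left Nat.card_pos this
  · rw [hc, h, mul_assoc, mul_assoc, ← mul_assoc c] at hall
    omega

omit [IsSimpleGroup G] in
theorem exists_gen (h : Nat.card G = 5040) (P : Sylow 7 G) :
    ∃ x : G, x ∈ (P : Subgroup G) ∧ orderOf x = 7 ∧
      x ∈ centralizer ((P : Subgroup G) : Set G) ∧
      centralizer ((P : Subgroup G) : Set G) = centralizer ({x} : Set G) := by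
  obtain ⟨⟨x, hxP⟩, hx⟩ := exists_prime_orderOf_dvd_card' (G := (P : Subgroup G)) 7
    (by rw [card_seven h P])
  rw [Subgroup.orderOf_mk] at hx
  have hC := Order504.centralizer_eq_of_zpowers (eq_zpowers_of_mem (card_seven h P) hxP
    (fun e' => by rw [e', orderOf_one] at hx; omega))
  exact ⟨x, hxP, hx, by rw [hC, mem_centralizer_singleton_iff], hC⟩

theorem seven_ne_eight (h : Nat.card G = 5040) (h8 : Nat.card (Sylow 7 G) = 8) : False := by
  obtain ⟨P⟩ := (inferInstance : Nonempty (Sylow 7 G))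
  obtain ⟨e, c, -, he, hc, -, -, hce⟩ := seven_data h P
  obtain ⟨x, -, hx, -, hCx⟩ := exists_gen h P
  have hi : (normalizer ((P : Subgroup G) : Set G)).index = 8 :=
    P.card_eq_index_normalizer.symm.trans h8
  have hd := Order2016.centralizer_dvd_of_small
    (sylow_normalizer_ne_top (nc h) (by rw [h]; norm_num) P) (by rw [hi]; norm_num) hx
  rw [← hCx, hc, hi, show (8 - 7 : ℕ).factorial = 1 from rfl, one_mul] at hd
  have := Nat.le_of_dvd (by norm_num) hd
  obtain rfl : c = 1 := by
    rcases Nat.eq_zero_or_pos c with e' | e'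
    · subst e'; simp at hce
    · omega
  rw [h8] at hce
  omega

/-- An involution centralising a Sylow 7-subgroup. -/
theorem involution_fix (h : Nat.card G = 5040) [Fintype (Sylow 7 G)] [DecidableEq (Sylow 7 G)]
    {P : Sylow 7 G} {u : G} (hu : orderOf u = 2)
    (huC : u ∈ centralizer ((P : Subgroup G) : Set G)) :
    (fixFinset (Sylow 7 G) u).card % 7 = 1 ∧ P ∈ fixFinset (Sylow 7 G) u ∧
      4 ∣ Nat.card (Sylow 7 G) - (fixFinset (Sylow 7 G) u).card ∧
      (fixFinset (Sylow 7 G) u).card < Nat.card (Sylow 7 G) := by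
  obtain ⟨x, hxP, hx, -, -⟩ := exists_gen h P
  have huP : u • P = P := Sylow.smul_eq_iff_mem_normalizer.mpr (centralizer_le_normalizer' _ huC)
  have hu1 : u ≠ 1 := fun e => by rw [e, orderOf_one] at hu; omega
  refine ⟨fix_mod (card_seven h) hxP hx (mem_centralizer_iff.mp huC x hxP).symm huP,
    mem_fixFinset.mpr huP, ?_, ?_⟩
  · rw [Nat.card_eq_fintype_card]
    exact four_dvd_card_support (orderOf_dvd_iff_pow_eq_one.mp (dvd_of_eq hu)) (sign_toPerm (nc h) u)
  · rw [Nat.card_eq_fintype_card]
    exact lt_of_le_of_ne (Finset.card_le_univ _) fun e => hu1 (eq_one_of_fix_eq_univ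
      (α := Sylow 7 G) (sylow_toPermHom_injective (nc h) (by rw [h]; norm_num)) e)

theorem seven_ne_fifteen (h : Nat.card G = 5040) (h15 : Nat.card (Sylow 7 G) = 15) : False := by
  classical
  have : Fact (Nat.Prime 2) := ⟨Nat.prime_two⟩
  have := Fintype.ofFinite (Sylow 7 G)
  obtain ⟨P⟩ := (inferInstance : Nonempty (Sylow 7 G))
  obtain ⟨e, c, -, he, hc, -, -, hce⟩ := seven_data h P
  rw [h15] at hce
  have h2 : 2 ∣ c := by rcases he with rfl | rfl | rfl <;> omega
  obtain ⟨⟨u, huC⟩, hu⟩ := exists_prime_orderOf_dvd_card'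
    (G := centralizer ((P : Subgroup G) : Set G)) 2 (hc ▸ h2.mul_left 7)
  rw [Subgroup.orderOf_mk] at hu
  obtain ⟨h1, -, h4, hlt⟩ := involution_fix h hu huC
  rw [h15] at h4 hlt
  omega

theorem seven_ne_thirtySix (h : Nat.card G = 5040) (h36 : Nat.card (Sylow 7 G) = 36) : False := by
  classical
  have : Fact (Nat.Prime 2) := ⟨Nat.prime_two⟩
  have := Fintype.ofFinite (Sylow 7 G)
  obtain ⟨P⟩ := (inferInstance : Nonempty (Sylow 7 G))
  obtain ⟨e, c, -, he, hc, hN, -, hce⟩ := seven_data h P
  rw [h36] at hce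
  obtain ⟨rfl, rfl⟩ : e = 2 ∧ c = 10 := by rcases he with rfl | rfl | rfl <;> omega
  obtain ⟨⟨u, huC⟩, hu⟩ := exists_prime_orderOf_dvd_card'
    (G := centralizer ((P : Subgroup G) : Set G)) 2 (by rw [hc]; norm_num)
  rw [Subgroup.orderOf_mk] at hu
  obtain ⟨h1, hPF, h4, hlt⟩ := involution_fix h hu huC
  rw [h36] at h4 hlt
  have hF : (fixFinset (Sylow 7 G) u).card = 8 := by omega
  have hcent : ∀ S ∈ fixFinset (Sylow 7 G) u, u ∈ centralizer ((S : Subgroup G) : Set G) := by
    intro S hS
    by_contra hnc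
    have := fix_le (card_seven h) (mem_fixFinset.mp hS) hnc
    rw [hF, ← Nat.card_eq_fintype_card, h36] at this
    omega
  have hn := card_sylow_centralizer (card_seven h) hcent hPF
  have hPD : (P : Subgroup G) ≤ centralizer ({u} : Set G) := fun a ha =>
    mem_centralizer_singleton_iff.mpr (mem_centralizer_iff.mp huC a ha)
  have hmul := card_eq_normalizer_mul hPD
  rw [hn, hF] at hmul
  -- an abelian subgroup of order 4 of the normaliser containing `u`
  set N := normalizer ((P : Subgroup G) : Set G) with hNdef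
  have huN : u ∈ N := centralizer_le_normalizer' _ huC
  obtain ⟨U, hU, hUle⟩ := Sylow.exists_subgroup_card_pow_succ (G := N) (p := 2) (n := 1)
    (by rw [hN]; norm_num) (H := zpowers ⟨u, huN⟩)
    (by rw [Nat.card_zpowers, Subgroup.orderOf_mk, hu, pow_one])
  have hUab : IsMulCommutative U :=
    IsPGroup.isMulCommutative_of_card_eq_prime_sq (p := 2) (by rw [hU])
  have hT : U.map N.subtype ≤ N ⊓ centralizer ({u} : Set G) := by
    rintro a ⟨b, hb, rfl⟩
    refine Subgroup.mem_inf.mpr ⟨b.2, mem_centralizer_singleton_iff.mpr ?_⟩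
    exact congrArg (fun z : U => ((z : N) : G))
      (hUab.is_comm.comm (⟨b, hb⟩ : U) ⟨⟨u, huN⟩, hUle (mem_zpowers _)⟩)
  have h4' : 4 ∣ Nat.card ↥(N ⊓ centralizer ({u} : Set G)) := by
    have := card_dvd_of_le hT
    rwa [← Nat.card_congr (U.equivMapOfInjective _ Subtype.val_injective).toEquiv, hU] at this
  have h7 : 7 ∣ Nat.card ↥(N ⊓ centralizer ({u} : Set G)) :=
    (card_seven h P) ▸ card_dvd_of_le (le_inf le_normalizer hPD)
  have hd : Nat.card (centralizer ({u} : Set G)) ∣ 5040 := h ▸ card_subgroup_dvd_card _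
  obtain ⟨k, hk⟩ := Nat.Coprime.mul_dvd_of_dvd_of_dvd (by norm_num : Nat.Coprime 4 7) h4' h7
  have : 224 ∣ 5040 := (Dvd.intro k (by rw [← hmul, hk]; ring)).trans hd
  norm_num at this

theorem seven_ne_two_three (h : Nat.card G = 5040) (h120 : Nat.card (Sylow 7 G) = 120)
    {P : Sylow 7 G} (hC : Nat.card (centralizer ((P : Subgroup G) : Set G)) = 14) : False := by
  classical
  have : Fact (Nat.Prime 2) := ⟨Nat.prime_two⟩
  have := Fintype.ofFinite (Sylow 7 G)
  have hdata : ∀ R : Sylow 7 G, Nat.card (normalizer ((R : Subgroup G) : Set G)) = 42 ∧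
      (centralizer ((R : Subgroup G) : Set G)).relIndex
        (normalizer ((R : Subgroup G) : Set G)) = 3 := by
    intro R
    obtain ⟨e, c, -, -, hc, hN, he, hce⟩ := seven_data h R
    rw [card_centralizer_sylow R P, hC] at hc
    rw [h120] at hce
    obtain rfl : c = 2 := by omega
    exact ⟨by omega, by omega⟩
  obtain ⟨x, hxP, hx, hxC, hCx⟩ := exists_gen h P
  obtain ⟨⟨u, huC⟩, hu⟩ := exists_prime_orderOf_dvd_card'
    (G := centralizer ((P : Subgroup G) : Set G)) 2 (by rw [hC]; norm_num)
  rw [Subgroup.orderOf_mk] at hu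
  have hu2 : u ^ 2 = 1 := orderOf_dvd_iff_pow_eq_one.mp (dvd_of_eq hu)
  have hu1 : u ≠ 1 := fun e => by rw [e, orderOf_one] at hu; omega
  obtain ⟨h1, hPF, h4, hlt⟩ := involution_fix h hu huC
  rw [h120] at h4 hlt
  have hcent : ∀ S ∈ fixFinset (Sylow 7 G) u, u ∈ centralizer ((S : Subgroup G) : Set G) := by
    intro S hS
    exact mem_centralizer_of_pow (Sylow.smul_eq_iff_mem_normalizer.mp (mem_fixFinset.mp hS)) hu2
      (by rw [(hdata S).2]; norm_num)
  have hn := card_sylow_centralizer (card_seven h) hcent hPF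
  set D := centralizer ({u} : Set G) with hD
  -- `u` is the only involution of the centraliser
  have hzC := centralizer_cyclic hx hxP hu (by norm_num) huC hxC hC
  have hc : Commute x u := mem_centralizer_iff.mp huC x hxP
  have huniq : ∀ w ∈ centralizer ((P : Subgroup G) : Set G), orderOf w = 2 → w = u := by
    intro w hw hwo
    rw [hzC, mem_zpowers_iff] at hw
    obtain ⟨i, rfl⟩ := hw
    have h2 : (x * u) ^ (i * 2) = 1 := by
      rw [zpow_mul, zpow_ofNat, ← hwo, pow_orderOf_eq_one]
    rw [← orderOf_dvd_iff_zpow_eq_one, hc.orderOf_mul_eq_mul_orderOf_of_coprime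
      (by rw [hx, hu]; norm_num), hx, hu] at h2
    obtain ⟨j, rfl⟩ : (7 : ℤ) ∣ i := by push_cast at h2; omega
    have hx7 : x ^ (7 * j : ℤ) = 1 := by
      rw [← orderOf_dvd_iff_zpow_eq_one, hx]; exact Dvd.intro j rfl
    rw [hc.mul_zpow, hx7, one_mul] at hwo ⊢
    have : u ^ (7 * j : ℤ) = 1 ∨ u ^ (7 * j : ℤ) = u := by
      rcases Int.emod_two_eq_zero_or_one (7 * j) with e | e
      · refine Or.inl ?_
        rw [← orderOf_dvd_iff_zpow_eq_one, hu]; exact Int.dvd_of_emod_eq_zero e
      · refine Or.inr ?_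
        rw [← zpow_mod_orderOf, hu, Nat.cast_ofNat, e, zpow_one]
    exact this.resolve_left fun e => by rw [e, orderOf_one] at hwo; omega
  have hND : normalizer ((P : Subgroup G) : Set G) ≤ D := by
    intro g hg
    have hgC : g * u * g⁻¹ ∈ centralizer ((P : Subgroup G) : Set G) := by
      rw [mem_centralizer_iff]
      intro a ha
      have ha' : g⁻¹ * a * g ∈ (P : Subgroup G) := by
        have := (mem_normalizer_iff.mp (inv_mem hg) a).mp ha
        rwa [inv_inv] at this
      calc a * (g * u * g⁻¹) = g * (g⁻¹ * a * g * u) * g⁻¹ := by group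
        _ = g * (u * (g⁻¹ * a * g)) * g⁻¹ := by rw [mem_centralizer_iff.mp huC _ ha']
        _ = g * u * g⁻¹ * a := by group
    have := huniq _ hgC (by rw [← MulAut.conj_apply, MulEquiv.orderOf_eq, hu])
    exact mem_centralizer_singleton_iff.mpr (mul_inv_eq_iff_eq_mul.mp this)
  have hPD : (P : Subgroup G) ≤ D := le_normalizer.trans hND
  have hmul := card_eq_normalizer_mul hPD
  rw [inf_eq_left.mpr hND, (hdata P).1, hn] at hmul
  have hd : Nat.card D ∣ 5040 := h ▸ card_subgroup_dvd_card _
  set F := (fixFinset (Sylow 7 G) u).card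
  have hF : F ∣ 120 := by
    rw [← hmul] at hd
    exact (Nat.mul_dvd_mul_iff_left (by norm_num : 0 < 42)).mp (show 42 * F ∣ 42 * 120 from hd)
  have hF8 : F = 8 := (show ∀ d ∈ Nat.divisors 120, d % 7 = 1 → 4 ∣ 120 - d → d < 120 → d = 8
    from by decide +kernel) F (Nat.mem_divisors.mpr ⟨hF, by norm_num⟩) h1 h4 hlt
  have hidx := card_mul_index D
  rw [h, ← hmul, hF8] at hidx
  have hi : D.index = 15 := by omega
  -- the element of order 7 fixes only one coset
  have hne := centralizer_ne_top h hu1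
  have := Fintype.ofFinite (G ⧸ D)
  have huD : u ∈ D := mem_centralizer_singleton_iff.mpr rfl
  have hmem : ∀ g : G, g⁻¹ * x * g ∈ D ↔ g ∈ D := by
    intro g
    constructor
    · intro hg
      rw [hD, mem_centralizer_singleton_iff] at hg
      have h2 : g * u * g⁻¹ ∈ centralizer ((P : Subgroup G) : Set G) := by
        rw [hCx, mem_centralizer_singleton_iff]
        calc g * u * g⁻¹ * x = g * (u * (g⁻¹ * x * g)) * g⁻¹ := by group
          _ = g * (g⁻¹ * x * g * u) * g⁻¹ := by rw [hg]
          _ = x * (g * u * g⁻¹) := by group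
      have := huniq _ h2 (by rw [← MulAut.conj_apply, MulEquiv.orderOf_eq, hu])
      exact mem_centralizer_singleton_iff.mpr (mul_inv_eq_iff_eq_mul.mp this)
    · intro hg
      exact mul_mem (mul_mem (inv_mem hg) (hPD hxP)) hg
  have hmod := card_fix_modEq_common (α := G ⧸ D) (r := 7) (x := u) (y := x)
    (orderOf_dvd_iff_pow_eq_one.mp (dvd_of_eq hx)) (mem_centralizer_iff.mp huC x hxP).symm
  have hone : ((fixFinset (G ⧸ D) u).filter fun a => x • a = a) =
      {((1 : G) : G ⧸ D)} := by
    ext a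
    induction a using QuotientGroup.induction_on with
    | H g =>
      rw [Finset.mem_filter, Finset.mem_singleton, mem_fixFinset, smul_mk_eq_self_iff,
        smul_mk_eq_self_iff, QuotientGroup.eq, mul_one, inv_mem_iff, hmem]
      exact ⟨fun h => h.2, fun hg => ⟨mul_mem (mul_mem (inv_mem hg) huD) hg, hg⟩⟩
  rw [hone, Finset.card_singleton, Nat.ModEq] at hmod
  have h4' := four_dvd_card_support (α := G ⧸ D) hu2 (sign_toPerm (nc h) u)
  have hle := Finset.card_le_univ (fixFinset (G ⧸ D) u)
  rw [← Nat.card_eq_fintype_card, ← index_eq_card, hi] at h4' hle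
  refine hu1 (eq_one_of_fix_eq_univ (α := G ⧸ D) (toPermHom_injective hne) ?_)
  rw [← Nat.card_eq_fintype_card, ← index_eq_card, hi]
  omega

theorem seven_ne_three_two (h : Nat.card G = 5040) (h120 : Nat.card (Sylow 7 G) = 120)
    {P : Sylow 7 G} (hC : Nat.card (centralizer ((P : Subgroup G) : Set G)) = 21) : False := by
  classical
  have : Fact (Nat.Prime 3) := ⟨Nat.prime_three⟩
  have : Fact (Nat.Prime 5) := ⟨by norm_num⟩
  have := Fintype.ofFinite (Sylow 7 G)
  have hdata : ∀ R : Sylow 7 G, Nat.card (normalizer ((R : Subgroup G) : Set G)) = 42 ∧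
      (centralizer ((R : Subgroup G) : Set G)).relIndex
        (normalizer ((R : Subgroup G) : Set G)) = 2 := by
    intro R
    obtain ⟨e, c, -, -, hc, hN, he, hce⟩ := seven_data h R
    rw [card_centralizer_sylow R P, hC] at hc
    rw [h120] at hce
    obtain rfl : c = 3 := by omega
    exact ⟨by omega, by omega⟩
  obtain ⟨x, hxP, hx, hxC, hCx⟩ := exists_gen h P
  obtain ⟨⟨z, hzC⟩, hz⟩ := exists_prime_orderOf_dvd_card'
    (G := centralizer ((P : Subgroup G) : Set G)) 3 (by rw [hC]; norm_num)
  rw [Subgroup.orderOf_mk] at hz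
  have hz3 : z ^ 3 = 1 := orderOf_dvd_iff_pow_eq_one.mp (dvd_of_eq hz)
  have hz1 : z ≠ 1 := fun e => by rw [e, orderOf_one] at hz; omega
  have hzP : z • P = P := Sylow.smul_eq_iff_mem_normalizer.mpr (centralizer_le_normalizer' _ hzC)
  have hc : Commute x z := mem_centralizer_iff.mp hzC x hxP
  set F := fixFinset (Sylow 7 G) z with hFdef
  have h1 : F.card % 7 = 1 := fix_mod (card_seven h) hxP hx hc.symm.eq hzP
  have h3 := card_fix_modEq (α := Sylow 7 G) hz3
  rw [← Nat.card_eq_fintype_card, h120, ← hFdef, Nat.ModEq] at h3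
  have hlt : F.card < 120 := by
    rw [← h120, Nat.card_eq_fintype_card]
    exact lt_of_le_of_ne (Finset.card_le_univ _) fun e => hz1 (eq_one_of_fix_eq_univ
      (α := Sylow 7 G) (sylow_toPermHom_injective (nc h) (by rw [h]; norm_num)) e)
  have hcent : ∀ S ∈ F, z ∈ centralizer ((S : Subgroup G) : Set G) := by
    intro S hS
    exact mem_centralizer_of_pow (Sylow.smul_eq_iff_mem_normalizer.mp (mem_fixFinset.mp hS)) hz3
      (by rw [(hdata S).2]; norm_num)
  have hn := card_sylow_centralizer (card_seven h) hcent (mem_fixFinset.mpr hzP)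
  set D := centralizer ({z} : Set G) with hD
  have hCD : centralizer ((P : Subgroup G) : Set G) ≤ D := by
    rw [centralizer_cyclic hx hxP hz (by norm_num) hzC hxC hC, zpowers_le]
    exact mem_centralizer_singleton_iff.mpr (hc.mul_left (Commute.refl z)).eq
  have hPD : (P : Subgroup G) ≤ D := fun a ha =>
    mem_centralizer_singleton_iff.mpr (mem_centralizer_iff.mp hzC a ha)
  have hmul := card_eq_normalizer_mul hPD
  rw [hn] at hmul
  change _ * F.card = _ at hmul
  obtain ⟨k, hk⟩ := (dvd_of_eq hC.symm).trans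
    (card_dvd_of_le (le_inf (centralizer_le_normalizer' (P : Subgroup G)) hCD))
  have hk2 : k ∣ 2 := by
    have := card_dvd_of_le (inf_le_left : normalizer ((P : Subgroup G) : Set G) ⊓ D ≤ _)
    rw [hk, (hdata P).1] at this
    exact (Nat.mul_dvd_mul_iff_left (by norm_num : 0 < 21)).mp this
  have hd : Nat.card D ∣ 5040 := h ▸ card_subgroup_dvd_card _
  rw [hk] at hmul
  have hF : F.card ∣ 240 := by
    rw [← hmul] at hd
    exact (Nat.mul_dvd_mul_iff_left (by norm_num : 0 < 21)).mp
      ((mul_dvd_mul_right (dvd_mul_right 21 k) F.card).trans hd : 21 * F.card ∣ 21 * 240)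
  have hF15 : F.card = 15 := (show ∀ d ∈ Nat.divisors 240, d % 7 = 1 → d % 3 = 120 % 3 →
    d < 120 → d = 15 from by decide +kernel) _ (Nat.mem_divisors.mpr ⟨hF, by norm_num⟩) h1 h3 hlt
  rw [hF15] at hmul hn
  have hidx := card_mul_index D
  rw [h, ← hmul] at hidx
  rcases (Nat.dvd_prime Nat.prime_two).mp hk2 with rfl | rfl
  swap
  · have hd' := Order2016.centralizer_dvd_of_small (centralizer_ne_top h hz1)
      (show D.index ≤ 13 by omega) hx
    rw [← hCx, hC, show D.index = 8 by omega, show (8 - 7 : ℕ).factorial = 1 from rfl] at hd'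
    norm_num at hd'
  -- `|C(z)| = 315`: the Sylow 5-subgroups
  have hDc : Nat.card D = 315 := by omega
  have h5 : ∀ Q : Sylow 5 D, Nat.card Q = 5 := fun Q => by
    simpa using card_sylow_of_card_eq (k := 1) (m := 63) (by rw [hDc]; norm_num) (by norm_num) Q
  obtain ⟨Q⟩ := (inferInstance : Nonempty (Sylow 5 D))
  have hdiv : Nat.card (Sylow 5 D) ∣ 63 := by
    rw [← index_sylow_of_card_eq (k := 1) (m := 63) (by rw [hDc]; norm_num) (by norm_num) Q]
    exact Q.card_dvd_index
  have hmod := card_sylow_modEq_one 5 D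
  rw [Nat.ModEq] at hmod
  rcases (show ∀ d ∈ Nat.divisors 63, d % 5 = 1 → d = 1 ∨ d = 21 from by decide +kernel) _
    (Nat.mem_divisors.mpr ⟨hdiv, by norm_num⟩) hmod with hn5 | hn5
  · -- a normal Sylow 5-subgroup would be centralised by `x`
    have hN : normalizer ((Q : Subgroup D) : Set D) = ⊤ := by
      rw [← index_eq_one]; exact Q.card_eq_index_normalizer.symm.trans hn5
    have hxQ := mem_centralizer_of_pow (G := D) (R := (Q : Subgroup D)) (u := ⟨x, hPD hxP⟩)
      (hN ▸ mem_top _) (m := 7)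
      (Subtype.ext (orderOf_dvd_iff_pow_eq_one.mp (dvd_of_eq hx)))
      (Nat.Coprime.coprime_dvd_right
        (relIndex_centralizer_normalizer_dvd_of_prime (p := 5) (h5 Q)) (by norm_num))
    obtain ⟨⟨q, hq⟩, hqo⟩ := exists_prime_orderOf_dvd_card' (G := (Q : Subgroup D)) 5 (by rw [h5 Q])
    rw [Subgroup.orderOf_mk, ← Subgroup.orderOf_coe] at hqo
    have hqC : (q : G) ∈ centralizer ((P : Subgroup G) : Set G) := by
      rw [hCx, mem_centralizer_singleton_iff]
      exact congrArg Subtype.val (mem_centralizer_iff.mp hxQ q hq)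
    have := orderOf_dvd_natCard (⟨(q : G), hqC⟩ : centralizer ((P : Subgroup G) : Set G))
    rw [Subgroup.orderOf_mk, hqo, hC] at this
    norm_num at this
  -- counting
  have h7 : ∀ R : Sylow 7 D, Nat.card R = 7 := fun R => by
    simpa using card_sylow_of_card_eq (k := 1) (m := 45) (by rw [hDc]; norm_num) (by norm_num) R
  have hc5 := card_orderOf_eq_prime (G := D) h5
  have hc7 := card_orderOf_eq_prime (G := D) h7
  rw [hn5] at hc5
  rw [hn] at hc7
  let f : ({g : D // orderOf g = 5} ⊕ {g : D // orderOf g = 7}) × Fin 3 → D := fun a =>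
    Sum.elim Subtype.val Subtype.val a.1 * ⟨z, mem_centralizer_singleton_iff.mpr rfl⟩ ^ (a.2 : ℕ)
  have hf : Function.Injective f := by
    set w : D := ⟨z, mem_centralizer_singleton_iff.mpr rfl⟩ with hw
    have hwc : ∀ g : D, Commute g w := fun g =>
      Subtype.ext (mem_centralizer_singleton_iff.mp g.2)
    have hw3 : w ^ 3 = 1 := Subtype.ext hz3
    have hval : ∀ a : {g : D // orderOf g = 5} ⊕ {g : D // orderOf g = 7},
        (Sum.elim Subtype.val Subtype.val a : D) ^ 35 = 1 := by
      rintro (⟨g, hg⟩ | ⟨g, hg⟩) <;> exact orderOf_dvd_iff_pow_eq_one.mp (by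
        change orderOf g ∣ 35; rw [hg]; norm_num)
    have hrec : ∀ a, f a ^ 36 = Sum.elim Subtype.val Subtype.val a.1 := fun a => by
      change (Sum.elim Subtype.val Subtype.val a.1 * w ^ (a.2 : ℕ)) ^ 36 = _
      rw [((hwc _).pow_right _).mul_pow, pow_succ, hval, one_mul, ← pow_mul, mul_comm (a.2 : ℕ),
        show (36 : ℕ) * (a.2 : ℕ) = 3 * (12 * (a.2 : ℕ)) by ring, pow_mul, hw3, one_pow, mul_one]
    rintro ⟨a, i⟩ ⟨b, j⟩ he
    have h1 : (Sum.elim Subtype.val Subtype.val a : D) = Sum.elim Subtype.val Subtype.val b := by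
      rw [← hrec (a, i), he, hrec (b, j)]
    have hab : a = b := by
      rcases a with ⟨a, ha⟩ | ⟨a, ha⟩ <;> rcases b with ⟨b, hb⟩ | ⟨b, hb⟩ <;>
        simp only [Sum.elim_inl, Sum.elim_inr] at h1 <;> subst h1
      · rfl
      · omega
      · omega
      · rfl
    subst hab
    have h2 : w ^ (i : ℕ) = w ^ (j : ℕ) := mul_left_cancel he
    rw [pow_eq_pow_iff_modEq, Nat.ModEq, hw, Subgroup.orderOf_mk, hz, Nat.mod_eq_of_lt i.2,
      Nat.mod_eq_of_lt j.2] at h2
    rw [Fin.ext h2]
  have hle := Nat.card_le_card_of_injective f hf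
  rw [Nat.card_prod, Nat.card_sum, Nat.card_fin, hc5, hc7, hDc] at hle
  omega

/-- The Sylow 7-subgroups are self-centralising with normaliser of order 42. -/
theorem seven_structure (h : Nat.card G = 5040) :
    Nat.card (Sylow 7 G) = 120 ∧ ∀ P : Sylow 7 G,
      Nat.card (centralizer ((P : Subgroup G) : Set G)) = 7 ∧
      Nat.card (normalizer ((P : Subgroup G) : Set G)) = 42 := by
  rcases seven_mem h with h' | h' | h' | h'
  · exact (seven_ne_eight h h').elim
  · exact (seven_ne_fifteen h h').elim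
  · exact (seven_ne_thirtySix h h').elim
  refine ⟨h', fun P => ?_⟩
  obtain ⟨e, c, -, he, hc, hN, -, hce⟩ := seven_data h P
  rw [h'] at hce
  rcases he with rfl | rfl | rfl
  · exact (seven_ne_three_two h h' (P := P) (by omega)).elim
  · exact (seven_ne_two_three h h' (P := P) (by omega)).elim
  · constructor <;> omega

end Cases

end CfsgLib.Small.Order5040
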