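import Cfsg.Agent.Lib.Small.Order5616Local

/-!
A simple group of order 5616: the normalisers around an intersection of two Sylow 3-subgroups
give a subgroup of order 432.
-/

set_option autoImplicit false
set_option maxRecDepth 100000

namespace CfsgLib.Small.Order5616

open Subgroup CfsgLib.Small
open scoped Pointwise

universe u

variable {G : Type u} [Group G] [Finite G] [IsSimpleGroup G]

/-- Two Sylow subgroups `T`, `T'` meeting in `D` of order 9, and `n` normalising `T` but not `D`,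
where `N(D)` is small. -/
structure Setup (G : Type u) [Group G] [Fact (Nat.Prime 3)] where
  T : Sylow 3 G
  T' : Sylow 3 G
  n : G
  ne : T' ≠ T
  card_T : Nat.card T = 27
  card_T' : Nat.card T' = 27
  card_D : Nat.card ((T : Subgroup G) ⊓ T' : Subgroup G) = 9
  n_mem : n ∈ normalizer ((T : Subgroup G) : Set G)
  n_not : n ∉ normalizer (((T : Subgroup G) ⊓ T' : Subgroup G) : Set G)
  card_N : Nat.card (normalizer ((T : Subgroup G) : Set G)) = 108
  card_M : Nat.card (normalizer (((T : Subgroup G) ⊓ T' : Subgroup G) : Set G)) = 108 ∨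
    Nat.card (normalizer (((T : Subgroup G) ⊓ T' : Subgroup G) : Set G)) = 216

variable [Fact (Nat.Prime 3)]

/-- The intersection. -/
abbrev Setup.D (S : Setup G) : Subgroup G := (S.T : Subgroup G) ⊓ S.T'

/-- The conjugate of the intersection. -/
abbrev Setup.Dn (S : Setup G) : Subgroup G := S.D.map (MulAut.conj S.n).toMonoidHom

/-- The normaliser of the intersection. -/
abbrev Setup.M (S : Setup G) : Subgroup G := normalizer (S.D : Set G)

omit [IsSimpleGroup G] [Fact (Nat.Prime 3)] in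
theorem comm_of_card_nine {H : Subgroup G} [Fact (Nat.Prime 3)] (h : Nat.card H = 9) :
    ∀ a ∈ H, ∀ b ∈ H, a * b = b * a := fun a ha b hb =>
  congrArg Subtype.val ((IsPGroup.isMulCommutative_of_card_eq_prime_sq (p := 3)
    (G := H) (h.trans (by norm_num))).is_comm.comm ⟨a, ha⟩ ⟨b, hb⟩)

namespace Setup

variable (S : Setup G)

theorem T_le : (S.T : Subgroup G) ≤ S.M :=
  le_normalizer_inter S.T.2 S.card_T S.card_D

theorem T'_le : (S.T' : Subgroup G) ≤ S.M := by
  have h := le_normalizer_inter (T := (S.T' : Subgroup G)) (T' := (S.T : Subgroup G)) S.T'.2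
    S.card_T' (by rw [inf_comm]; exact S.card_D)
  rwa [inf_comm] at h

theorem Dn_le : S.Dn ≤ (S.T : Subgroup G) := by
  rintro _ ⟨x, hx, rfl⟩
  exact (mem_normalizer_iff.mp S.n_mem x).mp hx.1

theorem card_Dn : Nat.card S.Dn = 9 := by
  rw [card_map_of_injective (MulAut.conj S.n).injective]; exact S.card_D

theorem Dn_ne : S.Dn ≠ S.D := by
  intro e
  refine S.n_not (mem_normalizer_iff.mpr fun x => ⟨fun hx => ?_, fun hx => ?_⟩)
  · have h1 : S.n * x * S.n⁻¹ ∈ S.Dn := ⟨x, hx, rfl⟩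
    rwa [e] at h1
  · change S.n * x * S.n⁻¹ ∈ S.D at hx
    rw [← e] at hx
    obtain ⟨y, hy, hyx⟩ := hx
    have : y = x := (MulAut.conj S.n).injective hyx
    exact this ▸ hy

theorem not_le_Dn : ¬ S.Dn ≤ S.D := fun h =>
  S.Dn_ne (eq_of_le_of_card_ge h (by rw [S.card_Dn, S.card_D]))

theorem card_Z : Nat.card (S.D ⊓ S.Dn : Subgroup G) = 3 := by
  have h1 : S.D.relIndex S.Dn ≤ S.D.relIndex (S.T : Subgroup G) :=
    relIndex_le_of_le_right S.Dn_le (by rw [relIndex]; exact index_ne_zero_of_finite)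
  have h2 : S.D.relIndex (S.T : Subgroup G) = 3 := by
    have h := (S.D.subgroupOf (S.T : Subgroup G)).card_mul_index
    rw [Nat.card_congr (subgroupOfEquivOfLe inf_le_left).toEquiv, S.card_D,
      show Nat.card (S.T : Subgroup G) = 27 from S.card_T] at h
    rw [relIndex]
    omega
  have h3 := (S.D.subgroupOf S.Dn).card_mul_index
  rw [S.card_Dn, ← card_map_of_injective S.Dn.subtype_injective, subgroupOf_map_subtype] at h3
  have h4 : Nat.card (S.D ⊓ S.Dn : Subgroup G) ∣ 9 := S.card_D ▸ card_dvd_of_le inf_le_left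
  have h5 : Nat.card (S.D ⊓ S.Dn : Subgroup G) ≠ 9 := fun e => S.not_le_Dn (by
    have := eq_of_le_of_card_ge (inf_le_right : S.D ⊓ S.Dn ≤ S.Dn) (by rw [e, S.card_Dn])
    exact inf_eq_right.mp this)
  have h6 : S.D.relIndex S.Dn = (S.D.subgroupOf S.Dn).index := rfl
  rcases (show ∀ d ∈ Nat.divisors 9, d = 1 ∨ d = 3 ∨ d = 9 by decide) _
    (Nat.mem_divisors.mpr ⟨h4, by norm_num⟩) with e | e | e
  · rw [e] at h3; omega
  · exact e
  · exact absurd e h5

theorem centralizes_Z : (S.T : Subgroup G) ≤ centralizer ((S.D ⊓ S.Dn : Subgroup G) : Set G) := by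
  have h1 : S.D ⊔ S.Dn ≤ centralizer ((S.D ⊓ S.Dn : Subgroup G) : Set G) := sup_le
    (fun a ha => mem_centralizer_iff.mpr fun b hb =>
      comm_of_card_nine S.card_D b hb.1 a ha)
    (fun a ha => mem_centralizer_iff.mpr fun b hb =>
      comm_of_card_nine S.card_Dn b hb.2 a ha)
  refine le_trans ?_ h1
  have hle : S.D ⊔ S.Dn ≤ (S.T : Subgroup G) := sup_le inf_le_left S.Dn_le
  refine (eq_of_le_of_card_ge hle ?_).ge
  have h2 : Nat.card (S.D ⊔ S.Dn : Subgroup G) ∣ 27 := S.card_T ▸ card_dvd_of_le hle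
  have h3 : 9 < Nat.card (S.D ⊔ S.Dn : Subgroup G) := by
    by_contra h
    exact S.not_le_Dn ((le_sup_right (α := Subgroup G) (a := S.D)).trans
      (eq_of_le_of_card_ge (le_sup_left (α := Subgroup G) (b := S.Dn))
        (by rw [S.card_D]; omega)).ge)
  rw [show Nat.card (S.T : Subgroup G) = 27 from S.card_T]
  rcases (show ∀ d ∈ Nat.divisors 27, d = 1 ∨ d = 3 ∨ d = 9 ∨ d = 27 by decide) _
    (Nat.mem_divisors.mpr ⟨h2, by norm_num⟩) with e | e | e | e <;> omega

/-- The normaliser of `T` in `M`. -/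
theorem card_A : Nat.card (Sylow 3 S.M) = 4 ∧
    Nat.card (normalizer ((S.T : Subgroup G) : Set G) ⊓ S.M : Subgroup G) * 4 = Nat.card S.M := by
  have heq := CfsgLib.Small.Residual.card_eq_sylow_mul S.T S.T_le
  have hm := card_sylow_modEq_one 3 S.M
  rw [Nat.ModEq] at hm
  have hne : Nat.card (Sylow 3 S.M) ≠ 1 := fun e => S.ne (by
    have : Subsingleton (Sylow 3 S.M) := (Nat.card_eq_one_iff_unique.mp e).1
    have h1 := congrArg (fun Q : Sylow 3 S.M => (Q : Subgroup S.M).map S.M.subtype)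
      (Subsingleton.elim (S.T'.subtype S.T'_le) (S.T.subtype S.T_le))
    simp only [Sylow.coe_subtype, subgroupOf_map_subtype, inf_eq_left.mpr S.T'_le,
      inf_eq_left.mpr S.T_le] at h1
    exact Sylow.ext h1)
  have hle : 27 ∣ Nat.card (normalizer ((S.T : Subgroup G) : Set G) ⊓ S.M : Subgroup G) :=
    S.card_T ▸ card_dvd_of_le (le_inf le_normalizer S.T_le)
  obtain ⟨c, hc⟩ := hle
  rw [hc] at heq ⊢
  have h4 : Nat.card (Sylow 3 S.M) = 4 := by
    have hd : Nat.card (Sylow 3 S.M) ∣ 8 := by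
      rcases S.card_M with e | e <;> rw [show Nat.card S.M = _ from e] at heq
      · exact (Dvd.intro c (Nat.eq_of_mul_eq_mul_left (show 0 < 27 by norm_num)
          (show 27 * (Nat.card (Sylow 3 S.M) * c) = 27 * 4 by rw [← mul_assoc, mul_comm 27, mul_assoc]; omega))).trans
          (by norm_num)
      · exact Dvd.intro c (Nat.eq_of_mul_eq_mul_left (show 0 < 27 by norm_num)
          (show 27 * (Nat.card (Sylow 3 S.M) * c) = 27 * 8 by rw [← mul_assoc, mul_comm 27, mul_assoc]; omega))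
    exact (show ∀ d ∈ Nat.divisors 8, d % 3 = 1 → d ≠ 1 → d = 4 by decide) _
      (Nat.mem_divisors.mpr ⟨hd, by norm_num⟩) hm hne
  rw [h4] at heq
  exact ⟨h4, by omega⟩

/-- `N_M(T)` is normal in `N(T)`. -/
theorem conj_A {a : G} (ha : a ∈ normalizer ((S.T : Subgroup G) : Set G) ⊓ S.M) :
    S.n⁻¹ * a * S.n ∈ normalizer ((S.T : Subgroup G) : Set G) ⊓ S.M ∧
      S.n * a * S.n⁻¹ ∈ normalizer ((S.T : Subgroup G) : Set G) ⊓ S.M := by
  have hn : ((normalizer ((S.T : Subgroup G) : Set G) ⊓ S.M).subgroupOf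
      (normalizer ((S.T : Subgroup G) : Set G))).Normal := by
    have hA := S.card_A.2
    rcases S.card_M with e | e <;> rw [show Nat.card S.M = _ from e] at hA
    · have heq : normalizer ((S.T : Subgroup G) : Set G) ⊓ S.M = (S.T : Subgroup G) := (eq_of_le_of_card_ge (le_inf le_normalizer S.T_le)
        (by rw [show Nat.card (S.T : Subgroup G) = 27 from S.card_T]; omega)).symm
      rw [heq]
      exact normal_in_normalizer
    · refine normal_of_index_eq_two ?_
      have hA54 : Nat.card (normalizer ((S.T : Subgroup G) : Set G) ⊓ S.M : Subgroup G) = 54 := by omega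
      have h1 := ((normalizer ((S.T : Subgroup G) : Set G) ⊓ S.M).subgroupOf
        (normalizer ((S.T : Subgroup G) : Set G))).card_mul_index
      rw [Nat.card_congr (subgroupOfEquivOfLe inf_le_left).toEquiv, S.card_N, hA54] at h1
      omega
  constructor
  · have h := hn.conj_mem ⟨a, ha.1⟩ ha
      (⟨S.n, S.n_mem⟩⁻¹ : normalizer ((S.T : Subgroup G) : Set G))
    simp only [mem_subgroupOf, Subgroup.coe_mul, Subgroup.coe_inv, inv_inv] at h
    exact h
  · have h := hn.conj_mem ⟨a, ha.1⟩ ha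
      (⟨S.n, S.n_mem⟩ : normalizer ((S.T : Subgroup G) : Set G))
    simp only [mem_subgroupOf, Subgroup.coe_mul, Subgroup.coe_inv] at h
    exact h

theorem A_normalizes_Z :
    normalizer ((S.T : Subgroup G) : Set G) ⊓ S.M ≤
      normalizer ((S.D ⊓ S.Dn : Subgroup G) : Set G) := by
  intro a ha
  have h2 : a ∈ normalizer (S.Dn : Set G) := by
    have h1 := (S.conj_A ha).1.2
    refine mem_normalizer_iff.mpr fun x => ?_
    have h3 := mem_normalizer_iff.mp h1 (S.n⁻¹ * x * S.n)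
    have hiff : ∀ y, y ∈ S.Dn ↔ S.n⁻¹ * y * S.n ∈ S.D := fun y => by
      constructor
      · rintro ⟨w, hw, rfl⟩
        show S.n⁻¹ * (S.n * w * S.n⁻¹) * S.n ∈ S.D
        rw [show S.n⁻¹ * (S.n * w * S.n⁻¹) * S.n = w by group]
        exact hw
      · intro hy
        exact ⟨_, hy, show S.n * (S.n⁻¹ * y * S.n) * S.n⁻¹ = y by group⟩
    rw [hiff, hiff, h3]
    constructor <;> intro h <;> simpa [mul_assoc] using h
  refine mem_normalizer_iff.mpr fun x => ?_
  rw [mem_inf, mem_inf]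
  exact and_congr (mem_normalizer_iff.mp ha.2 x) (mem_normalizer_iff.mp h2 x)

/-- An automorphism of 3-power order of a group of exponent 3 generated by `z` and a fixed
`f` moves `z` by a power of `f`. -/
theorem unipotent {z f : G} {σ : G} (hz3 : z ^ 3 = 1) (hf3 : f ^ 3 = 1) (hzf : Commute z f)
    (hσf : σ * f * σ⁻¹ = f) {a b : ℕ} (ha : a < 3) (hσz : σ * z * σ⁻¹ = z ^ a * f ^ b)
    (hσ : σ ^ 27 = 1) (hind : ∀ j, z ≠ f ^ j) : σ * z * σ⁻¹ = z * f ^ b := by
  rcases (show a = 0 ∨ a = 1 ∨ a = 2 by omega) with rfl | rfl | rfl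
  · exfalso
    rw [pow_zero, one_mul] at hσz
    refine hind b ?_
    have h1 : σ * z * σ⁻¹ = σ * f ^ b * σ⁻¹ := by rw [← conj_pow, hσf, hσz]
    exact mul_left_cancel (mul_right_cancel h1)
  · rw [hσz, pow_one]
  · exfalso
    have h2 : (σ ^ 2) * z * (σ ^ 2)⁻¹ = z := by
      rw [show (σ ^ 2) * z * (σ ^ 2)⁻¹ = σ * (σ * z * σ⁻¹) * σ⁻¹ by rw [pow_two]; group, hσz,
        ← conj_mul, ← conj_pow, ← conj_pow, hσf, hσz, (hzf.pow_pow 2 b).mul_pow, ← pow_mul, ← pow_mul,
        mul_assoc, ← pow_add]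
      rw [show 2 * 2 = 3 + 1 from rfl, pow_add, hz3, one_mul, pow_one,
        show b * 2 + b = 3 * b by ring, pow_mul, hf3, one_pow, mul_one]
    have h3 : Commute (σ ^ 2) z := mul_inv_eq_iff_eq_mul.mp h2
    have h4 : Commute σ z := by
      have h5 : Commute ((σ ^ 2) ^ 14) z := h3.pow_left 14
      rwa [← pow_mul, show 2 * 14 = 27 + 1 from rfl, pow_add, hσ, one_mul, pow_one] at h5
    rw [h4.eq, mul_inv_cancel_right] at hσz
    refine hind (2 * b) ?_
    have h6 : z * f ^ b = 1 := by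
      refine mul_left_cancel (a := z) ?_
      rw [← mul_assoc, ← pow_two, ← hσz, mul_one]
    rw [eq_inv_of_mul_eq_one_left h6, inv_eq_iff_mul_eq_one, ← pow_add,
      show b + 2 * b = 3 * b by ring, pow_mul, hf3, one_pow]

/-- The second Sylow subgroup normalises `Z`. -/
theorem T'_normalizes : (S.T' : Subgroup G) ≤ normalizer ((S.D ⊓ S.Dn : Subgroup G) : Set G) := by
  classical
  by_contra hnot
  obtain ⟨s', hs', hs'n⟩ := SetLike.not_le_iff_exists.mp hnot
  have hcZ := S.card_Z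
  have hD := comm_of_card_nine S.card_D
  have hord : ∀ {H : Subgroup G} {m : ℕ}, Nat.card H = m → ∀ x ∈ H, x ^ m = 1 := fun hH x hx =>
    orderOf_dvd_iff_pow_eq_one.mp (hH ▸ Subgroup.orderOf_dvd_natCard _ hx)
  obtain ⟨z, hzZ, hz1⟩ : ∃ z ∈ (S.D ⊓ S.Dn : Subgroup G), z ≠ 1 := by
    by_contra hno
    push Not at hno
    have : (S.D ⊓ S.Dn : Subgroup G) = ⊥ := (eq_bot_iff_forall _).mpr hno
    rw [this, card_bot] at hcZ
    norm_num at hcZ
  have hzc := hord hcZ z hzZ
  have hZgen : ∀ y ∈ (S.D ⊓ S.Dn : Subgroup G), ∃ i, i < 3 ∧ y = z ^ i := fun y hy => by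
    rw [eq_zpowers_of_mem (p := 3) hcZ hzZ hz1, mem_zpowers_iff_mem_range_orderOf,
      orderOf_eq_prime hzc hz1] at hy
    obtain ⟨i, hi, rfl⟩ := Finset.mem_image.mp hy
    exact ⟨i, Finset.mem_range.mp hi, rfl⟩
  -- a fixed point of `s'`
  obtain ⟨f, hfD, hf1, hff⟩ : ∃ f ∈ S.D, f ≠ 1 ∧ s' * f * s'⁻¹ = f := by
    have : Nontrivial (center (S.T' : Subgroup G)) := by
      have : Nontrivial (S.T' : Subgroup G) :=
        Finite.one_lt_card_iff_nontrivial.mp (by rw [show Nat.card (S.T' : Subgroup G) = 27 from S.card_T']; norm_num)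
      exact S.T'.2.center_nontrivial
    by_cases hc : ∃ c ∈ center (S.T' : Subgroup G), c ≠ 1 ∧ (c : G) ∈ S.D
    · obtain ⟨c, hc, hc1, hcD⟩ := hc
      exact ⟨c, hcD, fun e => hc1 (Subtype.ext e), mul_inv_eq_iff_eq_mul.mpr
        (congrArg Subtype.val (mem_center_iff.mp hc ⟨s', hs'⟩))⟩
    · exfalso
      push Not at hc
      -- a normal subgroup of order 9 meets the centre
      set Dc := S.D.subgroupOf (S.T' : Subgroup G)
      have hDc : Dc.Normal := (normal_subgroupOf_iff_le_normalizer inf_le_right).mpr S.T'_le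
      have hcard : Nat.card Dc = 9 := by
        rw [Nat.card_congr (subgroupOfEquivOfLe inf_le_right).toEquiv, S.card_D]
      let _ : MulAction (S.T' : Subgroup G) Dc :=
        MulAction.compHom Dc (MulAut.conjNormal (H := Dc))
      have hmod := S.T'.2.card_modEq_card_fixedPoints Dc
      rw [hcard] at hmod
      have hfix : Nat.card (MulAction.fixedPoints (S.T' : Subgroup G) Dc) = 1 := by
        refine Nat.card_eq_one_iff_exists.mpr ⟨⟨1, fun x => show MulAut.conjNormal (H := Dc) x 1 = 1 from map_one _⟩, fun y => Subtype.ext ?_⟩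
        by_contra hy
        refine hy (Subtype.ext (hc y.1.1 (mem_center_iff.mpr fun x => ?_) (fun e => hy (Subtype.ext e)) y.1.2).elim)
        have h1 : ((x • y.1 : Dc) : (S.T' : Subgroup G)) = y.1 := by rw [y.2 x]
        have h2 : x * (y.1 : (S.T' : Subgroup G)) * x⁻¹ = y.1 := by
          exact (MulAut.conjNormal_apply x y.1).symm.trans h1
        exact mul_inv_eq_iff_eq_mul.mp h2
      rw [hfix] at hmod
      norm_num [Nat.ModEq] at hmod
  have hfc : f ^ 3 = 1 := by
    have h9 := hord S.card_D f hfD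
    by_contra h3
    -- otherwise `D = ⟨f⟩` would be fixed
    have hof : orderOf f = 9 := by
      rcases (show ∀ d ∈ Nat.divisors 9, d = 1 ∨ d = 3 ∨ d = 9 by decide) _
        (Nat.mem_divisors.mpr ⟨orderOf_dvd_of_pow_eq_one h9, by norm_num⟩) with e | e | e
      · exact absurd (orderOf_eq_one_iff.mp e) hf1
      · exact absurd (e ▸ pow_orderOf_eq_one f) h3
      · exact e
    have hDf : zpowers f = S.D := eq_of_le_of_card_ge (zpowers_le.mpr hfD)
      (by rw [S.card_D, Nat.card_zpowers, hof])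
    refine hs'n (centralizer_le_normalizer _ (mem_centralizer_iff.mpr fun y hy => ?_))
    obtain ⟨i, rfl⟩ := mem_zpowers_iff.mp (hDf.symm ▸ hy.1 : y ∈ zpowers f)
    exact (Commute.zpow_left (show Commute f s' from (mul_inv_eq_iff_eq_mul.mp hff).symm) i).eq
  have hfZ : f ∉ (S.D ⊓ S.Dn : Subgroup G) := fun hfZ => by
    refine hs'n (centralizer_le_normalizer _ (mem_centralizer_iff.mpr fun y hy => ?_))
    have := eq_zpowers_of_mem (p := 3) hcZ hfZ hf1
    obtain ⟨i, rfl⟩ := mem_zpowers_iff.mp (this ▸ hy : y ∈ zpowers f)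
    exact (Commute.zpow_left (show Commute f s' from (mul_inv_eq_iff_eq_mul.mp hff).symm) i).eq
  have hzf : Commute z f := hD z hzZ.1 f hfD
  have hfz : ∀ j, f ≠ z ^ j := fun j e => hfZ (e ▸ pow_mem hzZ j)
  have hzf' : ∀ j, z ≠ f ^ j := fun j e => by
    have hf0 : z = f ^ (j % 3) := by rw [e, ← pow_eq_pow_mod j hfc]
    rcases (show j % 3 = 0 ∨ j % 3 = 1 ∨ j % 3 = 2 by omega) with e0 | e0 | e0 <;> rw [e0] at hf0
    · exact hz1 (by rw [hf0, pow_zero])
    · exact hfz 1 (by rw [hf0, pow_one, pow_one])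
    · refine hfz 2 ?_
      rw [hf0, ← pow_mul, show 2 * 2 = 3 + 1 from rfl, pow_add, hfc, one_mul, pow_one]
  -- `z` and `f` generate `D`
  have hgen : ∀ y ∈ S.D, ∃ a b, a < 3 ∧ y = z ^ a * f ^ b := by
    have hle : zpowers z ⊔ zpowers f = S.D := by
      refine eq_of_le_of_card_ge (sup_le (zpowers_le.mpr hzZ.1) (zpowers_le.mpr hfD)) ?_
      have hd : Nat.card (zpowers z ⊔ zpowers f : Subgroup G) ∣ 9 :=
        S.card_D ▸ card_dvd_of_le (sup_le (zpowers_le.mpr hzZ.1) (zpowers_le.mpr hfD))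
      have h3 : 3 < Nat.card (zpowers z ⊔ zpowers f : Subgroup G) := by
        by_contra h
        have h1 := eq_of_le_of_card_ge (le_sup_left : zpowers z ≤ zpowers z ⊔ zpowers f) (by
          rw [Nat.card_zpowers, orderOf_eq_prime hzc hz1]; omega)
        have h2 : f ∈ zpowers z := h1 ▸ mem_sup_right (mem_zpowers f)
        exact hfZ (zpowers_le.mpr hzZ h2)
      rw [S.card_D]
      rcases (show ∀ d ∈ Nat.divisors 9, d = 1 ∨ d = 3 ∨ d = 9 by decide) _
        (Nat.mem_divisors.mpr ⟨hd, by norm_num⟩) with e | e | e <;> omega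
    intro y hy
    rw [← hle, zpowers_eq_closure, zpowers_eq_closure, ← Subgroup.closure_union, Set.singleton_union] at hy
    refine closure_induction (p := fun y _ => ∃ a b, a < 3 ∧ y = z ^ a * f ^ b) ?_ ?_ ?_ ?_ hy
    · rintro y (rfl | rfl)
      · exact ⟨1, 0, by norm_num, by simp⟩
      · exact ⟨0, 1, by norm_num, by simp⟩
    · exact ⟨0, 0, by norm_num, by simp⟩
    · rintro _ _ _ _ ⟨a, b, -, rfl⟩ ⟨a', b', -, rfl⟩
      refine ⟨(a + a') % 3, b + b', Nat.mod_lt _ (by norm_num), ?_⟩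
      rw [← pow_eq_pow_mod _ hzc, pow_add, pow_add]
      calc z ^ a * f ^ b * (z ^ a' * f ^ b') = z ^ a * (f ^ b * z ^ a') * f ^ b' := by group
        _ = z ^ a * (z ^ a' * f ^ b) * f ^ b' := by rw [(hzf.pow_pow a' b).eq]
        _ = z ^ a * z ^ a' * (f ^ b * f ^ b') := by group
    · rintro _ _ ⟨a, b, -, rfl⟩
      refine ⟨(2 * a) % 3, 2 * b, Nat.mod_lt _ (by norm_num), ?_⟩
      rw [← pow_eq_pow_mod _ hzc, inv_eq_iff_mul_eq_one]
      calc z ^ a * f ^ b * (z ^ (2 * a) * f ^ (2 * b))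
          = z ^ a * (f ^ b * z ^ (2 * a)) * f ^ (2 * b) := by group
        _ = z ^ a * (z ^ (2 * a) * f ^ b) * f ^ (2 * b) := by rw [(hzf.pow_pow (2 * a) b).eq]
        _ = z ^ (a + 2 * a) * f ^ (b + 2 * b) := by rw [pow_add, pow_add]; group
        _ = 1 := by
          rw [show a + 2 * a = 3 * a by ring, show b + 2 * b = 3 * b by ring, pow_mul, pow_mul,
            hzc, hfc, one_pow, one_pow, one_mul]
  have hact : ∀ x ∈ S.M, ∀ y ∈ S.D, x * y * x⁻¹ ∈ S.D := fun x hx y hy =>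
    (mem_normalizer_iff.mp hx y).mp hy
  -- an element of `T` moving `f`
  obtain ⟨s, hs, hsf⟩ : ∃ s ∈ (S.T : Subgroup G), s * f * s⁻¹ ≠ f := by
    by_contra hno
    push Not at hno
    -- then `T`, hence `T'`, centralises `D`
    have hTC : (S.T : Subgroup G) ≤ centralizer (S.D : Set G) := fun x hx =>
      mem_centralizer_iff.mpr fun y hy => by
        obtain ⟨a, b, -, rfl⟩ := hgen y hy
        have h1 : Commute z x := mem_centralizer_iff.mp (S.centralizes_Z hx) z hzZ
        have h2 : Commute f x := (mul_inv_eq_iff_eq_mul.mp (hno x hx)).symm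
        exact ((h1.pow_left a).mul_left (h2.pow_left b)).eq
    obtain ⟨⟨g, hg⟩, hgT⟩ := MulAction.exists_smul_eq S.M (S.T.subtype S.T_le) (S.T'.subtype S.T'_le)
    refine hs'n (centralizer_le_normalizer _ (centralizer_le (Set.inter_subset_left) ?_))
    have hmem : (⟨s', S.T'_le hs'⟩ : S.M) ∈ ((⟨g, hg⟩ : S.M) • S.T.subtype S.T_le : Sylow 3 S.M).1 := by
      rw [hgT]; exact hs'
    obtain ⟨w, hw, hwe⟩ := hmem
    have hwe' : g * (w : G) * g⁻¹ = s' := congrArg Subtype.val hwe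
    refine mem_centralizer_iff.mpr fun y hy => ?_
    have h1 := mem_centralizer_iff.mp (hTC (show (w : G) ∈ (S.T : Subgroup G) from hw)) (g⁻¹ * y * g)
      (by have := hact g⁻¹ (inv_mem hg) y hy; rw [inv_inv] at this; exact this)
    rw [← hwe']
    calc y * (g * (w : G) * g⁻¹) = g * (g⁻¹ * y * g * (w : G)) * g⁻¹ := by group
      _ = g * ((w : G) * (g⁻¹ * y * g)) * g⁻¹ := by rw [h1]
      _ = g * (w : G) * g⁻¹ * y := by group
  have hszc : s * z * s⁻¹ = z :=
    mul_inv_eq_iff_eq_mul.mpr (mem_centralizer_iff.mp (S.centralizes_Z hs) z hzZ).symm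
  have hs'z : s' * z * s'⁻¹ ≠ z := fun e => hs'n (centralizer_le_normalizer _
    (mem_centralizer_iff.mpr fun y hy => by
      obtain ⟨i, -, rfl⟩ := hZgen y hy
      exact ((show Commute z s' from (mul_inv_eq_iff_eq_mul.mp e).symm).pow_left i).eq))
  -- the two transvections
  obtain ⟨b₁, hb₁⟩ : ∃ b, s * f * s⁻¹ = f * z ^ b := by
    obtain ⟨a, b, -, hab⟩ := hgen _ (hact s (S.T_le hs) f hfD)
    refine ⟨a, unipotent (z := f) (f := z) (σ := s) hfc hzc hzf.symm hszc (a := b % 3) (b := a)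
      (Nat.mod_lt _ (by norm_num)) ?_ (hord S.card_T s hs) hfz⟩
    rw [hab, ← pow_eq_pow_mod _ hfc, (hzf.pow_pow a b).eq]
  obtain ⟨b₂, hb₂⟩ : ∃ b, s' * z * s'⁻¹ = z * f ^ b := by
    obtain ⟨a, b, ha, hab⟩ := hgen _ (hact s' (S.T'_le hs') z hzZ.1)
    exact ⟨b, unipotent hzc hfc hzf hff ha hab (hord S.card_T' s' hs') hzf'⟩
  have hpow : ∀ {σ x w : G}, σ * w * σ⁻¹ = w → Commute x w → σ * x * σ⁻¹ = x * w →
      ∀ j : ℕ, σ ^ j * x * (σ ^ j)⁻¹ = x * w ^ j := by
    intro σ x w hσw _ hσx j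
    induction j with
    | zero => simp
    | succ j ih =>
      rw [pow_succ', show σ * σ ^ j * x * (σ * σ ^ j)⁻¹ = σ * (σ ^ j * x * (σ ^ j)⁻¹) * σ⁻¹ by group,
        ih, ← conj_mul, ← conj_pow, hσw, hσx, pow_succ', mul_assoc]
  have hmod3 : ∀ {σ x w : G}, w ^ 3 = 1 → σ * w * σ⁻¹ = w → ∀ b : ℕ, σ * x * σ⁻¹ = x * w ^ b →
      σ * x * σ⁻¹ ≠ x → Commute x w → ∀ e < 3,
      ∃ j : ℕ, σ ^ j * x * (σ ^ j)⁻¹ = x * w ^ e := by
    intro σ x w hw hσw b hb hne hcomm e he
    have hb0 : b % 3 ≠ 0 := fun h0 => hne (by rw [hb, pow_eq_pow_mod b hw, h0, pow_zero, mul_one])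
    obtain ⟨j, hj⟩ : ∃ j, (b * j) % 3 = e := by
      rcases (show b % 3 = 1 ∨ b % 3 = 2 by omega) with h1 | h1
      · exact ⟨e, by rw [Nat.mul_mod, h1]; omega⟩
      · exact ⟨2 * e, by rw [Nat.mul_mod, h1]; omega⟩
    refine ⟨j, ?_⟩
    rw [hpow (w := w ^ b) (by rw [← conj_pow, hσw]) (hcomm.pow_right b) hb j, ← pow_mul,
      pow_eq_pow_mod _ hw, hj]
  obtain ⟨j₁, hj₁⟩ := hmod3 hzc hszc b₁ hb₁ hsf hzf.symm 1 (by norm_num)
  obtain ⟨j₂, hj₂⟩ := hmod3 hfc hff b₂ hb₂ hs'z hzf 2 (by norm_num)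
  rw [pow_one] at hj₁
  set s₁ := s ^ j₁
  set s₂ := s' ^ j₂
  have hs₁z : s₁ * z * s₁⁻¹ = z := mul_inv_eq_iff_eq_mul.mpr
    ((show Commute s z from mul_inv_eq_iff_eq_mul.mp hszc).pow_left j₁).eq
  have hs₂f : s₂ * f * s₂⁻¹ = f := mul_inv_eq_iff_eq_mul.mpr
    ((show Commute s' f from mul_inv_eq_iff_eq_mul.mp hff).pow_left j₂).eq
  set x := s₁ * s₂ * s₁ with hx
  have hxM : x ∈ S.M :=
    mul_mem (mul_mem (pow_mem (S.T_le hs) _) (pow_mem (S.T'_le hs') _)) (pow_mem (S.T_le hs) _)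
  have hconj3 : ∀ y, x * y * x⁻¹ = s₁ * (s₂ * (s₁ * y * s₁⁻¹) * s₂⁻¹) * s₁⁻¹ := fun y => by
    rw [hx]; group
  have hxz : x * z * x⁻¹ = f ^ 2 := by
    rw [hconj3, hs₁z, hj₂, ← conj_mul, ← conj_pow, hj₁, hs₁z, hzf.symm.mul_pow,
      (hzf.symm.pow_pow 2 2).eq, ← mul_assoc, ← pow_succ', hzc, one_mul]
  have hxf : x * f * x⁻¹ = z := by
    rw [hconj3, hj₁, show s₂ * (f * z) * s₂⁻¹ = s₂ * f * s₂⁻¹ * (s₂ * z * s₂⁻¹) by group,
      hs₂f, hj₂, ← mul_assoc f, ← hzf.eq, mul_assoc z, ← pow_succ' f 2, hfc, mul_one, hs₁z]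
  set c := x * x with hc
  have hcM : c ∈ S.M := mul_mem hxM hxM
  have hcz : c * z * c⁻¹ = z⁻¹ := by
    rw [show c * z * c⁻¹ = x * (x * z * x⁻¹) * x⁻¹ by rw [hc]; group, hxz, ← conj_pow, hxf,
      eq_inv_iff_mul_eq_one, ← pow_succ, hzc]
  have hcf : c * f * c⁻¹ = f⁻¹ := by
    rw [show c * f * c⁻¹ = x * (x * f * x⁻¹) * x⁻¹ by rw [hc]; group, hxf, hxz,
      eq_inv_iff_mul_eq_one, ← pow_succ, hfc]
  have hinv : ∀ y ∈ S.D, c * y * c⁻¹ = y⁻¹ := fun y hy => by
    obtain ⟨a, b, -, rfl⟩ := hgen y hy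
    rw [← conj_mul, ← conj_pow, ← conj_pow, hcz, hcf, mul_inv_rev, inv_pow, inv_pow,
      ((hzf.pow_pow a b).inv_inv).eq]
  have hnoT : ∀ t ∈ (S.T : Subgroup G), ∃ y ∈ S.D, t * y * t⁻¹ ≠ y⁻¹ := fun t ht =>
    ⟨z, hzZ.1, fun e => hz1 (by
      rw [mul_inv_eq_iff_eq_mul.mpr (mem_centralizer_iff.mp (S.centralizes_Z ht) z hzZ).symm] at e
      have h2 : z * z = 1 := eq_inv_iff_mul_eq_one.mp e
      have h3 := hzc
      rw [pow_succ, pow_two, h2, one_mul] at h3
      exact h3)⟩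
  -- the centraliser of `D` in `M` with `T`
  set C := centralizer (S.D : Set G) with hC
  set K₀ := S.M ⊓ C with hK₀
  have hK₀n : ∀ g ∈ S.M, ∀ k ∈ K₀, g * k * g⁻¹ ∈ K₀ := fun g hg k hk =>
    Subgroup.mem_inf.mpr ⟨mul_mem (mul_mem hg (Subgroup.mem_inf.mp hk).1) (inv_mem hg),
      mem_centralizer_iff.mpr fun y hy => by
      have h1 := mem_centralizer_iff.mp hk.2 (g⁻¹ * y * g) (by have := hact g⁻¹ (inv_mem hg) y hy; rw [inv_inv] at this; exact this)
      calc y * (g * k * g⁻¹) = g * (g⁻¹ * y * g * k) * g⁻¹ := by group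
        _ = g * (k * (g⁻¹ * y * g)) * g⁻¹ := by rw [h1]
        _ = g * k * g⁻¹ * y := by group⟩
  set L := K₀ ⊔ (S.T : Subgroup G) with hL
  have hLM : L ≤ S.M := sup_le inf_le_left S.T_le
  have hTK : ∀ y ∈ L, ∃ k ∈ K₀, ∃ t ∈ (S.T : Subgroup G), y = k * t := by
    intro y hy
    have hn : (S.T : Subgroup G) ≤ normalizer (K₀ : Set G) := fun t ht => mem_normalizer_iff.mpr
      fun k => ⟨hK₀n t (S.T_le ht) k, fun hk => by
        have := hK₀n t⁻¹ (inv_mem (S.T_le ht)) _ hk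
        simpa [mul_assoc] using this⟩
    have hy' : y ∈ ((K₀ : Set G) * ((S.T : Subgroup G) : Set G)) := by
      rw [← Subgroup.coe_mul_of_right_le_normalizer_left K₀ (S.T : Subgroup G) hn]
      exact hy
    obtain ⟨k, hk, t, ht, rfl⟩ := Set.mem_mul.mp hy'
    exact ⟨k, hk, t, ht, rfl⟩
  have hcL : c ∉ L := fun hmem => by
    obtain ⟨k, hk, t, ht, hkt⟩ := hTK c hmem
    obtain ⟨y, hy, hne⟩ := hnoT t ht
    refine hne ?_
    have h1 := hinv y hy
    rw [hkt, show k * t * y * (k * t)⁻¹ = k * (t * y * t⁻¹) * k⁻¹ by group,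
      show k * (t * y * t⁻¹) * k⁻¹ = t * y * t⁻¹ from mul_inv_eq_iff_eq_mul.mpr
        (mem_centralizer_iff.mp hk.2 _ (hact t (S.T_le ht) y hy)).symm] at h1
    exact h1
  have hLcard : Nat.card L ∣ Nat.card S.M ∧ 27 ∣ Nat.card L :=
    ⟨card_dvd_of_le hLM, S.card_T ▸ card_dvd_of_le le_sup_right⟩
  have hLsmall : Nat.card L = 27 ∨ Nat.card L = 54 := by
    have hd : Nat.card L ∈ Nat.divisors 216 := Nat.mem_divisors.mpr
      ⟨hLcard.1.trans (by rcases S.card_M with e | e <;> rw [show Nat.card S.M = _ from e]; norm_num),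
        by norm_num⟩
    rcases (show ∀ d ∈ Nat.divisors 216, 27 ∣ d → d = 27 ∨ d = 54 ∨ d = 108 ∨ d = 216 by
      decide +kernel) _ hd hLcard.2 with e | e | e | e
    · exact Or.inl e
    · exact Or.inr e
    all_goals
      exfalso
      refine hcL ?_
      have h1 := (L.subgroupOf S.M).card_mul_index
      rw [Nat.card_congr (subgroupOfEquivOfLe hLM).toEquiv, e] at h1
      rcases S.card_M with e' | e' <;> rw [show Nat.card S.M = _ from e'] at h1
      all_goals
        have h2 : (L.subgroupOf S.M).index = 1 ∨ (L.subgroupOf S.M).index = 2 := by omega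
        rcases h2 with h2 | h2
        · exact subgroupOf_eq_top.mp (index_eq_one.mp h2) hcM
        · have h3 : (⟨x, hxM⟩ : S.M) * ⟨x, hxM⟩ ∈ L.subgroupOf S.M :=
            mul_self_mem_of_index_two h2 _
          exact h3
  have hTL : ∀ y ∈ L, orderOf y ∣ 27 → y ∈ (S.T : Subgroup G) := by
    intro y hy hord'
    have hi : ((S.T : Subgroup G).subgroupOf L).index = 1 ∨
        ((S.T : Subgroup G).subgroupOf L).index = 2 := by
      have h1 := ((S.T : Subgroup G).subgroupOf L).card_mul_index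
      rw [Nat.card_congr (subgroupOfEquivOfLe le_sup_right).toEquiv,
        show Nat.card (S.T : Subgroup G) = 27 from S.card_T] at h1
      rcases hLsmall with e | e <;> rw [e] at h1 <;> omega
    rcases hi with h2 | h2
    · exact subgroupOf_eq_top.mp (index_eq_one.mp h2) hy
    · have h3 : (⟨y, hy⟩ : L) * ⟨y, hy⟩ ∈ (S.T : Subgroup G).subgroupOf L :=
        mul_self_mem_of_index_two h2 _
      have h4 : (y * y) ^ 14 ∈ (S.T : Subgroup G) := pow_mem h3 14
      rwa [← pow_two, ← pow_mul, show 2 * 14 = 27 + 1 from rfl, pow_add,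
        orderOf_dvd_iff_pow_eq_one.mp hord', one_mul, pow_one] at h4
  have hcomm : ∀ t ∈ (S.T : Subgroup G), c * t * c⁻¹ * t⁻¹ ∈ K₀ := fun t ht =>
    Subgroup.mem_inf.mpr ⟨mul_mem (mul_mem (mul_mem hcM (S.T_le ht)) (inv_mem hcM)) (inv_mem (S.T_le ht)),
      mem_centralizer_iff.mpr fun y hy => by
        have hy1 : t⁻¹ * y * t ∈ S.D := by simpa only [inv_inv] using hact t⁻¹ (inv_mem (S.T_le ht)) y hy
        have hy2 : c⁻¹ * (t⁻¹ * y * t) * c = (t⁻¹ * y * t)⁻¹ := by
          have h1 := hinv _ (inv_mem hy1)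
          rw [inv_inv] at h1
          conv_lhs => rw [← h1]
          group
        have h3 : c * t * c⁻¹ * t⁻¹ * y * (c * t * c⁻¹ * t⁻¹)⁻¹ = y := by
          calc c * t * c⁻¹ * t⁻¹ * y * (c * t * c⁻¹ * t⁻¹)⁻¹
              = c * (t * (c⁻¹ * (t⁻¹ * y * t) * c) * t⁻¹) * c⁻¹ := by group
            _ = c * y⁻¹ * c⁻¹ := by rw [hy2]; group
            _ = y := by rw [hinv _ (inv_mem hy), inv_inv]
        exact (mul_inv_eq_iff_eq_mul.mp h3).symm⟩
  have hcT : ∀ t ∈ (S.T : Subgroup G), c * t * c⁻¹ ∈ (S.T : Subgroup G) := fun t ht => by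
    refine hTL _ ?_ ?_
    · rw [show c * t * c⁻¹ = c * t * c⁻¹ * t⁻¹ * t by group]
      exact mul_mem (le_sup_left (α := Subgroup G) (hcomm t ht)) (le_sup_right (α := Subgroup G) ht)
    · rw [show c * t * c⁻¹ = MulAut.conj c t from rfl, MulEquiv.orderOf_eq]
      exact S.card_T ▸ Subgroup.orderOf_dvd_natCard _ ht
  have hcN : c ∈ normalizer ((S.T : Subgroup G) : Set G) := by
    have hmap : (S.T : Subgroup G).map (MulAut.conj c).toMonoidHom = S.T :=
      eq_of_le_of_card_ge (by rintro _ ⟨t, ht, rfl⟩; exact hcT t ht)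
        (by rw [card_map_of_injective (MulAut.conj c).injective])
    refine mem_normalizer_iff.mpr fun t => ⟨hcT t, fun ht => ?_⟩
    have h1 : c * t * c⁻¹ ∈ (S.T : Subgroup G).map (MulAut.conj c).toMonoidHom := hmap.symm ▸ ht
    obtain ⟨w, hw, hwe⟩ := h1
    exact ((MulAut.conj c).injective hwe) ▸ hw
  have hcTn : c ∉ (S.T : Subgroup G) := fun hm => hcL (le_sup_right (α := Subgroup G) hm)
  -- the conjugate inversion
  set cn := S.n * c * S.n⁻¹ with hcn
  have hcnA := (S.conj_A (a := c) ⟨hcN, hcM⟩).2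
  rw [← hcn] at hcnA
  have hcnT : cn ∉ (S.T : Subgroup G) := fun hm =>
    hcTn ((mem_normalizer_iff.mp S.n_mem c).mpr hm)
  have hA54 : Nat.card (normalizer ((S.T : Subgroup G) : Set G) ⊓ S.M : Subgroup G) = 54 := by
    have h1 := S.card_A.2
    rcases S.card_M with e | e <;> rw [show Nat.card S.M = _ from e] at h1
    · exfalso
      refine hcTn ?_
      have heq : (S.T : Subgroup G) = normalizer ((S.T : Subgroup G) : Set G) ⊓ S.M :=
        eq_of_le_of_card_ge (le_inf le_normalizer S.T_le)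
          (by rw [show Nat.card (S.T : Subgroup G) = 27 from S.card_T]; omega)
      rw [heq]; exact ⟨hcN, hcM⟩
    · omega
  have ht₀ : c⁻¹ * cn ∈ (S.T : Subgroup G) := by
    set A := normalizer ((S.T : Subgroup G) : Set G) ⊓ S.M
    have hi : ((S.T : Subgroup G).subgroupOf A).index = 2 := by
      have h1 := ((S.T : Subgroup G).subgroupOf A).card_mul_index
      rw [Nat.card_congr (subgroupOfEquivOfLe (le_inf le_normalizer S.T_le)).toEquiv,
        show Nat.card (S.T : Subgroup G) = 27 from S.card_T, hA54] at h1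
      omega
    have h2 := (mul_mem_iff_of_index_two hi (a := (⟨c, ⟨hcN, hcM⟩⟩ : A)⁻¹) (b := ⟨cn, hcnA⟩))
    refine h2.mpr ⟨fun h => absurd (inv_mem_iff.mp h) hcTn, fun h => absurd h hcnT⟩
  set t₀ := c⁻¹ * cn
  obtain ⟨y, hyn, hyD⟩ := SetLike.not_le_iff_exists.mp S.not_le_Dn
  have hyT : y ∈ (S.T : Subgroup G) := S.Dn_le hyn
  have hcny : cn * y * cn⁻¹ = y⁻¹ := by
    obtain ⟨w, hw, rfl⟩ := hyn
    show S.n * c * S.n⁻¹ * (S.n * w * S.n⁻¹) * (S.n * c * S.n⁻¹)⁻¹ = (S.n * w * S.n⁻¹)⁻¹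
    calc S.n * c * S.n⁻¹ * (S.n * w * S.n⁻¹) * (S.n * c * S.n⁻¹)⁻¹
        = S.n * (c * w * c⁻¹) * S.n⁻¹ := by group
      _ = (S.n * w * S.n⁻¹)⁻¹ := by rw [hinv w hw]; group
  -- modulo `D`
  have hDn : (S.D.subgroupOf (S.T : Subgroup G)).Normal :=
    (normal_subgroupOf_iff_le_normalizer inf_le_left).mpr S.T_le
  let q := QuotientGroup.mk' (S.D.subgroupOf (S.T : Subgroup G))
  have hcard3 : Nat.card ((S.T : Subgroup G) ⧸ S.D.subgroupOf (S.T : Subgroup G)) = 3 := by
    have h1 := (S.D.subgroupOf (S.T : Subgroup G)).card_mul_index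
    rw [Nat.card_congr (subgroupOfEquivOfLe inf_le_left).toEquiv, S.card_D,
      show Nat.card (S.T : Subgroup G) = 27 from S.card_T, index_eq_card] at h1
    omega
  have : IsCyclic ((S.T : Subgroup G) ⧸ S.D.subgroupOf (S.T : Subgroup G)) :=
    isCyclic_of_prime_card (p := 3) hcard3
  have hqc : ∀ t (ht : t ∈ (S.T : Subgroup G)), q ⟨c * t * c⁻¹, hcT t ht⟩ = q ⟨t, ht⟩ := by
    intro t ht
    rw [eq_comm, QuotientGroup.mk'_eq_mk']
    refine ⟨⟨t⁻¹ * (c * t * c⁻¹), mul_mem (inv_mem ht) (hcT t ht)⟩, ?_, Subtype.ext (by simp)⟩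
    show t⁻¹ * (c * t * c⁻¹) ∈ S.D
    have h1 : t⁻¹ * (c * t * c⁻¹) ∈ K₀ := by
      have := hK₀n t⁻¹ (inv_mem (S.T_le ht)) _ (hcomm t ht)
      simpa [mul_assoc] using this
    have hmem : t⁻¹ * (c * t * c⁻¹) ∈ (S.T : Subgroup G) := mul_mem (inv_mem ht) (hcT t ht)
    -- `T ∩ C(D) = D`
    have hTC : (S.T : Subgroup G) ⊓ C = S.D := by
      have hDC : S.D ≤ (S.T : Subgroup G) ⊓ C :=
        le_inf inf_le_left fun a ha => mem_centralizer_iff.mpr fun b hb => hD b hb a ha
      refine (eq_of_le_of_card_ge hDC ?_).symm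
      have hd : Nat.card ((S.T : Subgroup G) ⊓ C : Subgroup G) ∣ 27 :=
        S.card_T ▸ card_dvd_of_le inf_le_left
      have h9 : Nat.card ((S.T : Subgroup G) ⊓ C : Subgroup G) ≠ 27 := fun e => hsf (by
        have h2 := eq_of_le_of_card_ge (inf_le_left : (S.T : Subgroup G) ⊓ C ≤ S.T)
          (by rw [e]; exact S.card_T.le)
        exact mul_inv_eq_iff_eq_mul.mpr
          (mem_centralizer_iff.mp ((inf_eq_left.mp h2) hs) f hfD).symm)
      rw [S.card_D]
      rcases (show ∀ d ∈ Nat.divisors 27, d = 1 ∨ d = 3 ∨ d = 9 ∨ d = 27 by decide) _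
        (Nat.mem_divisors.mpr ⟨hd, by norm_num⟩) with e | e | e | e <;> omega
    exact hTC ▸ ⟨hmem, h1.2⟩
  have hfin : q ⟨y, hyT⟩⁻¹ = q ⟨y, hyT⟩ := by
    have h2 : t₀ * y * t₀⁻¹ ∈ (S.T : Subgroup G) := mul_mem (mul_mem ht₀ hyT) (inv_mem ht₀)
    have h1 : (⟨y, hyT⟩⁻¹ : (S.T : Subgroup G)) = ⟨c * (t₀ * y * t₀⁻¹) * c⁻¹, hcT _ h2⟩ :=
      Subtype.ext (by
        show y⁻¹ = c * (c⁻¹ * cn * y * (c⁻¹ * cn)⁻¹) * c⁻¹
        rw [← hcny]; group)
    rw [h1, hqc _ h2]
    rw [show (⟨t₀ * y * t₀⁻¹, h2⟩ : (S.T : Subgroup G)) = ⟨t₀, ht₀⟩ * ⟨y, hyT⟩ * ⟨t₀, ht₀⟩⁻¹ from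
      rfl, map_mul, map_mul, map_inv, IsCyclic.isMulCommutative.is_comm.comm (q ⟨t₀, ht₀⟩),
      mul_inv_cancel_right]
  refine hyD ?_
  have h5 : q ⟨y, hyT⟩ = 1 := by
    have h6 : q ⟨y, hyT⟩ * q ⟨y, hyT⟩ = 1 := by
      rw [map_inv, inv_eq_iff_mul_eq_one] at hfin
      exact hfin
    have h7 : (q ⟨y, hyT⟩) ^ 3 = 1 := by
      have := pow_card_eq_one' (x := q ⟨y, hyT⟩)
      rwa [hcard3] at this
    rwa [pow_succ, pow_two, h6, one_mul] at h7
  exact (QuotientGroup.eq_one_iff (N := S.D.subgroupOf (S.T : Subgroup G)) (⟨y, hyT⟩ : (S.T : Subgroup G))).mp h5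

/-- `N(D)` normalises `Z`. -/
theorem M_le : S.M ≤ normalizer ((S.D ⊓ S.Dn : Subgroup G) : Set G) := by
  set Mz := S.M ⊓ normalizer ((S.D ⊓ S.Dn : Subgroup G) : Set G) with hMz
  have hA : normalizer ((S.T : Subgroup G) : Set G) ⊓ S.M ≤ Mz :=
    le_inf inf_le_right S.A_normalizes_Z
  have hTz : (S.T : Subgroup G) ≤ Mz := (le_inf le_normalizer S.T_le).trans hA
  have hT'z : (S.T' : Subgroup G) ≤ Mz := le_inf S.T'_le S.T'_normalizes
  have heq := CfsgLib.Small.Residual.card_eq_sylow_mul S.T hTz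
  rw [show normalizer ((S.T : Subgroup G) : Set G) ⊓ Mz =
    normalizer ((S.T : Subgroup G) : Set G) ⊓ S.M from le_antisymm
      (le_inf inf_le_left (inf_le_right.trans inf_le_left)) (le_inf inf_le_left hA)] at heq
  have hm := card_sylow_modEq_one 3 Mz
  rw [Nat.ModEq] at hm
  have hne : Nat.card (Sylow 3 Mz) ≠ 1 := fun e => S.ne (by
    have : Subsingleton (Sylow 3 Mz) := (Nat.card_eq_one_iff_unique.mp e).1
    have h1 := congrArg (fun Q : Sylow 3 Mz => (Q : Subgroup Mz).map Mz.subtype)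
      (Subsingleton.elim (S.T'.subtype hT'z) (S.T.subtype hTz))
    simp only [Sylow.coe_subtype, subgroupOf_map_subtype, inf_eq_left.mpr hT'z,
      inf_eq_left.mpr hTz] at h1
    exact Sylow.ext h1)
  have h4 : 4 ≤ Nat.card (Sylow 3 Mz) := by
    have : 0 < Nat.card (Sylow 3 Mz) := Nat.card_pos
    omega
  have hle : Nat.card S.M ≤ Nat.card Mz := by
    rw [← S.card_A.2, ← heq, mul_comm _ 4]
    exact Nat.mul_le_mul_right _ h4
  exact (eq_of_le_of_card_ge (inf_le_left : Mz ≤ S.M) hle).ge.trans inf_le_right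

/-- The data with the roles of `D` and `Dn` exchanged. -/
def swap : Setup G where
  T := S.T
  T' := MulAut.conj S.n • S.T'
  n := S.n⁻¹
  ne := fun e => S.ne (by
    refine Sylow.ext (map_injective (f := (MulAut.conj S.n).toMonoidHom) (MulAut.conj S.n).injective ?_)
    have h1 : (S.T' : Subgroup G).map (MulAut.conj S.n).toMonoidHom = (S.T : Subgroup G) := congrArg Sylow.toSubgroup e
    have h2 : (S.T : Subgroup G).map (MulAut.conj S.n).toMonoidHom = (S.T : Subgroup G) :=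
      eq_of_le_of_card_ge (by rintro _ ⟨x, hx, rfl⟩; exact (mem_normalizer_iff.mp S.n_mem x).mp hx)
        (by rw [card_map_of_injective (MulAut.conj S.n).injective])
    rw [h1, h2])
  card_T := S.card_T
  card_T' := by
    show Nat.card ((S.T' : Subgroup G).map (MulAut.conj S.n).toMonoidHom) = 27
    rw [card_map_of_injective (MulAut.conj S.n).injective]; exact S.card_T'
  card_D := by
    show Nat.card ((S.T : Subgroup G) ⊓ (S.T' : Subgroup G).map (MulAut.conj S.n).toMonoidHom :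
      Subgroup G) = 9
    have h2 : (S.T : Subgroup G).map (MulAut.conj S.n).toMonoidHom = (S.T : Subgroup G) :=
      eq_of_le_of_card_ge (by rintro _ ⟨x, hx, rfl⟩; exact (mem_normalizer_iff.mp S.n_mem x).mp hx)
        (by rw [card_map_of_injective (MulAut.conj S.n).injective])
    conv_lhs => rw [← h2, ← map_inf _ _ _ (MulAut.conj S.n).injective]
    rw [card_map_of_injective (MulAut.conj S.n).injective]
    exact S.card_D
  n_mem := inv_mem S.n_mem
  n_not := by
    have h2 : (S.T : Subgroup G).map (MulAut.conj S.n).toMonoidHom = (S.T : Subgroup G) :=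
      eq_of_le_of_card_ge (by rintro _ ⟨x, hx, rfl⟩; exact (mem_normalizer_iff.mp S.n_mem x).mp hx)
        (by rw [card_map_of_injective (MulAut.conj S.n).injective])
    have hD : (S.T : Subgroup G) ⊓ (MulAut.conj S.n • S.T' : Sylow 3 G) = S.Dn := by
      show (S.T : Subgroup G) ⊓ (S.T' : Subgroup G).map (MulAut.conj S.n).toMonoidHom = _
      conv_lhs => rw [← h2, ← map_inf _ _ _ (MulAut.conj S.n).injective]
    rw [hD]
    intro hmem
    have hn : S.n ∈ normalizer (S.Dn : Set G) := inv_mem_iff.mp hmem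
    refine S.not_le_Dn ?_
    rintro _ ⟨x, hx, rfl⟩
    have h1 : S.n * x * S.n⁻¹ ∈ S.Dn := ⟨x, hx, rfl⟩
    have h3 := mem_normalizer_iff.mp (inv_mem hn) _ |>.mp h1
    have hxn : x ∈ S.Dn := by simpa [mul_assoc] using h3
    have heq : S.D = S.Dn := eq_of_le_of_card_ge (fun y hy => by
      have h4 := mem_normalizer_iff.mp (inv_mem hn) _ |>.mp (⟨y, hy, rfl⟩ : S.n * y * S.n⁻¹ ∈ S.Dn)
      simpa [mul_assoc] using h4) (by rw [S.card_D, S.card_Dn])
    exact heq ▸ h1
  card_N := S.card_N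
  card_M := by
    have h2 : (S.T : Subgroup G).map (MulAut.conj S.n).toMonoidHom = (S.T : Subgroup G) :=
      eq_of_le_of_card_ge (by rintro _ ⟨x, hx, rfl⟩; exact (mem_normalizer_iff.mp S.n_mem x).mp hx)
        (by rw [card_map_of_injective (MulAut.conj S.n).injective])
    have hD : (S.T : Subgroup G) ⊓ (MulAut.conj S.n • S.T' : Sylow 3 G) = S.Dn := by
      show (S.T : Subgroup G) ⊓ (S.T' : Subgroup G).map (MulAut.conj S.n).toMonoidHom = _
      conv_lhs => rw [← h2, ← map_inf _ _ _ (MulAut.conj S.n).injective]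
    rw [hD, show Nat.card (normalizer (S.Dn : Set G)) = Nat.card S.M by
      show Nat.card (normalizer ((S.D.map (MulAut.conj S.n).toMonoidHom : Subgroup G) : Set G)) = _
      rw [← map_equiv_normalizer_eq, card_map_of_injective (MulAut.conj S.n).injective]]
    exact S.card_M

theorem swap_D : S.swap.D = S.Dn := by
  have h2 : (S.T : Subgroup G).map (MulAut.conj S.n).toMonoidHom = (S.T : Subgroup G) :=
    eq_of_le_of_card_ge (by rintro _ ⟨x, hx, rfl⟩; exact (mem_normalizer_iff.mp S.n_mem x).mp hx)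
      (by rw [card_map_of_injective (MulAut.conj S.n).injective])
  show (S.T : Subgroup G) ⊓ (S.T' : Subgroup G).map (MulAut.conj S.n).toMonoidHom = _
  conv_lhs => rw [← h2, ← map_inf _ _ _ (MulAut.conj S.n).injective]

theorem swap_Dn : S.swap.Dn = S.D := by
  show S.swap.D.map (MulAut.conj S.n⁻¹).toMonoidHom = _
  rw [S.swap_D, map_inv]
  show (S.D.map (MulAut.conj S.n).toMonoidHom).map (MulAut.conj S.n).symm.toMonoidHom = _
  rw [Subgroup.map_map]
  convert Subgroup.map_id S.D using 2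
  ext y
  simp

include S in
/-- There is a subgroup of order 432. -/
theorem exists_432 (h : Nat.card G = 5616) : ∃ H : Subgroup G, Nat.card H = 432 := by
  set Z := S.D ⊓ S.Dn with hZdef
  set NZ := normalizer (Z : Set G) with hNZ
  have hM : S.M ≤ NZ := S.M_le
  set M' := normalizer (S.Dn : Set G) with hM'def
  have hM' : M' ≤ NZ := by
    have h1 := S.swap.M_le
    show normalizer (S.Dn : Set G) ≤ normalizer ((S.D ⊓ S.Dn : Subgroup G) : Set G)
    rw [inf_comm]
    simp only [Setup.M, swap_D, swap_Dn] at h1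
    exact h1
  have hM'c : Nat.card M' = Nat.card S.M := by
    show Nat.card (normalizer ((S.D.map (MulAut.conj S.n).toMonoidHom : Subgroup G) : Set G)) = _
    rw [← map_equiv_normalizer_eq, card_map_of_injective (MulAut.conj S.n).injective]
  have hne : M' ≠ S.M := by
    intro e
    have hn : S.T.1.subgroupOf S.M = (S.D ⊔ S.Dn).subgroupOf S.M := by
      congr 1
      have hle : S.D ⊔ S.Dn ≤ (S.T : Subgroup G) := sup_le inf_le_left S.Dn_le
      refine (eq_of_le_of_card_ge hle ?_).symm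
      have h2 : Nat.card (S.D ⊔ S.Dn : Subgroup G) ∣ 27 := S.card_T ▸ card_dvd_of_le hle
      have h3 : 9 < Nat.card (S.D ⊔ S.Dn : Subgroup G) := by
        by_contra hh
        exact S.not_le_Dn ((le_sup_right (α := Subgroup G) (a := S.D)).trans
          (eq_of_le_of_card_ge (le_sup_left (α := Subgroup G) (b := S.Dn))
            (by rw [S.card_D]; omega)).ge)
      rw [show Nat.card (S.T : Subgroup G) = 27 from S.card_T]
      rcases (show ∀ d ∈ Nat.divisors 27, d = 1 ∨ d = 3 ∨ d = 9 ∨ d = 27 by decide) _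
        (Nat.mem_divisors.mpr ⟨h2, by norm_num⟩) with e | e | e | e <;> omega
    have hnorm : (S.T.1.subgroupOf S.M).Normal := by
      rw [hn, subgroupOf_sup (le_normalizer (H := S.D)) ((le_normalizer (H := S.Dn)).trans e.le)]
      have : (S.D.subgroupOf S.M).Normal := normal_in_normalizer
      have : (S.Dn.subgroupOf S.M).Normal := by
        rw [← e]; exact normal_in_normalizer
      infer_instance
    have h4 := S.card_A.1
    have : (S.T.subtype S.T_le : Subgroup S.M).Normal := hnorm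
    have := Sylow.unique_of_normal (S.T.subtype S.T_le) this
    rw [Nat.card_unique] at h4
    norm_num at h4
  have hZbot : Z ≠ ⊥ := fun e => by
    have h1 := S.card_Z
    rw [← hZdef, e, card_bot] at h1
    norm_num at h1
  have hZtop : Z ≠ ⊤ := fun e => by
    have h1 := S.card_Z
    rw [← hZdef, e, card_top, h] at h1
    norm_num at h1
  obtain ⟨hle, hdvd⟩ := le_432 h (normalizer_ne_top hZbot hZtop : NZ ≠ ⊤)
  have hlt : Nat.card S.M < Nat.card NZ := by
    by_contra hh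
    have h1 := eq_of_le_of_card_ge hM (not_lt.mp hh)
    exact hne (eq_of_le_of_card_ge (h1 ▸ hM') hM'c.ge)
  have hdM : Nat.card S.M ∣ Nat.card NZ := card_dvd_of_le hM
  rcases (show ∀ d ∈ Nat.divisors 5616, ∀ m ∈ [108, 216], m ∣ d → m < d → d ≤ 432 →
      d = 432 ∨ (m = 108 ∧ d = 216) by decide +kernel) _
    (Nat.mem_divisors.mpr ⟨hdvd, by norm_num⟩) (Nat.card S.M)
    (by rcases S.card_M with e | e <;> rw [show Nat.card S.M = _ from e] <;> simp) hdM hlt hle
    with e | ⟨e1, e2⟩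
  · exact ⟨NZ, e⟩
  · exfalso
    have hidx : (M'.subgroupOf NZ).index = 2 := by
      have h1 := (M'.subgroupOf NZ).card_mul_index
      rw [Nat.card_congr (subgroupOfEquivOfLe hM').toEquiv, hM'c, e1, e2] at h1
      omega
    have hT' : (S.T' : Subgroup G) ≤ M' := by
      intro x hx
      have h3 : (⟨x, hM (S.T'_le hx)⟩ : NZ) * ⟨x, hM (S.T'_le hx)⟩ ∈ M'.subgroupOf NZ :=
        mul_self_mem_of_index_two hidx _
      have h4 : (x * x) ^ 14 ∈ M' := pow_mem h3 14
      rwa [← pow_two, ← pow_mul, show 2 * 14 = 27 + 1 from rfl, pow_add,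
        orderOf_dvd_iff_pow_eq_one.mp (S.card_T' ▸ Subgroup.orderOf_dvd_natCard _ hx), one_mul,
        pow_one] at h4
    have hp : IsPGroup 3 (S.T' ⊔ S.Dn : Subgroup G) :=
      IsPGroup.to_sup_of_normal_right' S.T'.2
        (IsPGroup.of_card (n := 2) (S.card_Dn.trans (by norm_num))) hT'
    have heq := S.T'.3 hp le_sup_left
    refine S.not_le_Dn (le_inf S.Dn_le ?_)
    rw [← heq]
    exact le_sup_right

end Setup

/-- A simple group of order 5616 has a subgroup of order 432. -/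
theorem exists_432 (h : Nat.card G = 5616) : ∃ H : Subgroup G, Nat.card H = 432 := by
  classical
  have : Fact (Nat.Prime 13) := ⟨by norm_num⟩
  obtain ⟨T⟩ := (inferInstance : Nonempty (Sylow 3 G))
  rcases sylow_cases h T with e | ⟨hN, T', hne, hD9⟩
  · exact ⟨_, e⟩
  set D := (T : Subgroup G) ⊓ T' with hD
  have hT := card_sylow_three h T
  have hT' := card_sylow_three h T'
  have hTM : (T : Subgroup G) ≤ normalizer (D : Set G) := le_normalizer_inter T.2 hT hD9
  have hT'M : (T' : Subgroup G) ≤ normalizer (D : Set G) := by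
    have h1 := le_normalizer_inter (T := (T' : Subgroup G)) (T' := (T : Subgroup G)) T'.2 hT'
      (by rw [inf_comm]; exact hD9)
    rwa [inf_comm] at h1
  have hDne : D ≠ ⊥ := fun e => by rw [e, card_bot] at hD9; norm_num at hD9
  have hDtop : D ≠ ⊤ := fun e => by rw [e, card_top, h] at hD9; norm_num at hD9
  obtain ⟨hle, hdvd⟩ := le_432 h (normalizer_ne_top hDne hDtop)
  set M := normalizer (D : Set G) with hM
  have h27 : 27 ∣ Nat.card M := hT ▸ card_dvd_of_le hTM
  have huniq : Nat.card M = 27 ∨ Nat.card M = 54 → False := by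
    intro hc
    have hsub : Subsingleton (Sylow 3 M) := by
      have hm := card_sylow_modEq_one 3 M
      rw [Nat.ModEq] at hm
      have heq := CfsgLib.Small.Residual.card_eq_sylow_mul T hTM
      have h1 : 27 ∣ Nat.card (normalizer ((T : Subgroup G) : Set G) ⊓ M : Subgroup G) :=
        hT ▸ card_dvd_of_le (le_inf le_normalizer hTM)
      obtain ⟨c, hc'⟩ := h1
      rw [hc'] at heq
      have : Nat.card (Sylow 3 M) ≤ 2 := by
        rcases Nat.eq_zero_or_pos c with rfl | hc0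
        · rcases hc with e | e <;> rw [e] at heq <;> omega
        · have h2 : Nat.card (Sylow 3 M) * 27 ≤ Nat.card (Sylow 3 M) * (27 * c) :=
            Nat.mul_le_mul_left _ (Nat.le_mul_of_pos_right 27 hc0)
          rcases hc with e | e <;> rw [e] at heq <;> omega
      have hn1 : Nat.card (Sylow 3 M) = 1 := by omega
      exact (Nat.card_eq_one_iff_unique.mp hn1).1
    refine hne ?_
    have h1 := congrArg (fun Q : Sylow 3 M => (Q : Subgroup M).map M.subtype)
      (Subsingleton.elim (T'.subtype hT'M) (T.subtype hTM))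
    simp only [Sylow.coe_subtype, subgroupOf_map_subtype, inf_eq_left.mpr hT'M,
      inf_eq_left.mpr hTM] at h1
    exact Sylow.ext h1
  rcases (show ∀ d ∈ Nat.divisors 5616, 27 ∣ d → d ≤ 432 →
      d = 27 ∨ d = 54 ∨ d = 108 ∨ d = 216 ∨ d = 351 ∨ d = 432 by decide +kernel) _
    (Nat.mem_divisors.mpr ⟨hdvd, by norm_num⟩) h27 hle with e | e | e | e | e | e
  · exact (huniq (Or.inl e)).elim
  · exact (huniq (Or.inr e)).elim
  · -- 108
    have hn : ∃ n ∈ normalizer ((T : Subgroup G) : Set G), n ∉ M := by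
      by_contra hno
      push Not at hno
      have heq : normalizer ((T : Subgroup G) : Set G) = M :=
        eq_of_le_of_card_ge hno (by rw [e, hN])
      have hnorm : ((T : Subgroup G).subgroupOf M).Normal := heq ▸ normal_in_normalizer
      refine hne ?_
      have := Sylow.unique_of_normal (T.subtype hTM) hnorm
      have h1 := congrArg (fun Q : Sylow 3 M => (Q : Subgroup M).map M.subtype)
        (Subsingleton.elim (T'.subtype hT'M) (T.subtype hTM))
      simp only [Sylow.coe_subtype, subgroupOf_map_subtype, inf_eq_left.mpr hT'M,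
        inf_eq_left.mpr hTM] at h1
      exact Sylow.ext h1
    obtain ⟨n, hn1, hn2⟩ := hn
    exact (⟨T, T', n, hne, hT, hT', hD9, hn1, hn2, hN, Or.inl e⟩ : Setup G).exists_432 h
  · -- 216
    have hn : ∃ n ∈ normalizer ((T : Subgroup G) : Set G), n ∉ M := by
      by_contra hno
      push Not at hno
      have heq := CfsgLib.Small.Residual.card_eq_sylow_mul T hTM
      rw [inf_eq_left.mpr hno, hN, e] at heq
      have hm := card_sylow_modEq_one 3 M
      rw [Nat.ModEq] at hm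
      omega
    obtain ⟨n, hn1, hn2⟩ := hn
    exact (⟨T, T', n, hne, hT, hT', hD9, hn1, hn2, hN, Or.inr e⟩ : Setup G).exists_432 h
  · exact (not_thirteen h M e D hD9 (inf_le_left.trans hTM) le_rfl).elim
  · exact ⟨M, e⟩

end CfsgLib.Small.Order5616
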