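import Cfsg.Agent.Lib.Small.Basic
import Cfsg.Agent.Lib.Small.Residual
import Cfsg.Agent.Lib.Transfer.Basic
import Cfsg.Agent.S4215
import Mathlib.GroupTheory.SpecificGroups.Cyclic

/-!
A simple group of order 5616 has a subgroup of index 13.
-/

set_option autoImplicit false
set_option maxRecDepth 100000

namespace CfsgLib.Small.Order5616

open Subgroup MulAction CfsgLib.Small
open scoped Pointwise

universe u

variable {G : Type u} [Group G] [Finite G] [IsSimpleGroup G]

theorem nc (h : Nat.card G = 5616) : ¬ IsMulCommutative G :=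
  nc_of_not_prime (by rw [h]; norm_num)

theorem card_sylow_three (h : Nat.card G = 5616) [Fact (Nat.Prime 3)] (T : Sylow 3 G) :
    Nat.card T = 27 :=
  (card_sylow_of_card_eq (k := 3) (m := 208) (by rw [h]; norm_num) (by norm_num) T).trans
    (by norm_num)

/-- Orders of proper subgroups. -/
theorem le_432 (h : Nat.card G = 5616) {M : Subgroup G} (hM : M ≠ ⊤) :
    Nat.card M ≤ 432 ∧ Nat.card M ∣ 5616 := by
  have hd := two_mul_card_dvd_factorial_index (nc h) hM
  rw [h] at hd
  refine ⟨?_, h ▸ card_subgroup_dvd_card M⟩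
  have hmul := M.card_mul_index
  rw [h] at hmul
  by_contra hlt
  have h13 : M.index < 13 := by
    by_contra h0
    have : 433 * 13 ≤ Nat.card M * M.index := Nat.mul_le_mul (not_le.mp hlt) (not_lt.mp h0)
    omega
  have h1 : 13 ∣ M.index.factorial := (show 13 ∣ 2 * 5616 by norm_num).trans hd
  have := ((show Nat.Prime 13 by norm_num).dvd_factorial).mp h1
  omega

/-- The normaliser of a subgroup of order 13 has order at most 208. -/
theorem card_normalizer_thirteen (h : Nat.card G = 5616) [Fact (Nat.Prime 13)] (P : Sylow 13 G) :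
    Nat.card P = 13 ∧ Nat.card (normalizer ((P : Subgroup G) : Set G)) ≤ 208 := by
  have hP : Nat.card P = 13 :=
    (card_sylow_of_card_eq (k := 1) (m := 432) (by rw [h]; norm_num) (by norm_num) P).trans
      (pow_one 13)
  refine ⟨hP, ?_⟩
  have hmem := card_sylow_mem (p := 13) (nc h) (k := 1) (m := 432) one_ne_zero
    (by rw [h]; norm_num) (by norm_num)
  rw [show ((Nat.divisors 432).filter fun n => n % 13 = 1 ∧ 1 < n) = {27, 144} from by decide +kernel,
    Finset.mem_insert, Finset.mem_singleton] at hmem
  have h1 := card_normalizer_mul_card_sylow P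
  rw [h] at h1
  rcases hmem with e | e <;> rw [e] at h1 <;> omega

/-- A normal subgroup of order 9 in a subgroup of order `27 k` excludes the prime 13. -/
theorem not_thirteen (h : Nat.card G = 5616) [Fact (Nat.Prime 13)] (M : Subgroup G)
    (hM : Nat.card M = 351) (D : Subgroup G) (hD : Nat.card D = 9) (hDM : D ≤ M)
    (hn : M ≤ normalizer (D : Set G)) : False := by
  obtain ⟨P₀⟩ := (inferInstance : Nonempty (Sylow 13 M))
  have hP₀ : Nat.card P₀ = 13 :=
    (card_sylow_of_card_eq (k := 1) (m := 27) (by rw [hM]; norm_num) (by norm_num) P₀).trans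
      (pow_one 13)
  set P' := (P₀ : Subgroup M).map M.subtype with hP'
  have hcP' : Nat.card P' = 13 := by
    rw [hP', card_map_of_injective M.subtype_injective]; exact hP₀
  -- `P'` centralises `D`
  have hPD : P' ≤ centralizer (D : Set G) := by
    intro x hx
    have hxN : x ∈ normalizer (D : Set G) := hn (map_subtype_le _ hx)
    have h1 : (centralizer (D : Set G)).relIndex (normalizer (D : Set G)) ∣ Nat.card (MulAut D) :=
      relIndex_centralizer_normalizer_dvd_card_mulAut D
    let f := D.normalizerMonoidHom
    have h2 : f ⟨x, hxN⟩ = 1 := by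
      have h3 : orderOf (f ⟨x, hxN⟩) ∣ 13 := (orderOf_map_dvd f _).trans (by
        rw [← Subgroup.orderOf_coe]; exact hcP' ▸ Subgroup.orderOf_dvd_natCard P' hx)
      have h4 : ¬ 13 ∣ orderOf (f ⟨x, hxN⟩) := fun hd => by
        have h5 := hd.trans (orderOf_dvd_natCard _)
        have h6 : Nat.card (MulAut D) ∣ Nat.factorial 9 := by
          rw [← hD, ← Nat.card_perm]
          exact Subgroup.card_dvd_of_injective (MulAut.toPerm D)
            (fun a b e => MulEquiv.toEquiv_injective e)
        have h7 := (show Nat.Prime 13 by norm_num).dvd_factorial.mp (h5.trans h6)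
        omega
      refine orderOf_eq_one_iff.mp ?_
      rcases (Nat.dvd_prime (show Nat.Prime 13 by norm_num)).mp h3 with e | e
      · exact e
      · exact absurd (e ▸ dvd_rfl) h4
    rw [mem_centralizer_iff]
    intro a ha
    have h8 : x * a * x⁻¹ = a := congrArg Subtype.val (MulEquiv.congr_fun h2 ⟨a, ha⟩)
    exact (mul_inv_eq_iff_eq_mul.mp h8).symm
  -- so it is normal in `M`
  have hC : P' ⊔ D ≤ M ⊓ normalizer (P' : Set G) :=
    sup_le (le_inf (map_subtype_le _) le_normalizer)
      (le_inf hDM ((le_centralizer_iff.mp hPD).trans (centralizer_le_normalizer _)))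
  set N' := normalizer ((P₀ : Subgroup M) : Set M)
  have h117 : 117 ∣ Nat.card N' := by
    refine Nat.Coprime.mul_dvd_of_dvd_of_dvd (m := 13) (n := 9) (by norm_num)
      (hP₀ ▸ card_dvd_of_le le_normalizer) ?_
    rw [← hD, ← Nat.card_congr (subgroupOfEquivOfLe hDM).toEquiv]
    refine card_dvd_of_le fun y hy => ?_
    have hy' : (y : G) ∈ centralizer (P' : Set G) := le_centralizer_iff.mp hPD hy
    refine mem_normalizer_iff.mpr fun z => ?_
    constructor
    · intro hz
      have h9 := mem_centralizer_iff.mp hy' (z : G) (mem_map_of_mem _ hz)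
      have : y * z * y⁻¹ = z := Subtype.ext (mul_inv_eq_iff_eq_mul.mpr h9.symm)
      rwa [this]
    · intro hz
      have h9 := mem_centralizer_iff.mp hy' _ (mem_map_of_mem M.subtype hz)
      have h10 : y * (y * z * y⁻¹) = (y * z * y⁻¹) * y := Subtype.ext h9.symm
      have : z = y * z * y⁻¹ := by
        calc z = y⁻¹ * ((y * z * y⁻¹) * y) := by group
          _ = y⁻¹ * (y * (y * z * y⁻¹)) := by rw [h10]
          _ = y * z * y⁻¹ := by group
      rw [this]
      exact hz
  have hn13 : Nat.card (Sylow 13 M) = 1 := by
    have h1 := card_normalizer_mul_card_sylow P₀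
    rw [hM] at h1
    have hm := card_sylow_modEq_one 13 M
    rw [Nat.ModEq] at hm
    obtain ⟨c, hc⟩ := h117
    rw [show Nat.card (normalizer ((P₀ : Subgroup M) : Set M)) = 117 * c from hc] at h1
    have h2 : Nat.card (Sylow 13 M) ≤ 3 := by
      rcases Nat.eq_zero_or_pos c with rfl | hc0
      · omega
      · have : 117 * Nat.card (Sylow 13 M) ≤ 117 * c * Nat.card (Sylow 13 M) :=
          Nat.mul_le_mul_right _ (Nat.le_mul_of_pos_right 117 hc0)
        omega
    omega
  have : Subsingleton (Sylow 13 M) := (Nat.card_eq_one_iff_unique.mp hn13).1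
  have hn : (P₀ : Subgroup M).Normal := Sylow.normal_of_subsingleton P₀
  obtain ⟨P, hP⟩ := ((P₀.2.map M.subtype).exists_le_sylow : ∃ P : Sylow 13 G, P' ≤ P)
  obtain ⟨hcP, hN⟩ := card_normalizer_thirteen h P
  have heq : P' = (P : Subgroup G) := eq_of_le_of_card_ge hP (by rw [hcP, hcP'])
  have hle : M ≤ normalizer ((P : Subgroup G) : Set G) := by
    rw [← heq]
    exact le_normalizer_map M.subtype |>.trans' (fun x hx =>
      ⟨⟨x, hx⟩, by rw [normalizer_eq_top (P₀ : Subgroup M)]; exact mem_top _, rfl⟩)
  have := card_le_of_le hle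
  omega

/-- A Sylow 3-subgroup has a normaliser of order 432, or one of order 108 and another Sylow
subgroup meeting it in a group of order 9. -/
theorem sylow_cases (h : Nat.card G = 5616) [Fact (Nat.Prime 3)] (T : Sylow 3 G) :
    Nat.card (normalizer ((T : Subgroup G) : Set G)) = 432 ∨
      (Nat.card (normalizer ((T : Subgroup G) : Set G)) = 108 ∧
        ∃ T' : Sylow 3 G, T' ≠ T ∧ Nat.card ((T : Subgroup G) ⊓ T' : Subgroup G) = 9) := by
  classical
  have : Fact (Nat.Prime 13) := ⟨by norm_num⟩
  have hT := card_sylow_three h T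
  have hmem := card_sylow_mem (p := 3) (nc h) (k := 3) (m := 208) (by norm_num)
    (by rw [h]; norm_num) (by norm_num)
  rw [show ((Nat.divisors 208).filter fun n => n % 3 = 1 ∧ 1 < n) = {4, 13, 16, 52, 208} from by
    decide +kernel] at hmem
  simp only [Finset.mem_insert, Finset.mem_singleton] at hmem
  have hNn := card_normalizer_mul_card_sylow T
  rw [h] at hNn
  set N := normalizer ((T : Subgroup G) : Set G) with hN
  rcases hmem with e | e | e | e | e
  · exfalso
    have h1 := two_mul_card_dvd_factorial_card_sylow (p := 3) (nc h) (by rw [h]; norm_num)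
    rw [e, h] at h1
    norm_num [Nat.factorial] at h1
  · rw [e] at hNn
    exact Or.inl (by omega)
  · -- sixteen Sylow subgroups
    exfalso
    rw [e] at hNn
    have hN351 : Nat.card N = 351 := by omega
    have : Nontrivial (Sylow 3 G) := Finite.one_lt_card_iff_nontrivial.mp (by rw [e]; norm_num)
    obtain ⟨T', hT'⟩ := exists_ne T
    have hTn : ∀ x : N, x • T = T := fun x => Sylow.smul_eq_iff_mem_normalizer.mpr x.2
    have : Fintype (Sylow 3 G) := Fintype.ofFinite _
    have horb : Nat.card (orbit N T') ≤ 15 := by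
      have h1 : Nat.card (orbit N T') ≤ Nat.card {Q : Sylow 3 G // Q ≠ T} := by
        refine Nat.card_le_card_of_injective (fun Q => ⟨Q.1, fun hQ => ?_⟩) ?_
        · obtain ⟨x, hx⟩ := Q.2
          refine hT' ?_
          have h2 : (x⁻¹ : N) • (Q.1 : Sylow 3 G) = T' := by
            rw [← hx]; exact inv_smul_smul x T'
          rw [← h2, hQ, hTn]
        · intro a b hab
          exact Subtype.ext (Subtype.mk.inj hab)
      refine h1.trans ?_
      rw [Nat.card_eq_fintype_card, Fintype.card_subtype_compl, Fintype.card_subtype_eq,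
        ← Nat.card_eq_fintype_card, e]
    set S := stabilizer N T' with hS
    have hmul : Nat.card (orbit N T') * Nat.card S = 351 := by
      rw [← hN351, ← Nat.card_prod,
        Nat.card_congr (MulAction.orbitProdStabilizerEquivGroup N T')]
    have hSd : Nat.card S ∈ Nat.divisors 351 :=
      Nat.mem_divisors.mpr ⟨Dvd.intro_left _ hmul, by norm_num⟩
    have h13 : 13 ∣ Nat.card S → False := by
      intro hd
      -- a subgroup of `N` of order `13 * c` with `c > 1` has a normal subgroup of order 13
      obtain ⟨P₀⟩ := (inferInstance : Nonempty (Sylow 13 N))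
      have hP₀ : Nat.card P₀ = 13 :=
        (card_sylow_of_card_eq (k := 1) (m := 27) (by rw [hN351]; norm_num) (by norm_num) P₀).trans
          (pow_one 13)
      have hm := card_sylow_modEq_one 13 N
      rw [Nat.ModEq] at hm
      have hidx : Nat.card (Sylow 13 N) ∣ 27 := by
        rw [← index_sylow_of_card_eq (k := 1) (m := 27) (by rw [hN351]; norm_num) (by norm_num) P₀]
        exact P₀.card_dvd_index
      rcases (show ∀ d ∈ Nat.divisors 27, d % 13 = 1 → d = 1 ∨ d = 27 by decide) _
        (Nat.mem_divisors.mpr ⟨hidx, by norm_num⟩) hm with e1 | e1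
      · have : Subsingleton (Sylow 13 N) := (Nat.card_eq_one_iff_unique.mp e1).1
        have hn : (P₀ : Subgroup N).Normal := Sylow.normal_of_subsingleton P₀
        obtain ⟨P, hP⟩ := ((P₀.2.map N.subtype).exists_le_sylow :
          ∃ P : Sylow 13 G, (P₀ : Subgroup N).map N.subtype ≤ P)
        obtain ⟨hcP, hPN⟩ := card_normalizer_thirteen h P
        have heq : (P₀ : Subgroup N).map N.subtype = (P : Subgroup G) :=
          eq_of_le_of_card_ge hP (by rw [hcP, card_map_of_injective N.subtype_injective, hP₀])
        have hle : N ≤ normalizer ((P : Subgroup G) : Set G) := by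
          rw [← heq]
          exact le_normalizer_map N.subtype |>.trans' (fun x hx =>
            ⟨⟨x, hx⟩, by rw [normalizer_eq_top (P₀ : Subgroup N)]; exact mem_top _, rfl⟩)
        have := card_le_of_le hle
        omega
      · obtain ⟨Q₀⟩ := (inferInstance : Nonempty (Sylow 13 S))
        have hS13 : Nat.card S = 13 ∨ Nat.card S = 39 ∨ Nat.card S = 117 ∨ Nat.card S = 351 :=
          (show ∀ d ∈ Nat.divisors 351, 13 ∣ d → d = 13 ∨ d = 39 ∨ d = 117 ∨ d = 351 by
            decide +kernel) _ hSd hd
        rcases hS13 with e2 | e2 | e2 | e2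
        · rw [e2] at hmul; omega
        rotate_left 2
        · -- `N` fixes `T'`
          have htop : S = ⊤ := eq_top_of_card_eq S (e2.trans hN351.symm)
          refine hT' ?_
          have hle : (T : Subgroup G) ≤ (T : Subgroup G) ⊓ T' := by
            rw [← T.2.inf_normalizer_sylow T']
            refine le_inf le_rfl fun x hx => ?_
            have : (⟨x, le_normalizer hx⟩ : N) ∈ S := htop ▸ mem_top _
            exact Sylow.smul_eq_iff_mem_normalizer.mp this
          exact Sylow.ext (eq_of_le_of_card_ge (le_inf_iff.mp hle).2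
            (by rw [card_sylow_three h T', hT])).symm
        all_goals
          have hQ₀ : Nat.card Q₀ = 13 := by
            refine (card_sylow_of_card_eq (k := 1) (m := Nat.card S / 13) ?_ ?_ Q₀).trans (pow_one 13)
            all_goals rw [e2]
            all_goals norm_num
          have hm' := card_sylow_modEq_one 13 S
          rw [Nat.ModEq] at hm'
          have hQn : (Q₀ : Subgroup S).Normal := by
            have h3 : Nat.card (Sylow 13 S) ∣ Nat.card S / 13 := by
              rw [← index_sylow_of_card_eq (k := 1) (m := Nat.card S / 13)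
                (by rw [e2]; norm_num) (by rw [e2]; norm_num) Q₀]
              exact Q₀.card_dvd_index
            rw [e2] at h3
            have h4 := Nat.le_of_dvd (by norm_num) h3
            have : Subsingleton (Sylow 13 S) :=
              (Nat.card_eq_one_iff_unique.mp (show Nat.card (Sylow 13 S) = 1 by omega)).1
            exact Sylow.normal_of_subsingleton Q₀
          obtain ⟨P₁, hP₁⟩ := ((Q₀.2.map S.subtype).exists_le_sylow :
            ∃ P : Sylow 13 N, (Q₀ : Subgroup S).map S.subtype ≤ P)
          have hP₁c : Nat.card P₁ = 13 :=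
            (card_sylow_of_card_eq (k := 1) (m := 27) (by rw [hN351]; norm_num) (by norm_num) P₁).trans
              (pow_one 13)
          have heq : (Q₀ : Subgroup S).map S.subtype = (P₁ : Subgroup N) :=
            eq_of_le_of_card_ge hP₁ (by rw [card_map_of_injective S.subtype_injective, hQ₀, hP₁c])
          have hle : S ≤ normalizer ((P₁ : Subgroup N) : Set N) := by
            rw [← heq]
            exact le_normalizer_map S.subtype |>.trans' (fun x hx =>
              ⟨⟨x, hx⟩, by rw [normalizer_eq_top (Q₀ : Subgroup S)]; exact mem_top _, rfl⟩)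
          have h5 := card_le_of_le hle
          have h6 := card_normalizer_mul_card_sylow P₁
          rw [hN351, e1] at h6
          omega
    -- so `S` has order 27
    have hScases : Nat.card S = 1 ∨ Nat.card S = 3 ∨ Nat.card S = 9 ∨ Nat.card S = 27 :=
      (show ∀ d ∈ Nat.divisors 351, ¬ 13 ∣ d → d = 1 ∨ d = 3 ∨ d = 9 ∨ d = 27 by decide +kernel)
        _ hSd h13
    have hS27 : Nat.card S = 27 := by
      rcases hScases with e2 | e2 | e2 | e2 <;> rw [e2] at hmul <;> omega
    have hTN : (T : Subgroup G) ≤ N := le_normalizer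
    have hT'' : ((T : Subgroup G).subgroupOf N) = S := by
      have hST : S ≤ (T : Subgroup G).subgroupOf N := by
        intro x hx
        have hn : ((T : Subgroup G).subgroupOf N).Normal := normal_in_normalizer
        have h1 : orderOf (QuotientGroup.mk' ((T : Subgroup G).subgroupOf N) x) ∣ Nat.gcd 27 13 := by
          refine Nat.dvd_gcd ((orderOf_map_dvd _ x).trans (hS27 ▸ Subgroup.orderOf_dvd_natCard S hx)) ?_
          have h2 := ((T : Subgroup G).subgroupOf N).card_mul_index
          rw [Nat.card_congr (subgroupOfEquivOfLe hTN).toEquiv, hN351,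
            show Nat.card (T : Subgroup G) = 27 from hT] at h2
          have h3 : ((T : Subgroup G).subgroupOf N).index = 13 := by omega
          have h4 := orderOf_dvd_natCard (QuotientGroup.mk' ((T : Subgroup G).subgroupOf N) x)
          rwa [← index_eq_card, h3] at h4
        exact (QuotientGroup.eq_one_iff x).mp (orderOf_eq_one_iff.mp (Nat.dvd_one.mp h1))
      exact (eq_of_le_of_card_ge hST (by
        rw [hS27, Nat.card_congr (subgroupOfEquivOfLe hTN).toEquiv]; exact hT.le)).symm
    refine hT' ?_
    have hle : (T : Subgroup G) ≤ (T : Subgroup G) ⊓ T' := by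
      rw [← T.2.inf_normalizer_sylow T']
      refine le_inf le_rfl fun x hx => ?_
      have : (⟨x, hTN hx⟩ : N) ∈ S := hT'' ▸ (show (⟨x, hTN hx⟩ : N) ∈
        (T : Subgroup G).subgroupOf N from hx)
      exact Sylow.smul_eq_iff_mem_normalizer.mp this
    exact Sylow.ext (eq_of_le_of_card_ge (le_inf_iff.mp hle).2
      (by rw [card_sylow_three h T', hT])).symm
  · -- fifty-two
    rw [e] at hNn
    refine Or.inr ⟨by omega, ?_⟩
    by_contra hno
    push Not at hno
    have : Fintype (Sylow 3 G) := Fintype.ofFinite _
    have hsum := Nat.card_congr (MulAction.selfEquivSigmaOrbitsQuotientStabilizer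
      (T : Subgroup G) (Sylow 3 G))
    rw [e, Nat.card_sigma] at hsum
    set ω₀ : orbitRel.Quotient (T : Subgroup G) (Sylow 3 G) := Quotient.mk'' T
    have hfixT : ∀ x : (T : Subgroup G), x • T = T := fun x =>
      Sylow.smul_eq_iff_mem_normalizer.mpr (le_normalizer x.2)
    have hω₀ : ω₀.out = T := by
      obtain ⟨x, hx⟩ : ω₀.out ∈ orbit (T : Subgroup G) T :=
        orbitRel_apply.mp (Quotient.exact' (Quotient.out_eq' ω₀))
      rw [← hx]
      exact hfixT x
    have hterm : ∀ ω : orbitRel.Quotient (T : Subgroup G) (Sylow 3 G),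
        Nat.card ((T : Subgroup G) ⧸ stabilizer (T : Subgroup G) ω.out) % 9 =
          if ω = ω₀ then 1 else 0 := by
      intro ω
      rw [← index_eq_card]
      set S := stabilizer (T : Subgroup G) ω.out with hS
      have hcS : Nat.card S = Nat.card ((T : Subgroup G) ⊓ ω.out : Subgroup G) := by
        rw [← T.2.inf_normalizer_sylow ω.out, ← card_map_of_injective (subtype_injective (T : Subgroup G))]
        refine congrArg (fun K : Subgroup G => Nat.card K) ?_
        ext x
        constructor
        · rintro ⟨y, hy, rfl⟩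
          exact ⟨y.2, Sylow.smul_eq_iff_mem_normalizer.mp hy⟩
        · rintro ⟨hx1, hx2⟩
          exact ⟨⟨x, hx1⟩, Sylow.smul_eq_iff_mem_normalizer.mpr hx2, rfl⟩
      have hmul := S.card_mul_index
      rw [show Nat.card (T : Subgroup G) = 27 from hT, hcS] at hmul
      by_cases hω : ω = ω₀
      · rw [if_pos hω]
        rw [hω, hω₀, inf_idem, show Nat.card (T : Subgroup G) = 27 from hT] at hmul
        omega
      · rw [if_neg hω]
        have hne : ω.out ≠ T := fun e1 => hω (by rw [← Quotient.out_eq' ω, e1])
        have h9 : Nat.card ((T : Subgroup G) ⊓ ω.out : Subgroup G) ≠ 9 := hno ω.out hne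
        have h27 : Nat.card ((T : Subgroup G) ⊓ ω.out : Subgroup G) ≠ 27 := fun e1 => hne (by
          refine Sylow.ext ?_
          have h1 : (T : Subgroup G) ⊓ ω.out = (T : Subgroup G) :=
            eq_of_le_of_card_ge inf_le_left (by rw [e1]; exact hT.le)
          exact (eq_of_le_of_card_ge (inf_eq_left.mp h1)
            (by rw [card_sylow_three h ω.out, hT])).symm)
        rcases (show ∀ d ∈ Nat.divisors 27, d ≠ 9 → d ≠ 27 → d = 1 ∨ d = 3 by decide) _
          (Nat.mem_divisors.mpr ⟨Dvd.intro _ hmul, by norm_num⟩) h9 h27 with e1 | e1 <;>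
          rw [e1] at hmul <;> omega
    have h52 : 52 % 9 = (∑ ω : orbitRel.Quotient (T : Subgroup G) (Sylow 3 G),
        if ω = ω₀ then 1 else 0) % 9 := by
      rw [hsum, Finset.sum_nat_mod, Finset.sum_congr rfl fun ω _ => hterm ω]
    rw [Finset.sum_ite_eq' Finset.univ ω₀ (fun _ => 1), if_pos (Finset.mem_univ _)] at h52
    norm_num at h52
  · -- `T` would control transfer
    exfalso
    rw [e] at hNn
    have hN27 : Nat.card N = 27 := by omega
    have hNT : N = (T : Subgroup G) := (eq_of_le_of_card_ge le_normalizer (by rw [hN27]; exact hT.ge)).symm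
    have hz : ∀ u ∈ (T : Subgroup G), ∀ z ∈ (T : Subgroup G),
        (fun y : G => y⁻¹ * z⁻¹ * y * z)^[3 - 1] u = 1 := by
      intro u hu z hz
      have hZ : Nontrivial (center (T : Subgroup G)) := by
        have : Nontrivial (T : Subgroup G) :=
          Finite.one_lt_card_iff_nontrivial.mp (by rw [hT]; norm_num)
        exact T.2.center_nontrivial
      have hq : ∀ a b : (T : Subgroup G) ⧸ center (T : Subgroup G), a * b = b * a := by
        have h1 := (center (T : Subgroup G)).card_mul_index
        rw [index_eq_card, show Nat.card (T : Subgroup G) = 27 from hT] at h1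
        have h2 : 1 < Nat.card (center (T : Subgroup G)) := Finite.one_lt_card_iff_nontrivial.mpr hZ
        rcases (show ∀ d ∈ Nat.divisors 27, d = 1 ∨ d = 3 ∨ d = 9 ∨ d = 27 by decide) _
          (Nat.mem_divisors.mpr ⟨Dvd.intro _ h1, by norm_num⟩) with e1 | e1 | e1 | e1
        · omega
        · rw [e1] at h1
          have : CommGroup ((T : Subgroup G) ⧸ center (T : Subgroup G)) :=
            IsPGroup.commGroupOfCardEqPrimeSq (p := 3) (by omega)
          intro a b
          exact IsPGroup.commutative_of_card_eq_prime_sq (p := 3) (by omega) a b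
        · rw [e1] at h1
          have : IsCyclic ((T : Subgroup G) ⧸ center (T : Subgroup G)) :=
            isCyclic_of_prime_card (p := 3) (by omega)
          exact IsCyclic.isMulCommutative.is_comm.comm
        · rw [e1] at h1
          have : Subsingleton ((T : Subgroup G) ⧸ center (T : Subgroup G)) :=
            (Nat.card_eq_one_iff_unique.mp (by omega)).1
          intro a b
          exact Subsingleton.elim _ _
      set u' : (T : Subgroup G) := ⟨u, hu⟩
      set z' : (T : Subgroup G) := ⟨z, hz⟩
      have hc : u'⁻¹ * z'⁻¹ * u' * z' ∈ center (T : Subgroup G) := by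
        rw [← QuotientGroup.eq_one_iff, QuotientGroup.mk_mul, QuotientGroup.mk_mul,
          QuotientGroup.mk_mul, QuotientGroup.mk_inv, QuotientGroup.mk_inv, mul_assoc, hq (u' : _ ⧸ _),
          mul_assoc, inv_mul_cancel_left, inv_mul_cancel]
      show (u⁻¹ * z⁻¹ * u * z)⁻¹ * z⁻¹ * (u⁻¹ * z⁻¹ * u * z) * z = 1
      have h3 : (z'⁻¹ : (T : Subgroup G)) * (u'⁻¹ * z'⁻¹ * u' * z') =
          (u'⁻¹ * z'⁻¹ * u' * z') * z'⁻¹ := mem_center_iff.mp hc z'⁻¹
      have h4 := congrArg Subtype.val h3
      simp only [Subgroup.coe_mul, Subgroup.coe_inv, u', z'] at h4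
      rw [mul_assoc _ z⁻¹, h4]
      group
    have hres := Cfsg.Agent.S4215.result T (T : Subgroup G) ⟨le_rfl, fun g hg =>
      eq_of_le_of_card_ge hg (by rw [card_map_of_injective (MulAut.conj g).injective])⟩ hz
    have hbot : Cfsg.pResidualOf 3 N = ⊥ := by
      rw [Cfsg.pResidualOf, map_eq_bot_iff_of_injective _ N.subtype_injective, Cfsg.pResidual,
        closure_eq_bot_iff]
      intro x hx
      have h1 : orderOf x ∣ 3 ^ 3 := by
        have := orderOf_dvd_natCard x
        rw [hN27] at this
        exact this
      exact orderOf_eq_one_iff.mp (Nat.Coprime.eq_one_of_dvd (Nat.Coprime.pow_right 3 hx) h1)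
    rw [← hN, hbot] at hres
    have hn : (Cfsg.pResidual 3 G).Normal := CfsgLib.Transfer.pResidual_normal
    rcases hn.eq_bot_or_eq_top with e1 | e1
    · obtain ⟨x, hx⟩ := exists_prime_orderOf_dvd_card' (G := G) 13 (by rw [h]; norm_num)
      have hmem : x ∈ Cfsg.pResidual 3 G := subset_closure (by
        show Nat.Coprime (orderOf x) 3
        rw [hx]; norm_num)
      rw [e1, mem_bot] at hmem
      rw [hmem, orderOf_one] at hx
      norm_num at hx
    · rw [e1, top_inf_eq] at hres
      have h1 : Nat.card N = 1 := by rw [← hres, card_bot]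
      omega

/-- A normal subgroup of index 3 of the intersection of two Sylow subgroups. -/
theorem le_normalizer_inter {T T' : Subgroup G} (hT : IsPGroup 3 T) [Fact (Nat.Prime 3)]
    (hc : Nat.card T = 27) (hD : Nat.card (T ⊓ T' : Subgroup G) = 9) :
    T ≤ normalizer ((T ⊓ T' : Subgroup G) : Set G) := by
  have hn : ((T ⊓ T').subgroupOf T).Normal := by
    refine normal_of_index_eq_minFac_card ?_
    rw [hc]
    have h1 := ((T ⊓ T').subgroupOf T).card_mul_index
    rw [Nat.card_congr (subgroupOfEquivOfLe inf_le_left).toEquiv, hD, hc] at h1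
    rw [show Nat.minFac 27 = 3 by norm_num]
    omega
  exact (normal_subgroupOf_iff_le_normalizer inf_le_left).mp hn

end CfsgLib.Small.Order5616
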