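import Cfsg.Agent.Lib.Small.LowTools
import Cfsg.Agent.Lib.Small.Order5616Index
import Cfsg.Agent.Lib.PermGroup.ThreeTrans
import Mathlib.GroupTheory.Perm.Cycle.Type

/-!
A simple group of order 5616 acts on the projective plane of order 3, so any two such groups are
isomorphic.
-/

set_option autoImplicit false
set_option maxRecDepth 100000

namespace CfsgLib.Small.Order5616

open Subgroup MulAction CfsgLib.Small

/-! ### The plane -/

/-- A perfect difference set modulo 13. -/
def base : List (ZMod 13) := [0, 1, 3, 9]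

/-- Incidence in the plane developed from `base`. -/
abbrev OnLine (i x : ZMod 13) : Prop := x - i ∈ base

/-- Three points on one line. -/
abbrev Col (a b c : ZMod 13) : Prop :=
  ∃ i ∈ [a, a - 1, a - 3, a - 9], OnLine i b ∧ OnLine i c

/-- A permutation sending lines into lines. -/
def Preserves (σ : Equiv.Perm (ZMod 13)) : Prop := ∀ i, ∃ j, ∀ x, OnLine i x → OnLine j (σ x)

theorem line_unique : ∀ x y : ZMod 13, x ≠ y → ∀ i j : ZMod 13,
    OnLine i x → OnLine i y → OnLine j x → OnLine j y → i = j := by decide +kernel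

theorem line_exists : ∀ x y : ZMod 13, x ≠ y →
    ∃ i ∈ [x, x - 1, x - 3, x - 9], OnLine i y := by decide +kernel

theorem on_of_mem : ∀ x i : ZMod 13, i ∈ [x, x - 1, x - 3, x - 9] → OnLine i x := by decide +kernel

theorem mem_of_on : ∀ x i : ZMod 13, OnLine i x → i ∈ [x, x - 1, x - 3, x - 9] := by decide +kernel

theorem card_line : ∀ i : ZMod 13, (Finset.univ.filter fun x => OnLine i x).card = 4 := by
  decide +kernel

/-- Points fixed as soon as the points of `S` are. -/
def step (S : Finset (ZMod 13)) : Finset (ZMod 13) :=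
  S ∪ Finset.univ.filter fun x => ∃ i j : ZMod 13, i ≠ j ∧ OnLine i x ∧ OnLine j x ∧
    2 ≤ (S.filter fun y => OnLine i y).card ∧ 2 ≤ (S.filter fun y => OnLine j y).card

theorem step_frame : step (step (step ({0, 1, 2, 5} : Finset (ZMod 13)))) = Finset.univ := by
  decide +kernel

theorem fixed_step {σ τ : Equiv.Perm (ZMod 13)} (hσ : Preserves σ) (hτ : Preserves τ)
    {S : Finset (ZMod 13)} (hS : ∀ y ∈ S, σ y = τ y) : ∀ y ∈ step S, σ y = τ y := by
  intro x hx
  rcases Finset.mem_union.mp hx with hx | hx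
  · exact hS x hx
  obtain ⟨i, j, hij, hix, hjx, hi, hj⟩ := (Finset.mem_filter.mp hx).2
  -- both image lines of `i` are the same
  have key : ∀ i : ZMod 13, 2 ≤ (S.filter fun y => OnLine i y).card → OnLine i x →
      ∃ i', OnLine i' (σ x) ∧ OnLine i' (τ x) ∧
        (∀ y ∈ Finset.univ.filter (fun y => OnLine i y), OnLine i' (σ y)) := by
    intro i hi hix
    obtain ⟨y, hy, z, hz, hyz⟩ := Finset.one_lt_card.mp hi
    rw [Finset.mem_filter] at hy hz
    obtain ⟨i', hi'⟩ := hσ i
    obtain ⟨i'', hi''⟩ := hτ i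
    have hii : i' = i'' := line_unique (σ y) (σ z) (σ.injective.ne hyz) i' i'' (hi' y hy.2)
      (hi' z hz.2) (hS y hy.1 ▸ hi'' y hy.2) (hS z hz.1 ▸ hi'' z hz.2)
    exact ⟨i', hi' x hix, hii ▸ hi'' x hix, fun w hw => hi' w (Finset.mem_filter.mp hw).2⟩
  obtain ⟨i', hiσ, hiτ, hi'⟩ := key i hi hix
  obtain ⟨j', hjσ, hjτ, hj'⟩ := key j hj hjx
  by_contra hne
  have hij' : i' = j' := line_unique (σ x) (τ x) hne i' j' hiσ hiτ hjσ hjτ
  subst hij'
  -- two lines with the same image
  have hsub : ((Finset.univ.filter fun y => OnLine i y) ∪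
      (Finset.univ.filter fun y => OnLine j y)).image σ ⊆
        Finset.univ.filter fun y => OnLine i' y := by
    intro w hw
    obtain ⟨y, hy, rfl⟩ := Finset.mem_image.mp hw
    rcases Finset.mem_union.mp hy with hy | hy
    · exact Finset.mem_filter.mpr ⟨Finset.mem_univ _, hi' y hy⟩
    · exact Finset.mem_filter.mpr ⟨Finset.mem_univ _, hj' y hy⟩
  have hc := Finset.card_le_card hsub
  rw [Finset.card_image_of_injective _ σ.injective, card_line] at hc
  have heq := Finset.eq_of_subset_of_card_le (Finset.subset_union_left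
    (s₁ := Finset.univ.filter fun y => OnLine i y) (s₂ := Finset.univ.filter fun y => OnLine j y))
    (by rw [card_line]; exact hc)
  obtain ⟨y, hy, z, hz, hyz⟩ := Finset.one_lt_card.mp hj
  rw [Finset.mem_filter] at hy hz
  have h1 : ∀ w, OnLine j w → OnLine i w := fun w hw => by
    have : w ∈ (Finset.univ.filter fun y => OnLine i y) ∪
        (Finset.univ.filter fun y => OnLine j y) :=
      Finset.mem_union_right _ (Finset.mem_filter.mpr ⟨Finset.mem_univ _, hw⟩)
    rw [← heq] at this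
    exact (Finset.mem_filter.mp this).2
  exact hij (line_unique y z hyz i j (h1 y hy.2) (h1 z hz.2) hy.2 hz.2)

theorem preserves_ext {σ τ : Equiv.Perm (ZMod 13)} (hσ : Preserves σ) (hτ : Preserves τ)
    (h0 : σ 0 = τ 0) (h1 : σ 1 = τ 1) (h2 : σ 2 = τ 2) (h5 : σ 5 = τ 5) : σ = τ := by
  refine Equiv.ext fun x => fixed_step hσ hτ (fixed_step hσ hτ (fixed_step hσ hτ (S := {0, 1, 2, 5})
    ?_)) x (step_frame ▸ Finset.mem_univ x)
  intro y hy
  simp only [Finset.mem_insert, Finset.mem_singleton] at hy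
  rcases hy with rfl | rfl | rfl | rfl <;> assumption

theorem col_image {σ : Equiv.Perm (ZMod 13)} (hσ : Preserves σ) {a b c : ZMod 13} (hab : a ≠ b)
    (h : Col (σ a) (σ b) (σ c)) : Col a b c := by
  obtain ⟨j, hj, hjb, hjc⟩ := h
  obtain ⟨i, hi, hib⟩ := line_exists a b hab
  obtain ⟨j', hj'⟩ := hσ i
  have hjj : j' = j := line_unique (σ a) (σ b) (σ.injective.ne hab) j' j (hj' a (on_of_mem a i hi))
    (hj' b hib) (on_of_mem _ _ hj) hjb
  subst hjj
  have heq : (Finset.univ.filter fun y => OnLine i y).image σ =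
      Finset.univ.filter fun y => OnLine j' y := by
    refine Finset.eq_of_subset_of_card_le (fun w hw => ?_)
      (by rw [Finset.card_image_of_injective _ σ.injective, card_line, card_line])
    obtain ⟨y, hy, rfl⟩ := Finset.mem_image.mp hw
    exact Finset.mem_filter.mpr ⟨Finset.mem_univ _, hj' y (Finset.mem_filter.mp hy).2⟩
  have hc : σ c ∈ (Finset.univ.filter fun y => OnLine i y).image σ :=
    heq.symm ▸ Finset.mem_filter.mpr ⟨Finset.mem_univ _, hjc⟩
  obtain ⟨c', hc', hcc⟩ := Finset.mem_image.mp hc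
  rw [σ.injective hcc] at hc'
  exact ⟨i, hi, hib, (Finset.mem_filter.mp hc').2⟩

theorem third_le : ∀ a b : ZMod 13, a ≠ b →
    (Finset.univ.filter fun c => ¬ Col a b c).card ≤ 9 := by decide +kernel

theorem fourth_le : ∀ a b c : ZMod 13, a ≠ b → ¬ Col a b c →
    (Finset.univ.filter fun d => ¬ Col a b d ∧ ¬ Col a c d ∧ ¬ Col b c d).card ≤ 4 := by
  decide +kernel

/-- The line-preserving permutations are at most 5616. -/
theorem card_le_5616 (A : Finset (Equiv.Perm (ZMod 13))) (hA : ∀ σ ∈ A, Preserves σ) :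
    A.card ≤ 5616 := by
  classical
  let T : Finset (ZMod 13 × ZMod 13 × ZMod 13 × ZMod 13) :=
    Finset.univ.biUnion fun a => (Finset.univ.erase a).biUnion fun b =>
      (Finset.univ.filter fun c => ¬ Col a b c).biUnion fun c =>
        (Finset.univ.filter fun d => ¬ Col a b d ∧ ¬ Col a c d ∧ ¬ Col b c d).image
          fun d => (a, b, c, d)
  have hT : T.card ≤ 13 * (12 * (9 * 4)) := by
    refine (Finset.card_biUnion_le_card_mul _ _ (12 * (9 * 4)) fun a _ => ?_).trans
      (by rw [Finset.card_univ, ZMod.card])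
    refine (Finset.card_biUnion_le_card_mul _ _ (9 * 4) fun b hb => ?_).trans
      (by rw [Finset.card_erase_of_mem (Finset.mem_univ a), Finset.card_univ, ZMod.card])
    have hab : a ≠ b := (Finset.ne_of_mem_erase hb).symm
    refine (Finset.card_biUnion_le_card_mul _ _ 4 fun c hc => ?_).trans
      (Nat.mul_le_mul_right 4 (third_le a b hab))
    exact Finset.card_image_le.trans (fourth_le a b c hab (Finset.mem_filter.mp hc).2)
  refine le_trans (Finset.card_le_card_of_injOn (fun σ => (σ 0, σ 1, σ 2, σ 5)) ?_ ?_) hT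
  · intro σ hσ
    have hp := hA σ (Finset.mem_coe.mp hσ)
    simp only [T, Finset.mem_coe, Finset.mem_biUnion, Finset.mem_image, Finset.mem_filter,
      Finset.mem_erase, Finset.mem_univ, true_and, and_true]
    exact ⟨σ 0, σ 1, σ.injective.ne (by decide), σ 2,
      fun h => absurd (col_image hp (by decide) h) (by decide), σ 5,
      ⟨fun h => absurd (col_image hp (by decide) h) (by decide),
        fun h => absurd (col_image hp (by decide) h) (by decide),
        fun h => absurd (col_image hp (by decide) h) (by decide)⟩, rfl⟩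
  · intro σ hσ τ hτ h
    simp only [Prod.mk.injEq] at h
    exact preserves_ext (hA σ (Finset.mem_coe.mp hσ)) (hA τ (Finset.mem_coe.mp hτ))
      h.1 h.2.1 h.2.2.1 h.2.2.2

theorem difference_set : ∀ a b : ZMod 13, ({0, 1, a, b} : Finset (ZMod 13)).card = 4 →
    (∀ i : ZMod 13, i ≠ 0 →
      (({0, 1, a, b} : Finset (ZMod 13)).filter fun z => z - i ∈ ({0, 1, a, b} : Finset (ZMod 13))).card
        ∈ [0, 1, 4]) →
    ∃ u u' v : ZMod 13, u * u' = 1 ∧
      ∀ z : ZMod 13, (z ∈ ({0, 1, a, b} : Finset (ZMod 13)) ↔ u * z + v ∈ base) := by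
  decide +kernel


/-! ### The group -/

universe u v

variable {G : Type u} [Group G] [Finite G] [IsSimpleGroup G] {H : Subgroup G}
  [Fintype (G ⧸ H)] [DecidableEq (G ⧸ H)]

/-- The stabiliser of two cosets. -/
abbrev pairStab (a b : G ⧸ H) : Subgroup G := stabilizer G a ⊓ stabilizer G b

/-- The cosets fixed by a subgroup. -/
noncomputable def fixSet (Q : Subgroup G) : Finset (G ⧸ H) := by
  classical exact Finset.univ.filter fun x => ∀ q ∈ Q, q • x = x

omit [Finite G] [IsSimpleGroup G] [DecidableEq (G ⧸ H)] in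
theorem mem_fixSet {Q : Subgroup G} {x : G ⧸ H} :
    x ∈ fixSet (H := H) Q ↔ ∀ q ∈ Q, q • x = x := by
  classical simp [fixSet]

omit [Finite G] [IsSimpleGroup G] [DecidableEq (G ⧸ H)] in
theorem le_pairStab {Q : Subgroup G} {a b : G ⧸ H} (ha : a ∈ fixSet Q) (hb : b ∈ fixSet Q) :
    Q ≤ pairStab a b := fun q hq =>
  ⟨mem_fixSet.mp ha q hq, mem_fixSet.mp hb q hq⟩

omit [Finite G] [IsSimpleGroup G] [DecidableEq (G ⧸ H)] in
theorem mem_fixSet_of_le {Q : Subgroup G} {a b : G ⧸ H} (h : Q ≤ pairStab a b) :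
    a ∈ fixSet (H := H) Q ∧ b ∈ fixSet Q :=
  ⟨mem_fixSet.mpr fun _ hq => (h hq).1, mem_fixSet.mpr fun _ hq => (h hq).2⟩

omit [Finite G] [IsSimpleGroup G] in
theorem fixSet_map_conj (Q : Subgroup G) (g : G) :
    fixSet (H := H) (Q.map (MulAut.conj g).toMonoidHom) = (fixSet Q).image (g • ·) := by
  ext x
  rw [Finset.mem_image, mem_fixSet]
  constructor
  · intro h
    refine ⟨g⁻¹ • x, mem_fixSet.mpr fun q hq => ?_, smul_inv_smul g x⟩
    have h1 := h _ ⟨q, hq, rfl⟩
    calc q • g⁻¹ • x = g⁻¹ • (g * q * g⁻¹) • x := by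
          rw [← mul_smul, ← mul_smul]; congr 1; group
      _ = g⁻¹ • x := congrArg (g⁻¹ • ·) h1
  · rintro ⟨y, hy, rfl⟩ _ ⟨q, hq, rfl⟩
    show (g * q * g⁻¹) • g • y = g • y
    rw [← mul_smul, inv_mul_cancel_right, mul_smul, mem_fixSet.mp hy q hq]

section
variable (h : Nat.card G = 5616) (hi : H.index = 13)
include h hi

theorem card_cosets : Fintype.card (G ⧸ H) = 13 := by
  rw [← hi, index_eq_card, Nat.card_eq_fintype_card]

theorem ne_top : H ≠ ⊤ := fun e => by rw [e, index_top] at hi; norm_num at hi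

theorem isCoatom : IsCoatom H :=
  CfsgLib.Small.Low.isCoatom_of_index (nc h) (ne_top h hi) (by rw [h, hi]; decide +kernel)

theorem two_trans {a b c d : G ⧸ H} (hab : a ≠ b) (hcd : c ≠ d) :
    ∃ g : G, g • a = c ∧ g • b = d := by
  classical
  have : Fact (Nat.Prime 13) := ⟨by norm_num⟩
  set φ := toPermHom G (G ⧸ H)
  have hinj : Function.Injective φ := CfsgLib.Small.toPermHom_injective (G := G) (ne_top h hi)
  have : IsPretransitive φ.range (G ⧸ H) := ⟨fun x y => by
    obtain ⟨g, hg⟩ := exists_smul_eq G x y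
    exact ⟨⟨φ g, g, rfl⟩, hg⟩⟩
  have hns : ¬ Group.IsSolvable φ.range := by
    intro hs
    have : Group.IsSolvable G := Group.isSolvable_of_isSolvable_injective (f := φ.rangeRestrict)
      (φ.rangeRestrict_injective_iff.mpr hinj)
    exact (nc h) ⟨⟨fun x y => IsSimpleGroup.comm_iff_isSolvable.mpr this x y⟩⟩
  have h2 := CfsgLib.PermGroup.two_transitive_of_insoluble (p := 13) (card_cosets h hi) φ.range hns
  obtain ⟨⟨_, g, rfl⟩, hg1, hg2⟩ := is_two_pretransitive_iff.mp h2 hab hcd
  exact ⟨g, hg1, hg2⟩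

theorem card_pairStab {a b : G ⧸ H} (hab : a ≠ b) : Nat.card (pairStab a b) = 36 := by
  classical
  have hst : stabilizer G (a, b) = pairStab a b := by
    ext g
    rw [mem_stabilizer_iff, Prod.smul_mk, Prod.mk.injEq, mem_inf, mem_stabilizer_iff,
      mem_stabilizer_iff]
  have horb : orbit G (a, b) = ((Finset.univ : Finset (G ⧸ H)).offDiag : Set ((G ⧸ H) × (G ⧸ H))) := by
    ext ⟨c, d⟩
    rw [Finset.mem_coe, Finset.mem_offDiag]
    dsimp only
    constructor
    · rintro ⟨g, hg⟩
      refine ⟨Finset.mem_univ _, Finset.mem_univ _, fun e => hab ?_⟩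
      have hg : (g • a, g • b) = (c, d) := hg
      rw [Prod.mk.injEq] at hg
      exact MulAction.injective g (hg.1.trans (e.trans hg.2.symm))
    · rintro ⟨-, -, hcd⟩
      obtain ⟨g, hg1, hg2⟩ := two_trans h hi hab hcd
      exact ⟨g, show (g • a, g • b) = (c, d) by rw [hg1, hg2]⟩
  have h1 := index_stabilizer G (a, b)
  rw [hst, horb, Set.ncard_coe_finset, Finset.offDiag_card, Finset.card_univ, card_cosets h hi] at h1
  have h2 := (pairStab a b).card_mul_index
  rw [h, h1] at h2
  omega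

omit [Fintype (G ⧸ H)] [DecidableEq (G ⧸ H)] hi in
/-- Subgroups of order 9 are conjugate in an overgroup of order 18 or 36. -/
theorem conj_nine {K P Q : Subgroup G} {m : ℕ} (hK : Nat.card K = 9 * m) (hm : ¬ 3 ∣ m)
    (hP : Nat.card P = 9) (hQ : Nat.card Q = 9) (hPK : P ≤ K) (hQK : Q ≤ K) :
    ∃ k ∈ K, P.map (MulAut.conj k).toMonoidHom = Q := by
  have : Fact (Nat.Prime 3) := ⟨Nat.prime_three⟩
  have hfac : (Nat.card K).factorization 3 = 2 := by
    rw [hK, Nat.factorization_mul (by norm_num) (fun e => hm (by rw [e]; exact dvd_zero 3)),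
      Finsupp.add_apply, Nat.factorization_eq_zero_of_not_dvd hm,
      show (9 : ℕ) = 3 ^ 2 from rfl, Nat.prime_three.factorization_pow, Finsupp.single_eq_same]
  let SP : Sylow 3 K := Sylow.ofCard (P.subgroupOf K)
    (by rw [Nat.card_congr (subgroupOfEquivOfLe hPK).toEquiv, hP, hfac]; norm_num)
  let SQ : Sylow 3 K := Sylow.ofCard (Q.subgroupOf K)
    (by rw [Nat.card_congr (subgroupOfEquivOfLe hQK).toEquiv, hQ, hfac]; norm_num)
  obtain ⟨k, hk⟩ := exists_smul_eq K SP SQ
  refine ⟨k, k.2, eq_of_le_of_card_ge ?_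
    (by rw [card_map_of_injective (MulAut.conj (k : G)).injective, hP, hQ])⟩
  rintro _ ⟨y, hy, rfl⟩
  have h1 : MulAut.conj k • (⟨y, hPK hy⟩ : K) ∈ (SQ : Subgroup K) := by
    rw [← hk, Sylow.coe_subgroup_smul]
    exact Subgroup.smul_mem_pointwise_smul _ _ _ hy
  exact h1

theorem card_fixSet {Q : Subgroup G} (hQ : Nat.card Q = 9) {a b : G ⧸ H} (hab : a ≠ b)
    (ha : a ∈ fixSet Q) (hb : b ∈ fixSet Q) : (fixSet (H := H) Q).card = 4 := by
  classical
  have : Fact (Nat.Prime 3) := ⟨Nat.prime_three⟩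
  set f := (fixSet (H := H) Q).card with hf
  have h2 : 2 ≤ f := Finset.one_lt_card.mpr ⟨a, ha, b, hb, hab⟩
  have hle : f ≤ 13 := (Finset.card_le_univ _).trans (card_cosets h hi).le
  have hmod : 13 % 3 = f % 3 := by
    have h1 := (IsPGroup.of_card (n := 2) (hQ.trans (by norm_num))).card_modEq_card_fixedPoints
      (G ⧸ H) (G := Q) (p := 3)
    rw [Nat.card_eq_fintype_card, card_cosets h hi] at h1
    rw [hf, ← Set.ncard_coe_finset,
      show ((fixSet (H := H) Q : Finset (G ⧸ H)) : Set (G ⧸ H)) = fixedPoints Q (G ⧸ H) from by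
        ext x
        rw [Finset.mem_coe, mem_fixSet, mem_fixedPoints]
        exact ⟨fun h q => h q q.2, fun h q hq => h ⟨q, hq⟩⟩, ← Nat.card_coe_set_eq]
    exact h1
  -- the normaliser is transitive on the pairs of fixed cosets
  set N := normalizer (Q : Set G) with hN
  have horb : orbit N (a, b) = ((fixSet (H := H) Q).offDiag : Set ((G ⧸ H) × (G ⧸ H))) := by
    ext ⟨c, d⟩
    rw [Finset.mem_coe, Finset.mem_offDiag]
    dsimp only
    constructor
    · rintro ⟨⟨g, hg⟩, hgp⟩
      have hgp' : (g • a, g • b) = (c, d) := hgp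
      rw [Prod.mk.injEq] at hgp'
      have hfix : ∀ x ∈ fixSet (H := H) Q, g • x ∈ fixSet (H := H) Q := fun x hx => by
        have hmap : Q.map (MulAut.conj g).toMonoidHom = Q :=
          eq_of_le_of_card_ge (by rintro _ ⟨y, hy, rfl⟩; exact (mem_normalizer_iff.mp hg y).mp hy)
            (by rw [card_map_of_injective (MulAut.conj g).injective])
        rw [← hmap, fixSet_map_conj]
        exact Finset.mem_image_of_mem _ hx
      exact ⟨hgp'.1 ▸ hfix a ha, hgp'.2 ▸ hfix b hb, fun e => hab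
        (MulAction.injective g (hgp'.1.trans (e.trans hgp'.2.symm)))⟩
    · rintro ⟨hc, hd, hcd⟩
      obtain ⟨g, hg1, hg2⟩ := two_trans h hi hab hcd
      have hQ1 : Q.map (MulAut.conj g).toMonoidHom ≤ pairStab c d := by
        refine le_pairStab ?_ ?_ <;> rw [fixSet_map_conj]
        · exact hg1 ▸ Finset.mem_image_of_mem _ ha
        · exact hg2 ▸ Finset.mem_image_of_mem _ hb
      obtain ⟨k, hk, hkQ⟩ := conj_nine h (m := 4) (card_pairStab h hi hcd) (by norm_num)
        (by rw [card_map_of_injective (MulAut.conj g).injective, hQ]) hQ hQ1 (le_pairStab hc hd)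
      have hN' : k * g ∈ N := by
        refine mem_normalizer_iff.mpr fun y => ⟨fun hy => ?_, fun hy => ?_⟩
        · rw [← hkQ]
          exact ⟨g * y * g⁻¹, ⟨y, hy, rfl⟩,
            show k * (g * y * g⁻¹) * k⁻¹ = k * g * y * (k * g)⁻¹ by group⟩
        · rw [← hkQ] at hy
          obtain ⟨_, ⟨w, hw, rfl⟩, hw2⟩ := hy
          have hw3 : k * (g * w * g⁻¹) * k⁻¹ = k * g * y * (k * g)⁻¹ := hw2
          have : w = y := by
            calc w = g⁻¹ * k⁻¹ * (k * (g * w * g⁻¹) * k⁻¹) * k * g := by group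
              _ = g⁻¹ * k⁻¹ * (k * g * y * (k * g)⁻¹) * k * g := by rw [hw3]
              _ = y := by group
          exact this ▸ hw
      refine ⟨⟨k * g, hN'⟩, ?_⟩
      show ((k * g) • a, (k * g) • b) = (c, d)
      rw [mul_smul, mul_smul, hg1, hg2, hk.1, hk.2]
  have h1 : (stabilizer N (a, b)).index = (orbit N (a, b)).ncard := index_stabilizer _ _
  rw [horb, Set.ncard_coe_finset, Finset.offDiag_card] at h1
  have hdvd : (f * f - f) ∣ 5616 := by
    rw [← h1, ← h]
    exact (Dvd.intro_left _ (stabilizer N (a, b)).card_mul_index).trans (card_subgroup_dvd_card N)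
  have h13 : f ≠ 13 := fun e => by
    have hall : fixSet (H := H) Q = Finset.univ :=
      Finset.eq_univ_of_card _ (e.trans (card_cosets h hi).symm)
    have : Q ≤ (⊥ : Subgroup G) := fun q hq => by
      rw [mem_bot]
      refine CfsgLib.Small.toPermHom_injective (G := G) (ne_top h hi) ?_
      rw [map_one]
      refine Equiv.ext fun x => mem_fixSet.mp (hall ▸ Finset.mem_univ x) q hq
    rw [le_bot_iff.mp this, card_bot] at hQ
    norm_num at hQ
  exact (show ∀ f < 14, 2 ≤ f → 13 % 3 = f % 3 → (f * f - f) ∣ 5616 → f = 4 ∨ f = 13 by decide)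
    f (by omega) h2 hmod hdvd |>.resolve_right h13

theorem card_fixSet_pairStab {a b c d : G ⧸ H} (hab : a ≠ b) (hcd : c ≠ d) :
    (fixSet (H := H) (pairStab a b)).card = (fixSet (H := H) (pairStab c d)).card := by
  obtain ⟨g, hg1, hg2⟩ := two_trans h hi hab hcd
  have hmap : (pairStab a b).map (MulAut.conj g).toMonoidHom = pairStab c d := by
    refine eq_of_le_of_card_ge ?_
      (by rw [card_map_of_injective (MulAut.conj g).injective, card_pairStab h hi hab,
        card_pairStab h hi hcd])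
    rintro _ ⟨q, hq, rfl⟩
    refine Subgroup.mem_inf.mpr ⟨?_, ?_⟩ <;> rw [mem_stabilizer_iff]
    · show (g * q * g⁻¹) • c = c
      rw [← hg1, ← mul_smul, inv_mul_cancel_right, mul_smul, hq.1]
    · show (g * q * g⁻¹) • d = d
      rw [← hg2, ← mul_smul, inv_mul_cancel_right, mul_smul, hq.2]
  rw [← hmap, fixSet_map_conj, Finset.card_image_of_injective _ (MulAction.injective g)]

/-- All subgroups of order 9 fixing two cosets have the same fixed cosets. -/
theorem fixSet_eq {Q Q' : Subgroup G} (hQ : Nat.card Q = 9) (hQ' : Nat.card Q' = 9)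
    {a b : G ⧸ H} (hab : a ≠ b) (hQK : Q ≤ pairStab a b) (hQK' : Q' ≤ pairStab a b) :
    fixSet (H := H) Q = fixSet Q' := by
  classical
  have : Fact (Nat.Prime 3) := ⟨Nat.prime_three⟩
  set K := pairStab a b with hKdef
  have hK := card_pairStab h hi hab
  by_contra hne
  have hQne : Q ≠ Q' := fun e => hne (by rw [e])
  have hab' := mem_fixSet_of_le hQK
  have hFQ := card_fixSet h hi hQ hab hab'.1 hab'.2
  have hFQ' := card_fixSet h hi hQ' hab (mem_fixSet_of_le hQK').1 (mem_fixSet_of_le hQK').2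
  -- the two subgroups generate
  have hgen : Q ⊔ Q' = K := by
    have hle : Q ⊔ Q' ≤ K := sup_le hQK hQK'
    refine eq_of_le_of_card_ge hle ?_
    have hd : Nat.card (Q ⊔ Q' : Subgroup G) ∣ 36 := hK ▸ card_dvd_of_le hle
    have h9 : 9 ∣ Nat.card (Q ⊔ Q' : Subgroup G) := hQ ▸ card_dvd_of_le le_sup_left
    rcases (show ∀ d ∈ Nat.divisors 36, 9 ∣ d → d = 9 ∨ d = 18 ∨ d = 36 by decide) _
      (Nat.mem_divisors.mpr ⟨hd, by norm_num⟩) h9 with e | e | e
    · exact absurd ((eq_of_le_of_card_ge (le_sup_left : Q ≤ Q ⊔ Q') (by rw [e, hQ])).trans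
        (eq_of_le_of_card_ge (le_sup_right : Q' ≤ Q ⊔ Q') (by rw [e, hQ'])).symm) hQne
    · exfalso
      have hidx : (Q.subgroupOf (Q ⊔ Q')).index = 2 := by
        have h1 := (Q.subgroupOf (Q ⊔ Q')).card_mul_index
        rw [Nat.card_congr (subgroupOfEquivOfLe le_sup_left).toEquiv, hQ, e] at h1
        omega
      have hn := normal_of_index_eq_two hidx
      obtain ⟨k, hk, hkQ⟩ := conj_nine h (m := 2) (e.trans (by norm_num)) (by norm_num) hQ hQ'
        (le_sup_left : Q ≤ Q ⊔ Q') le_sup_right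
      refine hQne (eq_of_le_of_card_ge ?_ (by rw [hQ, hQ'])).symm
      rw [← hkQ]
      rintro _ ⟨y, hy, rfl⟩
      exact hn.conj_mem ⟨y, le_sup_left (α := Subgroup G) hy⟩ hy ⟨k, hk⟩
    · rw [e, hK]
  -- common fixed cosets are fixed by the stabiliser
  have hFK : fixSet (H := H) K = fixSet Q ∩ fixSet Q' := by
    ext x
    rw [Finset.mem_inter, mem_fixSet, mem_fixSet, mem_fixSet]
    refine ⟨fun hx => ⟨fun q hq => hx q (hQK hq), fun q hq => hx q (hQK' hq)⟩,
      fun hx q hq => ?_⟩
    have : Q ⊔ Q' ≤ stabilizer G x := sup_le (fun q hq => hx.1 q hq) (fun q hq => hx.2 q hq)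
    exact this (hgen.symm ▸ hq)
  have haK : a ∈ fixSet (H := H) K := mem_fixSet.mpr fun q hq => hq.1
  have hbK : b ∈ fixSet (H := H) K := mem_fixSet.mpr fun q hq => hq.2
  have hsub : fixSet (H := H) K ⊆ fixSet Q := hFK ▸ Finset.inter_subset_left
  have hm2 : 2 ≤ (fixSet (H := H) K).card := Finset.one_lt_card.mpr ⟨a, haK, b, hbK, hab⟩
  have hm4 : (fixSet (H := H) K).card < 4 := by
    by_contra h4
    have e1 := Finset.eq_of_subset_of_card_le hsub (by omega)
    have e2 := Finset.eq_of_subset_of_card_le (hFK ▸ Finset.inter_subset_right :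
      fixSet (H := H) K ⊆ fixSet Q') (by omega)
    exact hne (e1.symm.trans e2)
  rcases (show (fixSet (H := H) K).card = 2 ∨ (fixSet (H := H) K).card = 3 by omega) with hm | hm
  swap
  · -- three common fixed cosets
    obtain ⟨d, hdQ, hdK⟩ : ∃ d ∈ fixSet (H := H) Q, d ∉ fixSet (H := H) K :=
      Finset.exists_mem_notMem_of_card_lt_card (by omega)
    have had : a ≠ d := fun e => hdK (e ▸ haK)
    have hQad : Q ≤ pairStab a d := le_pairStab hab'.1 hdQ
    have hsub' : fixSet (H := H) (pairStab a d) ⊆ fixSet Q := fun x hx =>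
      mem_fixSet.mpr fun q hq => mem_fixSet.mp hx q (hQad hq)
    have h3 : (fixSet (H := H) (pairStab a d)).card = 3 :=
      (card_fixSet_pairStab h hi had hab).trans hm
    have hint : 2 ≤ (fixSet (H := H) (pairStab a d) ∩ fixSet K).card := by
      have h1 := Finset.card_union_add_card_inter (fixSet (H := H) (pairStab a d)) (fixSet K)
      have h2 := Finset.card_le_card (Finset.union_subset hsub' hsub)
      omega
    obtain ⟨x, hx, hxa⟩ := Finset.exists_mem_ne hint a
    rw [Finset.mem_inter] at hx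
    have e1 : pairStab a d = pairStab a x := eq_of_le_of_card_ge
      (le_pairStab (mem_fixSet.mpr fun q hq => hq.1) hx.1)
      (by rw [card_pairStab h hi had, card_pairStab h hi hxa.symm])
    have e2 : K = pairStab a x := eq_of_le_of_card_ge (le_pairStab haK hx.2)
      (by rw [hK, card_pairStab h hi hxa.symm])
    refine hdK (mem_fixSet.mpr fun q hq => ?_)
    rw [e2, ← e1] at hq
    exact hq.2
  -- two common fixed cosets
  have hFKab : fixSet (H := H) K = {a, b} := (Finset.eq_of_subset_of_card_le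
    (Finset.insert_subset haK (Finset.singleton_subset_iff.mpr hbK))
    (by rw [hm, Finset.card_pair hab])).symm
  -- the intersection is a central subgroup of order 3
  set R := Q ⊓ Q' with hR
  have hRcard : Nat.card R = 3 := by
    have hd : Nat.card R ∣ 9 := hQ ▸ card_dvd_of_le inf_le_left
    rcases (show ∀ d ∈ Nat.divisors 9, d = 1 ∨ d = 3 ∨ d = 9 by decide) _
      (Nat.mem_divisors.mpr ⟨hd, by norm_num⟩) with e | e | e
    · exfalso
      have hinj : Function.Injective fun p : Q × Q' =>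
          (⟨(p.1 : G) * p.2, mul_mem (hQK p.1.2) (hQK' p.2.2)⟩ : K) := by
        rintro ⟨x, y⟩ ⟨x', y'⟩ e'
        have e'' : (x : G) * y = x' * y' := congrArg Subtype.val e'
        have h1 : (x' : G)⁻¹ * x ∈ R := ⟨Q.mul_mem (Q.inv_mem x'.2) x.2, by
          rw [show (x' : G)⁻¹ * x = y' * (y : G)⁻¹ by
            rw [eq_mul_inv_iff_mul_eq, mul_assoc, e'', inv_mul_cancel_left]]
          exact Q'.mul_mem y'.2 (Q'.inv_mem y.2)⟩
        rw [eq_bot_of_card_eq R e, mem_bot, inv_mul_eq_one] at h1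
        rw [← h1] at e''
        exact Prod.ext (Subtype.ext h1.symm) (Subtype.ext (mul_left_cancel e''))
      have := Nat.card_le_card_of_injective _ hinj
      rw [Nat.card_prod, hQ, hQ', hK] at this
      norm_num at this
    · exact e
    · exact absurd ((eq_of_le_of_card_ge inf_le_left (by rw [e, hQ])).symm.trans
        (eq_of_le_of_card_ge (inf_le_right : R ≤ Q') (by rw [e, hQ']))) hQne
  have hcent : K ≤ centralizer (R : Set G) := hgen ▸ sup_le
    (fun x hx => mem_centralizer_iff.mpr fun y hy => comm_of_card_nine hQ y hy.1 x hx)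
    (fun x hx => mem_centralizer_iff.mpr fun y hy => comm_of_card_nine hQ' y hy.2 x hx)
  have hRP : ∀ P : Sylow 3 K, R ≤ (P : Subgroup K).map K.subtype := by
    intro P r hr
    have hP : Nat.card ((P : Subgroup K).map K.subtype) = 9 := by
      rw [card_map_of_injective K.subtype_injective]
      exact (card_sylow_of_card_eq (k := 2) (m := 4) (hK.trans (by norm_num)) (by norm_num) P).trans
        (by norm_num)
    obtain ⟨k, hk, hkP⟩ := conj_nine h (m := 4) (hK.trans (by norm_num)) (by norm_num) hQ hP hQK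
      (map_subtype_le _)
    rw [← hkP]
    refine ⟨r, hr.1, ?_⟩
    show k * r * k⁻¹ = r
    exact mul_inv_eq_iff_eq_mul.mpr (mem_centralizer_iff.mp (hcent hk) r hr).symm
  -- four Sylow subgroups
  have hn4 : Nat.card (Sylow 3 K) = 4 := by
    have hm' := card_sylow_modEq_one 3 K
    rw [Nat.ModEq] at hm'
    obtain ⟨P⟩ := (inferInstance : Nonempty (Sylow 3 K))
    have h1 : Nat.card (Sylow 3 K) ∣ 4 := by
      have h2 := (P : Subgroup K).card_mul_index
      rw [show Nat.card (P : Subgroup K) = 9 from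
        (card_sylow_of_card_eq (k := 2) (m := 4) (hK.trans (by norm_num)) (by norm_num) P).trans
          (by norm_num), hK] at h2
      have h3 := P.card_dvd_index
      rwa [show (P : Subgroup K).index = 4 by omega] at h3
    have hne1 : Nat.card (Sylow 3 K) ≠ 1 := fun e => hQne (by
      have := (Nat.card_eq_one_iff_unique.mp e).1
      have hfac : (Nat.card K).factorization 3 = 2 := by
        rw [hK, show (36 : ℕ) = 3 ^ 2 * 2 ^ 2 from rfl, Nat.factorization_mul (by norm_num)
          (by norm_num), Finsupp.add_apply, Nat.prime_three.factorization_pow,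
          Nat.prime_two.factorization_pow, Finsupp.single_eq_same,
          Finsupp.single_eq_of_ne (by norm_num), add_zero]
      have h4 := congrArg Sylow.toSubgroup (Subsingleton.elim
        (Sylow.ofCard (Q.subgroupOf K)
          (by rw [Nat.card_congr (subgroupOfEquivOfLe hQK).toEquiv, hQ, hfac]; norm_num) : Sylow 3 K)
        (Sylow.ofCard (Q'.subgroupOf K)
          (by rw [Nat.card_congr (subgroupOfEquivOfLe hQK').toEquiv, hQ', hfac]; norm_num)))
      have h5 : Q.subgroupOf K = Q'.subgroupOf K := h4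
      rw [← inf_eq_left.mpr hQK, ← inf_eq_left.mpr hQK', ← subgroupOf_map_subtype, h5,
        subgroupOf_map_subtype])
    exact (show ∀ d ∈ Nat.divisors 4, d % 3 = 1 → d ≠ 1 → d = 4 by decide) _
      (Nat.mem_divisors.mpr ⟨h1, by norm_num⟩) hm' hne1
  have := Fintype.ofFinite (Sylow 3 K)
  let F : Sylow 3 K → Finset (G ⧸ H) := fun P =>
    fixSet (H := H) ((P : Subgroup K).map K.subtype) \ {a, b}
  have hP9 : ∀ P : Sylow 3 K, Nat.card ((P : Subgroup K).map K.subtype) = 9 := fun P => by
    rw [card_map_of_injective K.subtype_injective]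
    exact (card_sylow_of_card_eq (k := 2) (m := 4) (hK.trans (by norm_num)) (by norm_num) P).trans
      (by norm_num)
  have hF2 : ∀ P, (F P).card = 2 := fun P => by
    have h1 := mem_fixSet_of_le (map_subtype_le (P : Subgroup K) : _ ≤ pairStab a b)
    rw [Finset.card_sdiff_of_subset (Finset.insert_subset h1.1 (Finset.singleton_subset_iff.mpr h1.2)),
      card_fixSet h hi (hP9 P) hab h1.1 h1.2, Finset.card_pair hab]
  have hdisj : ((Finset.univ : Finset (Sylow 3 K)) : Set (Sylow 3 K)).PairwiseDisjoint F := by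
    intro P _ P' _ hPP
    rw [Function.onFun, Finset.disjoint_left]
    intro x hx hx'
    rw [Finset.mem_sdiff] at hx hx'
    have hle : ((P : Subgroup K).map K.subtype) ⊔ ((P' : Subgroup K).map K.subtype) ≤
        stabilizer G x :=
      sup_le (fun q hq => mem_fixSet.mp hx.1 q hq) (fun q hq => mem_fixSet.mp hx'.1 q hq)
    have hsup : (P : Subgroup K) ⊔ (P' : Subgroup K) = ⊤ := by
      refine eq_top_of_le_card _ ?_
      rw [hK]
      have hd : Nat.card ((P : Subgroup K) ⊔ (P' : Subgroup K) : Subgroup K) ∣ 36 :=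
        hK ▸ card_subgroup_dvd_card _
      have hc : ∀ P : Sylow 3 K, Nat.card (P : Subgroup K) = 9 := fun P =>
        (card_sylow_of_card_eq (k := 2) (m := 4) (hK.trans (by norm_num)) (by norm_num) P).trans
          (by norm_num)
      have h9 : 9 ∣ Nat.card ((P : Subgroup K) ⊔ (P' : Subgroup K) : Subgroup K) :=
        hc P ▸ card_dvd_of_le le_sup_left
      rcases (show ∀ d ∈ Nat.divisors 36, 9 ∣ d → d = 9 ∨ d = 18 ∨ d = 36 by decide) _
        (Nat.mem_divisors.mpr ⟨hd, by norm_num⟩) h9 with e | e | e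
      · exact absurd (Sylow.ext ((eq_of_le_of_card_ge (le_sup_left : (P : Subgroup K) ≤ _)
          (by rw [e, hc P])).trans (eq_of_le_of_card_ge (le_sup_right : (P' : Subgroup K) ≤ _)
          (by rw [e, hc P'])).symm)) hPP
      · exfalso
        refine hPP ?_
        set J := (P : Subgroup K) ⊔ (P' : Subgroup K)
        have hidx : ((P : Subgroup K).subgroupOf J).index = 2 := by
          have h1 := ((P : Subgroup K).subgroupOf J).card_mul_index
          rw [Nat.card_congr (subgroupOfEquivOfLe le_sup_left).toEquiv, hc P, e] at h1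
          omega
        have hn := normal_of_index_eq_two hidx
        have := Sylow.unique_of_normal (P.subtype (le_sup_left : (P : Subgroup K) ≤ J)) hn
        exact Sylow.subtype_injective (Subsingleton.elim (P.subtype le_sup_left)
          (P'.subtype (le_sup_right : (P' : Subgroup K) ≤ J)))
      · exact e.ge
    have hxK : x ∈ fixSet (H := H) K := mem_fixSet.mpr fun q hq => by
      refine hle ?_
      rw [← Subgroup.map_sup, hsup]
      exact ⟨⟨q, hq⟩, trivial, rfl⟩
    exact hx.2 (hFKab ▸ hxK)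
  have hU : ((Finset.univ.biUnion F) ∪ {a, b}).card = 10 := by
    rw [Finset.card_union_of_disjoint (Finset.disjoint_left.mpr fun x hx => by
      obtain ⟨P, -, hP⟩ := Finset.mem_biUnion.mp hx
      exact (Finset.mem_sdiff.mp hP).2), Finset.card_biUnion hdisj,
      Finset.sum_congr rfl (fun P _ => hF2 P), Finset.sum_const, Finset.card_univ,
      ← Nat.card_eq_fintype_card, hn4, Finset.card_pair hab]
    rfl
  have hUR : (Finset.univ.biUnion F) ∪ {a, b} ⊆ fixSet (H := H) R := by
    intro x hx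
    refine mem_fixSet.mpr fun r hr => ?_
    rcases Finset.mem_union.mp hx with hx | hx
    · obtain ⟨P, -, hP⟩ := Finset.mem_biUnion.mp hx
      exact mem_fixSet.mp (Finset.mem_sdiff.mp hP).1 r (hRP P hr)
    · rcases Finset.mem_insert.mp hx with rfl | hx
      · exact (hQK hr.1).1
      · rw [Finset.mem_singleton.mp hx]; exact (hQK hr.1).2
  -- a 3-cycle
  obtain ⟨r, hr, hr1⟩ : ∃ r ∈ R, r ≠ (1 : G) := by
    by_contra hno
    push Not at hno
    rw [(eq_bot_iff_forall R).mpr hno, card_bot] at hRcard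
    norm_num at hRcard
  have hord : orderOf (MulAction.toPerm r : Equiv.Perm (G ⧸ H)) = 3 := by
    rw [show (MulAction.toPerm r : Equiv.Perm (G ⧸ H)) = toPermHom G (G ⧸ H) r from rfl,
      orderOf_injective _ (CfsgLib.Small.toPermHom_injective (G := G) (ne_top h hi))]
    exact orderOf_eq_prime (orderOf_dvd_iff_pow_eq_one.mp
      (hRcard ▸ Subgroup.orderOf_dvd_natCard _ hr)) hr1
  have hsupp : (MulAction.toPerm r : Equiv.Perm (G ⧸ H)).support.card ≤ 3 := by
    have hs : (MulAction.toPerm r : Equiv.Perm (G ⧸ H)).support ⊆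
        ((Finset.univ.biUnion F) ∪ {a, b})ᶜ := fun x hx => Finset.mem_compl.mpr fun hxU =>
      Equiv.Perm.mem_support.mp hx (mem_fixSet.mp (hUR hxU) r hr)
    refine (Finset.card_le_card hs).trans ?_
    rw [Finset.card_compl, hU, card_cosets h hi]
  obtain ⟨n, hn⟩ := Equiv.Perm.cycleType_prime_order (σ := (MulAction.toPerm r : Equiv.Perm (G ⧸ H)))
    (by rw [hord]; exact Nat.prime_three)
  have hsum := Equiv.Perm.sum_cycleType (MulAction.toPerm r : Equiv.Perm (G ⧸ H))
  rw [hn, hord, Multiset.sum_replicate, smul_eq_mul] at hsum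
  have hn0 : n = 0 := by omega
  subst hn0
  rw [hord] at hn
  have h3 : Equiv.Perm.IsThreeCycle (MulAction.toPerm r : Equiv.Perm (G ⧸ H)) := hn
  refine CfsgLib.Small.Low.false_of_cycle (isCoatom h hi) Nat.prime_three (by omega)
    (by omega) (by rw [h, hi]; decide) h3.isCycle h3.card_support

/-- A line of the plane on the cosets. -/
def IsLine (ℓ : Finset (G ⧸ H)) : Prop :=
  ∃ Q : Subgroup G, Nat.card Q = 9 ∧ fixSet (H := H) Q = ℓ ∧ 2 ≤ ℓ.card

theorem exists_line {a b : G ⧸ H} (hab : a ≠ b) :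
    ∃ ℓ, IsLine ℓ ∧ a ∈ ℓ ∧ b ∈ ℓ := by
  have : Fact (Nat.Prime 3) := ⟨Nat.prime_three⟩
  obtain ⟨Q, hQ⟩ := Sylow.exists_subgroup_card_pow_prime 3 (G := pairStab a b) (n := 2)
    (by rw [card_pairStab h hi hab]; norm_num)
  have hle : Q.map (pairStab a b).subtype ≤ pairStab a b := map_subtype_le _
  have hm := mem_fixSet_of_le hle
  exact ⟨_, ⟨_, by rw [card_map_of_injective (pairStab a b).subtype_injective, hQ]; norm_num, rfl,
    Finset.one_lt_card.mpr ⟨a, hm.1, b, hm.2, hab⟩⟩, hm.1, hm.2⟩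

theorem IsLine.card {ℓ : Finset (G ⧸ H)} (hl : IsLine ℓ) : ℓ.card = 4 := by
  obtain ⟨Q, hQ, rfl, h2⟩ := hl
  obtain ⟨a, ha, b, hb, hab⟩ := Finset.one_lt_card.mp h2
  exact card_fixSet h hi hQ hab ha hb

theorem IsLine.eq {ℓ ℓ' : Finset (G ⧸ H)} (hl : IsLine ℓ) (hl' : IsLine ℓ') {x y : G ⧸ H}
    (hxy : x ≠ y) (hx : x ∈ ℓ) (hy : y ∈ ℓ) (hx' : x ∈ ℓ') (hy' : y ∈ ℓ') : ℓ = ℓ' := by
  obtain ⟨Q, hQ, rfl, -⟩ := hl
  obtain ⟨Q', hQ', rfl, -⟩ := hl'
  exact fixSet_eq h hi hQ hQ' hxy (le_pairStab hx hy) (le_pairStab hx' hy')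

omit h hi in
theorem IsLine.smul {ℓ : Finset (G ⧸ H)} (hl : IsLine ℓ) (g : G) :
    IsLine (ℓ.image (g • ·)) := by
  obtain ⟨Q, hQ, rfl, h2⟩ := hl
  refine ⟨Q.map (MulAut.conj g).toMonoidHom, ?_, fixSet_map_conj Q g, ?_⟩
  · rw [card_map_of_injective (MulAut.conj g).injective, hQ]
  · rwa [Finset.card_image_of_injective _ (MulAction.injective g)]

theorem exists_hom : ∃ φ : G →* Equiv.Perm (ZMod 13),
    Function.Injective φ ∧ ∀ g, Preserves (φ g) := by
  classical
  have : Fact (Nat.Prime 13) := ⟨by norm_num⟩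
  obtain ⟨x, hx⟩ := exists_prime_orderOf_dvd_card' (G := G) 13 (by rw [h]; norm_num)
  let a₀ : G ⧸ H := ((1 : G) : G ⧸ H)
  let e₀ : ZMod 13 → G ⧸ H := fun k => x ^ k.val • a₀
  have hxpow : ∀ i j : ZMod 13, x ^ (i + j).val = x ^ i.val * x ^ j.val := fun i j => by
    rw [← pow_add, ZMod.val_add]
    conv_rhs => rw [← pow_mod_orderOf, hx]
  have hstab : ∀ k : ZMod 13, k ≠ 0 → x ^ k.val • a₀ ≠ a₀ := by
    intro k hk e
    have hmem : x ^ k.val ∈ H := by
      have : x ^ k.val ∈ stabilizer G a₀ := e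
      rwa [MulAction.stabilizer_quotient] at this
    have hH : Nat.card H = 432 := by
      have h1 := H.card_mul_index
      rw [h, hi] at h1
      omega
    have hd := hH ▸ Subgroup.orderOf_dvd_natCard _ hmem
    have hk0 : k.val ≠ 0 := fun e' => hk ((ZMod.val_eq_zero k).mp e')
    rw [orderOf_pow' x hk0, hx, (Nat.coprime_of_lt_prime hk0 (ZMod.val_lt k)
      (show Nat.Prime 13 by norm_num)).gcd_eq_one, Nat.div_one] at hd
    norm_num at hd
  have he_add : ∀ i j, e₀ (i + j) = x ^ i.val • e₀ j := fun i j => by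
    show x ^ (i + j).val • a₀ = x ^ i.val • x ^ j.val • a₀
    rw [hxpow, mul_smul]
  have hinj : Function.Injective e₀ := by
    intro i j e
    by_contra hne
    refine hstab (j - i) (sub_ne_zero.mpr (Ne.symm hne)) ?_
    apply MulAction.injective (x ^ i.val)
    show x ^ i.val • x ^ (j - i).val • a₀ = x ^ i.val • a₀
    rw [← mul_smul, ← hxpow, add_sub_cancel]
    exact e.symm
  let E : ZMod 13 ≃ G ⧸ H := Equiv.ofBijective e₀
    ((Fintype.bijective_iff_injective_and_card e₀).mpr
      ⟨hinj, by rw [ZMod.card, card_cosets h hi]⟩)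
  have hE : ∀ i, E i = e₀ i := fun _ => rfl
  obtain ⟨ℓ, hl, hl0, hl1⟩ := exists_line h hi (hinj.ne (zero_ne_one (α := ZMod 13)))
  -- the difference set
  set D := ℓ.image E.symm with hD
  have hmemD : ∀ z, z ∈ D ↔ e₀ z ∈ ℓ := fun z => by
    rw [hD, Finset.mem_image]
    exact ⟨fun ⟨y, hy, hyz⟩ => by rw [← hE, ← hyz, E.apply_symm_apply]; exact hy,
      fun hz => ⟨_, hz, by rw [← hE, E.symm_apply_apply]⟩⟩
  have hD4 : D.card = 4 := by
    rw [hD, Finset.card_image_of_injective _ E.symm.injective, IsLine.card h hi hl]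
  obtain ⟨a, b, hab⟩ : ∃ a b, D = {0, 1, a, b} := by
    have h0 : (0 : ZMod 13) ∈ D := (hmemD 0).mpr hl0
    have h1 : (1 : ZMod 13) ∈ D := (hmemD 1).mpr hl1
    have hsub : ({0, 1} : Finset (ZMod 13)) ⊆ D :=
      Finset.insert_subset h0 (Finset.singleton_subset_iff.mpr h1)
    have h2 : (D \ {0, 1}).card = 2 := by
      rw [Finset.card_sdiff_of_subset hsub, hD4, Finset.card_pair (zero_ne_one (α := ZMod 13))]
    obtain ⟨a, b, -, hab⟩ := Finset.card_eq_two.mp h2
    refine ⟨a, b, ?_⟩
    rw [← Finset.union_sdiff_of_subset hsub, hab]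
    ext z; simp only [Finset.mem_union, Finset.mem_insert, Finset.mem_singleton]; tauto
  have hdiff : ∀ i : ZMod 13, i ≠ 0 → (D.filter fun z => z - i ∈ D).card ∈ [0, 1, 4] := by
    intro i _
    by_cases h2 : 2 ≤ (D.filter fun z => z - i ∈ D).card
    · obtain ⟨y, hy, z, hz, hyz⟩ := Finset.one_lt_card.mp h2
      rw [Finset.mem_filter, hmemD, hmemD] at hy hz
      have himg : ∀ z : ZMod 13, e₀ (z - i) ∈ ℓ → e₀ z ∈ ℓ.image ((x ^ i.val) • ·) := fun z hz =>
        Finset.mem_image.mpr ⟨_, hz, by rw [← he_add, add_sub_cancel]⟩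
      have heq := IsLine.eq h hi hl (IsLine.smul hl (x ^ i.val)) (hinj.ne hyz) hy.1 hz.1
        (himg y hy.2) (himg z hz.2)
      have : (D.filter fun z => z - i ∈ D) = D := by
        refine Finset.filter_true_of_mem fun w hw => ?_
        rw [hmemD] at hw ⊢
        rw [heq] at hw
        obtain ⟨p, hp, hpw⟩ := Finset.mem_image.mp hw
        have : p = e₀ (w - i) := MulAction.injective (x ^ i.val)
          (hpw.trans (show e₀ w = x ^ i.val • e₀ (w - i) by rw [← he_add, add_sub_cancel]))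
        exact this ▸ hp
      rw [this, hD4]
      decide
    · rcases (show (D.filter fun z => z - i ∈ D).card = 0 ∨
        (D.filter fun z => z - i ∈ D).card = 1 by omega) with e | e <;> rw [e] <;> decide
  obtain ⟨u, u', w, huu, hu⟩ := difference_set a b (hab ▸ hD4) (hab ▸ hdiff)
  rw [← hab] at hu
  -- the coordinates
  have hu1 : ∀ z, u' * (u * z) = z := fun z => by rw [← mul_assoc, mul_comm u' u, huu, one_mul]
  have hu2 : ∀ z, u * (u' * z) = z := fun z => by rw [← mul_assoc, huu, one_mul]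
  let A : ZMod 13 ≃ ZMod 13 :=
    { toFun := fun z => u * z + w
      invFun := fun y => u' * (y - w)
      left_inv := fun z => by show u' * (u * z + w - w) = z; rw [add_sub_cancel_right, hu1]
      right_inv := fun y => by show u * (u' * (y - w)) + w = y; rw [hu2, sub_add_cancel] }
  let E' : ZMod 13 ≃ G ⧸ H := A.symm.trans E
  have hline : ∀ i y : ZMod 13, OnLine i y ↔ E' y ∈ ℓ.image ((x ^ (u' * i).val) • ·) := by
    intro i y
    have hy : E' y = x ^ (u' * i).val • e₀ (u' * (y - i - w)) := by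
      rw [← he_add]
      show e₀ (u' * (y - w)) = e₀ _
      congr 1
      ring
    have h1 : y - i ∈ base ↔ e₀ (u' * (y - i - w)) ∈ ℓ := by
      rw [← hmemD, hu, hu2, sub_add_cancel]
    show y - i ∈ base ↔ _
    rw [h1, hy, Finset.mem_image]
    exact ⟨fun hm => ⟨_, hm, rfl⟩,
      fun ⟨p, hp, hpe⟩ => MulAction.injective _ hpe ▸ hp⟩
  refine ⟨(E'.permCongrHom.symm.toMonoidHom).comp (toPermHom G (G ⧸ H)),
    E'.permCongrHom.symm.injective.comp (CfsgLib.Small.toPermHom_injective (G := G) (ne_top h hi)),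
    fun g i => ?_⟩
  have happ : ∀ y, E'.permCongrHom.symm (toPermHom G (G ⧸ H) g) y = E'.symm (g • E' y) :=
    fun _ => rfl
  obtain ⟨y, hy, z, hz, hyz⟩ := Finset.one_lt_card.mp
    (show 1 < (Finset.univ.filter fun y => OnLine i y).card by rw [card_line]; norm_num)
  rw [Finset.mem_filter] at hy hz
  have hyz' : E'.symm (g • E' y) ≠ E'.symm (g • E' z) := fun e =>
    hyz (E'.injective (MulAction.injective g (E'.symm.injective e)))
  obtain ⟨j, hj, hjz⟩ := line_exists _ _ hyz'
  have hjy := on_of_mem _ _ hj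
  rw [hline, E'.apply_symm_apply] at hjy hjz
  have heq := IsLine.eq h hi (IsLine.smul (IsLine.smul hl (x ^ (u' * i).val)) g)
    (IsLine.smul hl (x ^ (u' * j).val))
    (fun e => hyz (E'.injective (MulAction.injective g e)))
    (Finset.mem_image_of_mem _ ((hline i y).mp hy.2))
    (Finset.mem_image_of_mem _ ((hline i z).mp hz.2)) hjy hjz
  refine ⟨j, fun y hy => ?_⟩
  show OnLine j (E'.permCongrHom.symm (toPermHom G (G ⧸ H) g) y)
  rw [happ, hline, E'.apply_symm_apply, ← heq]
  exact Finset.mem_image_of_mem _ ((hline i y).mp hy)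

end

theorem exists_range {G : Type u} [Group G] [Finite G] [IsSimpleGroup G]
    (hG : Nat.card G = 5616) :
    ∃ φ : G →* Equiv.Perm (ZMod 13), Function.Injective φ ∧
      (φ.range : Set (Equiv.Perm (ZMod 13))) = {σ | Preserves σ} := by
  classical
  have : Fact (Nat.Prime 3) := ⟨Nat.prime_three⟩
  obtain ⟨K, hK⟩ := exists_432 hG
  have hi : K.index = 13 := by
    have h1 := K.card_mul_index
    rw [hK, hG] at h1
    omega
  have := Fintype.ofFinite (G ⧸ K)
  obtain ⟨φ, hφ, hpres⟩ := exists_hom hG hi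
  refine ⟨φ, hφ, ?_⟩
  refine Set.eq_of_subset_of_ncard_le (by rintro _ ⟨g, rfl⟩; exact hpres g) ?_
  rw [Set.ncard_eq_toFinset_card']
  refine (card_le_5616 _ fun σ hσ => (Set.mem_toFinset.mp hσ : Preserves σ)).trans ?_
  rw [← Nat.card_coe_set_eq,
    show Nat.card (φ.range : Set (Equiv.Perm (ZMod 13))) = Nat.card φ.range from rfl,
    ← Nat.card_congr (φ.ofInjective hφ).toEquiv, hG]

/-- Simple groups of order 5616 are isomorphic. -/
theorem nonempty_mulEquiv {G₁ : Type u} {G₂ : Type v} [Group G₁] [Finite G₁] [IsSimpleGroup G₁]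
    [Group G₂] [Finite G₂] [IsSimpleGroup G₂] (h₁ : Nat.card G₁ = 5616)
    (h₂ : Nat.card G₂ = 5616) : Nonempty (G₁ ≃* G₂) := by
  classical
  have : Fact (Nat.Prime 3) := ⟨Nat.prime_three⟩
  obtain ⟨φ₁, hi₁, hr₁⟩ := exists_range h₁
  obtain ⟨φ₂, hi₂, hr₂⟩ := exists_range h₂
  have heq : φ₁.range = φ₂.range := SetLike.coe_injective (hr₁.trans hr₂.symm)
  exact ⟨(φ₁.ofInjective hi₁).trans ((MulEquiv.subgroupCongr heq).trans (φ₂.ofInjective hi₂).symm)⟩

end CfsgLib.Small.Order5616
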