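import Cfsg.Agent.Lib.Small.PSLPerm
import Cfsg.Agent.Lib.Small.Basic

/-!
Recognition of `PSL(2, p)` among the simple groups of order `p(p^2-1)/2` with `p + 1` Sylow
`p`-subgroups, reduced to a finite check.
-/

set_option autoImplicit false

namespace CfsgLib.Small

open MulAction

variable {p : ℕ}

/-- The index `i < m` with `a0^i * c = x`, if any. -/
def logIn (m : ℕ) (a0 c x : ZMod p) : Option ℕ :=
  (List.range m).find? fun i => decide (a0 ^ i * c = x)

/-- A candidate for the element interchanging `∞` and `0`. -/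
def candMap (m : ℕ) (a0 ν : ZMod p) (k : ℕ) (c1 c2 : ZMod p) : Option (ZMod p) → Option (ZMod p)
  | none => some 0
  | some x =>
    if x = 0 then none
    else match logIn m a0 1 x with
      | some i => some ((a0 ^ k) ^ i * c1)
      | none => match logIn m a0 ν x with
        | some i => some ((a0 ^ k) ^ i * c2)
        | none => none

/-- `f ∘ (shift by -f(1)) ∘ f ∘ (shift by 1) ∘ f`. -/
def testWord (f : Option (ZMod p) → Option (ZMod p)) (c1 : ZMod p) (x : Option (ZMod p)) :
    Option (ZMod p) :=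
  f (Option.map (fun y => y + -c1) (f (Option.map (fun y => y + 1) (f x))))

/-- The test word is an affine map whose multiplier is an `m`-th root of unity. -/
def CandGood (m : ℕ) (f : Option (ZMod p) → Option (ZMod p)) (c1 : ZMod p) : Prop :=
  match testWord f c1 (some 0), testWord f c1 (some 1) with
  | some v0, some v1 =>
      (v1 + -v0) ^ m = 1 ∧ ∀ x, testWord f c1 (some x) = some ((v1 + -v0) * x + v0)
  | _, _ => False

instance candGoodDecidable [NeZero p] (m : ℕ) (f : Option (ZMod p) → Option (ZMod p))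
    (c1 : ZMod p) : Decidable (CandGood m f c1) := by
  unfold CandGood
  split <;> infer_instance

/-- The finite check: apart from the excluded exponents in `E`, the only acceptable candidates are
`x ↦ c / x` with `-c` a square. -/
def PSLCheck (p m : ℕ) (E : List ℕ) (a0 ν : ZMod p) : Prop :=
  ∀ k < m, k ∉ E → ∀ c1 : ZMod p, (c1 = 1 ∨ c1 = ν) → ∀ c2 : ZMod p,
    CandGood m (candMap m a0 ν k c1 c2) c1 →
      (-c1) ^ m = 1 ∧ ∀ x : ZMod p, x ≠ 0 →
        (candMap m a0 ν k c1 c2 (some x)).map (fun y => y * x) = some c1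

instance pslCheckDecidable [NeZero p] (m : ℕ) (E : List ℕ) (a0 ν : ZMod p) :
    Decidable (PSLCheck p m E a0 ν) := by
  unfold PSLCheck
  have h1 : ∀ k c1 c2, Decidable (CandGood m (candMap m a0 ν k c1 c2) c1 →
      (-c1) ^ m = 1 ∧ ∀ x : ZMod p, x ≠ 0 →
        (candMap m a0 ν k c1 c2 (some x)).map (fun y => y * x) = some c1) :=
    fun k c1 c2 => inferInstance
  have h2 : ∀ k c1, Decidable (∀ c2 : ZMod p, CandGood m (candMap m a0 ν k c1 c2) c1 →
      (-c1) ^ m = 1 ∧ ∀ x : ZMod p, x ≠ 0 →
        (candMap m a0 ν k c1 c2 (some x)).map (fun y => y * x) = some c1) :=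
    fun k c1 => inferInstance
  infer_instance

/-- The data on `a0`, `ν`: `a0` generates the `m`-th roots of unity, `ν` is outside them. -/
structure PSLParam (p m : ℕ) (a0 ν : ZMod p) : Prop where
  pos : 0 < m
  pow_eq : a0 ^ m = 1
  roots : ∀ x : ZMod p, x ^ m = 1 → ∃ i < m, a0 ^ i * 1 = x
  cover : ∀ x : ZMod p, x ≠ 0 → ∃ i < m, a0 ^ i * 1 = x ∨ a0 ^ i * ν = x
  nu_ne : ν ≠ 0

theorem logIn_spec {m : ℕ} {a0 c x : ZMod p} {i : ℕ} (h : logIn m a0 c x = some i) :
    a0 ^ i * c = x := by
  simpa using List.find?_some h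

theorem logIn_none {m : ℕ} {a0 c x : ZMod p} (h : logIn m a0 c x = none) :
    ∀ i < m, a0 ^ i * c ≠ x := by
  intro i hi he
  simpa [he] using List.find?_eq_none.mp h i (List.mem_range.mpr hi)

section Perm

variable [hp : Fact p.Prime] {m : ℕ} {a0 ν : ZMod p}
  (R : Subgroup (Equiv.Perm (Option (ZMod p))))

theorem mul_sqrt_of_pow {x : ZMod p} (hpm : p = 2 * m + 1) (hx : x ^ m = 1) :
    ∃ s : ZMod p, s ≠ 0 ∧ s * s = x := by
  have hm : m = p / 2 := by omega
  have hm0 : m ≠ 0 := fun h => hp.out.ne_one (by omega)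
  have hx0 : x ≠ 0 := by
    rintro rfl; rw [zero_pow hm0] at hx; exact zero_ne_one hx
  obtain ⟨s, hs⟩ := (ZMod.euler_criterion p hx0).mpr (hm ▸ hx)
  exact ⟨s, fun h => hx0 (by rw [hs, h, mul_zero]), hs.symm⟩

theorem le_range_slPerm {E : List ℕ} (hpm : p = 2 * m + 1) (hpar : PSLParam p m a0 ν)
    (hchk : PSLCheck p m E a0 ν)
    (hE : ∀ k ∈ E, ∀ t ∈ R, t none = some 0 → t (some 0) = none →
      ¬ ∀ x, t (some (a0 * x)) = (t (some x)).map (fun y => a0 ^ k * y))
    (hT1 : ∃ u ∈ R, u none = none ∧ ∀ x, u (some x) = some (x + 1))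
    (haff : ∀ h ∈ R, h none = none →
      ∃ a b : ZMod p, a ^ m = 1 ∧ ∀ x, h (some x) = some (a * x + b))
    (hmul : ∃ h ∈ R, h none = none ∧ ∀ x, h (some x) = some (a0 * x))
    (hswap : ∃ t ∈ R, t none = some 0 ∧ t (some 0) = none) :
    R ≤ (slPerm (ZMod p)).range := by
  obtain ⟨u, huR, hun, hus⟩ := hT1
  obtain ⟨M, hMR, hMn, hMs⟩ := hmul
  have hupow : ∀ (j : ℕ), (u ^ j) none = none ∧ ∀ x, (u ^ j) (some x) = some (x + (j : ZMod p)) := by
    intro j
    induction j with
    | zero => simp
    | succ j ih =>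
      rw [pow_succ']
      exact ⟨by rw [Equiv.Perm.mul_apply, ih.1, hun],
        fun x => by rw [Equiv.Perm.mul_apply, ih.2, hus, Nat.cast_succ, add_assoc]⟩
  have htrans : ∀ b : ZMod p, ∃ v ∈ R, v none = none ∧ ∀ x, v (some x) = some (x + b) := fun b =>
    ⟨u ^ b.val, R.pow_mem huR _, (hupow _).1, fun x => by rw [(hupow _).2, ZMod.natCast_zmod_val]⟩
  have hMpow : ∀ i : ℕ, (M ^ i) none = none ∧ ∀ x, (M ^ i) (some x) = some (a0 ^ i * x) := by
    intro i
    induction i with
    | zero => simp
    | succ i ih =>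
      rw [pow_succ']
      exact ⟨by rw [Equiv.Perm.mul_apply, ih.1, hMn],
        fun x => by rw [Equiv.Perm.mul_apply, ih.2, hMs, pow_succ', mul_assoc]⟩
  -- normalise the interchanging element
  obtain ⟨t, c1, htR, htn, ht0, hc1, ht1⟩ : ∃ (t : Equiv.Perm (Option (ZMod p))) (c1 : ZMod p),
      t ∈ R ∧ t none = some 0 ∧ t (some 0) = none ∧ (c1 = 1 ∨ c1 = ν) ∧ t (some 1) = some c1 := by
    obtain ⟨t, htR, htn, ht0⟩ := hswap
    obtain ⟨c, hc⟩ : ∃ c, t (some 1) = some c := by
      cases h : t (some 1) with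
      | none => exact absurd (t.injective (h.trans ht0.symm)) (by simp)
      | some c => exact ⟨c, rfl⟩
    have hc0 : c ≠ 0 := fun h => by
      exact absurd (t.injective (hc.trans (h ▸ htn.symm))) (by simp)
    obtain ⟨i, hi, hi'⟩ := hpar.cover c hc0
    refine ⟨M ^ (m - i) * t, a0 ^ (m - i) * c, R.mul_mem (R.pow_mem hMR _) htR, ?_, ?_, ?_, ?_⟩
    · rw [Equiv.Perm.mul_apply, htn, (hMpow _).2, mul_zero]
    · rw [Equiv.Perm.mul_apply, ht0, (hMpow _).1]
    · rcases hi' with h | h <;> rw [← h, ← mul_assoc, ← pow_add, Nat.sub_add_cancel hi.le,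
        hpar.pow_eq, one_mul]
      · exact Or.inl rfl
      · exact Or.inr rfl
    · rw [Equiv.Perm.mul_apply, hc, (hMpow _).2]
  -- it normalises the multiplications
  obtain ⟨k, hk, hkey⟩ : ∃ k < m, ∀ x, t (some (a0 * x)) =
      (t (some x)).map (fun y => a0 ^ k * y) := by
    have hR : t * M * t⁻¹ ∈ R := R.mul_mem (R.mul_mem htR hMR) (R.inv_mem htR)
    have htn' : t⁻¹ none = some 0 := by rw [← ht0]; simp
    have ht0' : t⁻¹ (some 0) = none := by rw [← htn]; simp
    have hn : (t * M * t⁻¹) none = none := by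
      simp [Equiv.Perm.mul_apply, htn', hMs, ht0]
    obtain ⟨a, b, ha, hab⟩ := haff _ hR hn
    have hb : b = 0 := by
      have h := hab 0
      simp only [Equiv.Perm.mul_apply, ht0', hMn, htn, mul_zero, zero_add, Option.some.injEq] at h
      exact h.symm
    obtain ⟨k, hk, hk'⟩ := hpar.roots a ha
    refine ⟨k, hk, fun x => ?_⟩
    cases hx : t (some x) with
    | none =>
      have : x = 0 := Option.some.inj (t.injective (hx.trans ht0.symm))
      subst this; simp [ht0]
    | some y =>
      have h := hab y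
      rw [Equiv.Perm.mul_apply, Equiv.Perm.mul_apply, ← hx, Equiv.Perm.inv_def,
        Equiv.symm_apply_apply, hMs, hb, add_zero, ← hk', mul_one] at h
      rw [h]; rfl
  have horb : ∀ (i : ℕ) (x y : ZMod p), t (some x) = some y →
      t (some (a0 ^ i * x)) = some ((a0 ^ k) ^ i * y) := by
    intro i x y h
    induction i with
    | zero => simpa using h
    | succ i ih => rw [pow_succ', mul_assoc, hkey, ih, Option.map_some, pow_succ', mul_assoc]
  obtain ⟨c2, hc2⟩ : ∃ c2, t (some ν) = some c2 := by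
    cases h : t (some ν) with
    | none => exact absurd (Option.some.inj (t.injective (h.trans ht0.symm))) hpar.nu_ne
    | some c => exact ⟨c, rfl⟩
  have hf : ∀ z, t z = candMap m a0 ν k c1 c2 z := by
    intro z
    cases z with
    | none => exact htn
    | some x =>
      by_cases hx : x = 0
      · subst hx; simp [candMap, ht0]
      · simp only [candMap, if_neg hx]
        cases h1 : logIn m a0 1 x with
        | some i =>
          conv_lhs => rw [← logIn_spec h1]
          exact horb i 1 c1 ht1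
        | none =>
          cases h2 : logIn m a0 ν x with
          | some i =>
            conv_lhs => rw [← logIn_spec h2]
            exact horb i ν c2 hc2
          | none =>
            obtain ⟨i, hi, h | h⟩ := hpar.cover x hx
            · exact absurd h (logIn_none h1 i hi)
            · exact absurd h (logIn_none h2 i hi)
  -- the test word lies in `R`
  have hgood : CandGood m (candMap m a0 ν k c1 c2) c1 := by
    obtain ⟨v, hvR, hvn, hvs⟩ := htrans (-c1)
    have hvmap : ∀ z, v z = Option.map (fun y => y + -c1) z := fun z => by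
      cases z <;> simp [hvn, hvs]
    have humap : ∀ z, u z = Option.map (fun y => y + 1) z := fun z => by
      cases z <;> simp [hun, hus]
    have hw : ∀ z, (t * v * t * u * t) z = testWord (candMap m a0 ν k c1 c2) c1 z := fun z => by
      simp only [Equiv.Perm.mul_apply, testWord, hf, hvmap, humap]
    have hwR : t * v * t * u * t ∈ R :=
      R.mul_mem (R.mul_mem (R.mul_mem (R.mul_mem htR hvR) htR) huR) htR
    have hwn : (t * v * t * u * t) none = none := by
      simp [Equiv.Perm.mul_apply, htn, hus, ht1, hvs, ht0]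
    obtain ⟨a, b, ha, hab⟩ := haff _ hwR hwn
    have h : ∀ x, testWord (candMap m a0 ν k c1 c2) c1 (some x) = some (a * x + b) := fun x => by
      rw [← hw]; exact hab x
    simp only [CandGood, h, mul_zero, zero_add, mul_one, add_neg_cancel_right]
    exact ⟨ha, fun _ => trivial⟩
  obtain ⟨hsq, hinv⟩ := hchk k hk (fun h => hE k h t htR htn ht0 hkey) c1 hc1 c2 hgood
  -- hence it is in the image of `SL(2, p)`
  have hc10 : c1 ≠ 0 := by
    rcases hc1 with h | h
    · rw [h]; exact one_ne_zero
    · rw [h]; exact hpar.nu_ne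
  obtain ⟨s, hs0, hs⟩ := mul_sqrt_of_pow hpm hsq
  obtain ⟨g, hgn, hg0, hgs⟩ := exists_slPerm_inversion hs0 hs
  have htS : t ∈ (slPerm (ZMod p)).range := by
    refine ⟨g, Equiv.ext fun z => ?_⟩
    rw [hf]
    cases z with
    | none => exact hgn
    | some x =>
      by_cases hx : x = 0
      · subst hx; rw [hg0]; simp [candMap]
      · have h := hinv x hx
        cases hy : candMap m a0 ν k c1 c2 (some x) with
        | none => rw [hy] at h; simp at h
        | some y =>
          rw [hy, Option.map_some, Option.some.injEq] at h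
          rw [hgs x hx, ← h, mul_inv_cancel_right₀ hx]
  have hfixS : ∀ h ∈ R, h none = none → h ∈ (slPerm (ZMod p)).range := by
    intro h hh hn
    obtain ⟨a, b, ha, hab⟩ := haff h hh hn
    obtain ⟨s, hs0, hs⟩ := mul_sqrt_of_pow hpm ha
    obtain ⟨g1, hg1n, hg1⟩ := exists_slPerm_mul hs0
    obtain ⟨g2, hg2n, hg2⟩ := exists_slPerm_translation b
    refine ⟨g2 * g1, Equiv.ext fun z => ?_⟩
    rw [map_mul, Equiv.Perm.mul_apply]
    cases z with
    | none => rw [hg1n, hg2n, hn]
    | some x => rw [hg1, hg2, hab, hs]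
  intro h hh
  cases hx : h none with
  | none => exact hfixS h hh hx
  | some x =>
    obtain ⟨v, hvR, hvn, hvs⟩ := htrans (-x)
    have hfix : (t * v * h) none = none := by
      simp [Equiv.Perm.mul_apply, hx, hvs, ht0]
    have hv := hfixS v hvR hvn
    have h3 := hfixS _ (R.mul_mem (R.mul_mem htR hvR) hh) hfix
    have : h = (t * v)⁻¹ * (t * v * h) := by group
    rw [this]
    exact mul_mem (inv_mem (mul_mem htS hv)) h3

end Perm

end CfsgLib.Small
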