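import Cfsg.Agent.Lib.Small.Order4080
import Cfsg.Agent.Lib.SylowNumber.TwentyTwo

/-!
No simple group has exactly 21 Sylow 5-subgroups: the Sylow subgroups have order 5 and the
centraliser of one of them is forced, then refuted, by counting fixed points.
-/

set_option autoImplicit false

namespace CfsgLib.Small.TwentyOne

open Subgroup MulAction CfsgLib.Small CfsgLib.SylowNumber

variable {S : Type*} [Group S] [Finite S] [IsSimpleGroup S]

theorem card_five_of_twentyone [Fact (Nat.Prime 5)] (hnc : ¬ IsMulCommutative S)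
    (hdvd : 5 ∣ Nat.card S) (hn : Nat.card (Sylow 5 S) = 21) (P : Sylow 5 S) :
    Nat.card P = 5 := by
  classical
  have := Fintype.ofFinite (Sylow 5 S)
  have hn' : Fintype.card (Sylow 5 S) = 21 := by rw [← Nat.card_eq_fintype_card, hn]
  have horbsub : ∀ A B : Sylow 5 S, A ≠ B →
      orbitFinset (A : Subgroup S) B ⊆ Finset.univ.erase A := by
    intro A B hAB R hR
    refine Finset.mem_erase.mpr ⟨?_, Finset.mem_univ _⟩
    rintro rfl
    obtain ⟨⟨u, hu⟩, hu'⟩ := mem_orbitFinset.mp hR
    refine hAB ?_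
    exact (MulAction.injective u (hu'.trans ((smul_eq_self_iff_mem (P := R) hu).mpr hu).symm)).symm
  have hadj : ∀ A B : Sylow 5 S, A ≠ B → Adjacent A B := by
    intro A B hAB
    rw [adjacent_iff_card_orbit]
    obtain ⟨j, hj⟩ := exists_card_orbit_eq_pow A B
    have h0 : j ≠ 0 := fun e => card_orbit_ne_one hAB (by rw [hj, e, pow_zero])
    have hle := Finset.card_le_card (horbsub A B hAB)
    rw [card_orbitFinset, hj, Finset.card_erase_of_mem (Finset.mem_univ _), Finset.card_univ, hn']
      at hle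
    have : j < 2 := by
      by_contra h2
      have := Nat.pow_le_pow_right (show 0 < 5 by norm_num) (not_lt.mp h2)
      omega
    rw [hj, show j = 1 by omega, pow_one]
  have : Nontrivial (Sylow 5 S) := Finite.one_lt_card_iff_nontrivial.mp (by omega)
  obtain ⟨Q, hQ⟩ := exists_ne P
  have hPQ := hadj P Q hQ.symm
  set D := (P : Subgroup S) ⊓ Q with hDdef
  by_contra hne
  have hD : D ≠ ⊥ := fun e => hne (by
    have h1 : 5 * Nat.card ↥((P : Subgroup S) ⊓ Q) = Nat.card (P : Subgroup S) := hPQ
    rw [← hDdef, e, Subgroup.card_bot, mul_one] at h1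
    exact h1.symm)
  set L := Finset.univ.filter fun R : Sylow 5 S => D ≤ (R : Subgroup S)
  have hL6 : 6 ≤ L.card := by
    have hsub : insert P (orbitFinset (P : Subgroup S) Q) ⊆ L := by
      intro R hR
      refine Finset.mem_filter.mpr ⟨Finset.mem_univ _, ?_⟩
      rcases Finset.mem_insert.mp hR with rfl | hR
      · exact inf_le_left
      · obtain ⟨⟨u, hu⟩, rfl⟩ := mem_orbitFinset.mp hR
        exact hPQ.le_smul hu inf_le_right
    refine le_trans (le_of_eq ?_) (Finset.card_le_card hsub)
    rw [Finset.card_insert_of_notMem (fun h => (Finset.mem_erase.mp (horbsub P Q hQ.symm h)).1 rfl),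
      card_orbitFinset, adjacent_iff_card_orbit.mp hPQ]
  obtain ⟨R0, hR0⟩ : ∃ R : Sylow 5 S, ¬ D ≤ (R : Subgroup S) := by
    by_contra hall
    push Not at hall
    refine hD ((Subgroup.eq_bot_iff_forall _).mpr fun d hd => ?_)
    exact eq_one_of_forall_smul_eq (sylow_toPermHom_injective hnc hdvd) fun R =>
      Sylow.smul_eq_iff_mem_normalizer.mpr (le_normalizer (hall R hd))
  let g : Sylow 5 S → Subgroup S := fun B => (R0 : Subgroup S) ⊓ B
  have hLne : ∀ R ∈ L, R0 ≠ R := fun R hR e => hR0 (e ▸ (Finset.mem_filter.mp hR).2)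
  have hinj : Set.InjOn g L := by
    intro R1 h1 R2 h2 e
    by_contra h12
    have hd1 := (adjacent_of_le hPQ (Finset.mem_filter.mp h1).2 (Finset.mem_filter.mp h2).2 h12).2
    have he : (R0 : Subgroup S) ⊓ R1 ≤ R2 := by
      rw [show (R0 : Subgroup S) ⊓ R1 = (R0 : Subgroup S) ⊓ R2 from e]; exact inf_le_right
    have hd2 := (adjacent_of_le (hadj R0 R1 (hLne R1 h1)) inf_le_right he h12).2
    exact hR0 ((hd1.symm.trans hd2).trans_le inf_le_left)
  have hconst : ∀ B, R0 ≠ B → ∀ u ∈ (R0 : Subgroup S), g (u • B) = g B := by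
    intro B hB u hu
    have hne' : R0 ≠ u • B := fun e => hB (by
      refine MulAction.injective u ?_
      exact ((smul_eq_self_iff_mem (P := R0) hu).mpr hu).trans e)
    refine (eq_of_le_of_card_ge (le_inf inf_le_left ((hadj R0 B hB).le_smul hu inf_le_right)) ?_).symm
    exact le_of_eq (Nat.eq_of_mul_eq_mul_left (by norm_num : 0 < 5)
      (Eq.trans (hadj R0 _ hne') (Eq.symm (hadj R0 B hB))))
  have hI : ((Finset.univ.erase R0).image g).card ≤ 4 := by
    have h1 := Finset.card_eq_sum_card_image g (Finset.univ.erase R0)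
    have h2 := Finset.card_nsmul_le_sum ((Finset.univ.erase R0).image g)
      (fun b => ((Finset.univ.erase R0).filter fun a => g a = b).card) 5 (fun b hb => by
        obtain ⟨B, hB, rfl⟩ := Finset.mem_image.mp hb
        have hB' : R0 ≠ B := (Finset.mem_erase.mp hB).1.symm
        refine le_trans (le_of_eq ?_) (Finset.card_le_card (s := orbitFinset (R0 : Subgroup S) B) ?_)
        · rw [card_orbitFinset, adjacent_iff_card_orbit.mp (hadj R0 B hB')]
        · intro C hC
          refine Finset.mem_filter.mpr ⟨horbsub R0 B hB' hC, ?_⟩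
          obtain ⟨⟨u, hu⟩, rfl⟩ := mem_orbitFinset.mp hC
          exact hconst B hB' u hu)
    rw [← h1, Finset.card_erase_of_mem (Finset.mem_univ _), Finset.card_univ, hn', smul_eq_mul] at h2
    omega
  have hsub : L.image g ⊆ (Finset.univ.erase R0).image g :=
    Finset.image_subset_image fun R hR =>
      Finset.mem_erase.mpr ⟨(hLne R hR).symm, Finset.mem_univ _⟩
  have := (Finset.card_image_of_injOn hinj).symm.le.trans (Finset.card_le_card hsub)
  omega

section Fixed

variable [Fact (Nat.Prime 5)] (h5 : ∀ Q : Sylow 5 S, Nat.card Q = 5)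

omit [IsSimpleGroup S] in
include h5 in
/-- The fixed point set of an element commuting with an element of order 5 of `P`. -/
theorem card_fix_mod [Fintype (Sylow 5 S)] [DecidableEq (Sylow 5 S)] {P : Sylow 5 S} {a : S}
    (ha : a ∈ centralizer ((P : Subgroup S) : Set S)) :
    (fixFinset (Sylow 5 S) a).card % 5 = 1 := by
  obtain ⟨⟨x, hxP⟩, hx⟩ := exists_prime_orderOf_dvd_card' (G := (P : Subgroup S)) 5 (by rw [h5 P])
  rw [Subgroup.orderOf_mk] at hx
  have h1 := card_fix_modEq_common (α := Sylow 5 S) (r := 5) (x := a) (y := x)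
    (orderOf_dvd_iff_pow_eq_one.mp (dvd_of_eq hx)) (mem_centralizer_iff.mp ha x hxP).symm
  have h2 : ((fixFinset (Sylow 5 S) a).filter fun q => x • q = q) = {P} := by
    ext R
    rw [Finset.mem_filter, Finset.mem_singleton, mem_fixFinset]
    constructor
    · rintro ⟨-, hR⟩
      exact (exists_unique_sylow_mem hx h5).unique ((smul_eq_self_iff_mem (P := P) hxP).mp hR) hxP
    · rintro rfl
      exact ⟨Sylow.smul_eq_iff_mem_normalizer.mpr (centralizer_le_normalizer' _ ha),
        (smul_eq_self_iff_mem (P := R) hxP).mpr hxP⟩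
  rw [h2, Finset.card_singleton] at h1
  exact h1

variable (hnc : ¬ IsMulCommutative S) (hn : Nat.card (Sylow 5 S) = 21)

omit [Finite S] [IsSimpleGroup S] [Fact (Nat.Prime 5)] in
include h5 in
theorem dvd_five [Nonempty (Sylow 5 S)] : 5 ∣ Nat.card S := by
  obtain ⟨P⟩ := (inferInstance : Nonempty (Sylow 5 S))
  exact h5 P ▸ card_subgroup_dvd_card (P : Subgroup S)

include h5 hnc hn in
theorem fix_lt [Fintype (Sylow 5 S)] [DecidableEq (Sylow 5 S)] {a : S} (ha : a ≠ 1) :
    (fixFinset (Sylow 5 S) a).card < 21 := by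
  have hn' : Fintype.card (Sylow 5 S) = 21 := by rw [← Nat.card_eq_fintype_card, hn]
  refine lt_of_le_of_ne (hn' ▸ Finset.card_le_univ _) fun e => ha ?_
  exact eq_one_of_fix_eq_univ (α := Sylow 5 S) (sylow_toPermHom_injective hnc (dvd_five h5))
    (e.trans hn'.symm)

include h5 hnc hn in
/-- An involution of `C(P)` fixes only `P`. -/
theorem fix_involution {P : Sylow 5 S} {v : S} (hv : orderOf v = 2)
    (hvC : v ∈ centralizer ((P : Subgroup S) : Set S)) {Q : Sylow 5 S} (hQ : v • Q = Q) : Q = P := by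
  classical
  have := Fintype.ofFinite (Sylow 5 S)
  have hn' : Fintype.card (Sylow 5 S) = 21 := by rw [← Nat.card_eq_fintype_card, hn]
  have h1 := card_fix_mod h5 hvC
  have h2 := four_dvd_card_support (α := Sylow 5 S)
    (orderOf_dvd_iff_pow_eq_one.mp (dvd_of_eq hv)) (sign_toPerm hnc v)
  have h3 := fix_lt h5 hnc hn (a := v) (fun e => by rw [e, orderOf_one] at hv; omega)
  rw [hn'] at h2
  have hP : P ∈ fixFinset (Sylow 5 S) v := mem_fixFinset.mpr
    (Sylow.smul_eq_iff_mem_normalizer.mpr (centralizer_le_normalizer' _ hvC))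
  exact (Finset.card_le_one.mp (by omega)) Q (mem_fixFinset.mpr hQ) P hP

include h5 hnc hn in
/-- A nontrivial 2-element of `C(P)` fixes only `P`. -/
theorem fix_two_element {P : Sylow 5 S} {a : S} {i : ℕ} (ha : orderOf a = 2 ^ i) (ha1 : a ≠ 1)
    (haC : a ∈ centralizer ((P : Subgroup S) : Set S)) {Q : Sylow 5 S} (hQ : a • Q = Q) : Q = P := by
  have hi : i ≠ 0 := fun e => ha1 (orderOf_eq_one_iff.mp (by rw [ha, e, pow_zero]))
  have h2 : 2 ∣ orderOf a := ha ▸ dvd_pow_self 2 hi
  exact fix_involution h5 hnc hn (orderOf_pow_orderOf_div (orderOf_pos a).ne' h2)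
    (pow_mem haC _) (show a ^ _ • Q = Q from
      (stabilizer S Q).pow_mem (show a ∈ stabilizer S Q from hQ) _)

include h5 hnc hn in
/-- An element of order 3 of `C(P)` fixes six points. -/
theorem fix_three [Fintype (Sylow 5 S)] [DecidableEq (Sylow 5 S)] {P : Sylow 5 S} {z : S}
    (hz : orderOf z = 3) (hzC : z ∈ centralizer ((P : Subgroup S) : Set S)) :
    (fixFinset (Sylow 5 S) z).card = 6 := by
  have : Fact (Nat.Prime 3) := ⟨Nat.prime_three⟩
  have hn' : Fintype.card (Sylow 5 S) = 21 := by rw [← Nat.card_eq_fintype_card, hn]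
  have h1 := card_fix_mod h5 hzC
  have h2 := card_fix_modEq (α := Sylow 5 S) (r := 3) (orderOf_dvd_iff_pow_eq_one.mp (dvd_of_eq hz))
  rw [hn', Nat.ModEq] at h2
  have h3 := fix_lt h5 hnc hn (a := z) (fun e => by rw [e, orderOf_one] at hz; omega)
  omega

include h5 hnc hn in
/-- No involution of `C(P)` normalises a subgroup of order 3 of `C(P)`. -/
theorem not_normalize_three {P : Sylow 5 S} {v z : S} (hv : orderOf v = 2)
    (hvC : v ∈ centralizer ((P : Subgroup S) : Set S)) (hz : orderOf z = 3)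
    (hzC : z ∈ centralizer ((P : Subgroup S) : Set S)) (hvz : v * z * v⁻¹ ∈ zpowers z) : False := by
  classical
  have : Fact (Nat.Prime 2) := ⟨Nat.prime_two⟩
  have := Fintype.ofFinite (Sylow 5 S)
  have h6 := fix_three h5 hnc hn hz hzC
  have hinv : ∀ R ∈ fixFinset (Sylow 5 S) z, v • R ∈ fixFinset (Sylow 5 S) z := by
    intro R hR
    rw [mem_fixFinset] at hR ⊢
    have hv2 : v⁻¹ = v := inv_eq_of_mul_eq_one_left (by
      rw [← pow_two]; exact orderOf_dvd_iff_pow_eq_one.mp (dvd_of_eq hv))
    have hle : zpowers z ≤ stabilizer S R := zpowers_le.mpr hR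
    have h := hle hvz
    rw [mem_stabilizer_iff, hv2, mul_smul, mul_smul] at h
    conv_rhs => rw [← h]
    rw [← mul_smul v, ← pow_two, orderOf_dvd_iff_pow_eq_one.mp (dvd_of_eq hv)]
    exact (one_smul _ _).symm
  have h1 := card_modEq_card_filter_fixed (r := 2) (orderOf_dvd_iff_pow_eq_one.mp (dvd_of_eq hv))
    (fixFinset (Sylow 5 S) z) hinv
  have h2 : ((fixFinset (Sylow 5 S) z).filter fun q => v • q = q) = {P} := by
    ext R
    rw [Finset.mem_filter, Finset.mem_singleton, mem_fixFinset]
    constructor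
    · rintro ⟨-, hR⟩; exact fix_involution h5 hnc hn hv hvC hR
    · rintro rfl
      exact ⟨Sylow.smul_eq_iff_mem_normalizer.mpr (centralizer_le_normalizer' _ hzC),
        Sylow.smul_eq_iff_mem_normalizer.mpr (centralizer_le_normalizer' _ hvC)⟩
  rw [h2, h6, Finset.card_singleton, Nat.ModEq] at h1
  omega

end Fixed

end CfsgLib.Small.TwentyOne
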