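import Cfsg.Agent.Lib.Small.TwentyOneMain
import Cfsg.Agent.Lib.Small.AbelianFocal

/-!
No simple group has exactly 21 Sylow 5-subgroups: the remaining orders.
-/

set_option autoImplicit false

namespace CfsgLib.Small.TwentyOne

open Subgroup MulAction CfsgLib.Small CfsgLib.SylowNumber

variable {S : Type*} [Group S] [Finite S] [IsSimpleGroup S] [Fact (Nat.Prime 5)]
  (h5 : ∀ Q : Sylow 5 S, Nat.card Q = 5)
  (hnc : ¬ IsMulCommutative S) (hn : Nat.card (Sylow 5 S) = 21)

include h5 hnc hn in
/-- `|S| = 105 c e` with `(c, e)` one of `(4, 4)`, `(12, 2)`, `(12, 4)`, and in the first case an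
element of order 7 has centraliser of order 7. -/
theorem order_cases [Fact (Nat.Prime 7)] (P : Sylow 5 S) :
    ∃ c e, Nat.card (centralizer ((P : Subgroup S) : Set S)) = 5 * c ∧
      Nat.card (normalizer ((P : Subgroup S) : Set S)) = 5 * (c * e) ∧
      (∀ Q : Sylow 5 S, Nat.card (centralizer ((Q : Subgroup S) : Set S)) = 5 * c) ∧
      Nat.card S = 105 * (c * e) ∧
      ((c = 4 ∧ e = 4 ∧ Nat.card (Sylow 7 S) = 120 ∧
          ∀ x : S, orderOf x = 7 → Nat.card (centralizer ({x} : Set S)) = 7) ∨
        (c = 12 ∧ (e = 2 ∨ e = 4))) := by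
  classical
  have : Fact (Nat.Prime 2) := ⟨Nat.prime_two⟩
  obtain ⟨c, hc, hcc⟩ := centralizer_cases h5 hnc hn P
  obtain ⟨e, he1, he2, -, hCe, hall⟩ := sylow_prime_order_data hnc P (h5 P)
  rw [hn] at hall
  rw [hc] at hall hCe
  have he : e = 2 ∨ e = 4 := by
    have hmem : e ∈ Nat.divisors (5 - 1) := Nat.mem_divisors.mpr ⟨he2, by norm_num⟩
    exact (show ∀ d ∈ Nat.divisors (5 - 1), 1 < d → d = 2 ∨ d = 4 from by decide) e hmem he1
  have hS : Nat.card S = 105 * (c * e) := by rw [← hall]; ring
  have hQc : ∀ Q : Sylow 5 S, Nat.card (centralizer ((Q : Subgroup S) : Set S)) = 5 * c := by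
    intro Q
    obtain ⟨g, rfl⟩ := MulAction.exists_smul_eq S P Q
    rw [← hc]
    refine (Nat.card_congr (Equiv.subtypeEquiv (MulAut.conj g).toEquiv fun a => ?_)).symm
    simp only [MulEquiv.toEquiv_eq_coe, EquivLike.coe_coe, MulAut.conj_apply, mem_centralizer_iff,
      SetLike.mem_coe, Sylow.coe_subgroup_smul]
    constructor
    · rintro ha _ ⟨b, hb, rfl⟩
      show g * b * g⁻¹ * (g * a * g⁻¹) = g * a * g⁻¹ * (g * b * g⁻¹)
      calc g * b * g⁻¹ * (g * a * g⁻¹) = g * (b * a) * g⁻¹ := by group
        _ = g * (a * b) * g⁻¹ := by rw [ha b hb]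
        _ = g * a * g⁻¹ * (g * b * g⁻¹) := by group
    · intro ha b hb
      have h := ha (g * b * g⁻¹) ⟨b, hb, rfl⟩
      calc b * a = g⁻¹ * (g * b * g⁻¹ * (g * a * g⁻¹)) * g := by group
        _ = g⁻¹ * (g * a * g⁻¹ * (g * b * g⁻¹)) * g := by rw [h]
        _ = a * b := by group
  refine ⟨c, e, hc, by rw [← hCe, mul_assoc], hQc, hS, ?_⟩
  rcases hcc with rfl | rfl | rfl | rfl | rfl
  case inr.inr.inr.inr => exact Or.inr ⟨rfl, he⟩
  all_goals
    by_cases h2 : ¬ 4 ∣ Nat.card S
    · exfalso
      rw [hS] at h2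
      obtain ⟨T⟩ := (inferInstance : Nonempty (Sylow 2 S))
      have hT : Nat.card T = 2 := by
        rcases he with rfl | rfl
        · first
            | (exfalso; revert h2; norm_num; done)
            | simpa using card_sylow_of_card_eq (p := 2) (k := 1) (m := Nat.card S / 2)
                (by rw [hS]; norm_num) (by rw [hS]; norm_num) T
        · exact absurd (by norm_num) h2
      obtain ⟨e', he1', he2', -⟩ := sylow_prime_order_data hnc T hT
      have := Nat.le_of_dvd (by norm_num) he2'
      omega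
    push Not at h2
    -- the Sylow 7-subgroups
    have hP7 : ∀ R : Sylow 7 S, Nat.card R = 7 := by
      intro R
      rcases he with rfl | rfl
      · simpa using card_sylow_of_card_eq (p := 7) (k := 1) (m := Nat.card S / 7)
          (by rw [hS]; norm_num) (by rw [hS]; norm_num) R
      · simpa using card_sylow_of_card_eq (p := 7) (k := 1) (m := Nat.card S / 7)
          (by rw [hS]; norm_num) (by rw [hS]; norm_num) R
    obtain ⟨R⟩ := (inferInstance : Nonempty (Sylow 7 S))
    obtain ⟨e7, he71, he72, ⟨c7, hc7⟩, hCe7, hall7⟩ := sylow_prime_order_data hnc R (hP7 R)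
    rw [hc7] at hall7
    have h5c7 : ¬ 5 ∣ c7 := by
      intro hd
      obtain ⟨⟨y, hy⟩, hy'⟩ := exists_prime_orderOf_dvd_card'
        (G := centralizer ((R : Subgroup S) : Set S)) 5 (by rw [hc7]; exact hd.mul_left 7)
      rw [Subgroup.orderOf_mk] at hy'
      obtain ⟨Q, hQ, -⟩ := exists_unique_sylow_mem hy' h5
      obtain ⟨⟨x, hxR⟩, hx⟩ := exists_prime_orderOf_dvd_card' (G := (R : Subgroup S)) 7
        (by rw [hP7 R])
      rw [Subgroup.orderOf_mk] at hx
      have hxQ := Order4080.mem_centralizer_of_commute (h5 Q) hQ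
        (fun e' => by rw [e', orderOf_one] at hy'; omega)
        (show Commute x y from mem_centralizer_iff.mp hy x hxR)
      have := orderOf_dvd_natCard (⟨x, hxQ⟩ : centralizer ((Q : Subgroup S) : Set S))
      rw [Subgroup.orderOf_mk, hQc Q, hx] at this
      norm_num at this
    have hn7 : Nat.card (Sylow 7 S) = 15 ∨ Nat.card (Sylow 7 S) = 120 := by
      have hmod := card_sylow_modEq_one 7 S
      rw [Nat.ModEq] at hmod
      have heq : c7 * e7 * Nat.card (Sylow 7 S) ∣ 720 := by
        have h1 : 7 * (c7 * e7 * Nat.card (Sylow 7 S)) = Nat.card S := by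
          rw [← hall7]; ring
        have h2' : Nat.card S ∣ 7 * 720 := by
          rw [hS]; rcases he with rfl | rfl <;> norm_num
        exact (Nat.mul_dvd_mul_iff_left (by norm_num : 0 < 7)).mp (h1 ▸ h2')
      have h5n : 5 ∣ Nat.card (Sylow 7 S) := by
        have h1 : 5 ∣ 7 * c7 * e7 * Nat.card (Sylow 7 S) := by
          rw [hall7, hS]; exact Dvd.dvd.mul_right (by norm_num) _
        rcases (Nat.Prime.dvd_mul (by norm_num)).mp h1 with h1 | h1
        · rcases (Nat.Prime.dvd_mul (by norm_num)).mp h1 with h1 | h1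
          · rcases (Nat.Prime.dvd_mul (by norm_num)).mp h1 with h1 | h1
            · norm_num at h1
            · exact absurd h1 h5c7
          · exact absurd (h1.trans he72) (by norm_num)
        · exact h1
      exact (show ∀ d ∈ Nat.divisors 720, d % 7 = 1 → 5 ∣ d → d = 15 ∨ d = 120 from
        by decide +kernel) _ (Nat.mem_divisors.mpr ⟨(Dvd.intro_left _ rfl).trans heq, by norm_num⟩)
          (by omega) h5n
    rcases hn7 with hn7 | hn7
    · exfalso
      have hc71 : c7 = 1 := by
        by_contra hne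
        obtain ⟨q, hq, hqd⟩ := Nat.exists_prime_and_dvd hne
        have : Fact q.Prime := ⟨hq⟩
        have hq23 : q = 2 ∨ q = 3 := by
          have h1 : 7 * q ∣ 7 * 720 := by
            refine ((Nat.mul_dvd_mul_left 7 hqd).trans ?_).trans (?_ : Nat.card S ∣ 7 * 720)
            · rw [← hall7]
              exact Dvd.intro (e7 * Nat.card (Sylow 7 S)) (by ring)
            · rw [hS]; rcases he with rfl | rfl <;> norm_num
          have h1' : q ∣ 720 := (Nat.mul_dvd_mul_iff_left (by norm_num : 0 < 7)).mp h1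
          exact (show ∀ d ∈ Nat.divisors 720, d.Prime → d ≠ 5 → d = 2 ∨ d = 3 from
            by decide +kernel) q (Nat.mem_divisors.mpr ⟨h1', by norm_num⟩) hq
            (fun e' => h5c7 (e' ▸ hqd))
        obtain ⟨⟨y, hy⟩, hy'⟩ := exists_prime_orderOf_dvd_card'
          (G := centralizer ((R : Subgroup S) : Set S)) q (by rw [hc7]; exact hqd.mul_left 7)
        rw [Subgroup.orderOf_mk] at hy'
        have := Fintype.ofFinite (Sylow 7 S)
        have hα : Fintype.card (Sylow 7 S) = 15 := by rw [← Nat.card_eq_fintype_card, hn7]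
        have h1 := card_fix_mod_prime hP7 hy
        have h7S : 7 ∣ Nat.card S := hP7 R ▸ card_subgroup_dvd_card (R : Subgroup S)
        have h3 : (fixFinset (Sylow 7 S) y).card ≠ 15 := fun e' => by
          have := eq_one_of_fix_eq_univ (α := Sylow 7 S) (sylow_toPermHom_injective hnc h7S)
            (e'.trans hα.symm)
          rw [this, orderOf_one] at hy'
          exact hq.ne_one hy'.symm
        have hle : (fixFinset (Sylow 7 S) y).card ≤ 15 := hα ▸ Finset.card_le_univ _
        rcases hq23 with rfl | rfl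
        · have h4 := four_dvd_card_support (α := Sylow 7 S)
            (orderOf_dvd_iff_pow_eq_one.mp (dvd_of_eq hy')) (sign_toPerm hnc y)
          rw [hα] at h4
          omega
        · have h4 := card_fix_modEq (α := Sylow 7 S) (r := 3)
            (orderOf_dvd_iff_pow_eq_one.mp (dvd_of_eq hy'))
          rw [hα, Nat.ModEq] at h4
          omega
      have he7 : e7 ≤ 6 := Nat.le_of_dvd (by norm_num) he72
      rw [hc71, hn7, hS] at hall7
      rw [hS] at h2
      rcases he with rfl | rfl <;> interval_cases e7 <;> omega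
    · rw [hn7, hS] at hall7
      have h8 : c7 * e7 * 8 = c7 * e7 * 8 := rfl
      have hpos : 1 ≤ c7 := Nat.pos_of_ne_zero fun e' => by
        rw [e', mul_zero, zero_mul, zero_mul] at hall7
        rcases he with rfl | rfl <;> omega
      have hge : 1 * 2 ≤ c7 * e7 := Nat.mul_le_mul hpos he71
      have heq' : 840 * (c7 * e7) = 7 * c7 * e7 * 120 := by ring
      first
        | (exfalso; rcases he with rfl | rfl <;> omega)
        | (rcases he with rfl | rfl
           · exfalso; omega
           · refine Or.inl ⟨rfl, rfl, hn7, fun x hx => ?_⟩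
             have hce : c7 * e7 = 2 := by omega
             have hc71 : c7 = 1 := by
               by_contra hne
               have : 2 * 2 ≤ c7 * e7 := Nat.mul_le_mul (by omega) he71
               omega
             obtain ⟨Q, hQ, -⟩ := exists_unique_sylow_mem hx hP7
             obtain ⟨g, rfl⟩ := MulAction.exists_smul_eq S R Q
             rw [← Order504.centralizer_eq_of_zpowers (eq_zpowers_of_mem (hP7 _) hQ
               (fun e' => by rw [e', orderOf_one] at hx; omega))]
             obtain ⟨e'', he1'', he2'', ⟨d, hd⟩, -, hall''⟩ :=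
               sylow_prime_order_data hnc (g • R) (hP7 _)
             rw [hn7, hd, hS] at hall''
             have hde : d * e'' = 2 := by
               have : 840 * (d * e'') = 7 * d * e'' * 120 := by ring
               omega
             have : d = 1 := by
               by_contra hne
               rcases Nat.eq_zero_or_pos d with e0 | e0
               · rw [e0, zero_mul] at hde; omega
               · have : 2 * 2 ≤ d * e'' := Nat.mul_le_mul (by omega) he1''
                 omega
             rw [hd, this])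

include h5 hnc hn in
/-- Order 1680: the 2-elements are exactly the nontrivial 2-elements of the `C(P)`. -/
theorem false_of_four [Fact (Nat.Prime 7)] (hS : Nat.card S = 1680)
    (hc : ∀ Q : Sylow 5 S, Nat.card (centralizer ((Q : Subgroup S) : Set S)) = 20)
    (P : Sylow 5 S) (hN : Nat.card (normalizer ((P : Subgroup S) : Set S)) = 80)
    (hn7 : Nat.card (Sylow 7 S) = 120)
    (hC7 : ∀ x : S, orderOf x = 7 → Nat.card (centralizer ({x} : Set S)) = 7) : False := by
  classical
  have : Fact (Nat.Prime 2) := ⟨Nat.prime_two⟩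
  have : Fact (Nat.Prime 3) := ⟨Nat.prime_three⟩
  -- 2-subgroups of the centralisers
  have hU5 : ∀ Q : Sylow 5 S, ∃ U : Subgroup S,
      U ≤ centralizer ((Q : Subgroup S) : Set S) ∧ Nat.card U = 4 := by
    intro Q
    obtain ⟨U, hU⟩ := Sylow.exists_subgroup_card_pow_prime 2
      (show 2 ^ 2 ∣ Nat.card (centralizer ((Q : Subgroup S) : Set S)) by rw [hc Q]; norm_num)
    refine ⟨U.map (Subgroup.subtype _), map_subtype_le U, ?_⟩
    rw [← Nat.card_congr (U.equivMapOfInjective _ Subtype.val_injective).toEquiv, hU]; norm_num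
  choose U hUle hUc using hU5
  have h5' := Order4080.le_card_singular h5 (by norm_num) (by norm_num) (by norm_num : 4 ∣ 16)
    U hUle hUc
  rw [hn] at h5'
  have h3P : ∀ R : Sylow 3 S, Nat.card R = 3 := fun R => by
    simpa using card_sylow_of_card_eq (k := 1) (m := 560) (by rw [hS]; norm_num) (by norm_num) R
  have h3 : 560 ≤ Nat.card {g : S // 3 ∣ orderOf g ∧ orderOf g ∣ 3 * 16} := by
    obtain ⟨R0⟩ := (inferInstance : Nonempty (Sylow 3 S))
    obtain ⟨e, he1, he2, ⟨c3, hc3⟩, -, hall⟩ := sylow_prime_order_data hnc R0 (h3P R0)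
    obtain rfl : e = 2 := by have := Nat.le_of_dvd (by norm_num) he2; omega
    rw [hc3, hS] at hall
    have hprod : c3 * Nat.card (Sylow 3 S) = 280 := by
      have : 3 * c3 * 2 * Nat.card (Sylow 3 S) = 6 * (c3 * Nat.card (Sylow 3 S)) := by ring
      omega
    have h5c : ¬ 5 ∣ c3 := by
      intro hd
      obtain ⟨⟨y, hy⟩, hy'⟩ := exists_prime_orderOf_dvd_card'
        (G := centralizer ((R0 : Subgroup S) : Set S)) 5 (by rw [hc3]; exact hd.mul_left 3)
      rw [Subgroup.orderOf_mk] at hy'
      obtain ⟨Q, hQ, -⟩ := exists_unique_sylow_mem hy' h5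
      obtain ⟨⟨z, hzR⟩, hz⟩ := exists_prime_orderOf_dvd_card' (G := (R0 : Subgroup S)) 3
        (by rw [h3P R0])
      rw [Subgroup.orderOf_mk] at hz
      have hzQ := Order4080.mem_centralizer_of_commute (h5 Q) hQ
        (fun e' => by rw [e', orderOf_one] at hy'; omega)
        (show Commute z y from mem_centralizer_iff.mp hy z hzR)
      have := orderOf_dvd_natCard (⟨z, hzQ⟩ : centralizer ((Q : Subgroup S) : Set S))
      rw [Subgroup.orderOf_mk, hc Q, hz] at this
      norm_num at this
    have h7c : ¬ 7 ∣ c3 := by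
      intro hd
      obtain ⟨⟨y, hy⟩, hy'⟩ := exists_prime_orderOf_dvd_card'
        (G := centralizer ((R0 : Subgroup S) : Set S)) 7 (by rw [hc3]; exact hd.mul_left 3)
      rw [Subgroup.orderOf_mk] at hy'
      obtain ⟨⟨z, hzR⟩, hz⟩ := exists_prime_orderOf_dvd_card' (G := (R0 : Subgroup S)) 3
        (by rw [h3P R0])
      rw [Subgroup.orderOf_mk] at hz
      have := orderOf_dvd_natCard (⟨z, mem_centralizer_singleton_iff.mpr
        (mem_centralizer_iff.mp hy z hzR)⟩ : centralizer ({y} : Set S))
      rw [Subgroup.orderOf_mk, hC7 y hy', hz] at this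
      norm_num at this
    obtain ⟨k, hk, hk16⟩ : ∃ k, c3 = 2 ^ k ∧ 2 ^ k ∣ 16 := by
      have hmem : c3 ∈ Nat.divisors 280 :=
        Nat.mem_divisors.mpr ⟨Dvd.intro _ hprod, by norm_num⟩
      have hlist : c3 = 1 ∨ c3 = 2 ∨ c3 = 4 ∨ c3 = 8 :=
        (show ∀ d ∈ Nat.divisors 280, ¬ 5 ∣ d → ¬ 7 ∣ d → d = 1 ∨ d = 2 ∨ d = 4 ∨ d = 8 from
          by decide +kernel) c3 hmem h5c h7c
      rcases hlist with rfl | rfl | rfl | rfl
      · exact ⟨0, rfl, by norm_num⟩
      · exact ⟨1, rfl, by norm_num⟩
      · exact ⟨2, rfl, by norm_num⟩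
      · exact ⟨3, rfl, by norm_num⟩
    have hU3 : ∀ R : Sylow 3 S, ∃ V : Subgroup S,
        V ≤ centralizer ((R : Subgroup S) : Set S) ∧ Nat.card V = 2 ^ k := by
      intro R
      obtain ⟨e', he1', he2', ⟨d, hd⟩, -, hall'⟩ := sylow_prime_order_data hnc R (h3P R)
      obtain rfl : e' = 2 := by have := Nat.le_of_dvd (by norm_num) he2'; omega
      have hdc : d = c3 := by
        rw [hd, hS] at hall'
        have h1 : d * Nat.card (Sylow 3 S) = c3 * Nat.card (Sylow 3 S) := by
          have : 3 * d * 2 * Nat.card (Sylow 3 S) = 6 * (d * Nat.card (Sylow 3 S)) := by ring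
          omega
        exact Nat.eq_of_mul_eq_mul_right Nat.card_pos h1
      obtain ⟨V, hV⟩ := Sylow.exists_subgroup_card_pow_prime 2
        (show 2 ^ k ∣ Nat.card (centralizer ((R : Subgroup S) : Set S)) by
          rw [hd, hdc, hk]; exact dvd_mul_left _ _)
      exact ⟨V.map (Subgroup.subtype _), map_subtype_le V, by
        rw [← Nat.card_congr (V.equivMapOfInjective _ Subtype.val_injective).toEquiv, hV]⟩
    choose V hVle hVc using hU3
    have h := Order4080.le_card_singular h3P (by norm_num) (by norm_num) hk16 V hVle hVc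
    refine le_trans (le_of_eq ?_) h
    rw [← hk, show 3 - 1 = 2 from rfl, mul_left_comm, mul_comm (Nat.card (Sylow 3 S)), hprod]
    norm_num
  have h7 : Nat.card {g : S // orderOf g = 7} = 720 := by
    rw [card_orderOf_eq_prime (fun R => by
      simpa using card_sylow_of_card_eq (k := 1) (m := 240) (by rw [hS]; norm_num) (by norm_num) R),
      hn7]
  -- at most 63 nontrivial 2-elements
  have := Fintype.ofFinite S
  have hB : Nat.card {g : S // orderOf g ∣ 16 ∧ g ≠ 1} ≤ 63 := by
    rw [Nat.card_eq_fintype_card, Fintype.card_subtype] at h3 h5' h7 ⊢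
    set A5 := Finset.univ.filter fun g : S => 5 ∣ orderOf g ∧ orderOf g ∣ 5 * 16
    set A3 := Finset.univ.filter fun g : S => 3 ∣ orderOf g ∧ orderOf g ∣ 3 * 16
    set A7 := Finset.univ.filter fun g : S => orderOf g = 7
    set A2 := Finset.univ.filter fun g : S => orderOf g ∣ 16 ∧ g ≠ 1
    have d1 : Disjoint A5 A3 := by
      rw [Finset.disjoint_filter]; intro g _ ha hb
      exact absurd (ha.1.trans hb.2) (by norm_num)
    have d2 : Disjoint (A5 ∪ A3) A7 := by
      rw [Finset.disjoint_union_left, Finset.disjoint_filter, Finset.disjoint_filter]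
      refine ⟨fun g _ ha hb => ?_, fun g _ ha hb => ?_⟩ <;> rw [hb] at ha <;> norm_num at ha
    have d3 : Disjoint (A5 ∪ A3 ∪ A7) A2 := by
      rw [Finset.disjoint_union_left, Finset.disjoint_union_left, Finset.disjoint_filter,
        Finset.disjoint_filter, Finset.disjoint_filter]
      refine ⟨⟨fun g _ ha hb => ?_, fun g _ ha hb => ?_⟩, fun g _ ha hb => ?_⟩
      · exact absurd (ha.1.trans hb.1) (by norm_num)
      · exact absurd (ha.1.trans hb.1) (by norm_num)
      · exact absurd (ha ▸ hb.1) (by norm_num)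
    have d4 : Disjoint (A5 ∪ A3 ∪ A7 ∪ A2) {1} := by
      rw [Finset.disjoint_singleton_right]
      simp [A5, A3, A7, A2]
    have hle := Finset.card_le_univ (A5 ∪ A3 ∪ A7 ∪ A2 ∪ {1})
    rw [Finset.card_union_of_disjoint d4, Finset.card_union_of_disjoint d3,
      Finset.card_union_of_disjoint d2, Finset.card_union_of_disjoint d1, Finset.card_singleton,
      ← Nat.card_eq_fintype_card, hS] at hle
    omega
  -- each lies in one of the centralisers
  have hord : ∀ Q : Sylow 5 S, ∀ u ∈ U Q, u ≠ 1 → orderOf u ∣ 16 ∧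
      ∀ R : Sylow 5 S, u • R = R → R = Q := by
    intro Q u hu hu1
    have hd := orderOf_dvd_natCard (⟨u, hu⟩ : U Q)
    rw [Subgroup.orderOf_mk, hUc] at hd
    obtain ⟨i, -, hi⟩ := (Nat.dvd_prime_pow Nat.prime_two).mp (show orderOf u ∣ 2 ^ 2 from hd)
    exact ⟨hd.trans (by norm_num), fun R hR =>
      fix_two_element h5 hnc hn hi hu1 (hUle Q hu) hR⟩
  let f : (Σ Q : Sylow 5 S, {u : U Q // ¬ u = 1}) → {g : S // orderOf g ∣ 16 ∧ g ≠ 1} := fun q =>
    ⟨q.2.1.1, (hord q.1 _ q.2.1.2 (fun e => q.2.2 (Subtype.ext e))).1,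
      fun e => q.2.2 (Subtype.ext e)⟩
  have hf : Function.Injective f := by
    rintro ⟨Q, ⟨⟨u, hu⟩, hu1⟩⟩ ⟨R, ⟨⟨w, hw⟩, hw1⟩⟩ e
    obtain rfl : u = w := congrArg Subtype.val e
    obtain rfl := (hord R u hw (fun e => hw1 (Subtype.ext e))).2 Q
      (Sylow.smul_eq_iff_mem_normalizer.mpr (centralizer_le_normalizer' _ (hUle Q hu)))
    rfl
  have hbij : Function.Bijective f := by
    refine (Nat.bijective_iff_injective_and_card f).mpr ⟨hf, ?_⟩
    have hle := Nat.card_le_card_of_injective f hf
    have hsum : Nat.card (Σ Q : Sylow 5 S, {u : U Q // ¬ u = 1}) = 63 := by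
      have := Fintype.ofFinite (Sylow 5 S)
      have hn' : Fintype.card (Sylow 5 S) = 21 := by rw [← Nat.card_eq_fintype_card, hn]
      rw [Nat.card_sigma, Finset.sum_congr rfl (g := fun _ => 3) (fun Q _ => ?_), Finset.sum_const,
        Finset.card_univ, hn', smul_eq_mul]
      have := Fintype.ofFinite (U Q)
      rw [Nat.card_eq_fintype_card, Fintype.card_subtype_compl, Fintype.card_subtype_eq,
        ← Nat.card_eq_fintype_card, hUc]
    omega
  -- a subgroup of order 16 of `N(P)`
  obtain ⟨R0, hR0⟩ := Sylow.exists_subgroup_card_pow_prime 2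
    (show 2 ^ 4 ∣ Nat.card (normalizer ((P : Subgroup S) : Set S)) by rw [hN]; norm_num)
  set R := R0.map (normalizer ((P : Subgroup S) : Set S)).subtype
  have hRc : Nat.card R = 16 := by
    rw [← Nat.card_congr (R0.equivMapOfInjective _ Subtype.val_injective).toEquiv, hR0]; norm_num
  have hRU : R ≤ U P := by
    intro r hr
    by_cases hr1 : r = 1
    · subst hr1; exact one_mem _
    have hd := orderOf_dvd_natCard (⟨r, hr⟩ : R)
    rw [Subgroup.orderOf_mk, hRc] at hd
    obtain ⟨⟨Q, ⟨⟨w, hw⟩, hw1⟩⟩, e⟩ := hbij.2 ⟨r, hd, hr1⟩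
    obtain rfl : w = r := congrArg Subtype.val e
    have hrP : w • P = P := Sylow.smul_eq_iff_mem_normalizer.mpr (map_subtype_le R0 hr)
    obtain rfl := (hord Q w hw hr1).2 P hrP
    exact hw
  have := card_dvd_of_le hRU
  rw [hRc, hUc] at this
  norm_num at this

end CfsgLib.Small.TwentyOne
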