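import Cfsg.Agent.Lib.Small.TwentyOne

/-!
No simple group has exactly 21 Sylow 5-subgroups.
-/

set_option autoImplicit false

namespace CfsgLib.Small.TwentyOne

open Subgroup MulAction CfsgLib.Small CfsgLib.SylowNumber

variable {S : Type*} [Group S] [Finite S]

/-- The fixed points of an element centralising a Sylow subgroup of prime order `p`. -/
theorem card_fix_mod_prime {p : ℕ} [hp : Fact p.Prime] (hP : ∀ Q : Sylow p S, Nat.card Q = p)
    [Fintype (Sylow p S)] [DecidableEq (Sylow p S)] {P : Sylow p S} {a : S}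
    (ha : a ∈ centralizer ((P : Subgroup S) : Set S)) :
    (fixFinset (Sylow p S) a).card % p = 1 := by
  obtain ⟨⟨x, hxP⟩, hx⟩ := exists_prime_orderOf_dvd_card' (G := (P : Subgroup S)) p (by rw [hP P])
  rw [Subgroup.orderOf_mk] at hx
  have h1 := card_fix_modEq_common (α := Sylow p S) (r := p) (x := a) (y := x)
    (orderOf_dvd_iff_pow_eq_one.mp (dvd_of_eq hx)) (mem_centralizer_iff.mp ha x hxP).symm
  have h2 : ((fixFinset (Sylow p S) a).filter fun q => x • q = q) = {P} := by
    ext R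
    rw [Finset.mem_filter, Finset.mem_singleton, mem_fixFinset]
    constructor
    · rintro ⟨-, hR⟩
      exact (exists_unique_sylow_mem hx hP).unique ((smul_eq_self_iff_mem (P := P) hxP).mp hR) hxP
    · rintro rfl
      exact ⟨Sylow.smul_eq_iff_mem_normalizer.mpr (centralizer_le_normalizer' _ ha),
        (smul_eq_self_iff_mem (P := R) hxP).mpr hxP⟩
  rw [h2, Finset.card_singleton, Nat.ModEq, Nat.one_mod_eq_one.mpr hp.out.ne_one] at h1
  exact h1

variable [IsSimpleGroup S] [Fact (Nat.Prime 5)] (h5 : ∀ Q : Sylow 5 S, Nat.card Q = 5)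
  (hnc : ¬ IsMulCommutative S) (hn : Nat.card (Sylow 5 S) = 21)

include h5 hnc hn in
/-- The Sylow 2-subgroups of `C(P)` have order at most 4. -/
theorem not_eight_dvd (P : Sylow 5 S) :
    ¬ 8 ∣ Nat.card (centralizer ((P : Subgroup S) : Set S)) := by
  classical
  intro h8
  have : Fact (Nat.Prime 2) := ⟨Nat.prime_two⟩
  have := Fintype.ofFinite (Sylow 5 S)
  have hn' : Fintype.card (Sylow 5 S) = 21 := by rw [← Nat.card_eq_fintype_card, hn]
  obtain ⟨U0, hU0⟩ := Sylow.exists_subgroup_card_pow_prime 2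
    (show 2 ^ 3 ∣ Nat.card (centralizer ((P : Subgroup S) : Set S)) from h8)
  set U := U0.map (centralizer ((P : Subgroup S) : Set S)).subtype
  have hUle : U ≤ centralizer ((P : Subgroup S) : Set S) := map_subtype_le U0
  have hUc : Nat.card U = 8 := by
    rw [← Nat.card_congr (U0.equivMapOfInjective _ Subtype.val_injective).toEquiv, hU0]; norm_num
  have hfix : ∀ u ∈ U, ∀ Q : Sylow 5 S, u • Q = Q → u = 1 ∨ Q = P := by
    intro u hu Q hQ
    by_cases hu1 : u = 1
    · exact Or.inl hu1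
    have hd := orderOf_dvd_natCard (⟨u, hu⟩ : U)
    rw [Subgroup.orderOf_mk, hUc] at hd
    obtain ⟨i, -, hi⟩ := (Nat.dvd_prime_pow Nat.prime_two).mp (show orderOf u ∣ 2 ^ 3 from hd)
    exact Or.inr (fix_two_element h5 hnc hn hi hu1 (hUle hu) hQ)
  have hPfix : ∀ u ∈ U, u • P = P := fun u hu =>
    Sylow.smul_eq_iff_mem_normalizer.mpr (centralizer_le_normalizer' _ (hUle hu))
  have hd := dvd_card_of_orbits U (Finset.univ.erase P) (fun Q hQ u hu => ?_) (s := 8)
    (fun Q hQ => ?_)
  · rw [Finset.card_erase_of_mem (Finset.mem_univ _), Finset.card_univ, hn'] at hd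
    norm_num at hd
  · refine Finset.mem_erase.mpr ⟨fun e => (Finset.mem_erase.mp hQ).1 ?_, Finset.mem_univ _⟩
    exact MulAction.injective u (e.trans (hPfix u hu).symm)
  · rw [Nat.card_congr (orbitEquivQuotientStabilizer U Q), ← index_eq_card]
    have hbot : stabilizer U Q = ⊥ := by
      rw [Subgroup.eq_bot_iff_forall]
      intro u hu
      rcases hfix u u.2 Q hu with h | h
      · exact Subtype.ext h
      · exact absurd h (Finset.mem_erase.mp hQ).1
    rw [hbot, index_bot, hUc]

include h5 hnc hn in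
/-- The Sylow 3-subgroups of `C(P)` have order at most 3. -/
theorem not_nine_dvd (P : Sylow 5 S) :
    ¬ 9 ∣ Nat.card (centralizer ((P : Subgroup S) : Set S)) := by
  classical
  intro h9
  have : Fact (Nat.Prime 3) := ⟨Nat.prime_three⟩
  have := Fintype.ofFinite (Sylow 5 S)
  have hn' : Fintype.card (Sylow 5 S) = 21 := by rw [← Nat.card_eq_fintype_card, hn]
  obtain ⟨R0, hR0⟩ := Sylow.exists_subgroup_card_pow_prime 3
    (show 3 ^ 2 ∣ Nat.card (centralizer ((P : Subgroup S) : Set S)) from h9)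
  set R := R0.map (centralizer ((P : Subgroup S) : Set S)).subtype
  have hRle : R ≤ centralizer ((P : Subgroup S) : Set S) := map_subtype_le R0
  have hRc : Nat.card R = 9 := by
    rw [← Nat.card_congr (R0.equivMapOfInjective _ Subtype.val_injective).toEquiv, hR0]; norm_num
  have hRp : IsPGroup 3 R := IsPGroup.of_card (n := 2) (by rw [hRc]; norm_num)
  set F := Finset.univ.filter fun Q : Sylow 5 S => ∀ u ∈ R, u • Q = Q
  have hF3 : F.card % 3 = 0 := by
    have h1 := hRp.card_modEq_card_fixedPoints (Sylow 5 S)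
    have h2 : Nat.card (fixedPoints R (Sylow 5 S)) = F.card := by
      rw [← Fintype.card_coe, ← Nat.card_eq_fintype_card]
      refine Nat.card_congr (Equiv.subtypeEquivRight fun Q => ?_)
      simp [F, mem_fixedPoints, Subgroup.smul_def]
    rw [h2, hn, Nat.ModEq] at h1
    omega
  obtain ⟨⟨x, hxP⟩, hx⟩ := exists_prime_orderOf_dvd_card' (G := (P : Subgroup S)) 5 (by rw [h5 P])
  rw [Subgroup.orderOf_mk] at hx
  have hPF : P ∈ F := Finset.mem_filter.mpr ⟨Finset.mem_univ _, fun u hu =>
    Sylow.smul_eq_iff_mem_normalizer.mpr (centralizer_le_normalizer' _ (hRle hu))⟩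
  have hF5 : F.card % 5 = 1 := by
    have h1 := card_modEq_card_filter_fixed (r := 5) (orderOf_dvd_iff_pow_eq_one.mp (dvd_of_eq hx)) F
      (fun Q hQ => Finset.mem_filter.mpr ⟨Finset.mem_univ _, fun u hu => by
        rw [smul_smul, ← mem_centralizer_iff.mp (hRle hu) x hxP, mul_smul,
          (Finset.mem_filter.mp hQ).2 u hu]⟩)
    have h2 : (F.filter fun q => x • q = q) = {P} := by
      ext Q
      rw [Finset.mem_filter, Finset.mem_singleton]
      constructor
      · rintro ⟨-, hQ⟩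
        exact (exists_unique_sylow_mem hx h5).unique ((smul_eq_self_iff_mem (P := P) hxP).mp hQ) hxP
      · rintro rfl
        exact ⟨hPF, (smul_eq_self_iff_mem (P := Q) hxP).mpr hxP⟩
    rw [h2, Finset.card_singleton] at h1
    exact h1
  -- every nontrivial element of `R` fixes exactly `F`
  have hfix : ∀ u ∈ R, u ≠ 1 → ∀ Q : Sylow 5 S, u • Q = Q → Q ∈ F := by
    intro u hu hu1 Q hQ
    have hd := orderOf_dvd_natCard (⟨u, hu⟩ : R)
    rw [Subgroup.orderOf_mk, hRc] at hd
    obtain ⟨i, -, hi⟩ := (Nat.dvd_prime_pow Nat.prime_three).mp (show orderOf u ∣ 3 ^ 2 from hd)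
    have hi0 : i ≠ 0 := fun e => hu1 (orderOf_eq_one_iff.mp (by rw [hi, e, pow_zero]))
    have hy := orderOf_pow_orderOf_div (orderOf_pos u).ne' (hi ▸ dvd_pow_self 3 hi0)
    set y := u ^ (orderOf u / 3)
    have h6 := fix_three h5 hnc hn hy (pow_mem (hRle hu) _)
    have hsub : F ⊆ fixFinset (Sylow 5 S) y := fun T hT => mem_fixFinset.mpr
      ((Finset.mem_filter.mp hT).2 y (pow_mem hu _))
    have hle := Finset.card_le_card hsub
    have hF0 : 0 < F.card := Finset.card_pos.mpr ⟨P, hPF⟩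
    have heq := Finset.eq_of_subset_of_card_le hsub (by omega)
    rw [heq, mem_fixFinset]
    exact (stabilizer S Q).pow_mem (show u ∈ stabilizer S Q from hQ) _
  have hd := dvd_card_of_orbits R Fᶜ (fun Q hQ u hu => ?_) (s := 9) (fun Q hQ => ?_)
  · rw [Finset.card_compl, hn'] at hd
    have hle : F.card ≤ 21 := hn' ▸ Finset.card_le_univ F
    obtain ⟨k, hk⟩ := hd
    have hF0 : 0 < F.card := Finset.card_pos.mpr ⟨P, hPF⟩
    have : F.card = 6 ∨ F.card = 21 := by omega
    rcases this with e | e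
    · omega
    · obtain ⟨⟨u, hu⟩, hu3⟩ := exists_prime_orderOf_dvd_card' (G := R) 3 (by rw [hRc]; norm_num)
      rw [Subgroup.orderOf_mk] at hu3
      have h6 := fix_three h5 hnc hn hu3 (hRle hu)
      have hsub : F ⊆ fixFinset (Sylow 5 S) u := fun T hT => mem_fixFinset.mpr
        ((Finset.mem_filter.mp hT).2 u hu)
      have := Finset.card_le_card hsub
      omega
  · rw [Finset.mem_compl] at hQ ⊢
    intro h
    refine hQ (Finset.mem_filter.mpr ⟨Finset.mem_univ _, fun w hw => ?_⟩)
    have h2 := (Finset.mem_filter.mp h).2 (u * w * u⁻¹) (mul_mem (mul_mem hu hw) (inv_mem hu))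
    rw [mul_smul, mul_smul, inv_smul_smul] at h2
    exact MulAction.injective u h2
  · rw [Nat.card_congr (orbitEquivQuotientStabilizer R Q), ← index_eq_card]
    have hbot : stabilizer R Q = ⊥ := by
      rw [Subgroup.eq_bot_iff_forall]
      intro u hu
      by_contra hu1
      exact Finset.mem_compl.mp hQ (hfix u u.2 (fun e => hu1 (Subtype.ext e)) Q hu)
    rw [hbot, index_bot, hRc]

include h5 hnc hn in
/-- The prime divisors of `|C(P)|`. -/
theorem prime_dvd_centralizer (P : Sylow 5 S) {q : ℕ} (hq : q.Prime)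
    (hd : q ∣ Nat.card (centralizer ((P : Subgroup S) : Set S))) : q = 2 ∨ q = 3 ∨ q = 5 := by
  classical
  by_contra hcon
  push Not at hcon
  have : Fact q.Prime := ⟨hq⟩
  have := Fintype.ofFinite (Sylow 5 S)
  have hn' : Fintype.card (Sylow 5 S) = 21 := by rw [← Nat.card_eq_fintype_card, hn]
  obtain ⟨⟨y, hy⟩, hy'⟩ := exists_prime_orderOf_dvd_card' q hd
  rw [Subgroup.orderOf_mk] at hy'
  have h1 := card_fix_mod h5 hy
  have h2 := card_fix_modEq (α := Sylow 5 S) (r := q) (orderOf_dvd_iff_pow_eq_one.mp (dvd_of_eq hy'))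
  have h3 := fix_lt h5 hnc hn (a := y) (fun e => by rw [e, orderOf_one] at hy'; exact hq.ne_one hy'.symm)
  rw [hn'] at h2
  set f := (fixFinset (Sylow 5 S) y).card
  have h4 : q ∣ 21 - f := (Nat.modEq_iff_dvd' h3.le).mp h2
  have h5' : 21 - f ∈ ({5, 10, 15, 20} : Finset ℕ) := by
    simp only [Finset.mem_insert, Finset.mem_singleton]; omega
  exact (show ∀ d ∈ ({5, 10, 15, 20} : Finset ℕ), ∀ q ∈ Nat.divisors d, q.Prime →
    ¬ (q ≠ 2 ∧ q ≠ 3 ∧ q ≠ 5) from by decide +kernel) _ h5' q
    (Nat.mem_divisors.mpr ⟨h4, by omega⟩) hq hcon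

omit [IsSimpleGroup S] in
include h5 in
theorem five_dvd_centralizer (P : Sylow 5 S) :
    5 ∣ Nat.card (centralizer ((P : Subgroup S) : Set S)) ∧
      ¬ 25 ∣ Nat.card (centralizer ((P : Subgroup S) : Set S)) := by
  constructor
  · refine (dvd_of_eq (h5 P).symm).trans (card_dvd_of_le fun a ha => mem_centralizer_iff.mpr
      fun b hb => ?_)
    have hcyc : IsCyclic (P : Subgroup S) := isCyclic_of_prime_card (h5 P)
    let _ := IsCyclic.commGroup (α := (P : Subgroup S))
    exact congrArg Subtype.val (mul_comm (⟨b, hb⟩ : (P : Subgroup S)) ⟨a, ha⟩)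
  · intro h25
    obtain ⟨Q, hQ⟩ := Sylow.exists_subgroup_card_pow_prime 5
      (show 5 ^ 2 ∣ Nat.card S from h25.trans (card_subgroup_dvd_card _))
    obtain ⟨R, hR⟩ := (IsPGroup.of_card (n := 2) hQ).exists_le_sylow
    have := Nat.le_of_dvd (by rw [h5 R]; norm_num) (card_dvd_of_le hR)
    rw [hQ, h5 R] at this
    norm_num at this

include h5 hnc hn in
/-- An involution and an element of order 3 in `C(P)` force `C(P)` to have order 60, with four
Sylow 3-subgroups. -/
theorem four_three [Fact (Nat.Prime 3)] (P : Sylow 5 S)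
    (h2 : 2 ∣ Nat.card (centralizer ((P : Subgroup S) : Set S)))
    (h3 : 3 ∣ Nat.card (centralizer ((P : Subgroup S) : Set S))) :
    Nat.card (centralizer ((P : Subgroup S) : Set S)) = 60 ∧
    ∀ R : Sylow 3 (centralizer ((P : Subgroup S) : Set S)), Nat.card R = 3 ∧
      Nat.card (normalizer ((R : Subgroup (centralizer ((P : Subgroup S) : Set S))) :
        Set (centralizer ((P : Subgroup S) : Set S)))) = 15 ∧
      Nat.card (Sylow 3 (centralizer ((P : Subgroup S) : Set S))) = 4 := by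
  classical
  have : Fact (Nat.Prime 2) := ⟨Nat.prime_two⟩
  set C := centralizer ((P : Subgroup S) : Set S)
  have h8 := not_eight_dvd h5 hnc hn P
  have h9 := not_nine_dvd h5 hnc hn P
  obtain ⟨h55, h25⟩ := five_dvd_centralizer h5 P
  have hdvd : Nat.card C ∣ 60 := by
    rw [Nat.dvd_iff_prime_pow_dvd_dvd]
    intro q k hq hqk
    rcases k with _ | k
    · simp
    rcases prime_dvd_centralizer h5 hnc hn P hq ((dvd_pow_self q k.succ_ne_zero).trans hqk) with
      rfl | rfl | rfl
    · rcases k with _ | _ | k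
      · norm_num
      · norm_num
      · exact absurd ((pow_dvd_pow 2 (show 3 ≤ k + 1 + 1 + 1 by omega)).trans hqk) h8
    · rcases k with _ | k
      · norm_num
      · exact absurd ((pow_dvd_pow 3 (show 2 ≤ k + 1 + 1 by omega)).trans hqk) h9
    · rcases k with _ | k
      · norm_num
      · exact absurd ((pow_dvd_pow 5 (show 2 ≤ k + 1 + 1 by omega)).trans hqk) h25
  obtain ⟨⟨v, hvC⟩, hv⟩ := exists_prime_orderOf_dvd_card' (G := C) 2 h2
  rw [Subgroup.orderOf_mk] at hv
  have hall : ∀ R : Sylow 3 C, Nat.card R = 3 := by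
    intro R
    obtain ⟨m, hm⟩ := h3
    have hm' : ¬ 3 ∣ m := fun hd => h9 (by rw [hm]; exact Nat.mul_dvd_mul_left 3 hd)
    simpa using card_sylow_of_card_eq (G := C) (k := 1) (m := m) (by rw [pow_one]; exact hm) hm' R
  obtain ⟨R⟩ := (inferInstance : Nonempty (Sylow 3 C))
  have hR := hall R
  have h15 : ∀ R : Sylow 3 C, 15 ∣ Nat.card (normalizer ((R : Subgroup C) : Set C)) := by
    intro R
    refine Nat.Coprime.mul_dvd_of_dvd_of_dvd (by norm_num : Nat.Coprime 3 5)
      ((dvd_of_eq (hall R).symm).trans (card_dvd_of_le le_normalizer)) ?_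
    have hPC : (P : Subgroup S) ≤ C := fun a ha => mem_centralizer_iff.mpr fun b hb => by
      have hcyc : IsCyclic (P : Subgroup S) := isCyclic_of_prime_card (h5 P)
      let _ := IsCyclic.commGroup (α := (P : Subgroup S))
      exact congrArg Subtype.val (mul_comm (⟨b, hb⟩ : (P : Subgroup S)) ⟨a, ha⟩)
    refine (dvd_of_eq ((Nat.card_congr (subgroupOfEquivOfLe hPC).toEquiv).trans (h5 P)).symm).trans
      (card_dvd_of_le (le_trans ?_ (centralizer_le_normalizer' _)))
    intro a ha
    rw [mem_centralizer_iff]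
    intro b _
    exact Subtype.ext (mem_centralizer_iff.mp b.2 a (mem_subgroupOf.mp ha)).symm
  have hne1 : Nat.card (Sylow 3 C) ≠ 1 := by
    intro h1
    obtain ⟨⟨z, hzC⟩, hz⟩ := exists_prime_orderOf_dvd_card' (G := C) 3 h3
    rw [Subgroup.orderOf_mk] at hz
    refine not_normalize_three h5 hnc hn hv hvC hz hzC ?_
    have hnorm : (R : Subgroup C).Normal := by
      have := (Nat.card_eq_one_iff_unique.mp h1).1
      exact Sylow.normal_of_subsingleton R
    have hzR : (⟨z, hzC⟩ : C) ∈ (R : Subgroup C) := by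
      obtain ⟨R', hR'⟩ := (IsPGroup.of_card (p := 3) (G := zpowers (⟨z, hzC⟩ : C)) (n := 1)
        (by rw [Nat.card_zpowers, Subgroup.orderOf_mk, hz, pow_one])).exists_le_sylow
      have := (Nat.card_eq_one_iff_unique.mp h1).1
      rw [this.elim R R']
      exact hR' (mem_zpowers _)
    have hRz := eq_zpowers_of_mem hR hzR (fun e => by
      have := congrArg Subtype.val e
      simp only [OneMemClass.coe_one] at this
      rw [this, orderOf_one] at hz
      omega)
    have hconj := hnorm.conj_mem _ hzR ⟨v, hvC⟩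
    rw [hRz, mem_zpowers_iff] at hconj
    obtain ⟨k, hk⟩ := hconj
    exact mem_zpowers_iff.mpr ⟨k, congrArg Subtype.val hk⟩
  have hcases : ∀ R : Sylow 3 C, Nat.card C = 60 ∧
      Nat.card (normalizer ((R : Subgroup C) : Set C)) = 15 ∧ Nat.card (Sylow 3 C) = 4 := by
    intro R
    obtain ⟨k, hk⟩ := h15 R
    have hmul := card_normalizer_mul_card_sylow R
    rw [hk, mul_assoc] at hmul
    have hmod := card_sylow_modEq_one 3 C
    rw [Nat.ModEq] at hmod
    have hk4 : k * Nat.card (Sylow 3 C) ∣ 4 := by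
      have : 15 * (k * Nat.card (Sylow 3 C)) ∣ 15 * 4 := hmul ▸ hdvd
      exact (Nat.mul_dvd_mul_iff_left (by norm_num : 0 < 15)).mp this
    have hn4 := Nat.le_of_dvd (by norm_num) ((Dvd.intro_left k rfl).trans hk4)
    have hn0 : 0 < Nat.card (Sylow 3 C) := Nat.card_pos
    have hn : Nat.card (Sylow 3 C) = 4 := by omega
    rw [hn] at hmul hk4
    have hk1 := Nat.le_of_dvd (by norm_num) hk4
    have hC0 : 0 < Nat.card C := Nat.card_pos
    have : k = 1 := by
      rcases Nat.eq_zero_or_pos k with e | e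
      · rw [e] at hmul; omega
      · omega
    subst this
    exact ⟨by omega, hk, hn⟩
  exact ⟨(hcases R).1, fun R => ⟨hall R, (hcases R).2.1, (hcases R).2.2⟩⟩

include h5 hnc hn in
/-- The order of `C(P)`. -/
theorem centralizer_cases (P : Sylow 5 S) :
    ∃ c, Nat.card (centralizer ((P : Subgroup S) : Set S)) = 5 * c ∧
      (c = 1 ∨ c = 2 ∨ c = 3 ∨ c = 4 ∨ c = 12) := by
  have : Fact (Nat.Prime 3) := ⟨Nat.prime_three⟩
  obtain ⟨⟨c, hc⟩, h25⟩ := five_dvd_centralizer h5 P
  refine ⟨c, hc, ?_⟩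
  by_cases h6 : 2 ∣ c ∧ 3 ∣ c
  · have := (four_three h5 hnc hn P (hc ▸ h6.1.mul_left 5) (hc ▸ h6.2.mul_left 5)).1
    omega
  have h8 := not_eight_dvd h5 hnc hn P
  have h9 := not_nine_dvd h5 hnc hn P
  rw [hc] at h8 h9 h25
  have hc0 : c ≠ 0 := fun e => by rw [e, mul_zero] at hc; exact Nat.card_pos.ne' hc
  have hdvd : c ∣ 12 := by
    rw [Nat.dvd_iff_prime_pow_dvd_dvd]
    intro q k hq hqk
    rcases k with _ | k
    · simp
    have hqc : q ∣ Nat.card (centralizer ((P : Subgroup S) : Set S)) :=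
      hc ▸ ((dvd_pow_self q k.succ_ne_zero).trans hqk).mul_left 5
    rcases prime_dvd_centralizer h5 hnc hn P hq hqc with rfl | rfl | rfl
    · rcases k with _ | _ | k
      · norm_num
      · norm_num
      · exact absurd (((pow_dvd_pow 2 (show 3 ≤ k + 1 + 1 + 1 by omega)).trans hqk).mul_left 5) h8
    · rcases k with _ | k
      · norm_num
      · exact absurd (((pow_dvd_pow 3 (show 2 ≤ k + 1 + 1 by omega)).trans hqk).mul_left 5) h9
    · exact absurd (Nat.mul_dvd_mul_left 5 ((dvd_pow_self 5 k.succ_ne_zero).trans hqk)) h25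
  have hmem : c ∈ Nat.divisors 12 := Nat.mem_divisors.mpr ⟨hdvd, by norm_num⟩
  exact (show ∀ d ∈ Nat.divisors 12, ¬ (2 ∣ d ∧ 3 ∣ d) →
    d = 1 ∨ d = 2 ∨ d = 3 ∨ d = 4 ∨ d = 12 from by decide +kernel) c hmem h6

end CfsgLib.Small.TwentyOne
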